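/-
Certificate data for the dodecads: the dodecad used as reference point, and elements of its
stabiliser fixing the position 0 that are 3-transitive on the complementary dodecad.
-/
import Mathlib.Data.List.Range

set_option autoImplicit false

namespace CfsgLib.Golay

/-- A dodecad containing the first five base points. -/
def dodecadMask : ℕ := 8442831

/-- Three positions outside `dodecadMask`. -/
def outIdx : List ℕ := [4, 5, 10]

/-- For each of the three positions, pairs of an orbit position and a word in the table whose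
product fixes the earlier positions, the dodecad and the position 0. -/
def m11Orbit : List (List (ℕ × List ℕ)) := [
  [
    (4, [29, 11, 68, 53, 107, 0, 168]),
    (5, [25, 1, 0, 94, 81, 0, 171]),
    (10, [27, 15, 48, 88, 118, 135, 170]),
    (11, [0, 0, 71, 97, 107, 0, 173]),
    (13, [0, 0, 47, 97, 115, 135, 167]),
    (16, [0, 0, 56, 85, 115, 136, 154]),
    (17, [42, 0, 58, 89, 106, 135, 169]),
    (18, [25, 1, 66, 53, 106, 136, 173]),
    (19, [39, 22, 62, 87, 106, 0, 154]),
    (20, [43, 7, 0, 0, 118, 135, 172]),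
    (21, [0, 0, 58, 98, 113, 136, 172]),
    (22, [30, 1, 66, 91, 111, 136, 168])],
  [
    (5, [31, 0, 65, 92, 109, 0, 167]),
    (10, [38, 15, 69, 89, 109, 0, 170]),
    (11, [29, 11, 68, 53, 107, 0, 168]),
    (13, [39, 22, 65, 99, 111, 0, 154]),
    (16, [31, 0, 67, 72, 0, 136, 154]),
    (17, [30, 1, 67, 98, 113, 136, 0]),
    (18, [42, 0, 64, 94, 110, 136, 144]),
    (19, [31, 0, 58, 80, 108, 0, 173]),
    (20, [25, 1, 47, 72, 117, 135, 154]),
    (21, [0, 0, 55, 93, 106, 0, 173]),
    (22, [38, 15, 48, 98, 79, 0, 171])],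
  [
    (10, [31, 0, 63, 85, 105, 0, 168]),
    (11, [25, 1, 60, 85, 82, 136, 143]),
    (13, [44, 1, 61, 88, 117, 0, 168]),
    (16, [44, 1, 64, 88, 79, 0, 0]),
    (17, [44, 1, 71, 99, 114, 136, 143]),
    (18, [31, 0, 48, 73, 115, 135, 166]),
    (19, [25, 1, 62, 95, 106, 135, 167]),
    (20, [0, 0, 0, 95, 81, 135, 143]),
    (21, [31, 0, 65, 92, 109, 0, 167]),
    (22, [25, 1, 3, 0, 109, 0, 128])]]

end CfsgLib.Golay
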