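/-
Certificate data for the group of the code: a straight-line program over the three standard
generators, transversals for a base of seven points, and a propagation certificate showing that
the base has trivial stabiliser.
-/
import Mathlib.Data.List.Range

set_option autoImplicit false

namespace CfsgLib.Golay

/-- Straight-line program; entry `(a, b)` appends the quotient of entries `a` and `b`. -/
def m24Prog : List (ℕ × ℕ) := [
  (1, 0), (4, 1), (4, 5), (4, 6), (4, 7), (4, 8), (4, 9), (4, 10), (4, 11), (4, 12), (4, 13),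
  (4, 14), (4, 15), (4, 16), (4, 17), (4, 18), (4, 19), (4, 20), (4, 21), (4, 22), (4, 23), (4, 2),
  (2, 25), (4, 25), (2, 27), (4, 27), (4, 28), (2, 29), (4, 29), (2, 30), (4, 30), (4, 31),
  (2, 32), (4, 32), (2, 34), (4, 34), (2, 35), (4, 36), (2, 37), (4, 37), (4, 38), (4, 41),
  (2, 44), (3, 0), (47, 3), (47, 48), (4, 3), (47, 50), (21, 51), (48, 52), (53, 0), (54, 3),
  (54, 48), (54, 49), (54, 47), (54, 55), (47, 56), (54, 56), (47, 58), (54, 58), (47, 59),
  (47, 60), (54, 60), (47, 62), (47, 63), (47, 64), (54, 66), (54, 67), (54, 53), (54, 72),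
  (51, 0), (74, 1), (4, 75), (47, 76), (73, 77), (78, 0), (79, 53), (79, 78), (79, 81), (49, 50),
  (7, 83), (64, 84), (85, 0), (86, 72), (86, 54), (86, 80), (86, 85), (79, 85), (54, 87), (86, 87),
  (79, 87), (54, 88), (79, 88), (54, 89), (86, 89), (54, 92), (83, 0), (100, 75), (18, 101),
  (49, 102), (72, 103), (104, 0), (105, 78), (105, 82), (105, 79), (79, 104), (79, 106),
  (105, 106), (79, 108), (105, 108), (79, 109), (79, 105), (79, 110), (105, 114), (105, 115),
  (2, 101), (2, 1), (120, 0), (121, 1), (101, 0), (123, 3), (18, 124), (60, 125), (96, 126),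
  (104, 127), (119, 0), (129, 1), (2, 130), (20, 131), (48, 132), (80, 133), (105, 134), (135, 0),
  (124, 0), (137, 1), (7, 138), (64, 139), (54, 140), (106, 141), (136, 142), (143, 128),
  (20, 122), (145, 0), (146, 75), (147, 0), (148, 3), (43, 149), (1, 150), (107, 151), (135, 152),
  (153, 128), (153, 143), (153, 144), (75, 0), (157, 149), (47, 1), (159, 0), (160, 158),
  (43, 161), (1, 162), (61, 163), (94, 164), (135, 165), (166, 128), (166, 143), (166, 144),
  (166, 153), (166, 154), (166, 155), (166, 156)]

/-- The base positions. -/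
def baseIdx : List ℕ := [23, 0, 1, 2, 3, 5, 4]

/-- For each base point, pairs of an orbit position and a program index of a permutation moving
the base point there. -/
def m24Orbit : List (List (ℕ × ℕ)) := [
  [
    (0, 2), (1, 25), (2, 27), (3, 29), (4, 32), (5, 37), (6, 43), (7, 38), (8, 44), (9, 42),
    (10, 40), (11, 28), (12, 30), (13, 34), (14, 39), (15, 31), (16, 35), (17, 36), (18, 41),
    (19, 45), (20, 46), (21, 33), (22, 26), (23, 0)],
  [
    (0, 0), (1, 1), (2, 5), (3, 6), (4, 7), (5, 8), (6, 9), (7, 10), (8, 11), (9, 12), (10, 13),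
    (11, 14), (12, 15), (13, 16), (14, 17), (15, 18), (16, 19), (17, 20), (18, 21), (19, 22),
    (20, 23), (21, 24), (22, 4)],
  [
    (1, 0), (2, 49), (3, 55), (4, 48), (5, 70), (6, 47), (7, 69), (8, 65), (9, 56), (10, 64),
    (11, 67), (12, 60), (13, 68), (14, 58), (15, 71), (16, 63), (17, 62), (18, 3), (19, 61),
    (20, 59), (21, 57), (22, 66)],
  [
    (2, 0), (3, 73), (4, 92), (5, 86), (6, 88), (7, 87), (8, 97), (9, 99), (10, 98), (11, 90),
    (12, 93), (13, 80), (14, 95), (15, 85), (16, 96), (17, 89), (18, 72), (19, 91), (20, 54),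
    (21, 53), (22, 94)],
  [
    (3, 0), (4, 107), (5, 116), (6, 106), (7, 118), (8, 108), (9, 112), (10, 117), (11, 115),
    (12, 109), (13, 79), (14, 104), (15, 114), (16, 110), (17, 105), (18, 78), (19, 113), (20, 81),
    (21, 82), (22, 111)],
  [
    (5, 0), (14, 136), (17, 135)],
  [
    (4, 0), (6, 155), (7, 144), (8, 170), (9, 143), (10, 156), (11, 128), (12, 153), (13, 171),
    (15, 173), (16, 166), (18, 167), (19, 169), (20, 168), (21, 172), (22, 154)]]

/-- The octad through the first five base points. -/
def baseOctad : ℕ := 8536111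

/-- Propagation steps: a newly fixed position, with octads (code coordinates and five fixed
positions) that single it out. -/
def m24Fix : List (ℕ × List (ℕ × ℕ)) := [
  (6, [(123, 59), (3189, 8388661)]), (7, [(1183, 31), (199, 8388679)]),
  (8, [(435, 179), (343, 87)]), (15, [(435, 179)]), (18, [(493, 109)]),
  (9, [(567, 55), (2639, 79)]), (16, [(651, 651)]), (19, [(271, 271)]), (21, [(199, 199)]),
  (10, [(1183, 31), (103, 103)]), (11, [(3115, 1067)]), (12, [(1183, 31)]), (13, [(103, 103)]),
  (14, [(519, 4615)]), (17, [(47, 47)]), (20, [(2639, 79)]), (22, [])]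

end CfsgLib.Golay
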