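/-
The length-24 code of `Cfsg.Prelude.Def_Sporadic_a` as a list of 4096 bit masks, its weight
distribution, and the octad Steiner system.
-/
import Cfsg.Prelude.Def_Sporadic_a

set_option autoImplicit false

namespace CfsgLib.Golay

open Cfsg

/-- Position of a point: the residue, or 23 for the extra point. -/
def idx : GolayPt → ℕ
  | none => 23
  | some x => x.val

/-- The point at a position. -/
def pt (i : ℕ) : GolayPt := if i < 23 then some (i : ZMod 23) else none

theorem idx_pt : ∀ i < 24, idx (pt i) = i := by decide +kernel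

theorem pt_idx : ∀ p : GolayPt, pt (idx p) = p := by decide +kernel

theorem idx_lt : ∀ p : GolayPt, idx p < 24 := by decide +kernel

theorem idx_injective : Function.Injective idx := fun p q h => by
  rw [← pt_idx p, h, pt_idx q]

theorem card_golayPt : Fintype.card GolayPt = 24 := by decide +kernel

/-- The word with a given bit mask. -/
def vec (m : ℕ) : GolayPt → ZMod 2 := fun p => if m.testBit (idx p) then 1 else 0

theorem vec_xor (a b : ℕ) : vec (a ^^^ b) = vec a + vec b := by
  funext p
  simp only [vec, Nat.testBit_xor, Pi.add_apply]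
  cases a.testBit (idx p) <;> cases b.testBit (idx p) <;> decide

theorem vec_zero : vec 0 = 0 := by
  funext p; simp [vec]

/-- The points whose positions are set in a bit mask. -/
def pts (m : ℕ) : Finset GolayPt := Finset.univ.filter fun p => m.testBit (idx p)

theorem support_vec (m : ℕ) : support₂ (vec m) = pts m := by
  ext p
  simp only [support₂, pts, vec, Finset.mem_filter, Finset.mem_univ, true_and]
  cases h : m.testBit (idx p) <;> simp [h]

theorem hammingNorm_eq (w : GolayPt → ZMod 2) : hammingNorm w = (support₂ w).card := rfl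

/-- Number of set bits among the lowest `n`. -/
def wt : ℕ → ℕ → ℕ
  | 0, _ => 0
  | n + 1, m => m % 2 + wt n (m / 2)

theorem card_range_testBit : ∀ n m : ℕ,
    ((Finset.range n).filter fun i => m.testBit i).card = wt n m := by
  intro n
  induction n with
  | zero => intro m; simp [wt]
  | succ n ih =>
    intro m
    rw [wt, ← ih (m / 2), Finset.range_add_one', Finset.filter_insert, Finset.filter_map]
    rcases Nat.mod_two_eq_zero_or_one m with h | h <;>
      simp [h, Nat.testBit_zero, add_comm] <;>
      exact congrArg Finset.card (Finset.filter_congr fun i _ => by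
        show (m.testBit (i + 1) = true) ↔ _
        rw [Nat.testBit_succ])

theorem card_pts (m : ℕ) : (pts m).card = wt 24 m := by
  rw [← card_range_testBit 24 m, ← Finset.card_image_of_injective (pts m) idx_injective]
  congr 1
  ext i
  simp only [Finset.mem_image, pts, Finset.mem_filter, Finset.mem_univ, true_and, Finset.mem_range]
  constructor
  · rintro ⟨p, hp, rfl⟩; exact ⟨idx_lt p, hp⟩
  · rintro ⟨hi, hb⟩; exact ⟨pt i, by rw [idx_pt i hi]; exact hb, idx_pt i hi⟩

/-- The masks whose exclusive-or is selected by the bits of `c`. -/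
def comb : List ℕ → ℕ → ℕ
  | [], _ => 0
  | r :: rs, c => (if c % 2 = 1 then r else 0) ^^^ comb rs (c / 2)

theorem comb_xor : ∀ (L : List ℕ) (a b : ℕ), comb L (a ^^^ b) = comb L a ^^^ comb L b := by
  intro L
  induction L with
  | nil => intro a b; simp [comb]
  | cons r rs ih =>
    intro a b
    simp only [comb, Nat.xor_div_two, ih, Nat.xor_mod_two_eq_one]
    have hr : ((if ¬(a % 2 = 1 ↔ b % 2 = 1) then r else 0) : ℕ) =
        (if a % 2 = 1 then r else 0) ^^^ (if b % 2 = 1 then r else 0) := by
      by_cases ha : a % 2 = 1 <;> by_cases hb : b % 2 = 1 <;> simp [ha, hb]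
    rw [hr]
    ac_rfl

theorem vec_comb_mem (S : Submodule (ZMod 2) (GolayPt → ZMod 2)) :
    ∀ (L : List ℕ), (∀ r ∈ L, vec r ∈ S) → ∀ c, vec (comb L c) ∈ S := by
  intro L
  induction L with
  | nil => intro _ c; simp [comb, vec_zero]
  | cons r rs ih =>
    intro h c
    rw [comb, vec_xor]
    refine S.add_mem ?_ (ih (fun x hx => h x (List.mem_cons_of_mem _ hx)) _)
    split
    · exact h r List.mem_cons_self
    · rw [vec_zero]; exact S.zero_mem

/-- A systematic basis: row `i` is the only one with bit `i` among the lowest twelve. -/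
def rows : List ℕ := [13062145, 4845570, 13938692, 7221256, 10170384, 11952160, 15515712, 2019456, 4038912, 8077824, 11654144, 14919680]

/-- The masks of the spanning words. -/
def genMasks : List ℕ := [340831, 681662, 1363324, 2726648, 5453296, 2517985, 5035970, 1683333, 3366666, 6733332, 5078057, 1767507, 3535014, 7070028, 5751449, 3114291, 6228582, 4068557, 8137114, 7885621, 7382635, 6376663, 4364719, 16777215]

/-- The word of the code with given coordinates in the systematic basis. -/
def word (c : ℕ) : ℕ := comb rows c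

theorem qrWord_eq : ∀ t : ZMod 23, qrWord t = vec (genMasks.getD t.val 0) := by decide +kernel

theorem one_eq : (1 : GolayPt → ZMod 2) = vec (genMasks.getD 23 0) := by decide +kernel

theorem genMasks_spec : ∀ m ∈ genMasks, word (m % 4096) = m := by decide +kernel

theorem rows_spec :
    rows = List.map (comb genMasks) [8390313, 280, 8389785, 1400, 8390330, 8390551, 8390093, 2000, 1347, 101, 8390243, 8390181] := by decide +kernel

theorem vec_genMasks_mem : ∀ m ∈ genMasks, vec m ∈ golayCode := by
  intro m hm
  obtain ⟨i, hi, rfl⟩ := List.mem_iff_getElem.mp hm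
  have hlen : genMasks.length = 24 := rfl
  rw [← List.getD_eq_getElem genMasks 0 hi]
  by_cases h23 : i = 23
  · subst h23; rw [← one_eq]; exact Submodule.subset_span (Or.inr rfl)
  · have h := qrWord_eq (i : ZMod 23)
    rw [ZMod.val_natCast, Nat.mod_eq_of_lt (by omega)] at h
    rw [← h]; exact Submodule.subset_span (Or.inl ⟨_, rfl⟩)

theorem vec_word_mem (c : ℕ) : vec (word c) ∈ golayCode := by
  refine vec_comb_mem _ rows ?_ c
  intro r hr
  rw [rows_spec, List.mem_map] at hr
  obtain ⟨k, -, rfl⟩ := hr
  exact vec_comb_mem _ genMasks vec_genMasks_mem k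

theorem mem_code_iff (w : GolayPt → ZMod 2) :
    w ∈ golayCode ↔ ∃ c < 4096, w = vec (word c) := by
  constructor
  · intro hw
    induction hw using Submodule.span_induction with
    | mem x hx =>
      have key : ∀ m ∈ genMasks, ∃ c < 4096, vec m = vec (word c) := fun m hm =>
        ⟨m % 4096, Nat.mod_lt _ (by norm_num), by rw [genMasks_spec m hm]⟩
      rcases hx with ⟨t, rfl⟩ | hx
      · rw [qrWord_eq]
        have ht : t.val < 23 := ZMod.val_lt t
        have hlen : genMasks.length = 24 := rfl
        rw [List.getD_eq_getElem _ _ (show t.val < genMasks.length by omega)]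
        exact key _ (List.getElem_mem _)
      · rw [Set.mem_singleton_iff] at hx
        subst hx
        rw [one_eq]
        exact key _ (by decide +kernel)
    | zero => exact ⟨0, by norm_num, by rw [← vec_zero]; rfl⟩
    | add x y _ _ hx hy =>
      obtain ⟨a, ha, rfl⟩ := hx
      obtain ⟨b, hb, rfl⟩ := hy
      exact ⟨a ^^^ b, Nat.xor_lt_two_pow (n := 12) ha hb, (vec_xor _ _).symm.trans (congrArg vec (comb_xor rows a b).symm)⟩
    | smul r x _ hx =>
      obtain ⟨a, ha, rfl⟩ := hx
      have hr : r = 0 ∨ r = 1 := by revert r; decide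
      rcases hr with rfl | rfl
      · exact ⟨0, by norm_num, by rw [zero_smul, ← vec_zero]; rfl⟩
      · exact ⟨a, ha, one_smul _ _⟩
  · rintro ⟨c, -, rfl⟩; exact vec_word_mem c

/-- Check a property below 4096 in two levels, to keep the kernel's recursion shallow. -/
theorem forall_lt_4096 {P : ℕ → Prop} (h : ∀ a < 64, ∀ b < 64, P (64 * a + b)) :
    ∀ c < 4096, P c := fun c hc => by
  have := h (c / 64) (Nat.div_lt_of_lt_mul (by omega)) (c % 64) (Nat.mod_lt _ (by norm_num))
  rwa [Nat.div_add_mod] at this

theorem card_filter_range_mul (P : ℕ → Prop) [DecidablePred P] (k : ℕ) : ∀ n : ℕ,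
    ((Finset.range (k * n)).filter P).card =
      ∑ a ∈ Finset.range n, ((Finset.range k).filter fun b => P (k * a + b)).card := by
  intro n
  induction n with
  | zero => simp
  | succ n ih =>
    rw [Finset.sum_range_succ, ← ih]
    simp only [Finset.card_filter]
    rw [Nat.mul_succ, Finset.sum_range_add]

theorem word_mod : ∀ c < 4096, word c % 4096 = c := forall_lt_4096 (by decide +kernel)

theorem word_lt : ∀ c < 4096, word c < 2 ^ 24 := forall_lt_4096 (by decide +kernel)

theorem vec_inj {a b : ℕ} (ha : a < 2 ^ 24) (hb : b < 2 ^ 24) (h : vec a = vec b) : a = b := by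
  apply Nat.eq_of_testBit_eq
  intro i
  by_cases hi : i < 24
  · have := congrFun h (pt i)
    simp only [vec, idx_pt i hi] at this
    revert this
    cases a.testBit i <;> cases b.testBit i <;> simp
  · have h24 : 2 ^ 24 ≤ 2 ^ i := Nat.pow_le_pow_right (by norm_num) (by omega)
    rw [Nat.testBit_lt_two_pow (by omega), Nat.testBit_lt_two_pow (by omega)]

theorem pts_inj {a b : ℕ} (ha : a < 2 ^ 24) (hb : b < 2 ^ 24) (h : pts a = pts b) : a = b := by
  refine vec_inj ha hb (funext fun p => ?_)
  have := Finset.ext_iff.mp h p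
  simp only [pts, Finset.mem_filter, Finset.mem_univ, true_and] at this
  simp only [vec, this]

theorem word_inj {a b : ℕ} (ha : a < 4096) (hb : b < 4096) (h : pts (word a) = pts (word b)) :
    a = b := by
  rw [← word_mod a ha, ← word_mod b hb, pts_inj (word_lt a ha) (word_lt b hb) h]

theorem mem_supports_iff (s : Finset GolayPt) :
    s ∈ supports (golayCode : Set (GolayPt → ZMod 2)) ↔ ∃ c < 4096, s = pts (word c) := by
  constructor
  · rintro ⟨w, hw, rfl⟩
    obtain ⟨c, hc, rfl⟩ := (mem_code_iff w).mp hw
    exact ⟨c, hc, support_vec _⟩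
  · rintro ⟨c, -, rfl⟩
    exact ⟨vec (word c), vec_word_mem c, support_vec _⟩

theorem mem_wordsOfWeight_iff (n : ℕ) (s : Finset GolayPt) :
    s ∈ wordsOfWeight (golayCode : Set (GolayPt → ZMod 2)) n ↔
      ∃ c < 4096, wt 24 (word c) = n ∧ s = pts (word c) := by
  constructor
  · rintro ⟨hs, hn⟩
    obtain ⟨c, hc, rfl⟩ := (mem_supports_iff s).mp hs
    exact ⟨c, hc, by rwa [← card_pts], rfl⟩
  · rintro ⟨c, hc, hn, rfl⟩
    exact ⟨(mem_supports_iff _).mpr ⟨c, hc, rfl⟩, by rwa [card_pts]⟩

theorem mem_octads_iff (s : Finset GolayPt) :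
    s ∈ octads ↔ ∃ c < 4096, wt 24 (word c) = 8 ∧ s = pts (word c) :=
  mem_wordsOfWeight_iff 8 s

theorem mem_dodecads_iff (s : Finset GolayPt) :
    s ∈ dodecads ↔ ∃ c < 4096, wt 24 (word c) = 12 ∧ s = pts (word c) :=
  mem_wordsOfWeight_iff 12 s

theorem ncard_wordsOfWeight (n : ℕ) :
    (wordsOfWeight (golayCode : Set (GolayPt → ZMod 2)) n).ncard =
      ((Finset.range 4096).filter fun c => wt 24 (word c) = n).card := by
  rw [← Set.ncard_coe_finset]
  symm
  refine Set.ncard_congr (fun c _ => pts (word c)) ?_ ?_ ?_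
  · intro c hc
    simp only [Finset.coe_filter, Finset.mem_range, Set.mem_ofPred_eq] at hc
    exact (mem_wordsOfWeight_iff n _).mpr ⟨c, hc.1, hc.2, rfl⟩
  · intro a b ha hb h
    simp only [Finset.coe_filter, Finset.mem_range, Set.mem_ofPred_eq] at ha hb
    exact word_inj ha.1 hb.1 h
  · intro s hs
    obtain ⟨c, hc, hn, rfl⟩ := (mem_wordsOfWeight_iff n s).mp hs
    exact ⟨c, by simpa using ⟨hc, hn⟩, rfl⟩

theorem weights : ∀ c < 4096, wt 24 (word c) = 0 ∨ wt 24 (word c) = 8 ∨ wt 24 (word c) = 12 ∨
    wt 24 (word c) = 16 ∨ wt 24 (word c) = 24 := forall_lt_4096 (by decide +kernel)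

theorem octad_count : octads.ncard = 759 := by
  rw [octads, ncard_wordsOfWeight, show 4096 = 64 * 64 from rfl, card_filter_range_mul]; decide +kernel

theorem dodecad_count : dodecads.ncard = 2576 := by
  rw [dodecads, ncard_wordsOfWeight, show 4096 = 64 * 64 from rfl, card_filter_range_mul]; decide +kernel

theorem hammingNorm_mem (w : GolayPt → ZMod 2) (hw : w ∈ golayCode) :
    hammingNorm w = 0 ∨ hammingNorm w = 8 ∨ hammingNorm w = 12 ∨ hammingNorm w = 16 ∨
      hammingNorm w = 24 := by
  obtain ⟨c, hc, rfl⟩ := (mem_code_iff w).mp hw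
  rw [hammingNorm_eq, support_vec, card_pts]
  exact weights c hc

end CfsgLib.Golay
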