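/-
The code is self-orthogonal of dimension 12, and its octads form a Steiner system S(5, 8, 24).
-/
import Cfsg.Agent.Golay.Basic

set_option autoImplicit false

namespace CfsgLib.Golay

open Cfsg

theorem code_finrank : Module.finrank (ZMod 2) golayCode = 12 := by
  have hcard : Nat.card golayCode = 4096 := by
    let f : Fin 4096 → golayCode := fun c => ⟨vec (word c), vec_word_mem c⟩
    have hf : Function.Bijective f := by
      constructor
      · intro a b h
        apply Fin.ext
        rw [← word_mod a a.2, ← word_mod b b.2,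
          vec_inj (word_lt a a.2) (word_lt b b.2) (Subtype.ext_iff.mp h)]
      · rintro ⟨w, hw⟩
        obtain ⟨c, hc, rfl⟩ := (mem_code_iff w).mp hw
        exact ⟨⟨c, hc⟩, rfl⟩
    rw [← Nat.card_eq_of_bijective f hf, Nat.card_fin]
  have h := Module.natCard_eq_pow_finrank (K := ZMod 2) (V := golayCode)
  rw [hcard, Nat.card_zmod] at h
  exact Nat.pow_right_injective (le_refl 2) (h.symm.trans (by norm_num : (4096 : ℕ) = 2 ^ 12))

theorem dot_genMasks : ∀ a ∈ genMasks, ∀ b ∈ genMasks, ∑ i, vec a i * vec b i = 0 := by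
  decide +kernel

theorem dot_eq_zero {v w : GolayPt → ZMod 2} (hv : v ∈ golayCode) (hw : w ∈ golayCode) :
    ∑ i, v i * w i = 0 := by
  have gen : ∀ x ∈ Set.range qrWord ∪ {(1 : GolayPt → ZMod 2)}, ∃ m ∈ genMasks, x = vec m := by
    rintro x (⟨t, rfl⟩ | hx)
    · have ht : t.val < 23 := ZMod.val_lt t
      have hlen : genMasks.length = 24 := rfl
      exact ⟨_, by rw [List.getD_eq_getElem _ _ (show t.val < genMasks.length by omega)]
                   exact List.getElem_mem _, qrWord_eq t⟩
    · rw [Set.mem_singleton_iff] at hx; subst hx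
      exact ⟨_, by decide +kernel, one_eq⟩
  induction hv using Submodule.span_induction with
  | mem x hx =>
    obtain ⟨a, ha, rfl⟩ := gen x hx
    induction hw using Submodule.span_induction with
    | mem y hy => obtain ⟨b, hb, rfl⟩ := gen y hy; exact dot_genMasks a ha b hb
    | zero => simp
    | add y z _ _ hy hz => simp [mul_add, Finset.sum_add_distrib, hy, hz]
    | smul r y _ hy => simp [mul_left_comm _ r, ← Finset.mul_sum, hy]
  | zero => simp
  | add x y _ _ hx hy => simp [add_mul, Finset.sum_add_distrib, hx, hy]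
  | smul r x _ hx => simp [mul_assoc, ← Finset.mul_sum, hx]

theorem octad_card {o : Finset GolayPt} (ho : o ∈ octads) : o.card = 8 := ho.2

theorem dodecad_card {d : Finset GolayPt} (hd : d ∈ dodecads) : d.card = 12 := hd.2

theorem supports_symmDiff {s t : Finset GolayPt}
    (hs : s ∈ supports (golayCode : Set (GolayPt → ZMod 2)))
    (ht : t ∈ supports (golayCode : Set (GolayPt → ZMod 2))) :
    symmDiff s t ∈ supports (golayCode : Set (GolayPt → ZMod 2)) := by
  obtain ⟨u, hu, rfl⟩ := hs
  obtain ⟨v, hv, rfl⟩ := ht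
  refine ⟨u + v, golayCode.add_mem hu hv, ?_⟩
  ext p
  simp only [support₂, Finset.mem_symmDiff, Finset.mem_filter, Finset.mem_univ, true_and,
    Pi.add_apply]
  generalize u p = a
  generalize v p = b
  revert a b; decide

theorem supports_card {s : Finset GolayPt}
    (hs : s ∈ supports (golayCode : Set (GolayPt → ZMod 2))) :
    s.card = 0 ∨ s.card = 8 ∨ s.card = 12 ∨ s.card = 16 ∨ s.card = 24 := by
  obtain ⟨u, hu, rfl⟩ := hs
  simpa [hammingNorm_eq] using hammingNorm_mem u hu

theorem card_symmDiff_add {α : Type*} [DecidableEq α] (s t : Finset α) :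
    (symmDiff s t).card + 2 * (s ∩ t).card = s.card + t.card := by
  have h1 : (symmDiff s t).card = (s \ t).card + (t \ s).card := by
    rw [symmDiff_def, Finset.sup_eq_union,
      Finset.card_union_of_disjoint disjoint_sdiff_sdiff]
  have h2 := Finset.card_sdiff_add_card_inter s t
  have h3 := Finset.card_sdiff_add_card_inter t s
  rw [Finset.inter_comm t s] at h3
  omega

theorem octad_unique {o o' : Finset GolayPt} (ho : o ∈ octads) (ho' : o' ∈ octads)
    {f : Finset GolayPt} (hf : 5 ≤ f.card) (hfo : f ⊆ o) (hfo' : f ⊆ o') : o = o' := by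
  by_contra hne
  have h1 := card_symmDiff_add o o'
  have h2 : f.card ≤ (o ∩ o').card := Finset.card_le_card (Finset.subset_inter hfo hfo')
  rw [octad_card ho, octad_card ho'] at h1
  have h3 : (symmDiff o o').card ≠ 0 := by
    rw [Ne, Finset.card_eq_zero]
    exact fun h => hne (symmDiff_eq_bot.mp h)
  rcases supports_card (supports_symmDiff ho.1 ho'.1) with h | h | h | h | h <;> omega

theorem octads_steiner : IsSteinerSystem 5 8 octads := by
  refine ⟨fun o ho => octad_card ho, fun s hs => ?_⟩
  let O : Finset (Finset GolayPt) := (Set.toFinite octads).toFinset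
  have hO : ∀ o, o ∈ O ↔ o ∈ octads := fun o => Set.Finite.mem_toFinset _
  have hdisj : (O : Set (Finset GolayPt)).PairwiseDisjoint fun o => o.powersetCard 5 := by
    intro a ha b hb hab
    rw [Function.onFun, Finset.disjoint_left]
    intro f hfa hfb
    rw [Finset.mem_powersetCard] at hfa hfb
    exact hab (octad_unique ((hO a).mp ha) ((hO b).mp hb) hfa.2.ge hfa.1 hfb.1)
  have hsub : O.biUnion (fun o => o.powersetCard 5) ⊆
      (Finset.univ : Finset GolayPt).powersetCard 5 := by
    intro f hf
    rw [Finset.mem_biUnion] at hf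
    obtain ⟨o, -, hfo⟩ := hf
    exact Finset.mem_powersetCard.mpr ⟨Finset.subset_univ _, (Finset.mem_powersetCard.mp hfo).2⟩
  have hall : O.biUnion (fun o => o.powersetCard 5) =
      (Finset.univ : Finset GolayPt).powersetCard 5 := by
    refine Finset.eq_of_subset_of_card_le hsub ?_
    rw [Finset.card_biUnion hdisj, Finset.card_powersetCard, Finset.card_univ, card_golayPt,
      Finset.sum_congr rfl (g := fun _ => Nat.choose 8 5)
        (fun o ho => by rw [Finset.card_powersetCard, octad_card ((hO o).mp ho)]),
      Finset.sum_const, smul_eq_mul, ← Set.ncard_eq_toFinset_card octads, octad_count]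
    norm_num [Nat.choose_eq_descFactorial_div_factorial, Nat.descFactorial, Nat.factorial]
  have hs' : s ∈ (Finset.univ : Finset GolayPt).powersetCard 5 :=
    Finset.mem_powersetCard.mpr ⟨Finset.subset_univ _, hs⟩
  rw [← hall, Finset.mem_biUnion] at hs'
  obtain ⟨o, ho, hso⟩ := hs'
  exact ⟨o, ⟨(hO o).mp ho, (Finset.mem_powersetCard.mp hso).1⟩, fun o' ho' =>
    octad_unique ho'.1 ((hO o).mp ho) hs.ge ho'.2 (Finset.mem_powersetCard.mp hso).1⟩

end CfsgLib.Golay
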