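/-
Permutations of the 24 points as lists of positions, and straight-line programs of them.
-/
import Cfsg.Agent.Golay.Steiner

set_option autoImplicit false

namespace CfsgLib.Golay

open Cfsg

/-- A permutation of the points as the list of the images of the positions. -/
def toList (σ : Equiv.Perm GolayPt) : List ℕ := (List.range 24).map fun i => idx (σ (pt i))

/-- Composition of position lists. -/
def compL (A B : List ℕ) : List ℕ := B.map fun x => A.getD x 0

/-- Inverse of a position list. -/
def invL (A : List ℕ) : List ℕ := (List.range 24).map fun i => A.idxOf i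

theorem toList_getD (σ : Equiv.Perm GolayPt) {i : ℕ} (hi : i < 24) :
    (toList σ).getD i 0 = idx (σ (pt i)) := by
  simp [toList, hi]

theorem toList_getD_idx (σ : Equiv.Perm GolayPt) (p : GolayPt) :
    (toList σ).getD (idx p) 0 = idx (σ p) := by
  rw [toList_getD σ (idx_lt p), pt_idx]

theorem toList_mul (σ τ : Equiv.Perm GolayPt) :
    toList (σ * τ) = compL (toList σ) (toList τ) := by
  simp only [toList, compL, List.map_map]
  refine List.map_congr_left fun i hi => ?_
  simp only [Function.comp_apply, Equiv.Perm.mul_apply]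
  exact (toList_getD_idx σ _).symm

theorem toList_inv (σ : Equiv.Perm GolayPt) : toList σ⁻¹ = invL (toList σ) := by
  refine List.map_congr_left fun i hi => ?_
  have hi' : i < 24 := List.mem_range.mp hi
  set j := idx (σ⁻¹ (pt i)) with hj
  have hj' : j < 24 := idx_lt _
  have hjlen : j < (toList σ).length := by simp [toList, hj']
  have hget : (toList σ)[j] = i := by
    simp only [toList, List.getElem_map, List.getElem_range, hj, pt_idx]
    simp [idx_pt i hi']
  have hnd : (toList σ).Nodup := by
    refine List.Nodup.map_on ?_ List.nodup_range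
    intro a ha b hb h
    have := σ.injective (idx_injective h)
    rw [← idx_pt a (List.mem_range.mp ha), this, idx_pt b (List.mem_range.mp hb)]
  conv_rhs => rw [← hget]
  exact (hnd.idxOf_getElem j hjlen).symm

theorem toList_one : toList 1 = List.range 24 := by decide +kernel

/-- One step of a straight-line program: append the quotient of two earlier entries. -/
def stepP (acc : List (Equiv.Perm GolayPt)) (e : ℕ × ℕ) : List (Equiv.Perm GolayPt) :=
  acc ++ [(acc.getD e.1 1)⁻¹ * acc.getD e.2 1]

/-- The same step on position lists. -/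
def stepL (acc : List (List ℕ)) (e : ℕ × ℕ) : List (List ℕ) :=
  acc ++ [compL (invL (acc.getD e.1 (List.range 24))) (acc.getD e.2 (List.range 24))]

theorem toList_getD_list (acc : List (Equiv.Perm GolayPt)) (k : ℕ) :
    toList (acc.getD k 1) = (acc.map toList).getD k (List.range 24) := by
  rw [← toList_one, List.getD_map]

theorem map_toList_run : ∀ (prog : List (ℕ × ℕ)) (acc : List (Equiv.Perm GolayPt)),
    (prog.foldl stepP acc).map toList = prog.foldl stepL (acc.map toList) := by
  intro prog
  induction prog with
  | nil => intro acc; rfl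
  | cons e es ih =>
    intro acc
    simp only [List.foldl_cons, ih]
    congr 1
    simp only [stepP, stepL, List.map_append, List.map_cons, List.map_nil, toList_mul, toList_inv,
      toList_getD_list]

theorem getD_mem_of_forall {G : Subgroup (Equiv.Perm GolayPt)}
    (acc : List (Equiv.Perm GolayPt)) (h : ∀ g ∈ acc, g ∈ G) (k : ℕ) : acc.getD k 1 ∈ G := by
  rcases lt_or_ge k acc.length with hk | hk
  · rw [List.getD_eq_getElem _ _ hk]; exact h _ (List.getElem_mem _)
  · rw [List.getD_eq_default _ _ hk]; exact G.one_mem

theorem run_mem {G : Subgroup (Equiv.Perm GolayPt)} : ∀ (prog : List (ℕ × ℕ))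
    (acc : List (Equiv.Perm GolayPt)), (∀ g ∈ acc, g ∈ G) → ∀ g ∈ prog.foldl stepP acc, g ∈ G := by
  intro prog
  induction prog with
  | nil => intro acc h; simpa using h
  | cons e es ih =>
    intro acc h
    refine ih _ fun g hg => ?_
    rw [stepP, List.mem_append, List.mem_singleton] at hg
    rcases hg with hg | rfl
    · exact h g hg
    · exact G.mul_mem (G.inv_mem (getD_mem_of_forall acc h _)) (getD_mem_of_forall acc h _)

/-- The image of a bit mask under a position list. -/
def permMask (L : List ℕ) (m : ℕ) : ℕ → ℕ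
  | 0 => 0
  | n + 1 => permMask L m n ||| (if m.testBit n then 2 ^ L.getD n 0 else 0)

theorem testBit_permMask (L : List ℕ) (m : ℕ) : ∀ (n j : ℕ),
    (permMask L m n).testBit j = true ↔ ∃ i < n, m.testBit i = true ∧ L.getD i 0 = j := by
  intro n
  induction n with
  | zero => intro j; simp [permMask]
  | succ n ih =>
    intro j
    rw [permMask, Nat.testBit_or, Bool.or_eq_true, ih, Nat.exists_lt_succ_right]
    refine or_congr Iff.rfl ?_
    cases h : m.testBit n <;> simp [Nat.testBit_two_pow]

theorem pts_permMask (σ : Equiv.Perm GolayPt) (m : ℕ) :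
    pts (permMask (toList σ) m 24) = (pts m).image σ := by
  ext q
  simp only [pts, Finset.mem_filter, Finset.mem_univ, true_and, Finset.mem_image,
    testBit_permMask]
  constructor
  · rintro ⟨i, hi, hb, hL⟩
    rw [toList_getD σ hi] at hL
    exact ⟨pt i, by rwa [idx_pt i hi], idx_injective hL⟩
  · rintro ⟨p, hp, rfl⟩
    exact ⟨idx p, idx_lt p, hp, toList_getD_idx σ p⟩

theorem permMask_lt (σ : Equiv.Perm GolayPt) (m : ℕ) :
    permMask (toList σ) m 24 < 2 ^ 24 := by
  refine Nat.lt_pow_two_of_testBit _ fun i hi => ?_
  rw [Bool.eq_false_iff]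
  intro h
  obtain ⟨k, hk, -, hL⟩ := (testBit_permMask _ _ _ _).mp h
  rw [toList_getD σ hk] at hL
  have := idx_lt (σ (pt k))
  omega

theorem vec_permMask (σ : Equiv.Perm GolayPt) (m : ℕ) :
    vec (permMask (toList σ) m 24) = fun q => vec m (σ⁻¹ q) := by
  funext q
  have h : q ∈ pts (permMask (toList σ) m 24) ↔ σ⁻¹ q ∈ pts m := by
    rw [pts_permMask, Finset.mem_image]
    constructor
    · rintro ⟨p, hp, rfl⟩; simpa using hp
    · intro hp; exact ⟨_, hp, by simp⟩
  simp only [pts, Finset.mem_filter, Finset.mem_univ, true_and] at h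
  simp only [vec, h]

/-- A position list maps the twelve basis words into the code. -/
def PreservesCode (L : List ℕ) : Prop :=
  ∀ r ∈ rows, word (permMask L r 24 % 4096) = permMask L r 24

open scoped Pointwise in
theorem mem_M24_of_preserves (σ : Equiv.Perm GolayPt) (h : PreservesCode (toList σ)) :
    σ ∈ M24 := by
  have hcode : ∀ w ∈ golayCode, (fun q => w (σ⁻¹ q)) ∈ golayCode := by
    intro w hw
    let S : Submodule (ZMod 2) (GolayPt → ZMod 2) :=
      Submodule.comap (LinearMap.funLeft (ZMod 2) (ZMod 2) (σ⁻¹ : Equiv.Perm GolayPt)) golayCode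
    obtain ⟨c, -, rfl⟩ := (mem_code_iff w).mp hw
    have : vec (comb rows c) ∈ S := vec_comb_mem S rows (fun r hr => by
      show (fun q => vec r (σ⁻¹ q)) ∈ golayCode
      rw [← vec_permMask, ← h r hr]
      exact vec_word_mem _) c
    exact this
  show σ • supports (golayCode : Set (GolayPt → ZMod 2)) = _
  refine Set.eq_of_subset_of_ncard_le ?_ ?_ (Set.toFinite _)
  · rintro _ ⟨s, ⟨w, hw, rfl⟩, rfl⟩
    refine ⟨_, hcode w hw, ?_⟩
    ext q
    show q ∈ support₂ _ ↔ q ∈ σ • support₂ w
    rw [Finset.mem_smul_finset]
    simp only [support₂, Finset.mem_filter, Finset.mem_univ, true_and]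
    constructor
    · intro hq; exact ⟨σ⁻¹ q, hq, by simp⟩
    · rintro ⟨p, hp, rfl⟩; simpa using hp
  · rw [Set.ncard_smul_set]

end CfsgLib.Golay
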