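/-
The group of the code: generated by the three standard permutations, of order 244823040,
5-transitive, and equal to the automorphism group of the octad system.
-/
import Cfsg.Agent.Golay.PermTable
import Cfsg.Agent.Golay.M24Data

set_option autoImplicit false

namespace CfsgLib.Golay

open Cfsg
open scoped Pointwise

/-- The three standard generators. -/
noncomputable def gens : List (Equiv.Perm GolayPt) :=
  [Equiv.optionCongr (Equiv.addRight (1 : ZMod 23)), projInv, cubeTwist]

/-- Position lists of the three standard generators. -/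
def gensL : List (List ℕ) :=
  [(List.range 23).map (fun x => (x + 1) % 23) ++ [23],
   (List.range 24).map (fun i => idx (projInvFun (pt i))),
   (List.range 24).map (fun i => idx (cubeTwistFun (pt i)))]

theorem toList_translation :
    toList (Equiv.optionCongr (Equiv.addRight (1 : ZMod 23))) =
      (List.range 23).map (fun x => (x + 1) % 23) ++ [23] := by decide +kernel

theorem toList_projInv :
    toList projInv = (List.range 24).map (fun i => idx (projInvFun (pt i))) := rfl

theorem toList_cubeTwist :
    toList cubeTwist = (List.range 24).map (fun i => idx (cubeTwistFun (pt i))) := rfl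

theorem gens_map : gens.map toList = gensL := by
  simp only [gens, gensL, List.map_cons, List.map_nil, toList_translation, toList_projInv,
    toList_cubeTwist]

theorem gensL_preserves : ∀ L ∈ gensL, PreservesCode L := by
  unfold PreservesCode; decide +kernel

theorem translation_mem : Equiv.optionCongr (Equiv.addRight (1 : ZMod 23)) ∈ M24 :=
  mem_M24_of_preserves _ (gensL_preserves _ (by rw [← gens_map]; simp [gens]))

theorem projInv_mem : projInv ∈ M24 :=
  mem_M24_of_preserves _ (gensL_preserves _ (by rw [← gens_map]; simp [gens]))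

theorem cubeTwist_mem : cubeTwist ∈ M24 :=
  mem_M24_of_preserves _ (gensL_preserves _ (by rw [← gens_map]; simp [gens]))

/-- The subgroup generated by the three standard permutations. -/
def genGroup : Subgroup (Equiv.Perm GolayPt) :=
  Subgroup.closure {Equiv.optionCongr (Equiv.addRight (1 : ZMod 23)), projInv, cubeTwist}

theorem genGroup_le : genGroup ≤ M24 := by
  rw [genGroup, Subgroup.closure_le]
  rintro g (rfl | rfl | rfl)
  exacts [translation_mem, projInv_mem, cubeTwist_mem]

/-- The permutations of the straight-line program. -/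
noncomputable def table : List (Equiv.Perm GolayPt) := m24Prog.foldl stepP (1 :: gens)

/-- Their position lists. -/
def tableL : List (List ℕ) := m24Prog.foldl stepL (List.range 24 :: gensL)

theorem table_map : table.map toList = tableL := by
  rw [table, map_toList_run, List.map_cons, toList_one, gens_map]; rfl

theorem table_mem : ∀ g ∈ table, g ∈ genGroup := by
  refine run_mem _ _ ?_
  intro g hg
  simp only [gens, List.mem_cons, List.not_mem_nil, or_false] at hg
  rcases hg with rfl | rfl | rfl | rfl
  · exact one_mem _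
  all_goals exact Subgroup.subset_closure (by simp)

/-- An entry of the table. -/
noncomputable def elt (i : ℕ) : Equiv.Perm GolayPt := table.getD i 1

theorem elt_mem (i : ℕ) : elt i ∈ genGroup := getD_mem_of_forall _ table_mem i

theorem elt_mem_M24 (i : ℕ) : elt i ∈ M24 := genGroup_le (elt_mem i)

theorem idx_elt (i : ℕ) (p : GolayPt) :
    idx (elt i p) = (tableL.getD i (List.range 24)).getD (idx p) 0 := by
  rw [← table_map, ← toList_getD_list, toList_getD_idx]
  unfold elt
  with_reducible rfl

attribute [irreducible] table tableL elt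

/-- The base points. -/
def bp (k : ℕ) : GolayPt := pt (baseIdx.getD k 0)

theorem idx_bp : ∀ k < 7, idx (bp k) = baseIdx.getD k 0 := by decide +kernel

theorem bp_ne : ∀ k < 7, ∀ j < k, bp j ≠ bp k := by decide +kernel

/-- The level-`k` orbit, as program indices. -/
def orb (k : ℕ) : List (ℕ × ℕ) := m24Orbit.getD k []

unseal tableL in
theorem orb_spec : ∀ k < 7, ∀ e ∈ orb k,
    (tableL.getD e.2 (List.range 24)).getD (baseIdx.getD k 0) 0 = e.1 ∧
      ∀ j < k, (tableL.getD e.2 (List.range 24)).getD (baseIdx.getD j 0) 0 =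
        baseIdx.getD j 0 := by decide +kernel

theorem orb_apply {k : ℕ} (hk : k < 7) {e : ℕ × ℕ} (he : e ∈ orb k) :
    idx (elt e.2 (bp k)) = e.1 ∧ ∀ j < k, elt e.2 (bp j) = bp j := by
  obtain ⟨h1, h2⟩ := orb_spec k hk e he
  refine ⟨by rw [idx_elt, idx_bp k hk, h1], fun j hj => idx_injective ?_⟩
  rw [idx_elt, idx_bp j (hj.trans hk), h2 j hj]

/-- The pointwise stabiliser in the code's group of the first `k` base points. -/
def St (k : ℕ) : Subgroup (Equiv.Perm GolayPt) :=
  M24 ⊓ fixingSubgroup (Equiv.Perm GolayPt) {p | ∃ j < k, bp j = p}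

theorem mem_St {k : ℕ} {g : Equiv.Perm GolayPt} :
    g ∈ St k ↔ g ∈ M24 ∧ ∀ j < k, g (bp j) = bp j := by
  simp only [St, Subgroup.mem_inf, mem_fixingSubgroup_iff, Equiv.Perm.smul_def,
    Set.mem_ofPred_eq, forall_exists_index, and_imp]
  constructor
  · rintro ⟨h, h'⟩; exact ⟨h, fun j hj => h' _ j hj rfl⟩
  · rintro ⟨h, h'⟩; exact ⟨h, fun p j hj hp => by rw [← hp]; exact h' j hj⟩

theorem St_zero : St 0 = M24 := by
  ext g; simp [mem_St]

theorem St_succ_iff {k : ℕ} {g : Equiv.Perm GolayPt} :
    g ∈ St (k + 1) ↔ g ∈ St k ∧ g (bp k) = bp k := by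
  rw [mem_St, mem_St, Nat.forall_lt_succ_right, and_assoc]

theorem M24_image {g : Equiv.Perm GolayPt} (hg : g ∈ M24) {s : Finset GolayPt}
    (hs : s ∈ supports (golayCode : Set (GolayPt → ZMod 2))) :
    s.image g ∈ supports (golayCode : Set (GolayPt → ZMod 2)) := by
  have h : g • supports (golayCode : Set (GolayPt → ZMod 2)) = _ := hg
  have h2 : g • s ∈ g • supports (golayCode : Set (GolayPt → ZMod 2)) := Set.smul_mem_smul_set hs
  rw [h] at h2
  exact h2

theorem M24_octad {g : Equiv.Perm GolayPt} (hg : g ∈ M24) {o : Finset GolayPt}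
    (ho : o ∈ octads) : o.image g ∈ octads :=
  ⟨M24_image hg ho.1, by rw [Finset.card_image_of_injective _ g.injective]; exact ho.2⟩

theorem M24_dodecad {g : Equiv.Perm GolayPt} (hg : g ∈ M24) {d : Finset GolayPt}
    (hd : d ∈ dodecads) : d.image g ∈ dodecads :=
  ⟨M24_image hg hd.1, by rw [Finset.card_image_of_injective _ g.injective]; exact hd.2⟩

theorem octAut_octad {g : Equiv.Perm GolayPt} (hg : g ∈ setSystemAut octads) {o : Finset GolayPt}
    (ho : o ∈ octads) : o.image g ∈ octads := by
  have h : g • octads = _ := hg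
  have h2 : g • o ∈ g • octads := Set.smul_mem_smul_set ho
  rw [h] at h2
  exact h2

/-- An octad through five points fixed by an automorphism of the octads is fixed setwise. -/
theorem octad_fixed {g : Equiv.Perm GolayPt} (hg : g ∈ setSystemAut octads) {o f : Finset GolayPt}
    (ho : o ∈ octads) (hf : 5 ≤ f.card) (hfo : f ⊆ o) (hfix : ∀ p ∈ f, g p = p) :
    o.image g = o :=
  octad_unique (octAut_octad hg ho) ho hf
    (fun p hp => Finset.mem_image.mpr ⟨p, hfo hp, hfix p hp⟩) hfo

theorem M24_le_octAut : M24 ≤ setSystemAut octads := by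
  intro g hg
  show g • octads = octads
  refine Set.eq_of_subset_of_ncard_le ?_ (by rw [Set.ncard_smul_set]) (Set.toFinite _)
  rintro _ ⟨o, ho, rfl⟩
  exact M24_octad hg ho

theorem baseOctad_spec : word (baseOctad % 4096) = baseOctad ∧ wt 24 baseOctad = 8 ∧
    (∀ k < 5, baseOctad.testBit (baseIdx.getD k 0) = true) ∧
    baseOctad.testBit (baseIdx.getD 6 0) = false ∧
    baseOctad.testBit (baseIdx.getD 5 0) = true := by decide +kernel

theorem pts_baseOctad_mem : pts baseOctad ∈ octads :=
  (mem_octads_iff _).mpr ⟨baseOctad % 4096, Nat.mod_lt _ (by norm_num),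
    by rw [baseOctad_spec.1]; exact baseOctad_spec.2.1, by rw [baseOctad_spec.1]⟩

theorem bp_mem_baseOctad (k : ℕ) (hk : k < 5) : bp k ∈ pts baseOctad := by
  simp only [pts, Finset.mem_filter, Finset.mem_univ, true_and, idx_bp k (by omega)]
  exact baseOctad_spec.2.2.1 k hk

theorem fixed_baseOctad {g : Equiv.Perm GolayPt} (hg : g ∈ setSystemAut octads)
    (hfix : ∀ j < 5, g (bp j) = bp j) : (pts baseOctad).image g = pts baseOctad := by
  refine octad_fixed (f := (Finset.range 5).image bp) hg pts_baseOctad_mem ?_ ?_ ?_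
  · decide +kernel
  · intro p hp
    obtain ⟨j, hj, rfl⟩ := Finset.mem_image.mp hp
    exact bp_mem_baseOctad j (Finset.mem_range.mp hj)
  · intro p hp
    obtain ⟨j, hj, rfl⟩ := Finset.mem_image.mp hp
    exact hfix j (Finset.mem_range.mp hj)

/-- One propagation step singles out its position. -/
def FixOK (K : List ℕ) (st : ℕ × List (ℕ × ℕ)) : Prop :=
  (∀ e ∈ st.2, wt 24 (word e.1) = 8 ∧ e.2 < 2 ^ 24 ∧ 5 ≤ wt 24 e.2 ∧ e.2 &&& word e.1 = e.2 ∧
      ∀ i < 24, e.2.testBit i → i ∈ K) ∧
    st.1 < 24 ∧
    ∀ j < 24, j ∉ K → (∀ e ∈ st.2, (word e.1).testBit j = (word e.1).testBit st.1) → j = st.1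

/-- All propagation steps are valid. -/
def AllFixOK : List ℕ → List (ℕ × List (ℕ × ℕ)) → Prop
  | K, [] => ∀ i < 24, i ∈ K
  | K, st :: rest => FixOK K st ∧ AllFixOK (st.1 :: K) rest

instance fixOKDecidable (K : List ℕ) (st : ℕ × List (ℕ × ℕ)) : Decidable (FixOK K st) := by
  unfold FixOK; infer_instance

/-- Decidability of `AllFixOK`. -/
def allFixOKDecidable : ∀ (K : List ℕ) (l : List (ℕ × List (ℕ × ℕ))), Decidable (AllFixOK K l)
  | K, [] => inferInstanceAs (Decidable (∀ i < 24, i ∈ K))
  | K, st :: rest =>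
    have : Decidable (AllFixOK (st.1 :: K) rest) := allFixOKDecidable _ rest
    inferInstanceAs (Decidable (_ ∧ _))

theorem m24Fix_ok : AllFixOK baseIdx m24Fix := by
  have := allFixOKDecidable
  exact @of_decide_eq_true _ (allFixOKDecidable baseIdx m24Fix) (by decide +kernel)

theorem fix_propagate {g : Equiv.Perm GolayPt} (hg : g ∈ setSystemAut octads) :
    ∀ (l : List (ℕ × List (ℕ × ℕ))) (K : List ℕ), (∀ i < 24, i ∈ K → g (pt i) = pt i) →
      AllFixOK K l → g = 1 := by
  intro l
  induction l with
  | nil =>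
    intro K hK hall
    refine Equiv.ext fun p => ?_
    rw [← pt_idx p]
    exact hK _ (idx_lt p) (hall _ (idx_lt p))
  | cons st rest ih =>
    rintro K hK ⟨⟨hoct, hlt, hsep⟩, hrest⟩
    refine ih (st.1 :: K) ?_ hrest
    intro i hi hmem
    by_cases hiK : i ∈ K
    · exact hK i hi hiK
    rw [List.mem_cons] at hmem
    have hi1 : i = st.1 := by tauto
    subst hi1
    refine idx_injective ?_
    rw [idx_pt _ hi]
    refine hsep _ (idx_lt _) ?_ ?_
    · intro hmemK
      have h1 := hK _ (idx_lt _) hmemK
      rw [pt_idx] at h1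
      have h2 := g.injective h1
      rw [h2, idx_pt _ hi] at hmemK
      exact hiK hmemK
    · intro e he
      obtain ⟨hw8, -, h5, hand, hKf⟩ := hoct e he
      have hmod : word (e.1 % 4096) = word e.1 → pts (word e.1) ∈ octads := fun h =>
        (mem_octads_iff _).mpr ⟨e.1 % 4096, Nat.mod_lt _ (by norm_num), by rw [h]; exact hw8,
          by rw [h]⟩
      have ho : pts (word e.1) ∈ octads := by
        obtain ⟨c, hc, hwc⟩ := (mem_code_iff _).mp (vec_word_mem e.1)
        refine (mem_octads_iff _).mpr ⟨c, hc, ?_, ?_⟩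
        · rw [← card_pts, ← support_vec, ← hwc, support_vec, card_pts, hw8]
        · rw [← support_vec, hwc, support_vec]
      have hfix : (pts (word e.1)).image g = pts (word e.1) := by
        refine octad_fixed (f := pts e.2) hg ho (by rw [card_pts]; exact h5) ?_ ?_
        · intro p hp
          simp only [pts, Finset.mem_filter, Finset.mem_univ, true_and] at hp ⊢
          rw [← hand, Nat.testBit_and, Bool.and_eq_true] at hp
          exact hp.2
        · intro p hp
          simp only [pts, Finset.mem_filter, Finset.mem_univ, true_and] at hp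
          have := hK _ (idx_lt p) (hKf _ (idx_lt p) hp)
          rwa [pt_idx] at this
      have hiff : g (pt st.1) ∈ (pts (word e.1)).image g ↔ pt st.1 ∈ pts (word e.1) := by
        simp [Finset.mem_image]
      rw [hfix] at hiff
      simp only [pts, Finset.mem_filter, Finset.mem_univ, true_and, idx_pt _ hi] at hiff
      exact Bool.eq_iff_iff.mpr hiff

theorem octAut_rigid {g : Equiv.Perm GolayPt} (hg : g ∈ setSystemAut octads)
    (hfix : ∀ j < 7, g (bp j) = bp j) : g = 1 := by
  refine fix_propagate hg _ _ ?_ m24Fix_ok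
  intro i hi hmem
  obtain ⟨j, hj, rfl⟩ := List.mem_iff_getElem.mp hmem
  have hlen : baseIdx.length = 7 := rfl
  have := hfix j (by omega)
  rwa [bp, List.getD_eq_getElem _ _ hj] at this

theorem orb_low : ∀ k < 5, ∀ x < 24, (∀ j < k, x ≠ baseIdx.getD j 0) →
    x ∈ (orb k).map Prod.fst := by decide +kernel

theorem orb_five : ∀ x < 24, baseOctad.testBit x → (∀ j < 5, x ≠ baseIdx.getD j 0) →
    x ∈ (orb 5).map Prod.fst := by decide +kernel

theorem orb_six : ∀ x < 24, baseOctad.testBit x = false → x ∈ (orb 6).map Prod.fst := by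
  decide +kernel

/-- Every image of a base point under the stabiliser of the earlier ones is in the table. -/
theorem orbit_covers {k : ℕ} (hk : k < 7) {g : Equiv.Perm GolayPt}
    (hg : g ∈ setSystemAut octads) (hfix : ∀ j < k, g (bp j) = bp j) :
    ∃ e ∈ orb k, elt e.2 (bp k) = g (bp k) := by
  suffices h : idx (g (bp k)) ∈ (orb k).map Prod.fst by
    obtain ⟨e, he, hx⟩ := List.mem_map.mp h
    exact ⟨e, he, idx_injective ((orb_apply hk he).1.trans hx)⟩
  have hne : ∀ j < k, idx (g (bp k)) ≠ baseIdx.getD j 0 := by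
    intro j hj h
    rw [← idx_bp j (hj.trans hk), ← hfix j hj] at h
    exact bp_ne k hk j hj (g.injective (idx_injective h)).symm
  rcases lt_or_ge k 5 with h5 | h5
  · exact orb_low k h5 _ (idx_lt _) hne
  · have hO := fixed_baseOctad hg fun j hj => hfix j (by omega)
    have hiff : g (bp k) ∈ (pts baseOctad).image g ↔ bp k ∈ pts baseOctad := by
      simp [Finset.mem_image]
    rw [hO] at hiff
    simp only [pts, Finset.mem_filter, Finset.mem_univ, true_and, idx_bp k hk] at hiff
    obtain ⟨-, -, -, h6, h5'⟩ := baseOctad_spec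
    interval_cases k
    · exact orb_five _ (idx_lt _) (hiff.mpr h5') hne
    · refine orb_six _ (idx_lt _) ?_
      rw [h6] at hiff
      simpa using hiff

theorem octAut_fix_mem_gen : ∀ n k : ℕ, k + n = 7 → ∀ g ∈ setSystemAut octads,
    (∀ j < k, g (bp j) = bp j) → g ∈ genGroup := by
  intro n
  induction n with
  | zero =>
    intro k hk g hg hfix
    rw [octAut_rigid hg fun j hj => hfix j (by omega)]
    exact one_mem _
  | succ n ih =>
    intro k hk g hg hfix
    obtain ⟨e, he, hx⟩ := orbit_covers (by omega) hg hfix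
    have hu := (orb_apply (by omega) he).2
    have h := ih (k + 1) (by omega) ((elt e.2)⁻¹ * g)
      (mul_mem (inv_mem (M24_le_octAut (elt_mem_M24 _))) hg) ?_
    · simpa using mul_mem (elt_mem e.2) h
    · intro j hj
      rw [Equiv.Perm.mul_apply, Equiv.Perm.inv_def, Equiv.symm_apply_eq]
      rcases Nat.lt_succ_iff_lt_or_eq.mp hj with h | rfl
      · rw [hu j h, hfix j h]
      · exact hx.symm

theorem M24_eq_gen : genGroup = M24 :=
  le_antisymm genGroup_le fun g hg =>
    octAut_fix_mem_gen 7 0 rfl g (M24_le_octAut hg) (by simp)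

theorem M24_eq_octAut : M24 = setSystemAut octads :=
  le_antisymm M24_le_octAut fun g hg => genGroup_le (octAut_fix_mem_gen 7 0 rfl g hg (by simp))

theorem orb_nodup : ∀ k < 7, ((orb k).map Prod.fst).Nodup := by decide +kernel

theorem card_St_succ {k : ℕ} (hk : k < 7) :
    Nat.card (St k) = (orb k).length * Nat.card (St (k + 1)) := by
  have hnd := orb_nodup k hk
  let u : Fin (orb k).length → Equiv.Perm GolayPt := fun i => elt ((orb k)[i]).2
  have hu : ∀ i, u i ∈ St k := fun i => mem_St.mpr
    ⟨elt_mem_M24 _, (orb_apply hk (e := (orb k)[i]) (List.getElem_mem _)).2⟩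
  let f : Fin (orb k).length × St (k + 1) → St k := fun x =>
    ⟨u x.1 * x.2, mul_mem (hu x.1) (St_succ_iff.mp x.2.2).1⟩
  have hf : Function.Bijective f := by
    constructor
    · rintro ⟨i, a⟩ ⟨j, b⟩ h
      have h' : u i * (a : Equiv.Perm GolayPt) = u j * b := congrArg Subtype.val h
      have hij : i = j := by
        have := congrArg (fun σ : Equiv.Perm GolayPt => idx (σ (bp k))) h'
        simp only [Equiv.Perm.mul_apply, (St_succ_iff.mp a.2).2, (St_succ_iff.mp b.2).2] at this
        rw [show idx (u i (bp k)) = ((orb k)[i]).1 from (orb_apply hk (List.getElem_mem _)).1,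
          show idx (u j (bp k)) = ((orb k)[j]).1 from (orb_apply hk (List.getElem_mem _)).1] at this
        apply Fin.ext
        refine (hnd.getElem_inj_iff (hi := by simp) (hj := by simp)).mp ?_
        simpa using this
      subst hij
      simp only [mul_right_inj] at h'
      rw [Subtype.ext h']
    · rintro ⟨g, hg⟩
      obtain ⟨hgM, hgfix⟩ := mem_St.mp hg
      obtain ⟨e, he, hx⟩ := orbit_covers hk (M24_le_octAut hgM) hgfix
      obtain ⟨i, hi, rfl⟩ := List.mem_iff_getElem.mp he
      refine ⟨(⟨i, hi⟩, ⟨(u ⟨i, hi⟩)⁻¹ * g, St_succ_iff.mpr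
        ⟨mul_mem (inv_mem (hu _)) hg, ?_⟩⟩), Subtype.ext (mul_inv_cancel_left _ _)⟩
      rw [Equiv.Perm.mul_apply, ← hx]
      exact Equiv.symm_apply_apply _ _
  rw [← Nat.card_eq_of_bijective f hf, Nat.card_prod, Nat.card_fin]

theorem card_St_seven : Nat.card (St 7) = 1 := by
  rw [Subgroup.card_eq_one, Subgroup.eq_bot_iff_forall]
  intro g hg
  exact octAut_rigid (M24_le_octAut (mem_St.mp hg).1) (mem_St.mp hg).2

theorem card_St : ∀ k < 7, Nat.card (St k) =
    [244823040, 10200960, 443520, 20160, 960, 48, 16].getD k 0 := by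
  have h7 := card_St_seven
  have h6 : Nat.card (St 6) = 16 := by
    rw [card_St_succ (by norm_num), h7]; rfl
  have h5 : Nat.card (St 5) = 48 := by rw [card_St_succ (by norm_num), h6]; rfl
  have h4 : Nat.card (St 4) = 960 := by rw [card_St_succ (by norm_num), h5]; rfl
  have h3 : Nat.card (St 3) = 20160 := by rw [card_St_succ (by norm_num), h4]; rfl
  have h2 : Nat.card (St 2) = 443520 := by rw [card_St_succ (by norm_num), h3]; rfl
  have h1 : Nat.card (St 1) = 10200960 := by rw [card_St_succ (by norm_num), h2]; rfl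
  have h0 : Nat.card (St 0) = 244823040 := by rw [card_St_succ (by norm_num), h1]; rfl
  intro k hk
  interval_cases k <;> simpa

theorem card_M24 : Nat.card M24 = 244823040 := by
  rw [← St_zero]; simpa using card_St 0 (by norm_num)

theorem exists_mem_map_base : ∀ k ≤ 5, ∀ x : ℕ → GolayPt,
    (∀ i < k, ∀ j < k, x i = x j → i = j) → ∃ g ∈ M24, ∀ j < k, g (bp j) = x j := by
  intro k
  induction k with
  | zero => intro _ x _; exact ⟨1, one_mem _, by simp⟩
  | succ k ih =>
    intro hk x hx
    obtain ⟨g, hg, hgx⟩ := ih (by omega) x fun i hi j hj => hx i (by omega) j (by omega)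
    have hne : ∀ j < k, idx (g⁻¹ (x k)) ≠ baseIdx.getD j 0 := by
      intro j hj h
      rw [← idx_bp j (by omega)] at h
      have h' := congrArg g (idx_injective h)
      rw [hgx j hj, Equiv.Perm.inv_def, Equiv.apply_symm_apply] at h'
      exact absurd (hx k (by omega) j (by omega) h') (by omega)
    obtain ⟨e, he, hx1⟩ := List.mem_map.mp (orb_low k (by omega) _ (idx_lt _) hne)
    obtain ⟨h1, h2⟩ := orb_apply (show k < 7 by omega) he
    refine ⟨g * elt e.2, mul_mem hg (elt_mem_M24 _), fun j hj => ?_⟩
    rw [Equiv.Perm.mul_apply]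
    rcases Nat.lt_succ_iff_lt_or_eq.mp hj with h | rfl
    · rw [h2 j h, hgx j h]
    · rw [idx_injective (h1.trans hx1), Equiv.Perm.inv_def, Equiv.apply_symm_apply]

theorem five_transitive : MulAction.IsMultiplyPretransitive M24 GolayPt 5 := by
  rw [MulAction.isMultiplyPretransitive_iff]
  intro x y
  let ext (z : Fin 5 ↪ GolayPt) : ℕ → GolayPt := fun i => if h : i < 5 then z ⟨i, h⟩ else none
  have hext : ∀ (z : Fin 5 ↪ GolayPt), ∃ g ∈ M24, ∀ i : Fin 5, g (bp i) = z i := by
    intro z
    obtain ⟨g, hg, hgz⟩ := exists_mem_map_base 5 le_rfl (ext z) fun i hi j hj h => by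
      simpa [ext, hi, hj] using h
    exact ⟨g, hg, fun i => by rw [hgz i i.2]; simp [ext]⟩
  obtain ⟨a, ha, hax⟩ := hext x
  obtain ⟨b, hb, hby⟩ := hext y
  refine ⟨⟨b * a⁻¹, mul_mem hb (inv_mem ha)⟩, Function.Embedding.ext fun i => ?_⟩
  show b (a⁻¹ (x i)) = y i
  rw [← hax i, Equiv.Perm.inv_def, Equiv.symm_apply_apply, hby i]

end CfsgLib.Golay
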