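/-
First consequences for the group of the code: transitivity on octads, the squares as multipliers.
-/
import Cfsg.Agent.Golay.M24

set_option autoImplicit false

namespace CfsgLib.Golay

open Cfsg
open scoped Pointwise

theorem smul_finset_eq_image (g : M24) (s : Finset GolayPt) :
    g • s = s.image (g : Equiv.Perm GolayPt) := by
  ext q
  simp [Finset.mem_smul_finset, Subgroup.smul_def, Finset.mem_image]

theorem exists_map_baseOctad {o : Finset GolayPt} (ho : o ∈ octads) :
    ∃ g ∈ M24, (pts baseOctad).image g = o := by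
  obtain ⟨t, ht, htc⟩ := Finset.exists_subset_card_eq (s := o) (n := 5)
    (by rw [octad_card ho]; norm_num)
  let e : Fin 5 ≃ t := (Fintype.equivFinOfCardEq (by simp [htc])).symm
  let x : ℕ → GolayPt := fun i => if h : i < 5 then (e ⟨i, h⟩ : GolayPt) else none
  obtain ⟨g, hg, hgx⟩ := exists_mem_map_base 5 le_rfl x fun i hi j hj h => by
    simp only [x, hi, hj, dif_pos] at h
    simpa using e.injective (Subtype.ext h)
  refine ⟨g, hg, octad_unique (M24_octad hg pts_baseOctad_mem) ho (f := t) htc.ge ?_ ht⟩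
  intro p hp
  obtain ⟨i, hi⟩ := e.surjective ⟨p, hp⟩
  have h1 : g (bp i) = p := by
    rw [hgx i i.2]; simp [x, hi]
  exact Finset.mem_image.mpr ⟨_, bp_mem_baseOctad i i.2, h1⟩

theorem octad_transitive {o o' : Finset GolayPt} (ho : o ∈ octads) (ho' : o' ∈ octads) :
    ∃ g : M24, g • o = o' := by
  obtain ⟨a, ha, hao⟩ := exists_map_baseOctad ho
  obtain ⟨b, hb, hbo⟩ := exists_map_baseOctad ho'
  refine ⟨⟨b * a⁻¹, mul_mem hb (inv_mem ha)⟩, ?_⟩
  rw [smul_finset_eq_image, ← hao, Finset.image_image]
  refine Eq.trans ?_ hbo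
  refine Finset.image_congr fun p _ => ?_
  simp

/-- The position list of a multiplier. -/
def mulL (k : ℕ) : List ℕ := (List.range 23).map (fun x => k * x % 23) ++ [23]

theorem mulL_preserves : ∀ u : Fin 23, (∃ r : Fin 23, r * r = u) → u ≠ 0 →
    PreservesCode (mulL u.val) := by
  unfold PreservesCode; decide +kernel

theorem toList_mulLeft (u : (ZMod 23)ˣ) :
    toList (Equiv.optionCongr (Units.mulLeft u)) = mulL (u : ZMod 23).val := by
  refine List.ext_getElem (by simp [toList, mulL]) ?_
  intro i h1 h2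
  have hi : i < 24 := by simpa [toList] using h1
  rcases Nat.lt_succ_iff_lt_or_eq.mp hi with h | rfl
  · simp [toList, mulL, pt, h, idx, List.getElem_append_left, ZMod.val_mul]
  · simp [toList, mulL, pt, idx]

theorem mul_square_mem (u : (ZMod 23)ˣ) (hu : IsSquare u) :
    Equiv.optionCongr (Units.mulLeft u) ∈ M24 := by
  haveI : Fact (1 < 23) := ⟨by norm_num⟩
  apply mem_M24_of_preserves
  rw [toList_mulLeft]
  obtain ⟨r, rfl⟩ := hu
  exact mulL_preserves ((r * r : (ZMod 23)ˣ) : ZMod 23) ⟨(r : ZMod 23), (Units.val_mul r r).symm⟩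
    (Units.ne_zero (r * r))

end CfsgLib.Golay
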