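/-
Dodecads: transitivity of the code's group, sharp 5-transitivity of a dodecad stabiliser on the
dodecad, the orders of these stabilisers, and the hexads.
-/
import Cfsg.Agent.Golay.M24Basics
import Cfsg.Agent.Golay.DodecadData

set_option autoImplicit false

namespace CfsgLib.Golay

open Cfsg
open scoped Pointwise

/-- An element of the table as an element of the code's group. -/
noncomputable def eltM (i : ℕ) : M24 := ⟨elt i, elt_mem_M24 i⟩

/-- The product of table elements along a word. -/
noncomputable def wordEltM : List ℕ → M24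
  | [] => 1
  | i :: w => eltM i * wordEltM w

/-- Its position list. -/
def wordEltL : List ℕ → List ℕ
  | [] => List.range 24
  | i :: w => compL (tableL.getD i (List.range 24)) (wordEltL w)

theorem toList_elt (i : ℕ) : toList (elt i) = tableL.getD i (List.range 24) := by
  rw [← table_map, ← toList_getD_list]
  unfold elt
  with_reducible rfl

theorem toList_wordEltM : ∀ w : List ℕ, toList (wordEltM w : Equiv.Perm GolayPt) = wordEltL w
  | [] => toList_one
  | i :: w => by
    rw [wordEltM, Subgroup.coe_mul, toList_mul, toList_wordEltM w]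
    show compL (toList (elt i)) _ = _
    rw [toList_elt]; rfl

theorem smul_pts (g : M24) (m : ℕ) :
    g • pts m = pts (permMask (toList (g : Equiv.Perm GolayPt)) m 24) := by
  rw [smul_finset_eq_image, pts_permMask]

theorem smul_mem_dodecads (g : M24) {d : Finset GolayPt} (hd : d ∈ dodecads) :
    g • d ∈ dodecads := by
  rw [smul_finset_eq_image]; exact M24_dodecad g.2 hd

theorem smul_mem_octads (g : M24) {o : Finset GolayPt} (ho : o ∈ octads) :
    g • o ∈ octads := by
  rw [smul_finset_eq_image]; exact M24_octad g.2 ho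

theorem smul_dodecads_iff (g : M24) {d : Finset GolayPt} : g • d ∈ dodecads ↔ d ∈ dodecads :=
  ⟨fun h => by simpa using smul_mem_dodecads g⁻¹ h, smul_mem_dodecads g⟩

theorem smul_octads_iff (g : M24) {o : Finset GolayPt} : g • o ∈ octads ↔ o ∈ octads :=
  ⟨fun h => by simpa using smul_mem_octads g⁻¹ h, smul_mem_octads g⟩

/-- The reference dodecad. -/
def refDodecad : Finset GolayPt := pts dodecadMask

theorem dodecadMask_spec : word (dodecadMask % 4096) = dodecadMask ∧ wt 24 dodecadMask = 12 ∧
    ∀ k < 5, dodecadMask.testBit (baseIdx.getD k 0) = true := by decide +kernel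

theorem refDodecad_mem : refDodecad ∈ dodecads :=
  (mem_dodecads_iff _).mpr ⟨dodecadMask % 4096, Nat.mod_lt _ (by norm_num),
    by rw [dodecadMask_spec.1]; exact dodecadMask_spec.2.1,
    by rw [dodecadMask_spec.1]; rfl⟩

theorem bp_mem_refDodecad (k : ℕ) (hk : k < 5) : bp k ∈ refDodecad := by
  simp only [refDodecad, pts, Finset.mem_filter, Finset.mem_univ, true_and, idx_bp k (by omega)]
  exact dodecadMask_spec.2.2 k hk

/-- Program indices of the 48 elements fixing the first five base points. -/
def fiveStabIdx : List (List ℕ) :=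
  (orb 5).flatMap fun a => (orb 6).map fun b => [a.2, b.2]

/-- The mask of the first five base points. -/
def fiveMask : ℕ := 2 ^ 23 + 2 ^ 0 + 2 ^ 1 + 2 ^ 2 + 2 ^ 3

/-- Images of the reference dodecad under the five-point stabiliser. -/
def fiveImages : List ℕ := fiveStabIdx.map fun w => permMask (wordEltL w) dodecadMask 24

unseal tableL in
theorem fiveStabIdx_fix : ∀ w ∈ fiveStabIdx, ∀ j < 5,
    (wordEltL w).getD (baseIdx.getD j 0) 0 = baseIdx.getD j 0 := by decide +kernel

unseal tableL in
theorem fiveImages_nodup : fiveImages.Nodup ∧ fiveImages.length = 48 := by decide +kernel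

unseal tableL in
theorem fiveImages_all : ∀ c < 4096, wt 24 (word c) ≠ 12 ∨ word c &&& fiveMask ≠ fiveMask ∨
    word c ∈ fiveImages := forall_lt_4096 (by decide +kernel)

theorem fiveMask_sub {m : ℕ} (h : ∀ k < 5, bp k ∈ pts m) : m &&& fiveMask = fiveMask := by
  have h' : ∀ k < 5, m.testBit (baseIdx.getD k 0) = true := fun k hk => by
    have := h k hk
    simpa [pts, idx_bp k (by omega)] using this
  apply Nat.eq_of_testBit_eq
  intro i
  rw [Nat.testBit_and]
  cases hf : fiveMask.testBit i with
  | false => simp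
  | true =>
    rw [Bool.and_true]
    have hi : i < 24 := by
      by_contra hcon
      rw [Nat.testBit_lt_two_pow (lt_of_lt_of_le (by decide +kernel : fiveMask < 2 ^ 24)
        (Nat.pow_le_pow_right (by norm_num) (by omega)))] at hf
      exact Bool.noConfusion hf
    obtain ⟨k, hk, hkx⟩ : ∃ k < 5, baseIdx.getD k 0 = i := by
      revert hf
      revert i
      decide +kernel
    rw [← hkx]; exact h' k hk

theorem fiveStab_mem {w : List ℕ} (hw : w ∈ fiveStabIdx) :
    ((wordEltM w : M24) : Equiv.Perm GolayPt) ∈ St 5 := by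
  refine mem_St.mpr ⟨(wordEltM w).2, fun j hj => idx_injective ?_⟩
  rw [← toList_getD_idx, toList_wordEltM, idx_bp j (by omega), fiveStabIdx_fix w hw j hj]

/-- Every dodecad through the first five base points comes from the reference one by an element
fixing these five points. -/
theorem exists_five_smul {d : Finset GolayPt} (hd : d ∈ dodecads) (h5 : ∀ k < 5, bp k ∈ d) :
    ∃ g : M24, (∀ j < 5, (g : Equiv.Perm GolayPt) (bp j) = bp j) ∧ g • refDodecad = d := by
  obtain ⟨c, hc, hw, rfl⟩ := (mem_dodecads_iff d).mp hd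
  obtain ⟨w, hwl, hwc⟩ := List.mem_map.mp
    (((fiveImages_all c hc).resolve_left (not_not_intro hw)).resolve_left
      (not_not_intro (fiveMask_sub h5)))
  refine ⟨wordEltM w, (mem_St.mp (fiveStab_mem hwl)).2, ?_⟩
  rw [refDodecad, smul_pts, toList_wordEltM, hwc]

/-- An element fixing the first five base points and the reference dodecad is trivial. -/
theorem eq_one_of_fix_five {g : M24} (hfix : ∀ j < 5, (g : Equiv.Perm GolayPt) (bp j) = bp j)
    (hd : g • refDodecad = refDodecad) : g = 1 := by
  let H : Subgroup M24 := (St 5).subgroupOf M24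
  have hcard : Nat.card H = 48 := by
    have hle : St 5 ≤ M24 := inf_le_left
    exact (Nat.card_congr (Subgroup.subgroupOfEquivOfLe hle).toEquiv).trans
      (card_St 5 (by norm_num))
  let f : Fin fiveStabIdx.length → H := fun i =>
    ⟨wordEltM fiveStabIdx[i], fiveStab_mem (List.getElem_mem _)⟩
  have him : ∀ i, (f i : M24) • refDodecad = pts (fiveImages.getD i 0) := fun i => by
    rw [refDodecad, smul_pts, toList_wordEltM]
    simp [fiveImages, List.getD_eq_getElem?_getD]
  have hlen : fiveStabIdx.length = 48 := by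
    simpa [fiveImages] using fiveImages_nodup.2
  have hinj : Function.Injective f := by
    intro i j h
    have h' := congrArg (fun x : H => (x : M24) • refDodecad) h
    simp only [him] at h'
    have hlt : ∀ k : Fin fiveStabIdx.length, fiveImages.getD k 0 < 2 ^ 24 := fun k => by
      simp only [fiveImages, List.getD_eq_getElem?_getD, List.getElem?_map]
      simp only [Fin.getElem?_fin, List.getElem?_eq_getElem k.2, Option.map_some, Option.getD_some]
      rw [← toList_wordEltM]; exact permMask_lt _ _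
    have h'' := pts_inj (hlt i) (hlt j) h'
    rw [List.getD_eq_getElem _ _ (by simp [fiveImages]),
      List.getD_eq_getElem _ _ (by simp [fiveImages]),
      fiveImages_nodup.1.getElem_inj_iff] at h''
    exact Fin.ext h''
  have hbij : Function.Bijective f := by
    rw [Nat.bijective_iff_injective_and_card]
    exact ⟨hinj, by rw [Nat.card_fin, hcard, hlen]⟩
  have hone : (wordEltM [] : M24) = 1 := rfl
  obtain ⟨i, hi⟩ := hbij.2 ⟨g, mem_St.mpr ⟨g.2, hfix⟩⟩
  obtain ⟨j, hj⟩ := hbij.2 1
  have hi' : (f i : M24) = g := congrArg Subtype.val hi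
  have hj' : (f j : M24) = 1 := congrArg Subtype.val hj
  have hp : pts (fiveImages.getD i 0) = pts (fiveImages.getD j 0) := by
    rw [← him, ← him, hi', hj', hd, one_smul]
  have hlt : ∀ k : Fin fiveStabIdx.length, fiveImages.getD k 0 < 2 ^ 24 := fun k => by
    simp only [fiveImages, List.getD_eq_getElem?_getD, List.getElem?_map]
    simp only [Fin.getElem?_fin, List.getElem?_eq_getElem k.2, Option.map_some, Option.getD_some]
    rw [← toList_wordEltM]; exact permMask_lt _ _
  have h'' := pts_inj (hlt i) (hlt j) hp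
  rw [List.getD_eq_getElem _ _ (by simp [fiveImages]),
    List.getD_eq_getElem _ _ (by simp [fiveImages]),
    fiveImages_nodup.1.getElem_inj_iff] at h''
  rw [← hi', show i = j from Fin.ext h'', hj']

/-- Some element carries five given points of a dodecad back from the base, and the dodecad from
the reference one. -/
theorem exists_map_five {d : Finset GolayPt} (hd : d ∈ dodecads) (x : Fin 5 ↪ GolayPt)
    (hx : ∀ i, x i ∈ d) :
    ∃ g : M24, (∀ i : Fin 5, (g : Equiv.Perm GolayPt) (bp i) = x i) ∧ g • refDodecad = d := by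
  obtain ⟨a, ha, hax⟩ := exists_mem_map_base 5 le_rfl
    (fun i => if h : i < 5 then x ⟨i, h⟩ else none) fun i hi j hj h => by
      simpa [hi, hj] using h
  let A : M24 := ⟨a, ha⟩
  have hax' : ∀ i : Fin 5, a (bp i) = x i := fun i => by rw [hax i i.2]; simp
  obtain ⟨h, hfix, hh⟩ := exists_five_smul (smul_mem_dodecads A⁻¹ hd) fun k hk => by
    rw [Finset.mem_inv_smul_finset_iff]
    show a (bp k) ∈ d
    rw [show a (bp k) = x ⟨k, hk⟩ from hax' ⟨k, hk⟩]
    exact hx _
  refine ⟨A * h, fun i => ?_, ?_⟩
  · show a ((h : Equiv.Perm GolayPt) (bp i)) = x i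
    rw [hfix i i.2, hax']
  · rw [mul_smul, hh, smul_inv_smul]

theorem exists_five_of_dodecad {d : Finset GolayPt} (hd : d ∈ dodecads) :
    ∃ x : Fin 5 ↪ GolayPt, ∀ i, x i ∈ d := by
  obtain ⟨t, ht, htc⟩ := Finset.exists_subset_card_eq (s := d) (n := 5)
    (by rw [dodecad_card hd]; norm_num)
  let e : Fin 5 ≃ t := (Fintype.equivFinOfCardEq (by simp [htc])).symm
  exact ⟨e.toEmbedding.trans (Function.Embedding.subtype _), fun i => ht (e i).2⟩

theorem exists_smul_refDodecad {d : Finset GolayPt} (hd : d ∈ dodecads) :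
    ∃ g : M24, g • refDodecad = d := by
  obtain ⟨x, hx⟩ := exists_five_of_dodecad hd
  obtain ⟨g, -, hg⟩ := exists_map_five hd x hx
  exact ⟨g, hg⟩

theorem dodecad_transitive {d d' : Finset GolayPt} (hd : d ∈ dodecads) (hd' : d' ∈ dodecads) :
    ∃ g : M24, g • d = d' := by
  obtain ⟨a, rfl⟩ := exists_smul_refDodecad hd
  obtain ⟨b, rfl⟩ := exists_smul_refDodecad hd'
  exact ⟨b * a⁻¹, by rw [← mul_smul, inv_mul_cancel_right]⟩

theorem sharply_five {d : Finset GolayPt} (hd : d ∈ dodecads) (x y : Fin 5 ↪ GolayPt)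
    (hx : ∀ i, x i ∈ d) (hy : ∀ i, y i ∈ d) :
    ∃! g : MulAction.stabilizer M24 d,
      ∀ i, ((g : M24) : Equiv.Perm GolayPt) (x i) = y i := by
  obtain ⟨a, hax, had⟩ := exists_map_five hd x hx
  obtain ⟨b, hby, hbd⟩ := exists_map_five hd y hy
  refine ⟨⟨b * a⁻¹, ?_⟩, fun i => ?_, fun g hg => Subtype.ext ?_⟩
  · rw [MulAction.mem_stabilizer_iff, mul_smul, inv_smul_eq_iff.mpr had.symm, hbd]
  · show (b : Equiv.Perm GolayPt) ((a : Equiv.Perm GolayPt)⁻¹ (x i)) = y i
    rw [← hax i, Equiv.Perm.inv_def, Equiv.symm_apply_apply, hby i]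
  · have h1 : b⁻¹ * (g : M24) * a = 1 := by
      refine eq_one_of_fix_five (fun j hj => ?_) ?_
      · show (b : Equiv.Perm GolayPt)⁻¹ (((g : M24) : Equiv.Perm GolayPt)
          ((a : Equiv.Perm GolayPt) (bp j))) = bp j
        rw [show (a : Equiv.Perm GolayPt) (bp j) = x ⟨j, hj⟩ from hax ⟨j, hj⟩, hg,
          ← hby ⟨j, hj⟩, Equiv.Perm.inv_def, Equiv.symm_apply_apply]
      · rw [mul_smul, mul_smul, had, MulAction.mem_stabilizer_iff.mp g.2, inv_smul_eq_iff, hbd]
    have h2 : (g : M24) = b * a⁻¹ := by
      have := congrArg (fun z => b * z * a⁻¹) h1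
      simpa [mul_assoc] using this
    exact h2

/-- Five-point tuples in a dodecad are acted on regularly by its stabiliser. -/
theorem bijective_apply_five {d : Finset GolayPt} (hd : d ∈ dodecads) (x : Fin 5 ↪ GolayPt)
    (hx : ∀ i, x i ∈ d) :
    Function.Bijective (fun g : MulAction.stabilizer M24 d =>
      (⟨fun i => ⟨((g : M24) : Equiv.Perm GolayPt) (x i), by
          have h := Finset.smul_mem_smul_finset (a := (g : M24)) (hx i)
          rw [MulAction.mem_stabilizer_iff.mp g.2] at h
          exact h⟩,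
        fun i j h => x.injective (Equiv.injective _ (congrArg Subtype.val h))⟩ :
          Fin 5 ↪ {p // p ∈ d})) := by
  constructor
  · intro g g' h
    let y : Fin 5 ↪ GolayPt := x.trans (((g : M24) : Equiv.Perm GolayPt).toEmbedding)
    obtain ⟨k, -, huniq⟩ := sharply_five hd x y hx fun i => by
      have h' := Finset.smul_mem_smul_finset (a := (g : M24)) (hx i)
      rw [MulAction.mem_stabilizer_iff.mp g.2] at h'
      exact h'
    rw [huniq g fun i => rfl, huniq g' fun i => ?_]
    exact (congrArg (fun e : Fin 5 ↪ {p // p ∈ d} => (e i : GolayPt)) h).symm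
  · intro y
    obtain ⟨g, hg, -⟩ := sharply_five hd x (y.trans (Function.Embedding.subtype _)) hx
      fun i => (y i).2
    exact ⟨g, Function.Embedding.ext fun i => Subtype.ext (hg i)⟩

theorem card_dodecad_stabilizer {d : Finset GolayPt} (hd : d ∈ dodecads) :
    Nat.card (MulAction.stabilizer M24 d) = 95040 := by
  obtain ⟨x, hx⟩ := exists_five_of_dodecad hd
  rw [Nat.card_eq_of_bijective _ (bijective_apply_five hd x hx), Nat.card_eq_fintype_card,
    Fintype.card_embedding_eq, Fintype.card_coe, dodecad_card hd, Fintype.card_fin]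
  rfl

theorem card_inter_octad_dodecad {o d : Finset GolayPt} (ho : o ∈ octads) (hd : d ∈ dodecads) :
    (o ∩ d).card = 2 ∨ (o ∩ d).card = 4 ∨ (o ∩ d).card = 6 := by
  have h1 := card_symmDiff_add o d
  rw [octad_card ho, dodecad_card hd] at h1
  have h2 : (o ∩ d).card ≤ 8 := (octad_card ho) ▸ Finset.card_le_card Finset.inter_subset_left
  rcases supports_card (supports_symmDiff ho.1 hd.1) with h | h | h | h | h <;> omega

theorem hexads_steiner {d : Finset GolayPt} (hd : d ∈ dodecads) :
    IsSteinerSystem 5 6 {h : Finset {p : GolayPt // p ∈ d} |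
      ∃ o ∈ octads, (o ∩ d).card = 6 ∧ h = Finset.subtype (fun p => p ∈ d) o} := by
  refine ⟨?_, fun s hs => ?_⟩
  · rintro h ⟨o, ho, h6, rfl⟩
    rw [Finset.card_subtype, Finset.filter_mem_eq_inter, h6]
  · have hs' : (s.map (Function.Embedding.subtype _)).card = 5 := by rw [Finset.card_map, hs]
    obtain ⟨o, ⟨ho, hso⟩, huniq⟩ := octads_steiner.2 _ hs'
    have h5 : 5 ≤ (o ∩ d).card := by
      rw [← hs']
      refine Finset.card_le_card fun p hp => Finset.mem_inter.mpr ⟨hso hp, ?_⟩
      obtain ⟨q, -, rfl⟩ := Finset.mem_map.mp hp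
      exact q.2
    have h6 : (o ∩ d).card = 6 := by rcases card_inter_octad_dodecad ho hd with h | h | h <;> omega
    refine ⟨Finset.subtype (fun p => p ∈ d) o, ⟨⟨o, ho, h6, rfl⟩, fun q hq => ?_⟩, ?_⟩
    · rw [Finset.mem_subtype]
      exact hso (Finset.mem_map.mpr ⟨q, hq, rfl⟩)
    · rintro _ ⟨⟨o', ho', -, rfl⟩, hsub⟩
      have hoo : o' = o := huniq o' ⟨ho', fun p hp => by
        obtain ⟨q, hq, rfl⟩ := Finset.mem_map.mp hp
        exact Finset.mem_subtype.mp (hsub hq)⟩
      rw [hoo]

theorem mask_inter (a b : ℕ) : pts a ∩ pts b = pts (a &&& b) := by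
  ext p; simp [pts, Nat.testBit_and]

theorem ncard_inter_ref (i : ℕ) :
    {o : Finset GolayPt | o ∈ octads ∧ (o ∩ refDodecad).card = i}.ncard =
      ((Finset.range 4096).filter fun c => wt 24 (word c) = 8 ∧
        wt 24 (word c &&& dodecadMask) = i).card := by
  rw [← Set.ncard_coe_finset]
  symm
  refine Set.ncard_congr (fun c _ => pts (word c)) ?_ ?_ ?_
  · intro c hc
    simp only [Finset.coe_filter, Finset.mem_range, Set.mem_ofPred_eq] at hc ⊢
    exact ⟨(mem_octads_iff _).mpr ⟨c, hc.1, hc.2.1, rfl⟩,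
      by rw [refDodecad, mask_inter, card_pts]; exact hc.2.2⟩
  · intro a b ha hb h
    simp only [Finset.coe_filter, Finset.mem_range, Set.mem_ofPred_eq] at ha hb
    exact word_inj ha.1 hb.1 h
  · rintro s ⟨hs, hi⟩
    obtain ⟨c, hc, hn, rfl⟩ := (mem_octads_iff s).mp hs
    rw [refDodecad, mask_inter, card_pts] at hi
    exact ⟨c, by simpa using ⟨hc, hn, hi⟩, rfl⟩

theorem ref_inter_counts :
    {o : Finset GolayPt | o ∈ octads ∧ (o ∩ refDodecad).card = 6}.ncard = 132 ∧
    {o : Finset GolayPt | o ∈ octads ∧ (o ∩ refDodecad).card = 2}.ncard = 132 ∧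
    {o : Finset GolayPt | o ∈ octads ∧ (o ∩ refDodecad).card = 4}.ncard = 495 := by
  simp only [ncard_inter_ref]
  rw [show (4096 : ℕ) = 64 * 64 from rfl, card_filter_range_mul, card_filter_range_mul,
    card_filter_range_mul]
  decide +kernel

theorem inter_count_transport {d : Finset GolayPt} (g : M24) (hg : g • refDodecad = d) (i : ℕ) :
    {o : Finset GolayPt | o ∈ octads ∧ (o ∩ d).card = i}.ncard =
      {o : Finset GolayPt | o ∈ octads ∧ (o ∩ refDodecad).card = i}.ncard := by
  rw [← Set.ncard_image_of_injective {o | o ∈ octads ∧ (o ∩ refDodecad).card = i}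
    (MulAction.injective g)]
  congr 1
  ext o
  simp only [Set.mem_ofPred_eq, Set.mem_image]
  constructor
  · rintro ⟨ho, hi⟩
    refine ⟨g⁻¹ • o, ⟨smul_mem_octads _ ho, ?_⟩, smul_inv_smul g o⟩
    rw [← hg] at hi
    rw [← Finset.card_smul_finset g, Finset.smul_finset_inter, smul_inv_smul, hi]
  · rintro ⟨o', ⟨ho', hi⟩, rfl⟩
    exact ⟨smul_mem_octads g ho', by
      rw [← hg, ← Finset.smul_finset_inter, Finset.card_smul_finset, hi]⟩

theorem inter_counts {d : Finset GolayPt} (hd : d ∈ dodecads) :
    {o : Finset GolayPt | o ∈ octads ∧ (o ∩ d).card = 6}.ncard = 132 ∧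
    {o : Finset GolayPt | o ∈ octads ∧ (o ∩ d).card = 2}.ncard = 132 ∧
    {o : Finset GolayPt | o ∈ octads ∧ (o ∩ d).card = 4}.ncard = 495 := by
  obtain ⟨g, hg⟩ := exists_smul_refDodecad hd
  simp only [inter_count_transport g hg]
  exact ref_inter_counts

end CfsgLib.Golay
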