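/-
Orders and simplicity of the Mathieu groups inside the group of the code.
-/
import Cfsg.Agent.Golay.Dodecad
import Cfsg.Agent.PermSimple.PrimeDegree

set_option autoImplicit false

namespace CfsgLib.Golay

open Cfsg MulAction
open scoped Pointwise

theorem apply_mem_iff {d : Finset GolayPt} {g : M24} (hg : g ∈ stabilizer M24 d) (x : GolayPt) :
    (g : Equiv.Perm GolayPt) x ∈ d ↔ x ∈ d := by
  conv_lhs => rw [← mem_stabilizer_iff.mp hg]
  exact Finset.smul_mem_smul_finset_iff (b := x) g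

/-- The action of a subgroup of the code's group on an invariant set of points. -/
def invSet (H : Subgroup M24) (S : Set GolayPt) (hS : ∀ g : H, ∀ x ∈ S, g • x ∈ S) :
    SubMulAction H GolayPt where
  carrier := S
  smul_mem' g _ hx := hS g _ hx

theorem dvd_of_eq_dvd_aux {a b c : ℕ} (h : a = b) (h' : b ∣ c) : a ∣ c := h ▸ h'

theorem natCard_golayPt : Nat.card GolayPt = 24 := by
  rw [Nat.card_eq_fintype_card, card_golayPt]

theorem pretransitive_emb (n : ℕ) (hn : n ≤ 5) : IsMultiplyPretransitive M24 GolayPt n := by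
  haveI := five_transitive
  exact isMultiplyPretransitive_of_le hn (by simp [card_golayPt])

theorem two_transitive : IsMultiplyPretransitive M24 GolayPt 2 := pretransitive_emb 2 (by norm_num)

theorem pretransitive : IsPretransitive M24 GolayPt := by
  haveI := two_transitive
  exact isPretransitive_of_is_two_pretransitive

theorem card_stab_point (p : GolayPt) : Nat.card (stabilizer M24 p) = 10200960 := by
  haveI := pretransitive
  have h := Subgroup.card_mul_index (stabilizer M24 p)
  rw [index_stabilizer_of_transitive, natCard_golayPt, card_M24] at h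
  omega

theorem card_stab_pair (p q : GolayPt) (hpq : p ≠ q) :
    Nat.card ↥(stabilizer M24 p ⊓ stabilizer M24 q) = 443520 := by
  haveI := two_transitive
  have heq : (stabilizer M24 p ⊓ stabilizer M24 q).subgroupOf (stabilizer M24 p) =
      stabilizer (stabilizer M24 p) q := by
    ext g
    simp only [Subgroup.mem_subgroupOf, Subgroup.mem_inf, mem_stabilizer_iff, Subgroup.smul_def]
    exact ⟨fun h => h.2, fun h => ⟨mem_stabilizer_iff.mp g.2, h⟩⟩
  have horb : orbit (stabilizer M24 p) q = ({p}ᶜ : Set GolayPt) := by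
    ext z
    rw [Set.mem_compl_singleton_iff]
    constructor
    · rintro ⟨g, rfl⟩ h
      exact hpq ((MulAction.injective (g : M24)
        (h.trans (mem_stabilizer_iff.mp g.2).symm)).symm)
    · intro hz
      obtain ⟨g, h1, h2⟩ := is_two_pretransitive_iff.mp two_transitive hpq hz.symm
      exact ⟨⟨g, h1⟩, h2⟩
  have h := Subgroup.card_mul_index (stabilizer (stabilizer M24 p) q)
  rw [index_stabilizer, horb, Set.ncard_compl, natCard_golayPt, Set.ncard_singleton,
    card_stab_point, ← heq, Nat.card_congr (Subgroup.subgroupOfEquivOfLe inf_le_left).toEquiv] at h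
  omega

theorem exists_stab_two (p : GolayPt) {x y z w : GolayPt} (hxp : x ≠ p) (hyp : y ≠ p)
    (hzp : z ≠ p) (hwp : w ≠ p) (hxy : x ≠ y) (hzw : z ≠ w) :
    ∃ g : stabilizer M24 p, g • x = z ∧ g • y = w := by
  haveI := pretransitive_emb 3 (by norm_num)
  let u : Fin 3 ↪ GolayPt := ⟨![p, x, y], by
    intro i j; fin_cases i <;> fin_cases j <;> simp [hxp, hyp, hxy, Ne.symm hxp, Ne.symm hyp, hxy.symm]⟩
  let v : Fin 3 ↪ GolayPt := ⟨![p, z, w], by
    intro i j; fin_cases i <;> fin_cases j <;> simp [hzp, hwp, hzw, Ne.symm hzp, Ne.symm hwp, hzw.symm]⟩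
  obtain ⟨g, hg⟩ := exists_smul_eq M24 u v
  exact ⟨⟨g, congrArg (fun e : Fin 3 ↪ GolayPt => e 0) hg⟩,
    congrArg (fun e : Fin 3 ↪ GolayPt => e 1) hg, congrArg (fun e : Fin 3 ↪ GolayPt => e 2) hg⟩

theorem exists_stab_pair_two {p q : GolayPt} (hpq : p ≠ q) {x y z w : GolayPt}
    (hx : x ≠ p ∧ x ≠ q) (hy : y ≠ p ∧ y ≠ q) (hz : z ≠ p ∧ z ≠ q) (hw : w ≠ p ∧ w ≠ q)
    (hxy : x ≠ y) (hzw : z ≠ w) :
    ∃ g : ↥(stabilizer M24 p ⊓ stabilizer M24 q), g • x = z ∧ g • y = w := by
  haveI := pretransitive_emb 4 (by norm_num)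
  let u : Fin 4 ↪ GolayPt := ⟨![p, q, x, y], by
    intro i j; fin_cases i <;> fin_cases j <;>
      simp [hx.1, hx.2, hy.1, hy.2, hxy, hpq, hpq.symm, Ne.symm hx.1, Ne.symm hx.2, Ne.symm hy.1,
        Ne.symm hy.2, hxy.symm]⟩
  let v : Fin 4 ↪ GolayPt := ⟨![p, q, z, w], by
    intro i j; fin_cases i <;> fin_cases j <;>
      simp [hz.1, hz.2, hw.1, hw.2, hzw, hpq, hpq.symm, Ne.symm hz.1, Ne.symm hz.2, Ne.symm hw.1,
        Ne.symm hw.2, hzw.symm]⟩
  obtain ⟨g, hg⟩ := exists_smul_eq M24 u v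
  exact ⟨⟨g, congrArg (fun e : Fin 4 ↪ GolayPt => e 0) hg,
    congrArg (fun e : Fin 4 ↪ GolayPt => e 1) hg⟩,
    congrArg (fun e : Fin 4 ↪ GolayPt => e 2) hg, congrArg (fun e : Fin 4 ↪ GolayPt => e 3) hg⟩

theorem m23_simple (p : GolayPt) : IsSimpleGroup (stabilizer M24 p) := by
  let S := invSet (stabilizer M24 p) {x | x ≠ p} fun g x hx h => hx
    (MulAction.injective g (h.trans (mem_stabilizer_iff.mp g.2).symm))
  have hcS : Nat.card S = 23 := by
    show Nat.card {x : GolayPt // x ≠ p} = 23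
    rw [Nat.card_eq_fintype_card, Fintype.card_subtype_compl, Fintype.card_subtype_eq, card_golayPt]
  haveI : FaithfulSMul (stabilizer M24 p) S := ⟨fun {a b} h => by
    refine Subtype.ext (Subtype.ext (Equiv.ext fun x => ?_))
    by_cases hx : x = p
    · subst hx; exact (mem_stabilizer_iff.mp a.2).trans (mem_stabilizer_iff.mp b.2).symm
    · exact congrArg Subtype.val (h (⟨x, hx⟩ : S))⟩
  haveI : IsPreprimitive (stabilizer M24 p) S := by
    refine isPreprimitive_of_is_two_pretransitive (is_two_pretransitive_iff.mpr ?_)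
    intro a b c d hab hcd
    obtain ⟨g, h1, h2⟩ := exists_stab_two p a.2 b.2 c.2 d.2
      (fun h => hab (Subtype.ext h)) (fun h => hcd (Subtype.ext h))
    exact ⟨g, Subtype.ext h1, Subtype.ext h2⟩
  haveI : Fact (Nat.Prime 23) := ⟨by norm_num⟩
  obtain ⟨P⟩ : Nonempty (Sylow 23 (stabilizer M24 p)) := inferInstance
  have hcard : Nat.card (stabilizer M24 p) = 23 * 443520 := by rw [card_stab_point]
  have hP : Nat.card (P : Subgroup (stabilizer M24 p)) = 23 := by
    rw [P.card_eq_multiplicity, hcard, Nat.factorization_mul (by norm_num) (by norm_num),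
      Finsupp.add_apply, Nat.Prime.factorization_self Fact.out,
      Nat.factorization_eq_zero_of_not_dvd (by norm_num)]
    rfl
  have hb := PermSimple.normalizer_card_dvd (P : Subgroup (stabilizer M24 p)) hP
  rw [PermSimple.centralizer_eq_of_card (α := S) hP hcS, hP] at hb
  obtain ⟨-, hN, hn⟩ := PermSimple.normalizer_card_eq hcard (by norm_num) (v := 23 * 11)
    (by norm_num) (by decide +kernel) P hb
  exact PermSimple.isSimpleGroup_of_prime_index (α := S) (t := 11) (by rw [hcS]) P hP (by omega)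
    (by norm_num) hN

theorem m22_simple (p q : GolayPt) (hpq : p ≠ q) :
    IsSimpleGroup ↥(stabilizer M24 p ⊓ stabilizer M24 q) := by
  let S := invSet (stabilizer M24 p ⊓ stabilizer M24 q) {x | x ≠ p ∧ x ≠ q} fun g x hx =>
    ⟨fun h => hx.1 (MulAction.injective g (h.trans (mem_stabilizer_iff.mp g.2.1).symm)),
      fun h => hx.2 (MulAction.injective g (h.trans (mem_stabilizer_iff.mp g.2.2).symm))⟩
  have hcS : Nat.card S = 22 := by
    show Nat.card ({x | x ≠ p ∧ x ≠ q} : Set GolayPt) = 22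
    rw [show ({x | x ≠ p ∧ x ≠ q} : Set GolayPt) = ({p, q} : Set GolayPt)ᶜ by ext x; simp,
      Nat.card_coe_set_eq, Set.ncard_compl, natCard_golayPt, Set.ncard_pair hpq]
  haveI : FaithfulSMul ↥(stabilizer M24 p ⊓ stabilizer M24 q) S := ⟨fun {a b} h => by
    refine Subtype.ext (Subtype.ext (Equiv.ext fun x => ?_))
    by_cases hx : x = p
    · subst hx; exact (mem_stabilizer_iff.mp a.2.1).trans (mem_stabilizer_iff.mp b.2.1).symm
    by_cases hx' : x = q
    · subst hx'; exact (mem_stabilizer_iff.mp a.2.2).trans (mem_stabilizer_iff.mp b.2.2).symm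
    exact congrArg Subtype.val (h (⟨x, hx, hx'⟩ : S))⟩
  have h2 : IsMultiplyPretransitive ↥(stabilizer M24 p ⊓ stabilizer M24 q) S 2 := by
    refine is_two_pretransitive_iff.mpr ?_
    intro a b c d hab hcd
    obtain ⟨g, h1, h2⟩ := exists_stab_pair_two hpq a.2 b.2 c.2 d.2
      (fun h => hab (Subtype.ext h)) (fun h => hcd (Subtype.ext h))
    exact ⟨g, Subtype.ext h1, Subtype.ext h2⟩
  haveI : IsPreprimitive ↥(stabilizer M24 p ⊓ stabilizer M24 q) S :=
    isPreprimitive_of_is_two_pretransitive h2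
  haveI : IsPretransitive ↥(stabilizer M24 p ⊓ stabilizer M24 q) S := IsPreprimitive.toIsPretransitive
  have hcard : Nat.card ↥(stabilizer M24 p ⊓ stabilizer M24 q) = 11 * 40320 := by
    rw [card_stab_pair p q hpq]
  haveI : Fact (Nat.Prime 11) := ⟨by norm_num⟩
  have hfree : ∀ x : ↥(stabilizer M24 p ⊓ stabilizer M24 q), orderOf x = 11 →
      ∀ a : S, x • a ≠ a := by
    intro x hx a ha
    have hidx := Subgroup.card_mul_index
      (stabilizer ↥(stabilizer M24 p ⊓ stabilizer M24 q) a)
    rw [index_stabilizer_of_transitive, hcS, hcard] at hidx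
    have hd := orderOf_dvd_natCard
      (⟨x, ha⟩ : stabilizer ↥(stabilizer M24 p ⊓ stabilizer M24 q) a)
    rw [← Subgroup.orderOf_coe, hx] at hd
    omega
  obtain ⟨P⟩ : Nonempty (Sylow 11 ↥(stabilizer M24 p ⊓ stabilizer M24 q)) := inferInstance
  have hP : Nat.card (P : Subgroup ↥(stabilizer M24 p ⊓ stabilizer M24 q)) = 11 := by
    rw [P.card_eq_multiplicity, hcard, Nat.factorization_mul (by norm_num) (by norm_num),
      Finsupp.add_apply, Nat.Prime.factorization_self Fact.out,
      Nat.factorization_eq_zero_of_not_dvd (by norm_num)]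
    rfl
  have hC := PermSimple.card_centralizer_le_two_mul (α := S) hP (by rw [hcS]) hfree
  haveI : IsCyclic (P : Subgroup ↥(stabilizer M24 p ⊓ stabilizer M24 q)) :=
    isCyclic_of_prime_card hP
  have hPC : 11 ∣ Nat.card (Subgroup.centralizer
      ((P : Subgroup ↥(stabilizer M24 p ⊓ stabilizer M24 q)) : Set ↥(stabilizer M24 p ⊓ stabilizer M24 q))) := by
    refine dvd_of_eq_dvd_aux hP.symm (Subgroup.card_dvd_of_le fun x hx =>
      Subgroup.mem_centralizer_iff.mpr fun y hy => ?_)
    exact congrArg Subtype.val (IsCyclic.commutative.1.comm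
      (⟨y, hy⟩ : (P : Subgroup ↥(stabilizer M24 p ⊓ stabilizer M24 q))) ⟨x, hx⟩)
  have hb := PermSimple.normalizer_card_dvd
    (P : Subgroup ↥(stabilizer M24 p ⊓ stabilizer M24 q)) hP
  have h22 : Nat.card (Subgroup.centralizer
      ((P : Subgroup ↥(stabilizer M24 p ⊓ stabilizer M24 q)) : Set ↥(stabilizer M24 p ⊓ stabilizer M24 q))) ∣ 22 := by
    have hpos := Nat.card_pos (α := Subgroup.centralizer
      ((P : Subgroup ↥(stabilizer M24 p ⊓ stabilizer M24 q)) : Set ↥(stabilizer M24 p ⊓ stabilizer M24 q)))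
    rcases hPC with ⟨k, hk⟩
    rw [hk] at hC hpos ⊢
    have h1 : k ≤ 2 := by omega
    interval_cases k <;> first | omega | norm_num
  obtain ⟨-, hN, hn⟩ := PermSimple.normalizer_card_eq hcard (by norm_num) (v := 11 * 5)
    (B := 22 * 10) (by norm_num) (by decide +kernel) P (hb.trans (Nat.mul_dvd_mul h22 dvd_rfl))
  exact PermSimple.isSimpleGroup_of_prime_index (α := S) (t := 5) (by rw [hcS]; norm_num) P hP
    (by omega) (by norm_num) hN

theorem m24_simple : IsSimpleGroup M24 := by
  haveI := two_transitive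
  haveI := m23_simple (none : GolayPt)
  refine PermSimple.isSimpleGroup_of_stabilizer (none : GolayPt) fun q n hq h => ?_
  rw [natCard_golayPt] at h
  have h2 : q = 2 := ((Nat.prime_dvd_prime_iff_eq Nat.prime_two hq).mp
    (Nat.prime_two.dvd_of_dvd_pow (h ▸ by norm_num : 2 ∣ q ^ n))).symm
  subst h2
  have : 3 = 2 := (Nat.prime_dvd_prime_iff_eq Nat.prime_three Nat.prime_two).mp
    (Nat.prime_three.dvd_of_dvd_pow (h ▸ by norm_num : 3 ∣ 2 ^ n))
  omega

end CfsgLib.Golay
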