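/-
The Mathieu groups on twelve and eleven points inside the group of the code.
-/
import Cfsg.Agent.Golay.Mathieu

set_option autoImplicit false

namespace CfsgLib.Golay

open Cfsg MulAction
open scoped Pointwise

theorem mem_iff_of_stab {d : Finset GolayPt} (g : stabilizer M24 d) (x : GolayPt) :
    g • x ∈ d ↔ x ∈ d := apply_mem_iff g.2 x

/-- The dodecad stabiliser maps a pair of its points to any other. -/
theorem exists_dodecad_two {d : Finset GolayPt} (hd : d ∈ dodecads) {x y z w : GolayPt}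
    (hx : x ∈ d) (hy : y ∈ d) (hz : z ∈ d) (hw : w ∈ d) (hxy : x ≠ y) (hzw : z ≠ w) :
    ∃ g : stabilizer M24 d, g • x = z ∧ g • y = w := by
  have key : ∀ a ∈ d, ∀ b ∈ d, a ≠ b →
      ∃ u : Fin 5 ↪ GolayPt, (∀ i, u i ∈ d) ∧ u 0 = a ∧ u 1 = b := by
    intro a ha b hb hab
    obtain ⟨t, ht, htc⟩ := Finset.exists_subset_card_eq (s := (d.erase a).erase b) (n := 3) (by
      rw [Finset.card_erase_of_mem (Finset.mem_erase.mpr ⟨hab.symm, hb⟩),
        Finset.card_erase_of_mem ha, dodecad_card hd]; norm_num)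
    let e : Fin 3 ≃ t := (Fintype.equivFinOfCardEq (by simp [htc])).symm
    have hmem : ∀ i, (e i : GolayPt) ≠ a ∧ (e i : GolayPt) ≠ b ∧ (e i : GolayPt) ∈ d := fun i => by
      have h := ht (e i).2
      simp only [Finset.mem_erase] at h
      exact ⟨h.2.1, h.1, h.2.2⟩
    have he : ∀ i j, (e i : GolayPt) = e j ↔ i = j := fun i j =>
      ⟨fun h => e.injective (Subtype.ext h), fun h => h ▸ rfl⟩
    refine ⟨⟨![a, b, e 0, e 1, e 2], ?_⟩, ?_, rfl, rfl⟩
    · intro i j
      fin_cases i <;> fin_cases j <;>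
        simp [hab, hab.symm, (hmem 0).1, (hmem 0).2.1, (hmem 1).1, (hmem 1).2.1, (hmem 2).1,
          (hmem 2).2.1, he, Ne.symm (hmem 0).1, Ne.symm (hmem 0).2.1, Ne.symm (hmem 1).1,
          Ne.symm (hmem 1).2.1, Ne.symm (hmem 2).1, Ne.symm (hmem 2).2.1]
    · intro i
      fin_cases i
      exacts [ha, hb, (hmem 0).2.2, (hmem 1).2.2, (hmem 2).2.2]
  obtain ⟨u, hu, hu0, hu1⟩ := key x hx y hy hxy
  obtain ⟨v, hv, hv0, hv1⟩ := key z hz w hw hzw
  obtain ⟨g, hg, -⟩ := sharply_five hd u v hu hv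
  have h0 := hg 0
  have h1 := hg 1
  rw [hu0, hv0] at h0
  rw [hu1, hv1] at h1
  exact ⟨g, h0, h1⟩

theorem eq_of_agree {d : Finset GolayPt} (hd : d ∈ dodecads) {a b : stabilizer M24 d}
    (h : ∀ x ∈ d, a • x = b • x) : a = b := by
  obtain ⟨u, hu⟩ := exists_five_of_dodecad hd
  have hy : ∀ i, (u.trans ((a : M24) : Equiv.Perm GolayPt).toEmbedding) i ∈ d :=
    fun i => (apply_mem_iff a.2 _).mpr (hu i)
  exact ExistsUnique.unique (sharply_five hd u _ hu hy) (fun i => rfl)
    (fun i => (h _ (hu i)).symm)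

/-- The dodecad as a set acted on by its stabiliser. -/
def dSet (d : Finset GolayPt) : SubMulAction (stabilizer M24 d) GolayPt :=
  invSet (stabilizer M24 d) {x | x ∈ d} fun g x hx => (mem_iff_of_stab g x).mpr hx

theorem natCard_dSet {d : Finset GolayPt} (hd : d ∈ dodecads) : Nat.card (dSet d) = 12 := by
  show Nat.card {x : GolayPt // x ∈ d} = 12
  rw [Nat.card_eq_fintype_card, Fintype.card_coe, dodecad_card hd]

theorem dSet_two_transitive {d : Finset GolayPt} (hd : d ∈ dodecads) :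
    IsMultiplyPretransitive (stabilizer M24 d) (dSet d) 2 := by
  refine is_two_pretransitive_iff.mpr ?_
  intro a b c e hab hce
  obtain ⟨g, h1, h2⟩ := exists_dodecad_two hd a.2 b.2 c.2 e.2
    (fun h => hab (Subtype.ext h)) (fun h => hce (Subtype.ext h))
  exact ⟨g, Subtype.ext h1, Subtype.ext h2⟩

/-- The point stabiliser inside the dodecad stabiliser. -/
theorem subgroupOf_eq_stab (d : Finset GolayPt) (p : GolayPt) (hp : p ∈ d) :
    (stabilizer M24 d ⊓ stabilizer M24 p).subgroupOf (stabilizer M24 d) =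
      stabilizer (stabilizer M24 d) (⟨p, hp⟩ : dSet d) := by
  ext g
  constructor
  · intro h; exact Subtype.ext h.2
  · intro h; exact ⟨g.2, congrArg Subtype.val h⟩

theorem m11_card {d : Finset GolayPt} (hd : d ∈ dodecads) {p : GolayPt} (hp : p ∈ d) :
    Nat.card ↥(stabilizer M24 d ⊓ stabilizer M24 p) = 7920 := by
  haveI := dSet_two_transitive hd
  haveI : IsPretransitive (stabilizer M24 d) (dSet d) := isPretransitive_of_is_two_pretransitive
  have h := Subgroup.card_mul_index (stabilizer (stabilizer M24 d) (⟨p, hp⟩ : dSet d))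
  rw [index_stabilizer_of_transitive, natCard_dSet hd, card_dodecad_stabilizer hd,
    ← subgroupOf_eq_stab d p hp,
    Nat.card_congr (Subgroup.subgroupOfEquivOfLe inf_le_left).toEquiv] at h
  omega

theorem m11_simple {d : Finset GolayPt} (hd : d ∈ dodecads) {p : GolayPt} (hp : p ∈ d) :
    IsSimpleGroup ↥(stabilizer M24 d ⊓ stabilizer M24 p) := by
  let H := stabilizer M24 d ⊓ stabilizer M24 p
  let S := invSet H {x | x ∈ d ∧ x ≠ p} fun g x hx => ⟨(apply_mem_iff g.2.1 x).mpr hx.1,
    fun h => hx.2 (MulAction.injective (g : M24) (h.trans (mem_stabilizer_iff.mp g.2.2).symm))⟩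
  have hcS : Nat.card S = 11 := by
    show Nat.card {x : GolayPt // x ∈ d ∧ x ≠ p} = 11
    rw [Nat.card_eq_fintype_card, Fintype.card_subtype,
      show (Finset.univ.filter fun x => x ∈ d ∧ x ≠ p) = d.erase p by
        ext x; simp [and_comm],
      Finset.card_erase_of_mem hp, dodecad_card hd]
  haveI : FaithfulSMul H S := ⟨fun {a b} h => by
    refine Subtype.ext ?_
    have := eq_of_agree hd (a := ⟨a, a.2.1⟩) (b := ⟨b, b.2.1⟩) fun x hx => by
      by_cases hxp : x = p
      · subst hxp; exact (mem_stabilizer_iff.mp a.2.2).trans (mem_stabilizer_iff.mp b.2.2).symm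
      · exact congrArg Subtype.val (h (⟨x, hx, hxp⟩ : S))
    exact congrArg (fun g : stabilizer M24 d => (g : M24)) this⟩
  haveI : IsPretransitive H S := ⟨fun a b => by
    obtain ⟨g, h1, h2⟩ := exists_dodecad_two hd hp a.2.1 hp b.2.1 (Ne.symm a.2.2) (Ne.symm b.2.2)
    exact ⟨⟨g, g.2, h1⟩, Subtype.ext h2⟩⟩
  haveI : IsPreprimitive H S := IsPreprimitive.of_prime_card (hcS ▸ by norm_num)
  haveI : Fact (Nat.Prime 11) := ⟨by norm_num⟩
  obtain ⟨P⟩ : Nonempty (Sylow 11 H) := inferInstance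
  have hcard : Nat.card H = 11 * 720 := by rw [m11_card hd hp]
  have hP : Nat.card (P : Subgroup H) = 11 := by
    rw [P.card_eq_multiplicity, hcard, Nat.factorization_mul (by norm_num) (by norm_num),
      Finsupp.add_apply, Nat.Prime.factorization_self Fact.out,
      Nat.factorization_eq_zero_of_not_dvd (by norm_num)]
    rfl
  have hb := PermSimple.normalizer_card_dvd (P : Subgroup H) hP
  rw [PermSimple.centralizer_eq_of_card (α := S) hP hcS, hP] at hb
  obtain ⟨-, hN, hn⟩ := PermSimple.normalizer_card_eq hcard (by norm_num) (v := 11 * 5)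
    (by norm_num) (by decide +kernel) P hb
  have hn' : Nat.card (Sylow 11 H) = 144 :=
    Nat.eq_of_mul_eq_mul_right (show 0 < 11 * 5 by norm_num) (hn.trans (by norm_num))
  exact PermSimple.isSimpleGroup_of_prime_index (α := S) (t := 5) (by rw [hcS]) P hP
    (hn'.symm ▸ by norm_num)
    (by norm_num) hN

theorem m12_simple {d : Finset GolayPt} (hd : d ∈ dodecads) :
    IsSimpleGroup (stabilizer M24 d) := by
  obtain ⟨p, hp⟩ := Finset.card_pos.mp (show 0 < d.card by rw [dodecad_card hd]; norm_num)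
  haveI := dSet_two_transitive hd
  haveI : FaithfulSMul (stabilizer M24 d) (dSet d) :=
    ⟨fun {a b} h => eq_of_agree hd fun x hx => congrArg Subtype.val (h ⟨x, hx⟩)⟩
  haveI := m11_simple hd hp
  haveI : IsSimpleGroup (stabilizer (stabilizer M24 d) (⟨p, hp⟩ : dSet d)) := by
    rw [← subgroupOf_eq_stab d p hp]
    exact (Subgroup.subgroupOfEquivOfLe inf_le_left).isSimpleGroup
  refine PermSimple.isSimpleGroup_of_stabilizer (⟨p, hp⟩ : dSet d) fun q n hq h => ?_
  rw [natCard_dSet hd] at h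
  have h2 : 2 = q := (Nat.prime_dvd_prime_iff_eq Nat.prime_two hq).mp
    (Nat.prime_two.dvd_of_dvd_pow (h ▸ by norm_num : 2 ∣ q ^ n))
  have h3 : 3 = q := (Nat.prime_dvd_prime_iff_eq Nat.prime_three hq).mp
    (Nat.prime_three.dvd_of_dvd_pow (h ▸ by norm_num : 3 ∣ q ^ n))
  omega

end CfsgLib.Golay
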