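import Cfsg.Agent.Golay.MathieuSmall
import Cfsg.Agent.Classical.SylowTwoGLTwo
import Cfsg.Agent.Invol.FusionSystemSimple
import Cfsg.Prelude.Def_Spor_Mathieu

/-!
The 2-fusion system of M₁₁ is simple: its Sylow 2-subgroups are quasi-dihedral and it is simple.
-/

set_option autoImplicit false

namespace CfsgLib.Golay

open Cfsg MulAction
open scoped Pointwise

/-- A permutation given by a position list and the list of its inverse. -/
def permOfLists (L L' : List ℕ) (h : ∀ i < 24, L.getD i 0 < 24 ∧ L'.getD i 0 < 24 ∧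
    L'.getD (L.getD i 0) 0 = i ∧ L.getD (L'.getD i 0) 0 = i) : Equiv.Perm GolayPt where
  toFun q := pt (L.getD (idx q) 0)
  invFun q := pt (L'.getD (idx q) 0)
  left_inv q := by
    show pt (L'.getD (idx (pt (L.getD (idx q) 0))) 0) = q
    rw [idx_pt _ (h _ (idx_lt q)).1, (h _ (idx_lt q)).2.2.1, pt_idx]
  right_inv q := by
    show pt (L.getD (idx (pt (L'.getD (idx q) 0))) 0) = q
    rw [idx_pt _ (h _ (idx_lt q)).2.1, (h _ (idx_lt q)).2.2.2, pt_idx]

/-- An element of order 8 of M₁₁. -/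
def m11x : Equiv.Perm GolayPt :=
  permOfLists
    [0, 1, 3, 2, 8, 17, 13, 19, 6, 18, 15, 21, 16, 12, 23, 11, 9, 14, 4, 22, 10, 7, 20, 5]
    [0, 1, 3, 2, 18, 23, 8, 21, 4, 16, 20, 15, 13, 6, 17, 10, 12, 5, 9, 7, 22, 11, 19, 14]
    (by decide +kernel)

/-- An involution of M₁₁ inducing `x ↦ x³` on `m11x`. -/
def m11y : Equiv.Perm GolayPt :=
  permOfLists
    [0, 1, 3, 2, 4, 5, 9, 10, 13, 6, 7, 11, 12, 8, 14, 20, 18, 23, 16, 21, 15, 19, 22, 17]
    [0, 1, 3, 2, 4, 5, 9, 10, 13, 6, 7, 11, 12, 8, 14, 20, 18, 23, 16, 21, 15, 19, 22, 17]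
    (by decide +kernel)

/-- The mask of the dodecad of squares. -/
def squareMask : ℕ := genMasks.getD 0 0

theorem squareDodecad_eq : Spor.squareDodecad = pts squareMask := by
  rw [Spor.squareDodecad, qrWord_eq 0, support_vec]
  rfl

theorem squareDodecad_mem : Spor.squareDodecad ∈ dodecads := by
  rw [squareDodecad_eq]
  refine (mem_dodecads_iff _).mpr ⟨squareMask % 4096, Nat.mod_lt _ (by norm_num), ?_, ?_⟩
  · decide +kernel
  · rw [show word (squareMask % 4096) = squareMask by decide +kernel]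

theorem zero_mem_squareDodecad : (some 0 : GolayPt) ∈ Spor.squareDodecad := by
  rw [squareDodecad_eq]
  simp only [pts, Finset.mem_filter, Finset.mem_univ, true_and]
  decide +kernel

theorem mem_M11_of (σ : Equiv.Perm GolayPt) (h1 : PreservesCode (toList σ))
    (h2 : permMask (toList σ) squareMask 24 = squareMask) (h3 : σ (some 0) = some 0) :
    σ ∈ Spor.M11 := by
  refine ⟨⟨mem_M24_of_preserves σ h1, ?_⟩, h3⟩
  show σ • Spor.squareDodecad = Spor.squareDodecad
  rw [squareDodecad_eq]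
  conv_rhs => rw [← h2, pts_permMask]
  ext q
  simp [Finset.mem_smul_finset, Finset.mem_image]

theorem m11x_mem : m11x ∈ Spor.M11 :=
  mem_M11_of _ (by unfold PreservesCode; decide +kernel) (by decide +kernel) (by decide +kernel)

theorem m11y_mem : m11y ∈ Spor.M11 :=
  mem_M11_of _ (by unfold PreservesCode; decide +kernel) (by decide +kernel) (by decide +kernel)

theorem M11_eq_map : Spor.M11 =
    (stabilizer M24 Spor.squareDodecad ⊓ stabilizer M24 (some 0 : GolayPt)).map M24.subtype := by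
  ext g
  constructor
  · rintro ⟨⟨hg, hd⟩, h0⟩
    exact ⟨⟨g, hg⟩, ⟨hd, h0⟩, rfl⟩
  · rintro ⟨⟨g, hg⟩, ⟨hd, h0⟩, rfl⟩
    exact ⟨⟨hg, hd⟩, h0⟩

/-- The isomorphism with the stabilizer form. -/
noncomputable def m11Equiv :
    ↥(stabilizer M24 Spor.squareDodecad ⊓ stabilizer M24 (some 0 : GolayPt)) ≃* ↥Spor.M11 :=
  (Subgroup.equivMapOfInjective _ M24.subtype M24.subtype_injective).trans
    (MulEquiv.subgroupCongr M11_eq_map.symm)

theorem card_M11 : Nat.card Spor.M11 = 7920 := by
  rw [← Nat.card_congr m11Equiv.toEquiv, m11_card squareDodecad_mem zero_mem_squareDodecad]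

theorem isSimple_M11 : IsSimpleGroup Spor.M11 := by
  haveI := m11_simple squareDodecad_mem zero_mem_squareDodecad
  exact m11Equiv.symm.isSimpleGroup

theorem index_ne_two_M11 (H : Subgroup Spor.M11) : H.index ≠ 2 := by
  intro h
  haveI := isSimple_M11
  haveI : H.Normal := Subgroup.normal_of_index_eq_two h
  rcases IsSimpleGroup.eq_bot_or_eq_top_of_normal H inferInstance with rfl | rfl
  · rw [Subgroup.index_bot, card_M11] at h
    norm_num at h
  · rw [Subgroup.index_top] at h
    norm_num at h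

theorem isQuasiDihedral_sylow_M11 (S : Sylow 2 Spor.M11) :
    Cfsg.IsQuasiDihedral (S : Subgroup Spor.M11) := by
  haveI : Fact (Nat.Prime 2) := ⟨Nat.prime_two⟩
  refine CfsgLib.Linear.TwoSylow.isQuasiDihedral_of (n := 3) le_rfl ?_
    (x := ⟨m11x, m11x_mem⟩) (y := ⟨m11y, m11y_mem⟩) ?_ ?_ ?_ S
  · rw [card_M11, show (7920 : ℕ) = 2 ^ 4 * 495 by norm_num,
      Nat.factorization_mul (by norm_num) (by norm_num), Finsupp.add_apply,
      Nat.Prime.factorization_pow Nat.prime_two, Finsupp.single_eq_same,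
      Nat.factorization_eq_zero_of_not_dvd (by norm_num)]
  · rw [Subgroup.orderOf_mk]
    exact orderOf_eq_prime_pow (n := 2) (by decide +kernel) (by decide +kernel)
  · rw [Subgroup.orderOf_mk]
    exact orderOf_eq_prime (by decide +kernel) (by decide +kernel)
  · apply Subtype.ext
    show m11y * m11x * m11y⁻¹ = m11x ^ (2 ^ (3 - 1) - 1)
    decide +kernel

theorem isSimple_fusion_M11 (S : Sylow 2 Spor.M11) :
    (groupFusionSystem (S : Subgroup Spor.M11)).IsSimple 2 :=
  InvolPattern.isSimple_groupFusion index_ne_two_M11 S (Or.inl (isQuasiDihedral_sylow_M11 S))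

end CfsgLib.Golay
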