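import Mathlib

/-!
Sylow 2-subgroups of the alternating group of degree 8 are self-normalizing.
-/

set_option autoImplicit false
set_option linter.style.haveILetI false
set_option linter.unusedSimpArgs false

namespace CfsgLib.SylowTwoEight

open Subgroup

/-- Preserving the pairs `{2m, 2m+1}` and the halves `{0,…,3}`, `{4,…,7}`. -/
def Pres (g : Equiv.Perm (Fin 8)) : Prop :=
  ∀ i j : Fin 8, (i.val / 2 = j.val / 2 ↔ (g i).val / 2 = (g j).val / 2) ∧
    (i.val / 4 = j.val / 4 ↔ (g i).val / 4 = (g j).val / 4)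

instance : DecidablePred Pres := fun g =>
  inferInstanceAs (Decidable (∀ i j : Fin 8, (i.val / 2 = j.val / 2 ↔ (g i).val / 2 = (g j).val / 2) ∧
    (i.val / 4 = j.val / 4 ↔ (g i).val / 4 = (g j).val / 4)))

/-- The stabilizer of the tree of blocks. -/
def tree : Subgroup (Equiv.Perm (Fin 8)) where
  carrier := {g | Pres g}
  one_mem' := fun i j => ⟨Iff.rfl, Iff.rfl⟩
  mul_mem' := fun {a b} ha hb i j =>
    ⟨(hb i j).1.trans (ha (b i) (b j)).1, (hb i j).2.trans (ha (b i) (b j)).2⟩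
  inv_mem' := fun {a} ha i j => by
    have h := ha (a⁻¹ i) (a⁻¹ j)
    simp only [Equiv.Perm.inv_def, Equiv.apply_symm_apply] at h
    exact ⟨h.1.symm, h.2.symm⟩

theorem mem_tree {g : Equiv.Perm (Fin 8)} : g ∈ tree ↔ Pres g := Iff.rfl

/-- The seven bits of an element. -/
def bits (g : Equiv.Perm (Fin 8)) : Fin 2 × Fin 2 × Fin 2 × Fin 2 × Fin 2 × Fin 2 × Fin 2 :=
  (⟨(g 0).val / 4 % 2, Nat.mod_lt _ (by norm_num)⟩, ⟨(g 0).val / 2 % 2, Nat.mod_lt _ (by norm_num)⟩,
    ⟨(g 4).val / 2 % 2, Nat.mod_lt _ (by norm_num)⟩, ⟨(g 0).val % 2, Nat.mod_lt _ (by norm_num)⟩,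
    ⟨(g 2).val % 2, Nat.mod_lt _ (by norm_num)⟩, ⟨(g 4).val % 2, Nat.mod_lt _ (by norm_num)⟩,
    ⟨(g 6).val % 2, Nat.mod_lt _ (by norm_num)⟩)

theorem bits_injective {g h : Equiv.Perm (Fin 8)} (hg : g ∈ tree) (hh : h ∈ tree)
    (he : bits g = bits h) : g = h := by
  simp only [bits, Prod.mk.injEq, Fin.mk.injEq] at he
  obtain ⟨b0, b1, b2, b3, b4, b5, b6⟩ := he
  have hne : ∀ (σ : Equiv.Perm (Fin 8)) (i j : Fin 8), i ≠ j → (σ i).val ≠ (σ j).val :=
    fun σ i j hij h => hij (σ.injective (Fin.ext h))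
  have g04 := (hg 0 4).2; have h04 := (hh 0 4).2
  have g02 := hg 0 2; have h02 := hh 0 2
  have g46 := hg 4 6; have h46 := hh 4 6
  have g01 := (hg 0 1).1; have h01 := (hh 0 1).1
  have g23 := (hg 2 3).1; have h23 := (hh 2 3).1
  have g45 := (hg 4 5).1; have h45 := (hh 4 5).1
  have g67 := (hg 6 7).1; have h67 := (hh 6 7).1
  simp only [Fin.isValue, show ((0 : Fin 8).val) = 0 from rfl, show ((1 : Fin 8).val) = 1 from rfl,
    show ((2 : Fin 8).val) = 2 from rfl, show ((3 : Fin 8).val) = 3 from rfl,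
    show ((4 : Fin 8).val) = 4 from rfl, show ((5 : Fin 8).val) = 5 from rfl,
    show ((6 : Fin 8).val) = 6 from rfl, show ((7 : Fin 8).val) = 7 from rfl,
    show (0:ℕ) / 2 = 0 from rfl, show (1:ℕ) / 2 = 0 from rfl, show (2:ℕ) / 2 = 1 from rfl,
    show (3:ℕ) / 2 = 1 from rfl, show (4:ℕ) / 2 = 2 from rfl, show (5:ℕ) / 2 = 2 from rfl,
    show (6:ℕ) / 2 = 3 from rfl, show (7:ℕ) / 2 = 3 from rfl, show (0:ℕ) / 4 = 0 from rfl,
    show (2:ℕ) / 4 = 0 from rfl, show (4:ℕ) / 4 = 1 from rfl, show (6:ℕ) / 4 = 1 from rfl]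
    at g04 h04 g02 h02 g46 h46 g01 h01 g23 h23 g45 h45 g67 h67
  norm_num at g04 h04 g02 h02 g46 h46 g01 h01 g23 h23 g45 h45 g67 h67
  have e0 : g 0 = h 0 := Fin.ext (by omega)
  have e4 : g 4 = h 4 := Fin.ext (by have := congrArg Fin.val e0; omega)
  have e2 : g 2 = h 2 := Fin.ext (by have := congrArg Fin.val e0; omega)
  have e6 : g 6 = h 6 := Fin.ext (by have := congrArg Fin.val e4; omega)
  have p0 := congrArg Fin.val e0
  have p2 := congrArg Fin.val e2
  have p4 := congrArg Fin.val e4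
  have p6 := congrArg Fin.val e6
  have e1 : g 1 = h 1 := Fin.ext (by
    have := hne g 0 1 (by decide); have := hne h 0 1 (by decide); omega)
  have e3 : g 3 = h 3 := Fin.ext (by
    have := hne g 2 3 (by decide); have := hne h 2 3 (by decide); omega)
  have e5 : g 5 = h 5 := Fin.ext (by
    have := hne g 4 5 (by decide); have := hne h 4 5 (by decide); omega)
  have e7 : g 7 = h 7 := Fin.ext (by
    have := hne g 6 7 (by decide); have := hne h 6 7 (by decide); omega)
  ext i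
  fin_cases i <;> simp_all

/-- The seven toggles. -/
def gens : List (Equiv.Perm (Fin 8)) :=
  [Equiv.swap 0 1, Equiv.swap 2 3, Equiv.swap 4 5, Equiv.swap 6 7,
    Equiv.swap 0 2 * Equiv.swap 1 3, Equiv.swap 4 6 * Equiv.swap 5 7,
    Equiv.swap 0 4 * Equiv.swap 1 5 * Equiv.swap 2 6 * Equiv.swap 3 7]

/-- An element with given exponents (the binary digits of `n`). -/
def elem (n : ℕ) : Equiv.Perm (Fin 8) :=
  ((List.range 7).map fun i => (gens.getD i 1) ^ (n / 2 ^ i % 2)).prod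

theorem gens_pres : ∀ t ∈ gens, Pres t := by
  intro t ht
  simp only [gens, List.mem_cons, List.not_mem_nil, or_false] at ht
  rcases ht with rfl | rfl | rfl | rfl | rfl | rfl | rfl <;> decide +kernel

theorem elem_mem (n : ℕ) : elem n ∈ tree := by
  refine list_prod_mem fun x hx => ?_
  obtain ⟨i, -, rfl⟩ := List.mem_map.1 hx
  refine pow_mem ?_ _
  rcases lt_or_ge i gens.length with h | h
  · rw [List.getD_eq_getElem _ _ h]
    exact gens_pres _ (List.getElem_mem h)
  · rw [List.getD_eq_default _ _ h]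
    exact one_mem _

/-- A numeric code of the bits. -/
def code (g : Equiv.Perm (Fin 8)) : ℕ :=
  let b := bits g
  b.1.val + 2 * (b.2.1.val + 2 * (b.2.2.1.val + 2 * (b.2.2.2.1.val + 2 * (b.2.2.2.2.1.val +
    2 * (b.2.2.2.2.2.1.val + 2 * b.2.2.2.2.2.2.val)))))

theorem code_nodup : ((List.range 128).map fun n => code (elem n)).Nodup := by
  decide +kernel

theorem elem_bits_injective : Function.Injective fun n : Fin 128 => bits (elem n.val) := by
  intro a b h
  have h2 := List.inj_on_of_nodup_map code_nodup (List.mem_range.2 a.isLt) (List.mem_range.2 b.isLt)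
    (by simpa [code] using congrArg (fun b : Fin 2 × Fin 2 × Fin 2 × Fin 2 × Fin 2 × Fin 2 × Fin 2 =>
      b.1.val + 2 * (b.2.1.val + 2 * (b.2.2.1.val + 2 * (b.2.2.2.1.val + 2 * (b.2.2.2.2.1.val +
        2 * (b.2.2.2.2.2.1.val + 2 * b.2.2.2.2.2.2.val)))))) h)
  exact Fin.ext h2

theorem card_tree : Nat.card tree = 128 := by
  refine le_antisymm ?_ ?_
  · refine le_trans (Nat.card_le_card_of_injective (fun g : tree => bits (g : Equiv.Perm (Fin 8)))
      fun g h he => Subtype.ext (bits_injective g.2 h.2 he)) ?_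
    simp [Nat.card_eq_fintype_card]
  · refine le_trans ?_ (Nat.card_le_card_of_injective
      (fun b : Fin 128 => (⟨elem b.val, elem_mem b.val⟩ : tree)) fun a b h =>
        elem_bits_injective (congrArg (fun g : tree => bits (g : Equiv.Perm (Fin 8))) h))
    simp [Nat.card_eq_fintype_card]

/-- Even elements of the tree stabilizer with fixed points, joining the points of a half. -/
def probes : List (Equiv.Perm (Fin 8)) :=
  [Equiv.swap 0 2 * Equiv.swap 1 3, Equiv.swap 0 3 * Equiv.swap 1 2,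
    Equiv.swap 4 6 * Equiv.swap 5 7, Equiv.swap 4 7 * Equiv.swap 5 6,
    Equiv.swap 0 1 * Equiv.swap 4 5, Equiv.swap 2 3 * Equiv.swap 6 7,
    Equiv.swap 0 1 * Equiv.swap 6 7, Equiv.swap 2 3 * Equiv.swap 4 5]

theorem probes_mem : ∀ t ∈ probes, Pres t ∧ Equiv.Perm.sign t = 1 := by
  intro t ht
  simp only [probes, List.mem_cons, List.not_mem_nil, or_false] at ht
  rcases ht with rfl | rfl | rfl | rfl | rfl | rfl | rfl | rfl <;>
    refine ⟨by decide +kernel, ?_⟩ <;>
    rw [map_mul, Equiv.Perm.sign_swap (by decide), Equiv.Perm.sign_swap (by decide)] <;> rfl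

theorem probe_half : ∀ i j : Fin 8, i.val / 4 = j.val / 4 → i ≠ j →
    ∃ t ∈ probes, t i = j ∧ ∃ k, t k = k := by decide +kernel

theorem probe_pair : ∀ i j : Fin 8, i.val / 2 = j.val / 2 → i ≠ j →
    ∃ t ∈ probes, t i = j ∧ ∃ k, t k = k ∧ k.val / 4 = i.val / 4 := by decide +kernel

theorem tree_half {u : Equiv.Perm (Fin 8)} (hu : u ∈ tree) {k : Fin 8} (hk : u k = k) (i : Fin 8) :
    (u i).val / 4 = i.val / 4 := by
  have h := (hu i k).2
  rw [hk] at h
  have := i.isLt; have := (u i).isLt; have := k.isLt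
  omega

theorem tree_pair {u : Equiv.Perm (Fin 8)} (hu : u ∈ tree) {k : Fin 8} (hk : u k = k) (i : Fin 8)
    (hki : k.val / 4 = i.val / 4) : (u i).val / 2 = i.val / 2 := by
  have h := (hu i k).1
  have h4 := tree_half hu hk i
  have hne : u i = k → i = k := fun h => u.injective (h.trans hk.symm)
  rw [hk] at h
  rcases eq_or_ne (u i) k with hik | hik
  · rw [hik, hne hik]
  · have := i.isLt; have := (u i).isLt; have := k.isLt
    have hv : (u i).val ≠ k.val := fun h => hik (Fin.ext h)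
    omega

theorem conj_preserves {σ : Equiv.Perm (Fin 8)}
    (hσ : ∀ t ∈ tree ⊓ alternatingGroup (Fin 8), σ * t * σ⁻¹ ∈ tree) (i j : Fin 8) :
    (i.val / 2 = j.val / 2 → (σ i).val / 2 = (σ j).val / 2) ∧
    (i.val / 4 = j.val / 4 → (σ i).val / 4 = (σ j).val / 4) := by
  have hu : ∀ t ∈ probes, σ * t * σ⁻¹ ∈ tree := fun t ht =>
    hσ t ⟨(probes_mem t ht).1, Equiv.Perm.mem_alternatingGroup.2 (probes_mem t ht).2⟩
  have hhalf : ∀ i j : Fin 8, i.val / 4 = j.val / 4 → (σ i).val / 4 = (σ j).val / 4 := by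
    intro i j hij
    rcases eq_or_ne i j with rfl | hne
    · rfl
    obtain ⟨t, ht, htij, k, hk⟩ := probe_half i j hij hne
    have := tree_half (hu t ht) (k := σ k) (by simp [hk]) (σ i)
    simpa [htij] using this.symm
  refine ⟨fun hij => ?_, hhalf i j⟩
  rcases eq_or_ne i j with rfl | hne
  · rfl
  obtain ⟨t, ht, htij, k, hk, hki⟩ := probe_pair i j hij hne
  have := tree_pair (hu t ht) (k := σ k) (by simp [hk]) (σ i) (hhalf k i hki)
  simpa [htij] using this.symm

theorem normalizer_le : normalizer ((tree ⊓ alternatingGroup (Fin 8) : Subgroup (Equiv.Perm (Fin 8))) :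
    Set (Equiv.Perm (Fin 8))) ≤ tree := by
  intro σ hσ
  have h1 : ∀ σ ∈ normalizer ((tree ⊓ alternatingGroup (Fin 8) : Subgroup (Equiv.Perm (Fin 8))) :
      Set (Equiv.Perm (Fin 8))), ∀ t ∈ tree ⊓ alternatingGroup (Fin 8), σ * t * σ⁻¹ ∈ tree :=
    fun σ hσ t ht => ((mem_normalizer_iff.1 hσ t).1 ht).1
  rw [mem_tree]
  intro i j
  refine ⟨⟨(conj_preserves (h1 σ hσ) i j).1, fun h => ?_⟩,
    ⟨(conj_preserves (h1 σ hσ) i j).2, fun h => ?_⟩⟩
  · simpa using (conj_preserves (h1 σ⁻¹ (inv_mem hσ)) (σ i) (σ j)).1 h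
  · simpa using (conj_preserves (h1 σ⁻¹ (inv_mem hσ)) (σ i) (σ j)).2 h

/-- An even permutation of 8 points normalizing an even 2-subgroup of order 64 lies in it. -/
theorem mem_of_normalize {P : Subgroup (Equiv.Perm (Fin 8))} (hP : P ≤ alternatingGroup (Fin 8))
    (hcard : Nat.card P = 64) {g : Equiv.Perm (Fin 8)} (hg : g ∈ alternatingGroup (Fin 8))
    (hgn : g ∈ normalizer (P : Set (Equiv.Perm (Fin 8)))) : g ∈ P := by
  haveI : Fact (Nat.Prime 2) := ⟨Nat.prime_two⟩
  have htp : IsPGroup 2 tree := IsPGroup.of_card (n := 7) (by rw [card_tree]; norm_num)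
  have hidx : ¬ 2 ∣ tree.index := by
    have h := tree.card_mul_index
    have h8 : Nat.card (Equiv.Perm (Fin 8)) = 40320 := by
      rw [Nat.card_perm, Nat.card_eq_fintype_card, Fintype.card_fin]; rfl
    rw [card_tree, h8] at h
    omega
  obtain ⟨Q, hQ⟩ := (IsPGroup.of_card (n := 6) (by rw [hcard]; norm_num) : IsPGroup 2 P).exists_le_sylow
  obtain ⟨c, hc⟩ := MulAction.exists_smul_eq (Equiv.Perm (Fin 8)) Q (htp.toSylow hidx)
  set P' := P.map (MulAut.conj c).toMonoidHom with hP'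
  have hle : P' ≤ tree ⊓ alternatingGroup (Fin 8) := by
    refine le_inf ?_ ?_
    · have : ((c • Q : Sylow 2 (Equiv.Perm (Fin 8))) : Subgroup (Equiv.Perm (Fin 8))) = tree := by
        rw [hc]; rfl
      rw [← this, Sylow.coe_subgroup_smul]
      exact map_mono hQ
    · rintro _ ⟨x, hx, rfl⟩
      exact Normal.conj_mem inferInstance x (hP hx) c
  have hlt : Nat.card ↥(tree ⊓ alternatingGroup (Fin 8)) ≤ 64 := by
    obtain ⟨j, -, hj⟩ := (Nat.dvd_prime_pow Nat.prime_two).1
      (show Nat.card ↥(tree ⊓ alternatingGroup (Fin 8)) ∣ 2 ^ 7 by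
        rw [show (2:ℕ) ^ 7 = Nat.card tree by rw [card_tree]; norm_num]
        exact card_dvd_of_le inf_le_left)
    have hne : Nat.card ↥(tree ⊓ alternatingGroup (Fin 8)) ≠ 2 ^ 7 := by
      intro h
      have heq : tree ⊓ alternatingGroup (Fin 8) = tree :=
        eq_of_le_of_card_ge inf_le_left (by rw [card_tree, h]; norm_num)
      have hmem : Equiv.swap (0 : Fin 8) 1 ∈ tree := by rw [mem_tree]; decide +kernel
      rw [← heq] at hmem
      have h2 := Equiv.Perm.mem_alternatingGroup.1 hmem.2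
      rw [Equiv.Perm.sign_swap (by decide)] at h2
      exact absurd h2 (by decide)
    rw [hj]
    have hd : 2 ^ j ∣ 2 ^ 7 := by
      rw [← hj, show (2:ℕ) ^ 7 = Nat.card tree by rw [card_tree]; norm_num]
      exact card_dvd_of_le inf_le_left
    have : j ≤ 7 := (Nat.pow_dvd_pow_iff_le_right (by norm_num)).1 hd
    have : j ≠ 7 := fun h => hne (h ▸ hj)
    calc 2 ^ j ≤ 2 ^ 6 := Nat.pow_le_pow_right (by norm_num) (by omega)
      _ = 64 := by norm_num
  have heq : P' = tree ⊓ alternatingGroup (Fin 8) := eq_of_le_of_card_ge hle (by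
    rw [hP', card_map_of_injective (f := (MulAut.conj c).toMonoidHom) (MulAut.conj c).injective, hcard]
    exact hlt)
  have hgn' : c * g * c⁻¹ ∈ normalizer (P' : Set (Equiv.Perm (Fin 8))) :=
    le_normalizer_map (MulAut.conj c).toMonoidHom ⟨g, hgn, rfl⟩
  have hmem : c * g * c⁻¹ ∈ P' := by
    rw [heq] at hgn' ⊢
    exact ⟨normalizer_le hgn', Normal.conj_mem inferInstance g hg c⟩
  obtain ⟨x, hx, hxe⟩ := hmem
  have : x = g := by simpa using hxe
  exact this ▸ hx

end CfsgLib.SylowTwoEight
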