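import Cfsg.Agent.Golay.M24Basics
import Cfsg.Agent.Golay.SylowTwoEight

/-!
A Sylow 2-subgroup of the group of the code is self-normalizing.
-/

set_option autoImplicit false
set_option linter.style.haveILetI false

namespace CfsgLib.Golay

open Cfsg Subgroup
open scoped Pointwise

unseal tableL in
theorem kernel_table : ∀ e ∈ orb 6, ∀ x < 24, baseOctad.testBit x = true →
    (tableL.getD e.2 (List.range 24)).getD x 0 = x := by decide +kernel

theorem mem_baseOctad {p : GolayPt} : p ∈ pts baseOctad ↔ baseOctad.testBit (idx p) = true := by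
  simp [pts]

theorem St_six_fixes {g : Equiv.Perm GolayPt} (hg : g ∈ St 6) {p : GolayPt}
    (hp : p ∈ pts baseOctad) : g p = p := by
  obtain ⟨hgM, hfix⟩ := mem_St.1 hg
  obtain ⟨e, he, hx⟩ := orbit_covers (k := 6) (by norm_num) (M24_le_octAut hgM) hfix
  have he6 : elt e.2 ∈ St 6 := mem_St.2 ⟨elt_mem_M24 _, (orb_apply (by norm_num) he).2⟩
  have h1 : (elt e.2)⁻¹ * g = 1 := by
    have hmem : (elt e.2)⁻¹ * g ∈ St 7 := by
      refine St_succ_iff.2 ⟨mul_mem (inv_mem he6) hg, ?_⟩
      rw [Equiv.Perm.mul_apply, ← hx, Equiv.Perm.inv_def, Equiv.symm_apply_apply]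
    refine octAut_rigid (M24_le_octAut (mem_St.1 hmem).1) (mem_St.1 hmem).2
  rw [show g = elt e.2 from (inv_mul_eq_one.1 h1).symm]
  apply idx_injective
  rw [idx_elt]
  exact kernel_table e he _ (idx_lt p) (mem_baseOctad.1 hp)

theorem bp_five_mem : bp 5 ∈ pts baseOctad := by
  rw [mem_baseOctad, idx_bp 5 (by norm_num)]
  exact baseOctad_spec.2.2.2.2

theorem mem_St_six_iff {g : Equiv.Perm GolayPt} (hg : g ∈ M24) :
    g ∈ St 6 ↔ ∀ p ∈ pts baseOctad, g p = p := by
  refine ⟨fun h p hp => St_six_fixes h hp, fun h => mem_St.2 ⟨hg, fun j hj => ?_⟩⟩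
  rcases lt_or_ge j 5 with h5 | h5
  · exact h _ (bp_mem_baseOctad j h5)
  · obtain rfl : j = 5 := by omega
    exact h _ bp_five_mem

/-- The octad stabilizer. -/
def octadStab : Subgroup M24 := MulAction.stabilizer M24 (pts baseOctad)

theorem index_octadStab : octadStab.index = 759 := by
  rw [octadStab, MulAction.index_stabilizer, ← octad_count]
  congr 1
  ext o
  constructor
  · rintro ⟨g, rfl⟩
    show g • pts baseOctad ∈ octads
    rw [smul_finset_eq_image]
    exact M24_octad g.2 pts_baseOctad_mem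
  · intro ho
    obtain ⟨g, hg⟩ := octad_transitive pts_baseOctad_mem ho
    exact ⟨g, hg⟩

theorem octadStab_apply_mem_iff (g : octadStab) (p : GolayPt) :
    ((g : M24) : Equiv.Perm GolayPt) p ∈ pts baseOctad ↔ p ∈ pts baseOctad := by
  have h : (g : M24) • pts baseOctad = pts baseOctad := g.2
  rw [smul_finset_eq_image] at h
  conv_lhs => rw [← h]
  simp

/-- The action on the base octad, numbered. -/
noncomputable def octadPerm : octadStab →* Equiv.Perm (Fin 8) where
  toFun g := (Fintype.equivFinOfCardEq (by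
      rw [Fintype.card_coe]
      exact octad_card pts_baseOctad_mem : Fintype.card (pts baseOctad) = 8)).permCongr
    (((g : M24) : Equiv.Perm GolayPt).subtypePerm (fun p => octadStab_apply_mem_iff g p))
  map_one' := by
    ext i
    simp
  map_mul' x y := by
    ext i
    simp

theorem mem_ker_octadPerm (g : octadStab) :
    g ∈ octadPerm.ker ↔ ∀ p ∈ pts baseOctad, ((g : M24) : Equiv.Perm GolayPt) p = p := by
  rw [MonoidHom.mem_ker]
  constructor
  · intro h p hp
    set e := (Fintype.equivFinOfCardEq (by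
      rw [Fintype.card_coe]
      exact octad_card pts_baseOctad_mem : Fintype.card (pts baseOctad) = 8))
    have h2 : e.permCongr (((g : M24) : Equiv.Perm GolayPt).subtypePerm (fun p => octadStab_apply_mem_iff g p)) = 1 := h
    have h3 := congrArg (fun σ : Equiv.Perm (Fin 8) => e.symm (σ (e ⟨p, hp⟩))) h2
    simpa [Subtype.ext_iff] using h3
  · intro h
    ext i
    simp only [octadPerm, MonoidHom.coe_mk, OneHom.coe_mk, Equiv.permCongr_apply,
      Equiv.Perm.one_apply]
    rw [show ∀ q : pts baseOctad, ((g : M24) : Equiv.Perm GolayPt).subtypePerm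
      (fun p => octadStab_apply_mem_iff g p) q = q from fun q => Subtype.ext (h q q.2),
      Equiv.apply_symm_apply]

theorem card_ker_octadPerm : Nat.card octadPerm.ker = 16 := by
  have h16 : Nat.card (St 6) = 16 := by simpa using card_St 6 (by norm_num)
  rw [← h16]
  have hmem : ∀ g : St 6, (⟨(g : Equiv.Perm GolayPt), (mem_St.1 g.2).1⟩ : M24) ∈ octadStab := by
    intro g
    show _ • pts baseOctad = pts baseOctad
    rw [smul_finset_eq_image]
    exact fixed_baseOctad (M24_le_octAut (mem_St.1 g.2).1) fun j hj => (mem_St.1 g.2).2 j (by omega)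
  refine Nat.card_congr
    { toFun := fun g => ⟨((g.1 : M24) : Equiv.Perm GolayPt),
        (mem_St_six_iff (g.1 : M24).2).2 ((mem_ker_octadPerm g.1).1 g.2)⟩
      invFun := fun g => ⟨⟨_, hmem g⟩, (mem_ker_octadPerm _).2 fun p hp => St_six_fixes g.2 hp⟩
      left_inv := fun g => by ext; rfl
      right_inv := fun g => by ext; rfl }

theorem card_octadStab : Nat.card octadStab = 322560 := by
  have h1 := octadStab.card_mul_index
  rw [index_octadStab, card_M24] at h1
  exact Nat.eq_of_mul_eq_mul_right (show 0 < 759 by norm_num) (h1.trans (by norm_num))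

theorem range_octadPerm :
    octadPerm.range = alternatingGroup (Fin 8) ∧ Nat.card octadPerm.range = 20160 := by
  have h2 := octadPerm.ker.card_mul_index
  rw [card_ker_octadPerm, Subgroup.index_ker, card_octadStab] at h2
  have hcard : Nat.card octadPerm.range = 20160 :=
    Nat.eq_of_mul_eq_mul_left (show 0 < 16 by norm_num) (h2.trans (by norm_num))
  refine ⟨Equiv.Perm.eq_alternatingGroup_of_index_eq_two ?_, hcard⟩
  have h3 := octadPerm.range.card_mul_index
  have h8 : Nat.card (Equiv.Perm (Fin 8)) = 40320 := by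
    rw [Nat.card_perm, Nat.card_eq_fintype_card, Fintype.card_fin]; rfl
  rw [hcard, h8] at h3
  exact Nat.eq_of_mul_eq_mul_left (show 0 < 20160 by norm_num) (h3.trans (by norm_num))

theorem normalizer_sylow_two (S : Sylow 2 M24) :
    normalizer ((S : Subgroup M24) : Set M24) = (S : Subgroup M24) := by
  classical
  haveI : Fact (Nat.Prime 2) := ⟨Nat.prime_two⟩
  obtain ⟨P⟩ := (inferInstance : Nonempty (Sylow 2 octadStab))
  have hPidx : ¬ 2 ∣ ((P : Subgroup octadStab).map octadStab.subtype).index := by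
    rw [index_map_subtype, index_octadStab]
    intro h
    exact P.not_dvd_index ((Nat.prime_two.dvd_mul.1 h).resolve_right (by norm_num))
  set S₀ : Sylow 2 M24 := (P.2.map octadStab.subtype).toSylow hPidx with hS₀
  suffices hmain : normalizer ((S₀ : Subgroup M24) : Set M24) ≤ (S₀ : Subgroup M24) by
    obtain ⟨c, rfl⟩ := MulAction.exists_smul_eq M24 S₀ S
    refine le_antisymm (fun g hg => ?_) le_normalizer
    have h1 : c⁻¹ * g * c ∈ normalizer ((S₀ : Subgroup M24) : Set M24) := by
      rw [mem_normalizer_iff]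
      intro x
      have h2 := (mem_normalizer_iff.1 hg) (c * x * c⁻¹)
      simp only [Sylow.coe_subgroup_smul, mem_pointwise_smul_iff_inv_smul_mem] at h2
      simpa [mul_assoc] using h2
    have h3 := hmain h1
    rw [Sylow.coe_subgroup_smul, mem_pointwise_smul_iff_inv_smul_mem]
    simpa [mul_assoc] using h3
  have hker : octadPerm.ker ≤ (P : Subgroup octadStab) := by
    obtain ⟨P', hP'⟩ := (IsPGroup.of_card (n := 4)
      (by rw [card_ker_octadPerm]; norm_num) : IsPGroup 2 octadPerm.ker).exists_le_sylow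
    obtain ⟨c, rfl⟩ := MulAction.exists_smul_eq octadStab P' P
    intro x hx
    rw [Sylow.coe_subgroup_smul, mem_pointwise_smul_iff_inv_smul_mem]
    exact hP' (by simpa using Normal.conj_mem inferInstance x hx c⁻¹)
  intro g hg
  -- `g` fixes the octad
  have hgO : g ∈ octadStab := by
    show g • pts baseOctad = pts baseOctad
    rw [smul_finset_eq_image]
    refine Finset.eq_of_subset_of_card_le ?_ (by
      rw [Finset.card_image_of_injective _ (g : Equiv.Perm GolayPt).injective])
    intro y hy
    obtain ⟨x, hx, rfl⟩ := Finset.mem_image.1 hy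
    by_contra hgx
    have hall : ∀ z : GolayPt, z ∉ pts baseOctad →
        (((g : M24) : Equiv.Perm GolayPt)⁻¹ : Equiv.Perm GolayPt) z ∈ pts baseOctad := by
      intro z hz
      have hcov : ∀ z : GolayPt, z ∉ pts baseOctad →
          ∃ e ∈ orb 6, elt e.2 (bp 6) = z := by
        intro z hz
        rw [mem_baseOctad, Bool.not_eq_true] at hz
        obtain ⟨e, he, hez⟩ := List.mem_map.1 (orb_six _ (idx_lt z) hz)
        exact ⟨e, he, idx_injective ((orb_apply (by norm_num) he).1.trans hez)⟩
      obtain ⟨e₁, he₁, hz₁⟩ := hcov _ hgx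
      obtain ⟨e₂, he₂, hz₂⟩ := hcov z hz
      have hk : elt e₂.2 * (elt e₁.2)⁻¹ ∈ St 6 :=
        mul_mem (mem_St.2 ⟨elt_mem_M24 _, (orb_apply (by norm_num) he₂).2⟩)
          (inv_mem (mem_St.2 ⟨elt_mem_M24 _, (orb_apply (by norm_num) he₁).2⟩))
      set k : M24 := ⟨_, (mem_St.1 hk).1⟩ with hkdef
      have hkO : k ∈ octadStab := by
        show k • pts baseOctad = pts baseOctad
        rw [smul_finset_eq_image]
        exact fixed_baseOctad (M24_le_octAut (mem_St.1 hk).1) fun j hj =>
          (mem_St.1 hk).2 j (by omega)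
      have hkS : k ∈ (S₀ : Subgroup M24) :=
        ⟨⟨k, hkO⟩, hker ((mem_ker_octadPerm _).2 fun p hp => St_six_fixes hk hp), rfl⟩
      have h2 : g⁻¹ * k * g ∈ (S₀ : Subgroup M24) := (mem_normalizer_iff''.1 hg k).1 hkS
      obtain ⟨q, -, hq⟩ := h2
      have h3 := (octadStab_apply_mem_iff q x).2 hx
      have h4 : ((q : M24) : Equiv.Perm GolayPt) x = ((g : M24) : Equiv.Perm GolayPt)⁻¹ z := by
        rw [show (q : M24) = g⁻¹ * k * g from hq]
        rw [hkdef]
        simp only [Subgroup.coe_mul, InvMemClass.coe_inv, Equiv.Perm.mul_apply]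
        congr 1
        rw [← hz₁, Equiv.Perm.inv_def, Equiv.symm_apply_apply, hz₂]
      rwa [h4] at h3
    have hsub : ((pts baseOctad)ᶜ).image (⇑((((g : M24) : Equiv.Perm GolayPt)⁻¹ : Equiv.Perm GolayPt))) ⊆
        pts baseOctad := by
      intro w hw
      obtain ⟨z, hz, rfl⟩ := Finset.mem_image.1 hw
      exact hall z (Finset.mem_compl.1 hz)
    have := Finset.card_le_card hsub
    rw [Finset.card_image_of_injective _ (Equiv.injective _), Finset.card_compl,
      octad_card pts_baseOctad_mem, card_golayPt] at this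
    omega
  -- inside the octad stabilizer
  set g' : octadStab := ⟨g, hgO⟩
  have hgP : g' ∈ normalizer ((P : Subgroup octadStab) : Set octadStab) := by
    rw [mem_normalizer_iff]
    intro x
    have h := (mem_normalizer_iff.1 hg) (x : M24)
    have hS : ∀ y : octadStab, (y : M24) ∈ (S₀ : Subgroup M24) ↔ y ∈ (P : Subgroup octadStab) :=
      fun y => ⟨fun ⟨w, hw, hwy⟩ => Subtype.ext hwy ▸ hw, fun hy => ⟨y, hy, rfl⟩⟩
    rw [hS] at h
    exact h.trans (hS (g' * x * g'⁻¹))
  set Pb := (P : Subgroup octadStab).map octadPerm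
  obtain ⟨hrange, hrcard⟩ := range_octadPerm
  have hPb : Pb ≤ alternatingGroup (Fin 8) := hrange ▸ Subgroup.map_le_range octadPerm _
  have hgA : octadPerm g' ∈ alternatingGroup (Fin 8) := hrange ▸ ⟨g', rfl⟩
  have hcard : Nat.card Pb = 64 := by
    have hP : Nat.card (P : Subgroup octadStab) = 1024 := by
      rw [Sylow.card_eq_multiplicity, card_octadStab,
        show (322560 : ℕ) = 2 ^ 10 * 315 by norm_num, Nat.factorization_mul (by norm_num) (by norm_num)]
      rw [Finsupp.add_apply, Nat.factorization_pow, Finsupp.smul_apply,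
        Nat.Prime.factorization_self Nat.prime_two,
        Nat.factorization_eq_zero_of_not_dvd (show ¬ 2 ∣ 315 by norm_num)]
      norm_num
    have h2 := (octadPerm.ker.subgroupOf (P : Subgroup octadStab)).card_mul_index
    rw [Nat.card_congr (subgroupOfEquivOfLe hker).toEquiv, card_ker_octadPerm, hP] at h2
    have h3 : (octadPerm.ker.subgroupOf (P : Subgroup octadStab)).index = Nat.card Pb :=
      Subgroup.relIndex_ker _ octadPerm
    omega
  have hn : octadPerm g' ∈ normalizer (Pb : Set (Equiv.Perm (Fin 8))) :=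
    le_normalizer_map octadPerm ⟨g', hgP, rfl⟩
  obtain ⟨y, hy, hye⟩ := SylowTwoEight.mem_of_normalize hPb hcard hgA hn
  have hdiff : y⁻¹ * g' ∈ octadPerm.ker := by
    rw [MonoidHom.mem_ker, map_mul, map_inv, hye, inv_mul_cancel]
  have : g' ∈ (P : Subgroup octadStab) := by
    simpa using (P : Subgroup octadStab).mul_mem hy (hker hdiff)
  exact ⟨g', this, rfl⟩

end CfsgLib.Golay
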