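/-!
Certificate data for the Sylow 2-subgroups of some Mathieu groups: a polycyclic series, a central
involution, derivations of the series from conjugates of it, and isolated conjugacy classes.
-/

set_option autoImplicit false

namespace CfsgLib.Golay.SylowCert

def m24Pc : List (List Nat) :=
  [[0, 1, 2, 5, 4, 3, 21, 19, 11, 10, 9, 8, 18, 13, 17, 20, 16, 14, 12, 7, 15, 6, 22, 23],
   [0, 1, 4, 7, 2, 19, 21, 3, 15, 9, 10, 20, 12, 13, 17, 8, 23, 14, 18, 5, 11, 6, 22, 16],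
   [0, 1, 16, 7, 23, 19, 6, 3, 11, 12, 18, 8, 9, 13, 14, 20, 2, 17, 10, 5, 15, 21, 22, 4],
   [0, 1, 8, 10, 20, 12, 21, 18, 16, 5, 7, 2, 19, 13, 17, 4, 11, 14, 3, 9, 23, 6, 22, 15],
   [0, 22, 2, 9, 23, 10, 6, 12, 8, 3, 5, 11, 7, 13, 17, 20, 16, 14, 19, 18, 15, 21, 1, 4],
   [0, 6, 2, 7, 8, 12, 1, 3, 4, 19, 18, 23, 5, 13, 14, 15, 16, 17, 10, 9, 20, 22, 21, 11],
   [13, 1, 2, 12, 23, 18, 21, 9, 8, 7, 19, 11, 3, 0, 14, 20, 16, 17, 5, 10, 15, 6, 22, 4],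
   [14, 1, 2, 10, 8, 19, 6, 18, 4, 12, 3, 23, 9, 17, 0, 15, 16, 13, 7, 5, 20, 21, 22, 11],
   [1, 0, 2, 7, 4, 19, 17, 3, 11, 9, 10, 8, 12, 22, 21, 20, 16, 6, 18, 5, 15, 14, 13, 23],
   [3, 5, 2, 17, 23, 21, 9, 14, 11, 22, 0, 8, 1, 7, 18, 15, 16, 10, 13, 6, 20, 12, 19, 4]]

def m24Z : List Nat :=
  [13, 22, 2, 7, 4, 19, 21, 3, 8, 12, 18, 11, 9, 0, 17, 15, 16, 14, 10, 5, 20, 6, 1, 23]

def m24Steps : List (Bool × List Nat × Nat × Nat) :=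
  [(true, [1, 22, 8, 5, 15, 21, 13, 6, 20, 17, 14, 23, 3, 9, 0, 16, 4, 10, 7, 19, 11, 18, 12, 2], 0, 0),
   (true, [23, 22, 9, 1, 17, 4, 15, 21, 19, 7, 2, 13, 18, 11, 10, 0, 14, 3, 16, 8, 12, 20, 6, 5], 0, 0),
   (true, [17, 19, 11, 21, 15, 22, 7, 18, 4, 0, 9, 20, 5, 12, 6, 16, 8, 10, 14, 3, 23, 1, 13, 2], 0, 0),
   (true, [15, 14, 13, 11, 16, 21, 7, 8, 4, 5, 10, 1, 3, 20, 18, 22, 2, 12, 9, 6, 23, 19, 17, 0], 0, 0),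
   (true, [13, 21, 19, 8, 18, 23, 22, 15, 3, 11, 16, 5, 20, 1, 17, 10, 7, 6, 4, 2, 12, 0, 14, 9], 0, 0),
   (false, [], 1, 2),
   (false, [], 6, 4),
   (false, [], 7, 1),
   (false, [], 8, 2),
   (false, [], 9, 4),
   (false, [], 10, 5),
   (false, [], 11, 2),
   (false, [], 12, 4),
   (false, [], 13, 2),
   (false, [], 0, 2),
   (false, [], 15, 4),
   (false, [], 16, 2),
   (false, [], 17, 5),
   (false, [], 18, 2),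
   (false, [], 19, 4),
   (false, [], 20, 2),
   (false, [], 21, 5),
   (false, [], 6, 3),
   (false, [], 23, 5),
   (false, [], 24, 2),
   (false, [], 25, 4),
   (false, [], 2, 4),
   (false, [], 27, 2),
   (false, [], 16, 5),
   (false, [], 29, 2),
   (false, [], 30, 4),
   (false, [], 31, 2),
   (false, [], 32, 5),
   (false, [], 6, 1),
   (false, [], 34, 4),
   (false, [], 35, 5),
   (false, [], 36, 2),
   (false, [], 37, 4),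
   (false, [], 38, 2),
   (false, [], 39, 5),
   (false, [], 1, 4),
   (false, [], 41, 1),
   (false, [], 2, 1),
   (false, [], 43, 4),
   (false, [], 44, 2),
   (false, [], 45, 4)]

def m22Pc : List (List Nat) :=
  [[0, 1, 2, 22, 5, 4, 11, 8, 7, 9, 10, 6, 21, 17, 16, 15, 14, 13, 19, 18, 20, 12, 3, 23],
   [0, 1, 9, 3, 8, 7, 11, 5, 4, 2, 20, 6, 12, 19, 16, 15, 14, 18, 17, 13, 10, 21, 22, 23],
   [0, 1, 3, 2, 18, 17, 6, 13, 19, 22, 21, 11, 20, 7, 14, 15, 16, 5, 4, 8, 12, 10, 9, 23],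
   [0, 1, 10, 12, 4, 5, 11, 7, 8, 20, 2, 6, 3, 18, 16, 15, 14, 19, 13, 17, 9, 22, 21, 23],
   [0, 1, 4, 13, 10, 2, 11, 20, 9, 7, 5, 6, 17, 21, 16, 15, 14, 22, 12, 3, 8, 19, 18, 23],
   [0, 15, 2, 18, 4, 5, 6, 8, 7, 20, 10, 11, 13, 12, 16, 1, 14, 21, 3, 22, 9, 17, 19, 23],
   [0, 14, 2, 12, 5, 4, 11, 20, 9, 7, 10, 6, 18, 3, 15, 16, 1, 19, 13, 21, 8, 22, 17, 23]]

def m22Z : List Nat :=
  [0, 1, 10, 21, 5, 4, 6, 8, 7, 20, 2, 11, 22, 19, 14, 15, 16, 18, 17, 13, 9, 3, 12, 23]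

def m22Steps : List (Bool × List Nat × Nat × Nat) :=
  [(true, [0, 6, 17, 3, 22, 18, 16, 5, 20, 9, 12, 14, 10, 2, 11, 1, 15, 21, 19, 7, 4, 13, 8, 23], 0, 0),
   (true, [0, 15, 10, 6, 5, 7, 21, 8, 4, 2, 20, 3, 16, 13, 12, 1, 22, 18, 17, 19, 9, 11, 14, 23], 0, 0),
   (true, [0, 7, 5, 12, 20, 9, 16, 6, 11, 15, 4, 14, 19, 21, 2, 8, 10, 22, 18, 13, 1, 17, 3, 23], 0, 0),
   (true, [0, 6, 22, 2, 10, 17, 1, 20, 19, 3, 7, 11, 13, 21, 15, 14, 16, 8, 12, 5, 4, 18, 9, 23], 0, 0),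
   (true, [0, 10, 22, 14, 19, 13, 11, 7, 9, 8, 12, 6, 21, 3, 5, 4, 2, 15, 16, 17, 20, 1, 18, 23], 0, 0),
   (false, [], 5, 3),
   (false, [], 6, 5),
   (false, [], 0, 5),
   (false, [], 8, 4),
   (false, [], 9, 5),
   (false, [], 4, 2),
   (false, [], 11, 4),
   (false, [], 1, 2),
   (false, [], 3, 5),
   (false, [], 14, 3),
   (false, [], 15, 5)]

def m22Reps : List (List Nat) :=
  [[0, 1, 2, 22, 5, 4, 11, 8, 7, 9, 10, 6, 21, 17, 16, 15, 14, 13, 19, 18, 20, 12, 3, 23],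
   [0, 14, 3, 20, 17, 18, 11, 12, 22, 13, 21, 6, 4, 2, 15, 16, 1, 8, 7, 10, 19, 9, 5, 23],
   [0, 14, 2, 12, 5, 4, 11, 20, 9, 7, 10, 6, 18, 3, 15, 16, 1, 19, 13, 21, 8, 22, 17, 23]]

def m22RepSteps : List (Bool × List Nat × Nat × Nat) :=
  [(false, [], 0, 2),
   (false, [], 3, 2),
   (false, [], 4, 1),
   (false, [], 5, 1),
   (false, [], 1, 0),
   (false, [], 7, 2),
   (false, [], 8, 0),
   (false, [], 0, 1),
   (false, [], 10, 1),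
   (false, [], 11, 1),
   (false, [], 12, 1),
   (false, [], 10, 0),
   (false, [], 14, 1),
   (false, [], 15, 0),
   (false, [], 2, 2)]

def m22Labels : List Nat :=
  [16, 64, 128, 256]

def m12Pc : List (List Nat) :=
  [[0, 1, 4, 16, 2, 19, 8, 23, 6, 9, 22, 11, 13, 12, 14, 21, 3, 17, 18, 5, 20, 15, 10, 7],
   [0, 9, 2, 16, 4, 19, 12, 7, 13, 1, 15, 14, 6, 8, 11, 10, 3, 17, 18, 5, 20, 22, 21, 23],
   [0, 2, 1, 16, 9, 5, 13, 14, 8, 4, 21, 23, 12, 6, 7, 15, 3, 20, 18, 19, 17, 10, 22, 11],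
   [18, 1, 2, 16, 4, 19, 13, 7, 12, 9, 21, 11, 8, 6, 14, 22, 3, 20, 0, 5, 17, 10, 15, 23],
   [3, 1, 2, 18, 4, 17, 8, 23, 13, 9, 15, 14, 6, 12, 11, 21, 0, 19, 16, 20, 5, 22, 10, 7],
   [6, 1, 2, 12, 4, 10, 18, 11, 3, 9, 19, 7, 16, 0, 23, 17, 8, 22, 13, 21, 15, 5, 20, 14]]

def m12Z : List Nat :=
  [18, 1, 2, 16, 4, 19, 13, 7, 12, 9, 21, 11, 8, 6, 14, 22, 3, 20, 0, 5, 17, 10, 15, 23]

def m12Steps : List (Bool × List Nat × Nat × Nat) :=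
  [(true, [3, 1, 0, 8, 9, 7, 4, 20, 13, 18, 5, 17, 12, 2, 14, 10, 6, 21, 16, 23, 15, 19, 22, 11], 0, 0),
   (true, [13, 2, 4, 3, 8, 23, 16, 11, 9, 12, 5, 21, 1, 0, 14, 22, 18, 20, 6, 7, 19, 17, 15, 10], 0, 0),
   (true, [16, 8, 9, 3, 1, 19, 2, 21, 6, 12, 22, 7, 13, 4, 23, 14, 0, 20, 18, 17, 5, 15, 11, 10], 0, 0),
   (true, [4, 3, 13, 0, 16, 11, 2, 20, 12, 6, 7, 17, 8, 1, 21, 5, 18, 22, 9, 23, 15, 14, 19, 10], 0, 0),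
   (false, [], 0, 3),
   (false, [], 5, 4),
   (true, [13, 8, 16, 0, 3, 19, 9, 20, 1, 12, 7, 15, 4, 2, 22, 14, 18, 10, 6, 5, 21, 11, 23, 17], 6, 0),
   (false, [], 2, 1),
   (false, [], 8, 3),
   (false, [], 0, 4),
   (false, [], 3, 1)]

def m12Reps : List (List Nat) :=
  [[18, 1, 2, 16, 4, 19, 13, 7, 12, 9, 21, 11, 8, 6, 14, 22, 3, 20, 0, 5, 17, 10, 15, 23],
   [0, 2, 9, 3, 1, 19, 8, 11, 13, 4, 22, 23, 6, 12, 7, 10, 16, 20, 18, 5, 17, 15, 21, 14],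
   [6, 2, 9, 12, 1, 21, 3, 7, 0, 4, 20, 14, 18, 16, 11, 19, 8, 15, 13, 10, 22, 17, 5, 23],
   [0, 1, 4, 16, 2, 19, 8, 23, 6, 9, 22, 11, 13, 12, 14, 21, 3, 17, 18, 5, 20, 15, 10, 7]]

def m12RepSteps : List (Bool × List Nat × Nat × Nat) :=
  [(false, [], 1, 1),
   (false, [], 4, 3),
   (false, [], 1, 3),
   (false, [], 4, 2),
   (false, [], 7, 2),
   (false, [], 1, 2),
   (false, [], 9, 2),
   (false, [], 10, 2)]

def m12Labels : List Nat :=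
  [16, 17, 32, 33]

end CfsgLib.Golay.SylowCert
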