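import Cfsg.Agent.Golay.SylowCert
import Cfsg.Agent.Golay.SylowCertData
import Cfsg.Agent.Golay.M24SylowTwo

/-!
The 2-fusion systems of M₁₂, M₂₂, M₂₃ and M₂₄ are simple, from the Sylow certificates.
-/

set_option autoImplicit false

namespace CfsgLib.Golay.SylowCert

open Cfsg MulAction
open scoped Pointwise

theorem permL_fix {L : List ℕ} (h : Good L) (hl : L.length = 24) {q : GolayPt}
    (hq : L.getD (idx q) 0 = idx q) : permL L q = q :=
  idx_injective (by rw [← toList_getD_idx, toList_permL h hl, hq])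

theorem permL_mem_M24 {L : List ℕ} (h : Good L) (hl : L.length = 24) (hp : PreservesCode L) :
    permL L ∈ M24 :=
  mem_M24_of_preserves _ (by rwa [toList_permL h hl])

/-- A list fixing the two base points and preserving the code. -/
def In22 (L : List ℕ) : Prop :=
  Good L ∧ L.length = 24 ∧ PreservesCode L ∧
    L.getD (idx none) 0 = idx none ∧ L.getD (idx (some 0)) 0 = idx (some 0)

/-- A list preserving the code and the dodecad of squares. -/
def In12 (L : List ℕ) : Prop :=
  Good L ∧ L.length = 24 ∧ PreservesCode L ∧ permMask L squareMask 24 = squareMask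

instance (L : List ℕ) : Decidable (In22 L) := by unfold In22 PreservesCode; infer_instance
instance (L : List ℕ) : Decidable (In12 L) := by unfold In12 PreservesCode; infer_instance

theorem permL_mem_M22 {L : List ℕ} (h : In22 L) : permL L ∈ Spor.M22 :=
  ⟨⟨permL_mem_M24 h.1 h.2.1 h.2.2.1, permL_fix h.1 h.2.1 h.2.2.2.1⟩,
    permL_fix h.1 h.2.1 h.2.2.2.2⟩

theorem permL_mem_M12 {L : List ℕ} (h : In12 L) : permL L ∈ Spor.M12 := by
  refine ⟨permL_mem_M24 h.1 h.2.1 h.2.2.1, ?_⟩
  show permL L • Spor.squareDodecad = Spor.squareDodecad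
  rw [squareDodecad_eq]
  conv_rhs => rw [← h.2.2.2, ← toList_permL h.1 h.2.1, pts_permMask]
  ext q
  simp [Finset.mem_smul_finset, Finset.mem_image]

theorem card_map_M24 (K : Subgroup M24) : Nat.card (K.map M24.subtype) = Nat.card K :=
  Subgroup.card_map_of_injective M24.subtype_injective

theorem card_M23 : Nat.card Spor.M23 = 10200960 := by
  rw [show Spor.M23 = (stabilizer M24 (none : GolayPt)).map M24.subtype from ?_, card_map_M24,
    card_stab_point]
  ext g
  exact ⟨fun ⟨h, h0⟩ => ⟨⟨g, h⟩, h0, rfl⟩, fun ⟨⟨g', h⟩, h0, e⟩ => e ▸ ⟨h, h0⟩⟩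

theorem card_M22 : Nat.card Spor.M22 = 443520 := by
  rw [show Spor.M22 =
      (stabilizer M24 (none : GolayPt) ⊓ stabilizer M24 (some 0 : GolayPt)).map M24.subtype from ?_,
    card_map_M24, card_stab_pair _ _ (by simp)]
  ext g
  exact ⟨fun ⟨⟨h, h0⟩, h1⟩ => ⟨⟨g, h⟩, ⟨h0, h1⟩, rfl⟩,
    fun ⟨⟨g', h⟩, ⟨h0, h1⟩, e⟩ => e ▸ ⟨⟨h, h0⟩, h1⟩⟩

theorem card_M12 : Nat.card Spor.M12 = 95040 := by
  rw [show Spor.M12 = (stabilizer M24 Spor.squareDodecad).map M24.subtype from ?_, card_map_M24,
    card_dodecad_stabilizer squareDodecad_mem]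
  ext g
  exact ⟨fun ⟨h, h0⟩ => ⟨⟨g, h⟩, h0, rfl⟩, fun ⟨⟨g', h⟩, h0, e⟩ => e ▸ ⟨h, h0⟩⟩

theorem factorization_two {c a m : ℕ} (h : c = 2 ^ a * m) (hm : ¬ 2 ∣ m) :
    c.factorization 2 = a := by
  subst h
  have hm0 : m ≠ 0 := fun h => hm (h ▸ dvd_zero 2)
  rw [Nat.factorization_mul (pow_ne_zero _ (by norm_num)) hm0, Finsupp.add_apply,
    Nat.Prime.factorization_pow Nat.prime_two, Finsupp.single_eq_same,
    Nat.factorization_eq_zero_of_not_dvd hm, add_zero]

theorem pc22 : PcOK m22Pc := by decide +kernel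

theorem pc12 : PcOK m12Pc := by decide +kernel

theorem pc24 : PcOK m24Pc := by decide +kernel

theorem in22 : ∀ L ∈ m22Pc, In22 L := by decide +kernel

theorem in22w : ∀ s ∈ m22Steps, s.1 = true → In22 s.2.1 := by decide +kernel

theorem in12 : ∀ L ∈ m12Pc, In12 L := by decide +kernel

theorem in12w : ∀ s ∈ m12Steps, s.1 = true → In12 s.2.1 := by decide +kernel

/-- The labels of the positions for the group in M₂₂. -/
def labs22 : List ℕ :=
  [256, 64, 16, 16, 16, 16, 128, 16, 16, 16, 16, 128, 16, 16, 64, 64, 64, 16, 16, 16, 16, 16, 16,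
    256]

/-- The labels of the positions for the group in M₁₂. -/
def labs12 : List ℕ :=
  [17, 33, 33, 17, 33, 16, 17, 32, 17, 33, 16, 32, 17, 17, 32, 16, 17, 16, 17, 16, 16, 16, 16, 32]

theorem isSimple_fusion_in22 {H : Subgroup (Equiv.Perm GolayPt)} (hH : Spor.M22 ≤ H)
    (hcard : (Nat.card H).factorization 2 = 7) (S : Sylow 2 H) :
    (groupFusionSystem (S : Subgroup H)).IsSimple 2 := by
  refine isSimple_fusion_of_cert pc22 (fun g hg => hH (permL_mem_M22 (in22 g hg)))
    (hcard.trans rfl) m22Z m22Steps (by decide +kernel) (by decide +kernel) (by decide +kernel)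
    (fun s hs h => ⟨(in22w s hs h).1, (in22w s hs h).2.1⟩)
    (fun s hs h => hH (permL_mem_M22 (in22w s hs h))) (by decide +kernel) (by decide +kernel)
    (fun n _ hn q k hq hq2 hord =>
      centralize_of_cert pc22 0 m22Labels labs22 m22Reps m22RepSteps (by decide +kernel)
        (by decide +kernel) (by decide +kernel) (by decide +kernel) (by decide +kernel) hn
        (fun p => by simp [Nat.zero_testBit]) hq hq2 hord) S

theorem isSimple_fusion_M22 (S : Sylow 2 Spor.M22) :
    (groupFusionSystem (S : Subgroup Spor.M22)).IsSimple 2 :=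
  isSimple_fusion_in22 le_rfl (factorization_two (m := 3465) (by rw [card_M22]; norm_num) (by norm_num)) S

theorem isSimple_fusion_M23 (S : Sylow 2 Spor.M23) :
    (groupFusionSystem (S : Subgroup Spor.M23)).IsSimple 2 :=
  isSimple_fusion_in22 inf_le_left
    (factorization_two (m := 79695) (by rw [card_M23]; norm_num) (by norm_num)) S

theorem isSimple_fusion_M12 (S : Sylow 2 Spor.M12) :
    (groupFusionSystem (S : Subgroup Spor.M12)).IsSimple 2 := by
  refine isSimple_fusion_of_cert pc12 (fun g hg => permL_mem_M12 (in12 g hg))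
    (factorization_two (m := 1485) (by rw [card_M12]; norm_num [m12Pc]) (by norm_num))
    m12Z m12Steps (by decide +kernel) (by decide +kernel) (by decide +kernel)
    (fun s hs h => ⟨(in12w s hs h).1, (in12w s hs h).2.1⟩)
    (fun s hs h => permL_mem_M12 (in12w s hs h)) (by decide +kernel) (by decide +kernel)
    (fun n hn1 hn q k hq hq2 hord =>
      centralize_of_cert pc12 squareMask m12Labels labs12 m12Reps m12RepSteps (by decide +kernel)
        (by decide +kernel) (by decide +kernel) (by decide +kernel) (by decide +kernel) hn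
        (fun p => ?_) hq hq2 hord) S
  have h1 : n • Spor.squareDodecad = Spor.squareDodecad := hn1.2
  have h2 : n p ∈ n • Spor.squareDodecad ↔ p ∈ Spor.squareDodecad := by
    rw [← Equiv.Perm.smul_def]
    exact Finset.smul_mem_smul_finset_iff n
  rw [h1, squareDodecad_eq] at h2
  simp only [pts, Finset.mem_filter, Finset.mem_univ, true_and] at h2
  exact Bool.eq_iff_iff.2 h2

theorem isSimple_fusion_M24 (S : Sylow 2 M24) :
    (groupFusionSystem (S : Subgroup M24)).IsSimple 2 := by
  have hgood : ∀ L ∈ m24Pc, PreservesCode L := by unfold PreservesCode; decide +kernel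
  have hgoodw : ∀ s ∈ m24Steps, s.1 = true → Good s.2.1 ∧ s.2.1.length = 24 ∧
      PreservesCode s.2.1 := by unfold PreservesCode; decide +kernel
  have hf : (Nat.card M24).factorization 2 = m24Pc.length :=
    factorization_two (m := 239085) (by rw [card_M24]; norm_num [m24Pc]) (by norm_num)
  have hmem : ∀ g ∈ m24Pc, permL g ∈ M24 :=
    fun g hg => permL_mem_M24 (pc24.1 g hg).1 (pc24.1 g hg).2 (hgood g hg)
  refine isSimple_fusion_of_cert pc24 hmem hf m24Z m24Steps (by decide +kernel)
    (by decide +kernel) (by decide +kernel)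
    (fun s hs h => ⟨(hgoodw s hs h).1, (hgoodw s hs h).2.1⟩)
    (fun s hs h => permL_mem_M24 (hgoodw s hs h).1 (hgoodw s hs h).2.1 (hgoodw s hs h).2.2)
    (by decide +kernel) (by decide +kernel) (fun n hn1 hn q k hq hq2 hord y _ => ?_) S
  haveI : Fact (Nat.Prime 2) := ⟨Nat.prime_two⟩
  have hPH : pcGroup m24Pc m24Pc.length ≤ M24 := pcGroup_le pc24 hmem
  have hc : Nat.card ((pcGroup m24Pc m24Pc.length).subgroupOf M24) =
      2 ^ (Nat.card M24).factorization 2 := by
    rw [Nat.card_congr (Subgroup.subgroupOfEquivOfLe hPH).toEquiv, hf,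
      card_pcGroup pc24 _ le_rfl]
  let Q : Sylow 2 M24 := Sylow.ofCard _ hc
  have hQ : (Q : Subgroup M24) = (pcGroup m24Pc m24Pc.length).subgroupOf M24 :=
    Sylow.coe_ofCard ..
  have h1 : (⟨n, hn1⟩ : M24) ∈ Subgroup.normalizer ((Q : Subgroup M24) : Set M24) := by
    rw [hQ, Subgroup.mem_normalizer_iff]
    exact fun x => hn x
  rw [normalizer_sylow_two Q, hQ, Subgroup.mem_subgroupOf] at h1
  have h2 : q ^ k ∣ 2 ^ m24Pc.length := by
    rw [← hord, ← card_pcGroup pc24 _ le_rfl, ← Subgroup.orderOf_mk n h1]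
    exact orderOf_dvd_natCard _
  have h3 : n = 1 := orderOf_eq_one_iff.1 (hord.trans (Nat.eq_one_of_dvd_coprimes
    (Nat.Coprime.pow k m24Pc.length ((Nat.coprime_primes hq Nat.prime_two).2 hq2)) dvd_rfl h2))
  simp [h3]

end CfsgLib.Golay.SylowCert
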