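/-
Certificates for orbits of stabilisers in the group of the code on catalogues of small set systems
(octads, sextets, trios, ...), each written as a list of bit masks.
-/
import Cfsg.Agent.Golay.M24Basics

set_option autoImplicit false

namespace CfsgLib.Golay.Cert

open Cfsg CfsgLib.Golay
open scoped Pointwise

/-- An object: a finite family of point sets. -/
abbrev Obj : Type := Finset (Finset GolayPt)

/-- The object of a list of masks. -/
def toObj (l : List ℕ) : Obj := (l.map pts).toFinset

theorem mem_toObj {l : List ℕ} {a : Finset GolayPt} : a ∈ toObj l ↔ ∃ m ∈ l, pts m = a := by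
  simp [toObj]

/-- The image of a mask under a position list. -/
def permF : List ℕ → ℕ → ℕ
  | [], _ => 0
  | x :: L, m => Nat.lor (Nat.shiftLeft (Nat.land m 1) x) (permF L (Nat.div m 2))

theorem testBit_permF : ∀ (L : List ℕ) (m j : ℕ),
    (permF L m).testBit j = true ↔ ∃ i < L.length, m.testBit i = true ∧ L.getD i 0 = j := by
  intro L
  induction L with
  | nil => intro m j; simp [permF]
  | cons x L ih =>
    intro m j
    rw [show permF (x :: L) m = (m % 2) * 2 ^ x ||| permF L (m / 2) by
        rw [← Nat.shiftLeft_eq, ← Nat.and_one_is_mod]; rfl,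
      Nat.testBit_or, Bool.or_eq_true, ih, List.length_cons, Nat.exists_lt_succ_left]
    refine or_congr ?_ ?_
    · rw [Nat.testBit_zero]
      rcases Nat.mod_two_eq_zero_or_one m with h | h <;> simp [h, Nat.testBit_two_pow]
    · simp [Nat.testBit_succ]

theorem pts_permF (σ : Equiv.Perm GolayPt) (m : ℕ) : pts (permF (toList σ) m) = (pts m).image σ := by
  rw [← pts_permMask]
  congr 1
  refine Nat.eq_of_testBit_eq fun j => ?_
  rw [Bool.eq_iff_iff, testBit_permF, testBit_permMask]
  simp [toList]

/-! ### Elements of the group from position lists -/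

/-- A list of 24 positions without repetition which preserves the code. -/
def genOK (L : List ℕ) : Bool :=
  L.length == 24 && (List.range 24).all (fun i => L.contains i) &&
    rows.all (fun r => word (permMask L r 24 % 4096) == permMask L r 24)

theorem genOK_spec {L : List ℕ} (h : genOK L = true) :
    ∃ g : M24, toList (g : Equiv.Perm GolayPt) = L := by
  simp only [genOK, Bool.and_eq_true, beq_iff_eq, List.all_eq_true, List.contains_iff_mem,
    List.mem_range] at h
  obtain ⟨⟨hlen, hall⟩, hcode⟩ := h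
  have hperm : L.Perm (List.range 24) := by
    refine ((List.subperm_of_subset List.nodup_range fun i hi => hall i (List.mem_range.mp hi)).perm_of_length_le
      (by simp [hlen])).symm
  have hlt : ∀ i < 24, L.getD i 0 < 24 := by
    intro i hi
    have hi' : i < L.length := hlen.symm ▸ hi
    rw [List.getD_eq_getElem _ _ hi']
    exact List.mem_range.mp (hperm.subset (List.getElem_mem hi'))
  let f : GolayPt → GolayPt := fun p => pt (L.getD (idx p) 0)
  have hinj : Function.Injective f := by
    intro p q hpq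
    have h1 : L.getD (idx p) 0 = L.getD (idx q) 0 := by
      rw [← idx_pt _ (hlt _ (idx_lt p)), ← idx_pt _ (hlt _ (idx_lt q))]
      exact congrArg idx hpq
    have hp' : idx p < L.length := hlen.symm ▸ idx_lt p
    have hq' : idx q < L.length := hlen.symm ▸ idx_lt q
    rw [List.getD_eq_getElem _ _ hp', List.getD_eq_getElem _ _ hq'] at h1
    exact idx_injective ((hperm.symm.nodup List.nodup_range).getElem_inj_iff.mp h1)
  let σ : Equiv.Perm GolayPt := Equiv.ofBijective f (Finite.injective_iff_bijective.mp hinj)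
  have hL : toList σ = L := by
    refine List.ext_getElem (by simp [toList, hlen]) fun i hi hi' => ?_
    have hi24 : i < 24 := by simpa [toList] using hi
    rw [← List.getD_eq_getElem _ 0 hi, ← List.getD_eq_getElem _ 0 hi', toList_getD σ hi24]
    show idx (pt (L.getD (idx (pt i)) 0)) = _
    rw [idx_pt i hi24, idx_pt _ (hlt i hi24)]
  exact ⟨⟨σ, mem_M24_of_preserves σ fun r hr => by rw [hL]; exact hcode r hr⟩, hL⟩

theorem smul_toObj (g : M24) (l : List ℕ) :
    g • toObj l = toObj (l.map (permF (toList (g : Equiv.Perm GolayPt)))) := by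
  ext a
  rw [Finset.mem_smul_finset, mem_toObj]
  constructor
  · rintro ⟨b, hb, rfl⟩
    obtain ⟨m, hm, rfl⟩ := mem_toObj.mp hb
    exact ⟨_, List.mem_map_of_mem hm, by rw [pts_permF, smul_finset_eq_image]⟩
  · rintro ⟨m', hm', rfl⟩
    obtain ⟨m, hm, rfl⟩ := List.mem_map.mp hm'
    exact ⟨pts m, mem_toObj.mpr ⟨m, hm, rfl⟩, by rw [pts_permF, smul_finset_eq_image]⟩

/-! ### Invariants -/

/-- The invariant of a pair of objects. -/
def J (A X : Obj) : ℕ := ∑ a ∈ A, ∑ b ∈ X, 100 ^ (a ∩ b).card

theorem J_smul (g : M24) (A X : Obj) : J (g • A) (g • X) = J A X := by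
  have hinj : Function.Injective fun a : Finset GolayPt => g • a := MulAction.injective g
  have himg : ∀ Z : Obj, g • Z = Z.image (fun a => g • a) := fun _ => rfl
  simp only [J, himg, Finset.sum_image (fun a _ b _ h => hinj h)]
  refine Finset.sum_congr rfl fun a _ => Finset.sum_congr rfl fun b _ => ?_
  rw [← Finset.smul_finset_inter, Finset.card_smul_finset]

/-- The invariant vector of an object relative to a base. -/
def sig (B : List Obj) (X : Obj) : List ℕ := B.map (J · X)

theorem sig_smul (g : M24) (B : List Obj) (X : Obj) : sig (B.map (g • ·)) (g • X) = sig B X := by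
  simp [sig, Function.comp_def, J_smul]

/-- The element fixes every member of the base. -/
def Fix (B : List Obj) (g : M24) : Prop := ∀ A ∈ B, g • A = A

theorem fix_map {B : List Obj} {g : M24} (h : Fix B g) : B.map (g • ·) = B := by
  conv_rhs => rw [← List.map_id B]
  exact List.map_congr_left h

theorem Fix.sig_eq {B : List Obj} {g : M24} (h : Fix B g) (X : Obj) : sig B (g • X) = sig B X := by
  conv_lhs => rw [← fix_map h]
  exact sig_smul g B X

/-- The invariant on lists. -/
def jL (A X : List ℕ) : ℕ := (A.map fun a => (X.map fun b => 100 ^ wt 24 (a &&& b)).sum).sum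

/-- A strictly increasing list of masks of 24 bits. -/
def canonL (l : List ℕ) : Bool :=
  l.all (fun m => decide (m < 2 ^ 24)) && (l.zip l.tail).all fun p => decide (p.1 < p.2)

theorem canonL_spec {l : List ℕ} (h : canonL l = true) :
    l.Pairwise (· < ·) ∧ ∀ m ∈ l, m < 2 ^ 24 := by
  simp only [canonL, Bool.and_eq_true, List.all_eq_true, decide_eq_true_eq] at h
  refine ⟨?_, h.1⟩
  rw [← List.isChain_iff_pairwise]
  obtain ⟨-, hchain⟩ := h
  induction l with
  | nil => exact List.IsChain.nil
  | cons a l ih =>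
    cases l with
    | nil => exact List.IsChain.singleton a
    | cons b l =>
      refine List.IsChain.cons_cons (hchain (a, b) (by simp)) (ih fun p hp => hchain p ?_)
      simp only [List.tail_cons, List.zip_cons_cons, List.mem_cons] at hp ⊢
      exact Or.inr hp

theorem nodup_pts {l : List ℕ} (h : canonL l = true) : (l.map pts).Nodup := by
  obtain ⟨h1, h2⟩ := canonL_spec h
  exact List.Nodup.map_on (fun a ha b hb => pts_inj (h2 a ha) (h2 b hb))
    (h1.imp fun hab => ne_of_lt hab)

theorem J_toObj {A X : List ℕ} (hA : canonL A = true) (hX : canonL X = true) :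
    J (toObj A) (toObj X) = jL A X := by
  simp only [J, toObj, List.sum_toFinset _ (nodup_pts hA), List.sum_toFinset _ (nodup_pts hX),
    List.map_map, jL]
  refine congrArg List.sum (List.map_congr_left fun a _ => ?_)
  refine congrArg List.sum (List.map_congr_left fun b _ => ?_)
  show 100 ^ (pts a ∩ pts b).card = 100 ^ wt 24 (a &&& b)
  have : pts a ∩ pts b = pts (a &&& b) := by ext p; simp [pts, Nat.testBit_and]
  rw [this, card_pts]

theorem toObj_inj {A X : List ℕ} (hA : canonL A = true) (hX : canonL X = true)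
    (h : toObj A = toObj X) : A = X := by
  obtain ⟨hA1, hA2⟩ := canonL_spec hA
  obtain ⟨hX1, hX2⟩ := canonL_spec hX
  refine List.Perm.eq_of_pairwise (le := (· < ·)) (fun a b _ _ hab hba => absurd hab (lt_asymm hba))
    hA1 hX1 ?_
  refine (List.perm_ext_iff_of_nodup (hA1.imp fun h => ne_of_lt h) (hX1.imp fun h => ne_of_lt h)).mpr
    fun m => ⟨fun hm => ?_, fun hm => ?_⟩
  · obtain ⟨m', hm', he⟩ := mem_toObj.mp (h ▸ mem_toObj.mpr ⟨m, hm, rfl⟩)
    rwa [← pts_inj (hX2 m' hm') (hA2 m hm) he]
  · obtain ⟨m', hm', he⟩ := mem_toObj.mp (h.symm ▸ mem_toObj.mpr ⟨m, hm, rfl⟩)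
    rwa [← pts_inj (hA2 m' hm') (hX2 m hm) he]

/-- The position list `L` carries the masks of `X` into those of `Y`, equally many. -/
def same (L X Y : List ℕ) : Bool :=
  X.length == Y.length && X.all fun m => Y.contains (permF L m)

theorem same_spec {g : M24} {L X Y : List ℕ} (hg : toList (g : Equiv.Perm GolayPt) = L)
    (hX : canonL X = true) (h : same L X Y = true) : g • toObj X = toObj Y := by
  simp only [same, Bool.and_eq_true, beq_iff_eq, List.all_eq_true, List.contains_iff_mem] at h
  refine Finset.eq_of_subset_of_card_le (fun a ha => ?_) ?_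
  · rw [smul_toObj, hg, mem_toObj] at ha
    obtain ⟨_, hm', rfl⟩ := ha
    obtain ⟨m, hm, rfl⟩ := List.mem_map.mp hm'
    exact mem_toObj.mpr ⟨_, h.2 m hm, rfl⟩
  · rw [Finset.card_smul_finset, toObj, toObj, List.toFinset_card_of_nodup (nodup_pts hX)]
    exact (List.toFinset_card_le _).trans (by simp [h.1])

/-! ### Catalogues -/

/-- A catalogue of objects, in chunks of 64. -/
structure Cat where
  /-- The chunks. -/
  data : List (List (List ℕ))
  /-- The number of objects. -/
  size : ℕ

/-- The `i`th object of a catalogue. -/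
def Cat.obj (C : Cat) (i : ℕ) : List ℕ := (C.data.getD (i / 64) []).getD (i % 64) []

/-- Membership in a catalogue. -/
def Cat.Mem (C : Cat) (X : Obj) : Prop := ∃ i < C.size, toObj (C.obj i) = X

/-- The number of an object as a single natural number. -/
def enc (l : List ℕ) : ℕ := l.foldl (fun acc m => acc * 2 ^ 24 + m) 0

/-- The catalogue is canonical and strictly increasing. -/
def Cat.canon (C : Cat) : Bool :=
  (List.range C.size).all fun i =>
    canonL (C.obj i) && (i + 1 == C.size || decide (enc (C.obj i) < enc (C.obj (i + 1))))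

theorem Cat.canonL_obj {C : Cat} (h : C.canon = true) {i : ℕ} (hi : i < C.size) :
    canonL (C.obj i) = true := by
  simp only [Cat.canon, List.all_eq_true, Bool.and_eq_true, List.mem_range] at h
  exact (h i hi).1

theorem Cat.enc_lt {C : Cat} (h : C.canon = true) : ∀ d i, i + d + 1 < C.size →
    enc (C.obj i) < enc (C.obj (i + d + 1)) := by
  simp only [Cat.canon, List.all_eq_true, Bool.and_eq_true, List.mem_range, Bool.or_eq_true,
    beq_iff_eq, decide_eq_true_eq] at h
  intro d
  induction d with
  | zero => intro i hi; exact (h i (by omega)).2.resolve_left (by omega)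
  | succ d ih =>
    intro i hi
    exact (ih i (by omega)).trans ((h (i + d + 1) (by omega)).2.resolve_left (by omega))

theorem Cat.obj_inj {C : Cat} (h : C.canon = true) {i j : ℕ} (hi : i < C.size) (hj : j < C.size)
    (he : toObj (C.obj i) = toObj (C.obj j)) : i = j := by
  have he' := congrArg enc (toObj_inj (C.canonL_obj h hi) (C.canonL_obj h hj) he)
  rcases lt_trichotomy i j with hlt | rfl | hlt
  · have := C.enc_lt h (j - i - 1) i (by omega)
    rw [show i + (j - i - 1) + 1 = j by omega] at this
    omega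
  · rfl
  · have := C.enc_lt h (i - j - 1) j (by omega)
    rw [show j + (i - j - 1) + 1 = i by omega] at this
    omega

/-- The catalogue is invariant under the group. -/
def Cat.Inv (C : Cat) : Prop := ∀ (g : M24) (X : Obj), C.Mem X → C.Mem (g • X)

/-! ### Orbits of stabilisers -/

/-- One step `(generator, parent, child)` of an orbit enumeration, counting new members. -/
def Cat.step (C : Cat) (gens : List (List ℕ)) (acc : ℕ × ℕ) (t : ℕ × ℕ × ℕ) : ℕ × ℕ :=
  if acc.1.testBit t.2.1 && !acc.1.testBit t.2.2 && decide (t.1 < gens.length) &&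
    decide (t.2.2 < C.size) && same (gens.getD t.1 []) (C.obj t.2.1) (C.obj t.2.2)
  then (acc.1 ||| 2 ^ t.2.2, acc.2 + 1) else acc

/-- A list of position lists in the group fixing the base. -/
def gensOK (B : List (List ℕ)) (gens : List (List ℕ)) : Bool :=
  gens.all fun L => genOK L && B.all fun A => same L A A

/-- An orbit certificate: the invariant vector, the seed, the steps. -/
abbrev OrbitData : Type := List ℕ × ℕ × List (ℕ × ℕ × ℕ)

/-- The bit set of an enumerated orbit. -/
def Cat.run (C : Cat) (gens : List (List ℕ)) (D : OrbitData) : ℕ × ℕ :=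
  D.2.2.foldl (C.step gens) (2 ^ D.2.1, 1)

/-- Bit sets with their certified sizes, one after another. -/
def Cat.cover (C : Cat) (gens : List (List ℕ)) : List OrbitData → List ℕ → ℕ → Option ℕ
  | [], [], acc => some acc
  | D :: Ds, n :: ns, acc =>
    let r := C.run gens D
    if r.2 == n then C.cover gens Ds ns (acc ||| r.1) else none
  | _, _, _ => none

/-- The orbits of the given sizes cover the catalogue, their invariant vectors are distinct. -/
def Cat.orbitsOK (C : Cat) (B gens : List (List ℕ)) (Ds : List OrbitData) (ns : List ℕ) : Bool :=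
  C.canon && B.all canonL && gensOK B gens && decide (Ds.map (·.1)).Nodup &&
    Ds.all (fun D => decide (D.2.1 < C.size) && (B.map fun A => jL A (C.obj D.2.1)) == D.1) &&
    C.cover gens Ds ns 0 == some (2 ^ C.size - 1)

/-- The objects with invariant vector `v` relative to `B`: their number, and transitivity of the
elements fixing `B`. -/
structure IsTrans (C : Cat) (B : List Obj) (v : List ℕ) (n : ℕ) : Prop where
  ncard : {X | C.Mem X ∧ sig B X = v}.ncard = n
  trans : ∀ X Y, C.Mem X → sig B X = v → C.Mem Y → sig B Y = v → ∃ g : M24, Fix B g ∧ g • X = Y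

theorem Cat.sig_obj {C : Cat} (hC : C.canon = true) {B : List (List ℕ)}
    (hB : ∀ A ∈ B, canonL A = true) {i : ℕ} (hi : i < C.size) :
    sig (B.map toObj) (toObj (C.obj i)) = B.map fun A => jL A (C.obj i) := by
  simp only [sig, List.map_map]
  exact List.map_congr_left fun A hA => J_toObj (hB A hA) (C.canonL_obj hC hi)

/-- What the fold maintains: the bits are members reached from the seed, `acc.2` of them. -/
def Cat.Reached (C : Cat) (B : List (List ℕ)) (s : ℕ) (acc : ℕ × ℕ) : Prop :=
  (∀ i, acc.1.testBit i = true → i < C.size ∧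
    ∃ g : M24, Fix (B.map toObj) g ∧ g • toObj (C.obj s) = toObj (C.obj i)) ∧
  {i | acc.1.testBit i = true}.ncard = acc.2

theorem Cat.reach {C : Cat} (hC : C.canon = true) {B : List (List ℕ)} (hB : ∀ A ∈ B, canonL A = true)
    {gens : List (List ℕ)} (hg : gensOK B gens = true)
    (s : ℕ) : ∀ (steps : List (ℕ × ℕ × ℕ)) (acc : ℕ × ℕ),
    C.Reached B s acc → C.Reached B s (steps.foldl (C.step gens) acc) := by
  simp only [gensOK, List.all_eq_true, Bool.and_eq_true] at hg
  intro steps
  induction steps with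
  | nil => intro acc h; exact h
  | cons t ts ih =>
    intro acc h
    rw [List.foldl_cons]
    refine ih _ ?_
    unfold Cat.step
    split
    · next hc =>
      simp only [Bool.and_eq_true, decide_eq_true_eq, Bool.not_eq_true'] at hc
      obtain ⟨⟨⟨⟨hp, hnew⟩, hlt⟩, hsz⟩, hs⟩ := hc
      refine ⟨fun i hi => ?_, ?_⟩
      · rw [Nat.testBit_or, Bool.or_eq_true] at hi
        rcases hi with hi | hi
        · exact h.1 i hi
        rw [Nat.testBit_two_pow, decide_eq_true_eq] at hi
        obtain ⟨hpsz, a, ha, hax⟩ := h.1 _ hp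
        have hmem : gens.getD t.1 [] ∈ gens := by
          rw [List.getD_eq_getElem _ _ hlt]; exact List.getElem_mem _
        obtain ⟨hok, hfix⟩ := hg _ hmem
        obtain ⟨b, hb⟩ := genOK_spec hok
        refine ⟨hi ▸ hsz, b * a, ?_,
          by rw [mul_smul, hax, same_spec hb (C.canonL_obj hC hpsz) hs, hi]⟩
        intro A hA
        obtain ⟨A', hA', rfl⟩ := List.mem_map.mp hA
        rw [mul_smul, ha _ hA, same_spec hb (hB A' hA') (hfix A' hA')]
      · have hset : {i | (acc.1 ||| 2 ^ t.2.2).testBit i = true} = insert t.2.2 {i | acc.1.testBit i = true} := by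
          ext i
          simp only [Set.mem_ofPred_eq, Set.mem_insert_iff, Nat.testBit_or, Bool.or_eq_true,
            Nat.testBit_two_pow, decide_eq_true_eq]
          exact ⟨fun h => h.elim Or.inr fun h => Or.inl h.symm, fun h => h.elim (fun h => Or.inr h.symm) Or.inl⟩
        have hni : t.2.2 ∉ {i | acc.1.testBit i = true} := fun hh => by
          have hh' : acc.1.testBit t.2.2 = true := hh
          rw [hnew] at hh'
          exact Bool.noConfusion hh'
        have hfin : {i | acc.1.testBit i = true}.Finite :=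
          (Set.finite_Iio C.size).subset fun i hi => (h.1 i hi).1
        rw [hset, Set.ncard_insert_of_notMem hni hfin, h.2]
    · exact h

theorem Cat.cover_spec {C : Cat} {gens : List (List ℕ)} : ∀ (Ds : List OrbitData) (ns : List ℕ) (acc R : ℕ),
    C.cover gens Ds ns acc = some R → Ds.length = ns.length ∧
      (∀ i, R.testBit i = true → acc.testBit i = true ∨
        ∃ D ∈ Ds, (C.run gens D).1.testBit i = true) ∧
      ∀ k, ∀ hk : k < Ds.length, ∀ hk' : k < ns.length, (C.run gens Ds[k]).2 = ns[k] := by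
  intro Ds
  induction Ds with
  | nil =>
    intro ns acc R h
    cases ns with
    | nil => simp only [Cat.cover, Option.some.injEq] at h; subst h; simp
    | cons => simp [Cat.cover] at h
  | cons D Ds ih =>
    intro ns acc R h
    cases ns with
    | nil => simp [Cat.cover] at h
    | cons n ns =>
      simp only [Cat.cover] at h
      split at h
      · next hc =>
        obtain ⟨h1, h2, h3⟩ := ih ns _ R h
        refine ⟨by simp [h1], fun i hi => ?_, fun k hk hk' => ?_⟩
        · rcases h2 i hi with h' | ⟨E, hE, h'⟩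
          · rw [Nat.testBit_or, Bool.or_eq_true] at h'
            rcases h' with h' | h'
            · exact Or.inl h'
            · exact Or.inr ⟨D, List.mem_cons_self, h'⟩
          · exact Or.inr ⟨E, List.mem_cons_of_mem _ hE, h'⟩
        · cases k with
          | zero => exact beq_iff_eq.mp hc
          | succ k => exact h3 k (by simpa using hk) (by simpa using hk')
      · exact absurd h (by simp)

theorem Cat.isTrans {C : Cat} {B gens : List (List ℕ)} {Ds : List OrbitData} {ns : List ℕ}
    (h : C.orbitsOK B gens Ds ns = true) :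
    (∀ X, C.Mem X → sig (B.map toObj) X ∈ Ds.map (·.1)) ∧
    ∀ k, k < ns.length → IsTrans C (B.map toObj) (Ds.getD k ([], 0, [])).1 (ns.getD k 0) := by
  simp only [Cat.orbitsOK, Bool.and_eq_true, beq_iff_eq, decide_eq_true_eq] at h
  obtain ⟨⟨⟨⟨⟨hC, hB⟩, hg⟩, hnd⟩, hseed⟩, hcov⟩ := h
  rw [List.all_eq_true] at hB
  simp only [List.all_eq_true, Bool.and_eq_true, beq_iff_eq, decide_eq_true_eq] at hseed
  obtain ⟨hlen, hbits, hsize⟩ := C.cover_spec Ds ns 0 _ hcov
  have hR : ∀ D ∈ Ds, C.Reached B D.2.1 (C.run gens D) := fun D hD => by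
    refine C.reach hC hB hg D.2.1 D.2.2 (2 ^ D.2.1, 1) ⟨fun i hi => ?_, ?_⟩
    · rw [Nat.testBit_two_pow, decide_eq_true_eq] at hi
      exact ⟨hi ▸ (hseed D hD).1, 1, fun A _ => one_smul _ A, by rw [one_smul, hi]⟩
    · have : {i | (2 ^ D.2.1).testBit i = true} = {D.2.1} := by
        ext i; simp [Nat.testBit_two_pow, eq_comm]
      rw [this, Set.ncard_singleton]
  have hsig : ∀ D ∈ Ds, ∀ i, (C.run gens D).1.testBit i = true →
      sig (B.map toObj) (toObj (C.obj i)) = D.1 := fun D hD i hi => by
    obtain ⟨-, g, hgf, hgx⟩ := (hR D hD).1 i hi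
    rw [← hgx, hgf.sig_eq, C.sig_obj hC hB (hseed D hD).1, (hseed D hD).2]
  have hall : ∀ i < C.size, ∃ D ∈ Ds, (C.run gens D).1.testBit i = true := fun i hi => by
    have h0 : (2 ^ C.size - 1).testBit i = true := by simp [Nat.testBit_two_pow_sub_one, hi]
    exact (hbits i h0).resolve_left (by simp)
  refine ⟨?_, fun k hk => ?_⟩
  · rintro _ ⟨i, hi, rfl⟩
    obtain ⟨D, hD, hDi⟩ := hall i hi
    exact List.mem_map.mpr ⟨D, hD, (hsig D hD i hDi).symm⟩
  have hk' : k < Ds.length := hlen.symm ▸ hk
  rw [List.getD_eq_getElem _ _ hk', List.getD_eq_getElem _ _ hk, ← hsize k hk' hk]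
  set D := Ds[k]
  have hD : D ∈ Ds := List.getElem_mem hk'
  have hcls : {X | C.Mem X ∧ sig (B.map toObj) X = D.1} =
      (fun i => toObj (C.obj i)) '' {i | (C.run gens D).1.testBit i = true} := by
    ext X
    simp only [Set.mem_ofPred_eq, Set.mem_image]
    constructor
    · rintro ⟨⟨i, hi, rfl⟩, hv⟩
      obtain ⟨E, hE, hEi⟩ := hall i hi
      have : E = D := List.inj_on_of_nodup_map hnd hE hD ((hsig E hE i hEi).symm.trans hv)
      exact ⟨i, this ▸ hEi, rfl⟩
    · rintro ⟨i, hi, rfl⟩
      exact ⟨⟨i, ((hR D hD).1 i hi).1, rfl⟩, hsig D hD i hi⟩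
  refine ⟨?_, ?_⟩
  · rw [hcls, Set.InjOn.ncard_image, (hR D hD).2]
    intro i hi j hj he
    exact C.obj_inj hC ((hR D hD).1 i hi).1 ((hR D hD).1 j hj).1 he
  · intro X Y hX hXv hY hYv
    have hmX : X ∈ {X | C.Mem X ∧ sig (B.map toObj) X = D.1} := ⟨hX, hXv⟩
    have hmY : Y ∈ {X | C.Mem X ∧ sig (B.map toObj) X = D.1} := ⟨hY, hYv⟩
    rw [hcls] at hmX hmY
    obtain ⟨i, hi, rfl⟩ := hmX
    obtain ⟨j, hj, rfl⟩ := hmY
    obtain ⟨-, a, ha, hax⟩ := (hR D hD).1 i hi
    obtain ⟨-, b, hb, hbx⟩ := (hR D hD).1 j hj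
    refine ⟨b * a⁻¹, fun A hA => ?_, ?_⟩
    · rw [mul_smul, inv_smul_eq_iff.mpr (ha A hA).symm, hb A hA]
    · show (b * a⁻¹) • toObj (C.obj i) = toObj (C.obj j)
      rw [← hax, ← hbx, smul_smul, inv_mul_cancel_right]

theorem IsTrans.conj {C : Cat} (hcl : C.Inv)
    {B : List Obj} {v : List ℕ} {n : ℕ} (h : IsTrans C B v n) (k : M24) :
    IsTrans C (B.map (k • ·)) v n := by
  have hset : {X | C.Mem X ∧ sig (B.map (k • ·)) X = v} = (fun X => k • X) '' {X | C.Mem X ∧ sig B X = v} := by
    ext X
    simp only [Set.mem_ofPred_eq, Set.mem_image]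
    constructor
    · rintro ⟨hX, hv⟩
      refine ⟨k⁻¹ • X, ⟨hcl _ _ hX, ?_⟩, smul_inv_smul k X⟩
      rw [← sig_smul k, smul_inv_smul, hv]
    · rintro ⟨Y, ⟨hY, hv⟩, rfl⟩
      exact ⟨hcl _ _ hY, by rw [sig_smul, hv]⟩
  refine ⟨?_, ?_⟩
  · rw [hset, Set.ncard_image_of_injective _ (MulAction.injective k), h.ncard]
  · intro X Y hX hXv hY hYv
    have hback : ∀ Z, sig (B.map (k • ·)) Z = v → sig B (k⁻¹ • Z) = v := fun Z hZ => by
      rw [← sig_smul k, smul_inv_smul, hZ]
    obtain ⟨g, hg, hgX⟩ := h.trans _ _ (hcl k⁻¹ _ hX) (hback X hXv)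
      (hcl k⁻¹ _ hY) (hback Y hYv)
    refine ⟨k * g * k⁻¹, fun A hA => ?_, by rw [mul_smul, mul_smul, hgX, smul_inv_smul]⟩
    obtain ⟨A', hA', rfl⟩ := List.mem_map.mp hA
    rw [mul_smul, mul_smul, inv_smul_smul, hg A' hA']

theorem IsTrans.orbit_eq {C : Cat} (hcl : C.Inv)
    {B : List Obj} {v : List ℕ} {n : ℕ} (h : IsTrans C B v n) {K : Subgroup M24}
    (hK : ∀ g, g ∈ K ↔ Fix B g) {X : Obj} (hX : C.Mem X) (hv : sig B X = v) :
    MulAction.orbit K X = {Y | C.Mem Y ∧ sig B Y = v} := by
  ext Y
  constructor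
  · rintro ⟨g, rfl⟩
    exact ⟨hcl _ _ hX, ((hK g.1).mp g.2).sig_eq X ▸ hv⟩
  · rintro ⟨hY, hYv⟩
    obtain ⟨g, hg, hgX⟩ := h.trans X Y hX hv hY hYv
    exact ⟨⟨g, (hK g).mpr hg⟩, hgX⟩

theorem IsTrans.card_mul {C : Cat} (hcl : C.Inv)
    {B : List Obj} {v : List ℕ} {n : ℕ} (h : IsTrans C B v n) {K : Subgroup M24}
    (hK : ∀ g, g ∈ K ↔ Fix B g) {X : Obj} (hX : C.Mem X) (hv : sig B X = v) :
    Nat.card ↥(K ⊓ MulAction.stabilizer M24 X) * n = Nat.card K := by
  have h1 := Subgroup.card_eq_card_quotient_mul_card_subgroup (MulAction.stabilizer K X)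
  rw [← Nat.card_congr (MulAction.orbitEquivQuotientStabilizer K X), Nat.card_coe_set_eq,
    h.orbit_eq hcl hK hX hv, h.ncard] at h1
  rw [h1, mul_comm n]
  refine congrArg (· * n) ?_
  exact Nat.card_congr
    { toFun := fun g => ⟨⟨g.1, g.2.1⟩, g.2.2⟩
      invFun := fun g => ⟨g.1.1, g.1.2, g.2⟩
      left_inv := fun _ => rfl
      right_inv := fun _ => rfl }

/-- A family with at most `C.size` members, invariant and meeting the one orbit of the catalogue,
consists of the catalogue members. -/
theorem Cat.eq_fam {C : Cat} {n : ℕ} (h : IsTrans C [] [] n) {Fam : Set Obj}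
    (hinv : ∀ (g : M24) (X : Obj), X ∈ Fam → g • X ∈ Fam) {X0 : Obj} (h0 : C.Mem X0) (hX0 : X0 ∈ Fam)
    (hle : Fam.ncard ≤ n) (hfin : Fam.Finite) : Fam = {X | C.Mem X} ∧ C.Inv := by
  have hsub : {X | C.Mem X} ⊆ Fam := fun X hX => by
    obtain ⟨g, -, hg⟩ := h.trans X0 X h0 rfl hX rfl
    exact hg ▸ hinv g X0 hX0
  have hcard : {X | C.Mem X}.ncard = n := by
    rw [← h.ncard]; congr 1; ext X; simp [sig]
  have heq : {X | C.Mem X} = Fam := Set.eq_of_subset_of_ncard_le hsub (hcard ▸ hle) hfin
  refine ⟨heq.symm, fun g X hX => ?_⟩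
  have hX' : X ∈ Fam := hsub hX
  have := hinv g X hX'
  rw [← heq] at this
  exact this

end CfsgLib.Golay.Cert
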