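/-
Using the orbit certificates: objects with one member, bases, conjugation to standard position.
-/
import Cfsg.Agent.Golay.Cert
import Cfsg.Agent.Steiner.Numbers

set_option autoImplicit false

namespace CfsgLib.Golay.Cert

open Cfsg CfsgLib.Golay
open scoped Pointwise

/-- The object with the single member `s`. -/
def one' (s : Finset GolayPt) : Obj := {s}

/-- The object of a single point. -/
def ptO (p : GolayPt) : Obj := {{p}}

theorem smul_one' (g : M24) (s : Finset GolayPt) : g • one' s = one' (g • s) :=
  Finset.smul_finset_singleton s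

theorem one'_inj {s t : Finset GolayPt} : one' s = one' t ↔ s = t := Finset.singleton_inj

theorem one'_injective : Function.Injective one' := fun _ _ h => one'_inj.mp h

theorem smul_ptO (g : M24) (p : GolayPt) : g • ptO p = ptO (g • p) := by
  rw [ptO, Finset.smul_finset_singleton, Finset.smul_finset_singleton]; rfl

theorem ptO_inj {p q : GolayPt} : ptO p = ptO q ↔ p = q := by simp [ptO]

theorem fixes_one' {g : M24} {s : Finset GolayPt} : g • one' s = one' s ↔ g • s = s := by
  rw [smul_one', one'_inj]

theorem fixes_ptO {g : M24} {p : GolayPt} : g • ptO p = ptO p ↔ g • p = p := by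
  rw [smul_ptO, ptO_inj]

theorem J_one'_one' (s t : Finset GolayPt) : J (one' s) (one' t) = 100 ^ (s ∩ t).card := by
  simp [J, one']

theorem J_ptO_one' (p : GolayPt) (t : Finset GolayPt) :
    J (ptO p) (one' t) = if p ∈ t then 100 else 1 := by
  by_cases h : p ∈ t <;> simp [J, ptO, one', h]

theorem J_one'_left (s : Finset GolayPt) (X : Obj) : J (one' s) X = ∑ b ∈ X, 100 ^ (s ∩ b).card := by
  simp [J, one']

theorem toObj_one (m : ℕ) : toObj [m] = one' (pts m) := by simp [toObj, one']

theorem pow100_inj {a b : ℕ} (h : (100 : ℕ) ^ a = 100 ^ b) : a = b :=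
  Nat.pow_right_injective (by norm_num) h

/-- Families of singletons. -/
theorem image_inv {F : Set (Finset GolayPt)} (hF : ∀ (g : M24) (s : Finset GolayPt), s ∈ F → g • s ∈ F)
    (g : M24) (X : Obj) (hX : X ∈ one' '' F) : g • X ∈ one' '' F := by
  obtain ⟨s, hs, rfl⟩ := hX
  exact ⟨g • s, hF g s hs, (smul_one' g s).symm⟩

/-- The stabiliser of a catalogue member is the subgroup fixing it. -/
theorem mem_stab_one' {g : M24} {s : Finset GolayPt} :
    g ∈ MulAction.stabilizer M24 s ↔ Fix [one' s] g := by
  simp [Fix, fixes_one']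

theorem mem_stab_obj {g : M24} {A : Obj} : g ∈ MulAction.stabilizer M24 A ↔ Fix [A] g := by
  simp [Fix]

theorem coe_smul (g : M24) (p : GolayPt) : g • p = (g : Equiv.Perm GolayPt) p := rfl

theorem coe_smul_finset (g : M24) (s : Finset GolayPt) : g • s = (g : Equiv.Perm GolayPt) • s := rfl

theorem coe_smul_obj (g : M24) (X : Obj) : g • X = (g : Equiv.Perm GolayPt) • X := rfl

theorem smul_mem_octads' (g : M24) {o : Finset GolayPt} (ho : o ∈ octads) : g • o ∈ octads := by
  rw [smul_finset_eq_image]; exact M24_octad g.2 ho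

theorem smul_mem_dodecads' (g : M24) {d : Finset GolayPt} (hd : d ∈ dodecads) : g • d ∈ dodecads := by
  rw [smul_finset_eq_image]; exact M24_dodecad g.2 hd

theorem compl_smul (g : M24) (s : Finset GolayPt) : g • sᶜ = (g • s)ᶜ := by
  ext x
  rw [Finset.mem_compl, ← Finset.inv_smul_mem_iff, ← Finset.inv_smul_mem_iff, Finset.mem_compl]

/-- Five octads through four points. -/
theorem octads_through_four {t : Finset GolayPt} (ht : t.card = 4) :
    ((Steiner.blocks octads).filter (t ⊆ ·)).card = 5 :=
  Steiner.count_eq octads_steiner (i := 4) (n := 5) (by norm_num)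
    (by rw [card_golayPt]; decide) (by decide) t ht

/-- Thirty octads disjoint from a given one. -/
theorem octads_disjoint {o : Finset GolayPt} (ho : o ∈ octads) :
    ((Steiner.blocks octads).filter (Disjoint o ·)).card = 30 := by
  rw [← (Steiner.numbers_24 octads_steiner card_golayPt (Steiner.mem_blocks.mpr ho)).1, Steiner.meet]
  congr 1
  ext a
  simp only [Finset.mem_filter, Finset.mem_erase, Finset.disjoint_iff_inter_eq_empty,
    Finset.card_eq_zero]
  refine ⟨fun h => ⟨⟨?_, h.1⟩, h.2⟩, fun h => ⟨h.1.2, h.2⟩⟩
  rintro rfl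
  have := octad_card ho
  rw [Finset.inter_self] at h
  rw [h.2, Finset.card_empty] at this
  omega

end CfsgLib.Golay.Cert
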