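/-
The catalogues of octads, dodecads, pairs, triples and complementary pairs of dodecads are complete.
-/
import Cfsg.Agent.Golay.CatTools
import Cfsg.Agent.Golay.Dodecad
import Cfsg.Agent.Golay.Cats.OctData
import Cfsg.Agent.Golay.Cats.DodData
import Cfsg.Agent.Golay.Cats.PairData
import Cfsg.Agent.Golay.Cats.TripleData
import Cfsg.Agent.Golay.Cats.DPairData

set_option autoImplicit false

namespace CfsgLib.Golay.Cert

open Cfsg CfsgLib.Golay Finset
open scoped Pointwise

theorem octads_cat : one' '' octads = {X | octCat.Mem X} ∧ octCat.Inv := by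
  refine Cat.eq_fam octCat_trans (image_inv fun g s hs => smul_mem_octads' g hs)
    ⟨0, by decide +kernel, rfl⟩ ?_ ?_ (Set.toFinite _)
  · obtain ⟨m, hm, hok⟩ : ∃ m, octCat.obj 0 = [m] ∧ wt 24 m = 8 ∧ word (m % 4096) = m :=
      ⟨(octCat.obj 0).headD 0, by decide +kernel, by decide +kernel⟩
    rw [hm, toObj_one]
    exact ⟨_, (mem_octads_iff _).mpr ⟨m % 4096, Nat.mod_lt _ (by norm_num),
      by rw [hok.2]; exact hok.1, by rw [hok.2]⟩, rfl⟩
  · rw [Set.ncard_image_of_injective _ one'_injective, octad_count]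

theorem dodecads_cat : one' '' dodecads = {X | dodCat.Mem X} ∧ dodCat.Inv := by
  refine Cat.eq_fam dodCat_trans (image_inv fun g s hs => smul_mem_dodecads' g hs)
    ⟨0, by decide +kernel, rfl⟩ ?_ ?_ (Set.toFinite _)
  · obtain ⟨m, hm, hok⟩ : ∃ m, dodCat.obj 0 = [m] ∧ wt 24 m = 12 ∧ word (m % 4096) = m :=
      ⟨(dodCat.obj 0).headD 0, by decide +kernel, by decide +kernel⟩
    rw [hm, toObj_one]
    exact ⟨_, (mem_dodecads_iff _).mpr ⟨m % 4096, Nat.mod_lt _ (by norm_num),
      by rw [hok.2]; exact hok.1, by rw [hok.2]⟩, rfl⟩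
  · rw [Set.ncard_image_of_injective _ one'_injective, dodecad_count]

theorem subsets_le (k n : ℕ) (hn : (24 : ℕ).choose k = n) :
    (one' '' {s : Finset GolayPt | s.card = k}).ncard ≤ n := by
  rw [Set.ncard_image_of_injective _ one'_injective,
    show {s : Finset GolayPt | s.card = k} = ((univ : Finset GolayPt).powersetCard k : Set (Finset GolayPt)) by
      ext s; simp, Set.ncard_coe_finset, card_powersetCard, card_univ, card_golayPt, hn]

theorem pairs_cat : one' '' {s : Finset GolayPt | s.card = 2} = {X | pairCat.Mem X} ∧ pairCat.Inv := by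
  refine Cat.eq_fam pairCat_trans (image_inv fun g s hs => (card_smul_finset g s).trans hs)
    ⟨0, by decide +kernel, rfl⟩ ?_ (subsets_le 2 276 (by decide)) (Set.toFinite _)
  obtain ⟨m, hm, hok⟩ : ∃ m, pairCat.obj 0 = [m] ∧ wt 24 m = 2 :=
    ⟨(pairCat.obj 0).headD 0, by decide +kernel, by decide +kernel⟩
  rw [hm, toObj_one]
  exact ⟨_, (card_pts m).trans hok, rfl⟩

theorem triples_cat : one' '' {s : Finset GolayPt | s.card = 3} = {X | tripleCat.Mem X} ∧ tripleCat.Inv := by
  refine Cat.eq_fam tripleCat_trans (image_inv fun g s hs => (card_smul_finset g s).trans hs)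
    ⟨0, by decide +kernel, rfl⟩ ?_ (subsets_le 3 2024 (by decide)) (Set.toFinite _)
  obtain ⟨m, hm, hok⟩ : ∃ m, tripleCat.obj 0 = [m] ∧ wt 24 m = 3 :=
    ⟨(tripleCat.obj 0).headD 0, by decide +kernel, by decide +kernel⟩
  rw [hm, toObj_one]
  exact ⟨_, (card_pts m).trans hok, rfl⟩

theorem compl_mem_dodecads {d : Finset GolayPt} (hd : d ∈ dodecads) : dᶜ ∈ dodecads := by
  have h1 : supports (golayCode : Set (GolayPt → ZMod 2)) univ := by
    rw [← show support₂ (1 : GolayPt → ZMod 2) = univ by simp [support₂]]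
    refine ⟨1, ?_, rfl⟩
    rw [one_eq]
    exact vec_genMasks_mem _ (by decide +kernel)
  refine ⟨?_, by rw [card_compl, card_golayPt, dodecad_card hd]⟩
  have h2 := supports_symmDiff h1 hd.1
  rwa [show symmDiff univ d = dᶜ by ext x; simp [Finset.mem_symmDiff]] at h2

/-- The complementary pairs of dodecads. -/
def dPairs : Set Obj := (fun d => ({d, dᶜ} : Obj)) '' dodecads

theorem smul_dPair (g : M24) (d : Finset GolayPt) : g • ({d, dᶜ} : Obj) = {g • d, (g • d)ᶜ} := by
  rw [Finset.smul_finset_insert, Finset.smul_finset_singleton, compl_smul]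

theorem dPairs_cat : dPairs = {X | dPairCat.Mem X} ∧ dPairCat.Inv := by
  refine Cat.eq_fam dPairCat_trans (fun g X hX => ?_) ⟨0, by decide +kernel, rfl⟩ ?_ ?_ (Set.toFinite _)
  · obtain ⟨d, hd, rfl⟩ := hX
    exact ⟨g • d, smul_mem_dodecads' g hd, (smul_dPair g d).symm⟩
  · obtain ⟨m, m', hm, hok⟩ : ∃ m m', dPairCat.obj 0 = [m, m'] ∧ wt 24 m = 12 ∧
        word (m % 4096) = m ∧ m' = 16777215 ^^^ m :=
      ⟨(dPairCat.obj 0).headD 0, (dPairCat.obj 0).getD 1 0, by decide +kernel, by decide +kernel,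
        by decide +kernel, by decide +kernel⟩
    obtain ⟨h5, h6, rfl⟩ := hok
    refine ⟨pts m, (mem_dodecads_iff _).mpr ⟨m % 4096, Nat.mod_lt _ (by norm_num),
      by rw [h6]; exact h5, by rw [h6]⟩, ?_⟩
    have hc : (pts m)ᶜ = pts (16777215 ^^^ m) := by
      ext p
      have hp : (16777215 : ℕ).testBit (idx p) = true := by revert p; decide +kernel
      simp [pts, Nat.testBit_xor, hp]
    rw [hm]
    simp [toObj, hc]
  · classical
    set F := (Set.toFinite dPairs).toFinset with hF
    have hdod : ∀ X ∈ F, ∀ a ∈ X, a ∈ dodecads := fun X hX a ha => by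
      obtain ⟨d, hd, rfl⟩ := (Set.Finite.mem_toFinset _).mp hX
      simp only [mem_insert, mem_singleton] at ha
      rcases ha with rfl | rfl
      exacts [hd, compl_mem_dodecads hd]
    have hdet : ∀ X ∈ F, ∀ a ∈ X, X = {a, aᶜ} := fun X hX a ha => by
      obtain ⟨d, hd, rfl⟩ := (Set.Finite.mem_toFinset _).mp hX
      simp only [mem_insert, mem_singleton] at ha
      rcases ha with rfl | rfl
      · rfl
      · rw [compl_compl, pair_comm]
    have hdisj : (F : Set Obj).PairwiseDisjoint id := fun X hX Y hY hne => by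
      rw [Function.onFun, disjoint_left]
      exact fun a ha ha' => hne ((hdet X hX a ha).trans (hdet Y hY a ha').symm)
    have h1 : (F.biUnion id).card ≤ 2576 := by
      rw [← dodecad_count, ← Set.ncard_coe_finset]
      refine Set.ncard_le_ncard (fun a ha => ?_) (Set.toFinite _)
      obtain ⟨X, hX, ha'⟩ := mem_biUnion.mp (mem_coe.mp ha)
      exact hdod X hX a ha'
    rw [card_biUnion hdisj, sum_congr rfl (g := fun _ => 2) (fun X hX => by
      obtain ⟨d, hd, rfl⟩ := (Set.Finite.mem_toFinset _).mp hX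
      refine card_pair fun h => ?_
      have hp := Finset.ext_iff.mp h none
      simp at hp), sum_const, smul_eq_mul] at h1
    rw [Set.ncard_eq_toFinset_card _ (Set.toFinite _), ← hF]
    omega

end CfsgLib.Golay.Cert
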