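/-
Consequences of the orbit certificates in arbitrary position.
-/
import Cfsg.Agent.Golay.CatTools

set_option autoImplicit false

namespace CfsgLib.Golay.Cert

open Cfsg CfsgLib.Golay
open scoped Pointwise

/-- Objects with equal invariant vectors are conjugate under the elements fixing the base. -/
def Trans (C : Cat) (B : List Obj) : Prop :=
  ∀ X Y, C.Mem X → C.Mem Y → sig B X = sig B Y → ∃ g : M24, Fix B g ∧ g • X = Y

theorem Cat.trans' {C : Cat} {B gens : List (List ℕ)} {Ds : List OrbitData} {ns : List ℕ}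
    (h : C.orbitsOK B gens Ds ns = true) : Trans C (B.map toObj) := by
  obtain ⟨h1, h2⟩ := Cat.isTrans h
  simp only [Cat.orbitsOK, Bool.and_eq_true, beq_iff_eq] at h
  obtain ⟨hlen, -, -⟩ := C.cover_spec Ds ns 0 _ h.2
  intro X Y hX hY he
  obtain ⟨k, hk, hv⟩ := List.mem_iff_getElem.mp (h1 X hX)
  have hk' : k < Ds.length := by simpa using hk
  have hv' : (Ds.getD k ([], 0, [])).1 = sig (B.map toObj) X := by
    rw [List.getD_eq_getElem _ _ hk', ← hv, List.getElem_map]
  exact (h2 k (hlen ▸ hk')).trans X Y hX hv'.symm hY (he.symm.trans hv'.symm)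

/-- The number of objects with a given invariant vector, looked up by its index. -/
theorem Cat.count' {C : Cat} {B gens : List (List ℕ)} {Ds : List OrbitData} {ns : List ℕ}
    (h : C.orbitsOK B gens Ds ns = true) (k : ℕ) (hk : k < ns.length) {v : List ℕ} {n : ℕ}
    (hv : (Ds.getD k ([], 0, [])).1 = v) (hn : ns.getD k 0 = n) : IsTrans C (B.map toObj) v n :=
  hv ▸ hn ▸ (Cat.isTrans h).2 k hk

theorem Trans.conj {C : Cat} (hC : C.Inv) {B : List Obj} (h : Trans C B) (k : M24) :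
    Trans C (B.map (k • ·)) := by
  intro X Y hX hY he
  have hback : ∀ Z, sig (B.map (k • ·)) Z = sig B (k⁻¹ • Z) := fun Z => by
    conv_rhs => rw [← sig_smul k, smul_inv_smul]
  obtain ⟨g, hg, hgX⟩ := h _ _ (hC k⁻¹ _ hX) (hC k⁻¹ _ hY) (by rw [← hback, ← hback, he])
  refine ⟨k * g * k⁻¹, fun A hA => ?_, by rw [mul_smul, mul_smul, hgX, smul_inv_smul]⟩
  obtain ⟨A', hA', rfl⟩ := List.mem_map.mp hA
  rw [mul_smul, mul_smul, inv_smul_smul, hg A' hA']

theorem Trans.at {C : Cat} (hC : C.Inv) {B B' : List Obj} (h : Trans C B) {k : M24}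
    (hk : B.map (k • ·) = B') : Trans C B' := hk ▸ h.conj hC k

theorem IsTrans.at {C : Cat} (hC : C.Inv) {B B' : List Obj} {v : List ℕ} {n : ℕ}
    (h : IsTrans C B v n) {k : M24} (hk : B.map (k • ·) = B') : IsTrans C B' v n := hk ▸ h.conj hC k

/-- Transitivity on a family of sets. -/
theorem Trans.sets {C : Cat} {F : Set (Finset GolayPt)} (hF : one' '' F = {X | C.Mem X})
    {B : List Obj} (h : Trans C B) {s t : Finset GolayPt} (hs : s ∈ F) (ht : t ∈ F)
    (he : sig B (one' s) = sig B (one' t)) : ∃ g : M24, Fix B g ∧ g • s = t := by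
  have hm : ∀ u ∈ F, C.Mem (one' u) := fun u hu => hF.le ⟨u, hu, rfl⟩
  obtain ⟨g, hg, hgs⟩ := h _ _ (hm s hs) (hm t ht) he
  exact ⟨g, hg, one'_inj.mp ((smul_one' g s).symm.trans hgs)⟩

/-- Counting in a family of sets. -/
theorem IsTrans.count_sets {C : Cat} {F : Set (Finset GolayPt)} (hF : one' '' F = {X | C.Mem X})
    {B : List Obj} {v : List ℕ} {n : ℕ} (h : IsTrans C B v n) {S : Set (Finset GolayPt)}
    (hS : ∀ s, s ∈ S ↔ s ∈ F ∧ sig B (one' s) = v) : S.ncard = n := by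
  rw [← h.ncard, ← Set.ncard_image_of_injective S one'_injective]
  congr 1
  ext X
  constructor
  · rintro ⟨s, hs, rfl⟩
    exact ⟨hF.le ⟨s, ((hS s).mp hs).1, rfl⟩, ((hS s).mp hs).2⟩
  · rintro ⟨hX, hv⟩
    obtain ⟨s, hs, rfl⟩ := hF.ge hX
    exact ⟨s, (hS s).mpr ⟨hs, hv⟩, rfl⟩

/-- Two points anywhere. -/
theorem exists_map_two {p q p' q' : GolayPt} (h : p ≠ q) (h' : p' ≠ q') :
    ∃ g : M24, g • p = p' ∧ g • q = q' := by
  have key : ∀ {a b : GolayPt}, a ≠ b → ∃ g ∈ M24, g (bp 0) = a ∧ g (bp 1) = b := by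
    intro a b hab
    obtain ⟨g, hg, hgx⟩ := exists_mem_map_base 2 (by norm_num) (fun i => if i = 0 then a else b)
      fun i hi j hj he => by
        interval_cases i <;> interval_cases j <;> simp_all
    exact ⟨g, hg, hgx 0 (by norm_num), hgx 1 (by norm_num)⟩
  obtain ⟨a, ha, ha0, ha1⟩ := key h
  obtain ⟨b, hb, hb0, hb1⟩ := key h'
  refine ⟨⟨b * a⁻¹, mul_mem hb (inv_mem ha)⟩, ?_, ?_⟩
  · show b (a⁻¹ p) = p'
    rw [← ha0, Equiv.Perm.inv_def, Equiv.symm_apply_apply, hb0]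
  · show b (a⁻¹ q) = q'
    rw [← ha1, Equiv.Perm.inv_def, Equiv.symm_apply_apply, hb1]

theorem pts_two_pow (p : GolayPt) : pts (2 ^ idx p) = {p} := by
  ext q
  simp only [pts, Finset.mem_filter, Finset.mem_univ, true_and, Finset.mem_singleton,
    Nat.testBit_two_pow, decide_eq_true_eq]
  exact ⟨fun h => (idx_injective h).symm, fun h => h ▸ rfl⟩

theorem toObj_point (m i : ℕ) (hi : i < 24) (hm : m = 2 ^ i) : toObj [m] = ptO (pt i) := by
  rw [hm, toObj_one]
  conv_lhs => rw [← idx_pt i hi, pts_two_pow]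
  rfl

theorem mem_pts {m : ℕ} {p : GolayPt} : p ∈ pts m ↔ m.testBit (idx p) = true := by simp [pts]

theorem smul_mem_iff' (g : M24) {p : GolayPt} {s : Finset GolayPt} : g • p ∈ g • s ↔ p ∈ s :=
  Finset.smul_mem_smul_finset_iff g

end CfsgLib.Golay.Cert
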