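/-
Orbits of a stabiliser on a catalogued family, from a certificate.
-/
import Cfsg.Agent.Golay.StabTools

set_option autoImplicit false

namespace CfsgLib.Golay.Cert

open Cfsg CfsgLib.Golay
open scoped Pointwise

/-- The classes of the listed vectors exhaust the catalogue and are transitive of the listed sizes. -/
structure Layout (C : Cat) (B : List Obj) (L : List (List ℕ × ℕ)) : Prop where
  all : ∀ X, C.Mem X → sig B X ∈ L.map (·.1)
  each : ∀ p ∈ L, IsTrans C B p.1 p.2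

theorem Cat.layout {C : Cat} {B gens : List (List ℕ)} {Ds : List OrbitData} {ns : List ℕ}
    (h : C.orbitsOK B gens Ds ns = true) {L : List (List ℕ × ℕ)} (hL : L = (Ds.map (·.1)).zip ns) :
    Layout C (B.map toObj) L := by
  obtain ⟨h1, h2⟩ := Cat.isTrans h
  simp only [Cat.orbitsOK, Bool.and_eq_true, beq_iff_eq] at h
  obtain ⟨hlen, -, -⟩ := C.cover_spec Ds ns 0 _ h.2
  subst hL
  refine ⟨fun X hX => ?_, fun p hp => ?_⟩
  · rw [List.map_fst_zip (by simp [hlen])]
    exact h1 X hX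
  · obtain ⟨k, hk, rfl⟩ := List.mem_iff_getElem.mp hp
    have hk1 : k < Ds.length := by simp only [List.length_zip, List.length_map] at hk; omega
    have hk2 : k < ns.length := hlen ▸ hk1
    have := h2 k hk2
    rw [List.getD_eq_getElem _ _ hk1, List.getD_eq_getElem _ _ hk2] at this
    simpa using this

theorem Layout.at {C : Cat} (hC : C.Inv) {B B' : List Obj} {L : List (List ℕ × ℕ)} (h : Layout C B L)
    {k : M24} (hk : B.map (k • ·) = B') : Layout C B' L := by
  subst hk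
  refine ⟨fun X hX => ?_, fun p hp => (h.each p hp).conj hC k⟩
  have := h.all _ (hC k⁻¹ X hX)
  rwa [← sig_smul k, smul_inv_smul] at this

theorem Layout.class_nonempty {C : Cat} {B : List Obj} {L : List (List ℕ × ℕ)} (h : Layout C B L)
    {v : List ℕ} {n : ℕ} (hvn : (v, n) ∈ L) (hn : n ≠ 0) : ∃ X, C.Mem X ∧ sig B X = v :=
  Set.nonempty_of_ncard_ne_zero (s := {X | C.Mem X ∧ sig B X = v}) (by rw [(h.each _ hvn).ncard]; exact hn)

/-- Each class is an orbit of the stabiliser of the base. -/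
theorem Layout.orbit {C : Cat} (hC : C.Inv) {B : List Obj} {L : List (List ℕ × ℕ)} (h : Layout C B L)
    {K : Subgroup M24} (hK : ∀ g, g ∈ K ↔ Fix B g) {v : List ℕ} {n : ℕ} (hvn : (v, n) ∈ L) (hn : n ≠ 0) :
    ∃ X, C.Mem X ∧ (MulAction.orbit K X).ncard = n ∧ MulAction.orbit K X = {Y | C.Mem Y ∧ sig B Y = v} := by
  obtain ⟨X, hX, hv⟩ := h.class_nonempty hvn hn
  have := (h.each _ hvn).orbit_eq hC hK hX hv
  exact ⟨X, hX, this ▸ (h.each _ hvn).ncard, this⟩

/-- The same for a family of sets. -/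
theorem Layout.orbit_sets {C : Cat} (hC : C.Inv) {F : Set (Finset GolayPt)}
    (hF : one' '' F = {X | C.Mem X}) {B : List Obj} {L : List (List ℕ × ℕ)} (h : Layout C B L)
    {K : Subgroup M24} (hK : ∀ g, g ∈ K ↔ Fix B g) {v : List ℕ} {n : ℕ} (hvn : (v, n) ∈ L) (hn : n ≠ 0) :
    ∃ s ∈ F, (MulAction.orbit K s).ncard = n ∧ MulAction.orbit K s = {t | t ∈ F ∧ sig B (one' t) = v} := by
  obtain ⟨X, hX, hn', he⟩ := h.orbit hC hK hvn hn
  obtain ⟨s, hs, rfl⟩ := hF.ge hX
  have horb : MulAction.orbit K s = {t | t ∈ F ∧ sig B (one' t) = v} := by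
    ext t
    constructor
    · rintro ⟨g, rfl⟩
      have hmem : one' (g • s) ∈ MulAction.orbit K (one' s) := ⟨g, smul_one' g.1 s⟩
      rw [he] at hmem
      obtain ⟨u, hu, hu'⟩ := hF.ge hmem.1
      obtain rfl : u = g.1 • s := one'_inj.mp hu'
      exact ⟨hu, hmem.2⟩
    · rintro ⟨ht, htv⟩
      have hmem : one' t ∈ MulAction.orbit K (one' s) := by rw [he]; exact ⟨hF.le ⟨t, ht, rfl⟩, htv⟩
      obtain ⟨g, hg⟩ := hmem
      exact ⟨g, one'_inj.mp ((smul_one' g.1 s).symm.trans hg)⟩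
  refine ⟨s, hs, ?_, horb⟩
  rw [horb]
  exact (h.each _ hvn).count_sets hF fun t => Iff.rfl

theorem Layout.all_sets {C : Cat} {F : Set (Finset GolayPt)}
    (hF : one' '' F = {X | C.Mem X}) {B : List Obj} {L : List (List ℕ × ℕ)} (h : Layout C B L)
    {s : Finset GolayPt} (hs : s ∈ F) : sig B (one' s) ∈ L.map (·.1) := h.all _ (hF.le ⟨s, hs, rfl⟩)

/-- A catalogue member at a given index. -/
theorem Cat.mem_of_eq {C : Cat} {A : List ℕ} (i : ℕ) (hi : i < C.size) (h : C.obj i = A) :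
    C.Mem (toObj A) := ⟨i, hi, by rw [h]⟩

end CfsgLib.Golay.Cert
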