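/-
Dodecads, dodecads with a point, and complementary pairs moved to standard position.
-/
import Cfsg.Agent.Golay.OrbitTools
import Cfsg.Agent.Golay.FamOne
import Cfsg.Agent.Golay.MathieuSmall
import Cfsg.Agent.Golay.Orb.DodBase
import Cfsg.Agent.Golay.Orb.DodPt
import Cfsg.Agent.Golay.Orb.DPairBase

set_option autoImplicit false

namespace CfsgLib.Golay.Cert

open Cfsg CfsgLib.Golay
open scoped Pointwise

theorem refDod_eq : refDodecad = pts 8442831 := rfl

theorem bDod_eq : bDod.map toObj = [one' refDodecad] := by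
  simp only [bDod, List.map_cons, List.map_nil, toObj_one, refDod_eq]

theorem bDodIn_eq : bDodIn.map toObj = [ptO (pt 0), one' refDodecad] := by
  simp only [bDodIn, List.map_cons, List.map_nil, toObj_point 1 0 (by norm_num) (by norm_num), toObj_one, refDod_eq]

theorem bDPair_eq : bDPair.map toObj = [({refDodecad, refDodecadᶜ} : Obj)] := by
  have hc : (pts 8442831)ᶜ = pts 8334384 := by decide +kernel
  simp only [bDPair, List.map_cons, List.map_nil, refDod_eq, hc]
  congr 1
  rw [Finset.pair_comm]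
  simp [toObj]

theorem map_dodecad {d : Finset GolayPt} (hd : d ∈ dodecads) :
    ∃ k : M24, [one' refDodecad].map (k • ·) = [one' d] := by
  obtain ⟨k, hk⟩ := exists_smul_refDodecad hd
  exact ⟨k, by simp [smul_one', hk]⟩

theorem map_dPair {d : Finset GolayPt} (hd : d ∈ dodecads) :
    ∃ k : M24, [({refDodecad, refDodecadᶜ} : Obj)].map (k • ·) = [({d, dᶜ} : Obj)] := by
  obtain ⟨k, hk⟩ := exists_smul_refDodecad hd
  exact ⟨k, by simp only [List.map_cons, List.map_nil, smul_dPair, hk]⟩

theorem map_dodecad_pt {d : Finset GolayPt} (hd : d ∈ dodecads) {x : GolayPt} (hx : x ∈ d) :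
    ∃ k : M24, [ptO (pt 0), one' refDodecad].map (k • ·) = [ptO x, one' d] := by
  obtain ⟨a, ha⟩ := exists_smul_refDodecad hd
  have h0 : pt 0 ∈ refDodecad := by rw [refDod_eq, mem_pts]; decide +kernel
  have h0' : a • pt 0 ∈ d := ha ▸ (smul_mem_iff' a).mpr h0
  have hc : 1 < d.card := by rw [dodecad_card hd]; norm_num
  obtain ⟨b, hb, hbne⟩ := Finset.exists_mem_ne hc (a • pt 0)
  obtain ⟨w, hw, hwne⟩ := Finset.exists_mem_ne hc x
  obtain ⟨g, hg1, -⟩ := exists_dodecad_two hd h0' hb hx hw hbne.symm hwne.symm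
  refine ⟨g.1 * a, ?_⟩
  have h1 : (g.1 * a) • pt 0 = x := by rw [mul_smul]; exact hg1
  have h2 : (g.1 * a) • refDodecad = d := by rw [mul_smul, ha, MulAction.mem_stabilizer_iff.mp g.2]
  simp [smul_one', smul_ptO, h1, h2]

theorem sig_one_iff {d x : Finset GolayPt} {i : ℕ} :
    sig [one' d] (one' x) = [100 ^ i] ↔ (d ∩ x).card = i := by
  simp only [sig, List.map_cons, List.map_nil, J_one'_one', List.cons.injEq, and_true]
  exact ⟨pow100_inj, fun h => h ▸ rfl⟩

theorem sig_pt_one_iff {p : GolayPt} {d x : Finset GolayPt} {a i : ℕ} :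
    sig [ptO p, one' d] (one' x) = [a, 100 ^ i] ↔ (if p ∈ x then 100 else 1) = a ∧ (d ∩ x).card = i := by
  simp only [sig, List.map_cons, List.map_nil, J_ptO_one', J_one'_one', List.cons.injEq, and_true]
  exact and_congr_right fun _ => ⟨pow100_inj, fun h => h ▸ rfl⟩

end CfsgLib.Golay.Cert
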