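/-
The pointwise stabiliser of an octad, and the action of a point stabiliser of a dodecad group on
the complementary dodecad.
-/
import Cfsg.Agent.Golay.Dodecad

set_option autoImplicit false

namespace CfsgLib.Golay

open Cfsg MulAction
open scoped Pointwise

unseal tableL in
theorem orb_six_invol : ∀ e ∈ orb 6,
    compL (tableL.getD e.2 (List.range 24)) (tableL.getD e.2 (List.range 24)) = List.range 24 ∧
    ∀ i < 24, baseOctad.testBit i → (tableL.getD e.2 (List.range 24)).getD i 0 = i := by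
  decide +kernel

theorem St6_eq : St 6 = M24 ⊓ fixingSubgroup (Equiv.Perm GolayPt) (pts baseOctad : Set GolayPt) ∧
    ∀ g ∈ St 6, g * g = 1 := by
  have key : ∀ g ∈ St 6, ∃ e ∈ orb 6, g = elt e.2 := by
    intro g hg
    obtain ⟨hgM, hgfix⟩ := mem_St.mp hg
    obtain ⟨e, he, hx⟩ := orbit_covers (show 6 < 7 by norm_num) (M24_le_octAut hgM) hgfix
    refine ⟨e, he, ?_⟩
    have h1 : (elt e.2)⁻¹ * g = 1 := octAut_rigid
      (mul_mem (inv_mem (M24_le_octAut (elt_mem_M24 _))) (M24_le_octAut hgM)) fun j hj => by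
        rw [Equiv.Perm.mul_apply, Equiv.Perm.inv_def, Equiv.symm_apply_eq]
        rcases Nat.lt_succ_iff_lt_or_eq.mp hj with h | rfl
        · rw [hgfix j h, (orb_apply (by norm_num) he).2 j h]
        · exact hx.symm
    exact (inv_mul_eq_one.mp h1).symm
  refine ⟨le_antisymm ?_ ?_, ?_⟩
  · intro g hg
    obtain ⟨e, he, rfl⟩ := key g hg
    refine ⟨elt_mem_M24 _, ?_⟩
    show elt e.2 ∈ fixingSubgroup (Equiv.Perm GolayPt) _
    rw [mem_fixingSubgroup_iff]
    intro p hp
    simp only [pts, Finset.coe_filter, Finset.mem_univ, true_and, Set.mem_ofPred_eq] at hp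
    refine idx_injective ?_
    rw [Equiv.Perm.smul_def, idx_elt]
    exact (orb_six_invol e he).2 _ (idx_lt p) hp
  · intro g hg
    refine mem_St.mpr ⟨hg.1, fun j hj => ?_⟩
    refine (mem_fixingSubgroup_iff (Equiv.Perm GolayPt)).mp hg.2 _ ?_
    rw [Finset.mem_coe]
    rcases Nat.lt_succ_iff_lt_or_eq.mp hj with h | rfl
    · exact bp_mem_baseOctad j h
    · simp only [pts, Finset.mem_filter, Finset.mem_univ, true_and, idx_bp 5 (by norm_num)]
      exact baseOctad_spec.2.2.2.2
  · intro g hg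
    obtain ⟨e, he, rfl⟩ := key g hg
    have h : toList (elt e.2 * elt e.2) = toList 1 := by
      rw [toList_mul, toList_elt, toList_one, (orb_six_invol e he).1]
    refine Equiv.ext fun p => idx_injective ?_
    rw [← toList_getD_idx, h, toList_getD_idx]

theorem octad_fixing {o : Finset GolayPt} (ho : o ∈ octads) :
    Nat.card ↥(M24 ⊓ fixingSubgroup (Equiv.Perm GolayPt) (o : Set GolayPt)) = 16 ∧
      ∀ g ∈ M24 ⊓ fixingSubgroup (Equiv.Perm GolayPt) (o : Set GolayPt), g * g = 1 := by
  obtain ⟨a, ha, hao⟩ := exists_map_baseOctad ho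
  have hconj : ∀ g, g ∈ M24 ⊓ fixingSubgroup (Equiv.Perm GolayPt) (o : Set GolayPt) ↔
      a⁻¹ * g * a ∈ St 6 := by
    intro g
    rw [St6_eq.1, Subgroup.mem_inf, Subgroup.mem_inf, mem_fixingSubgroup_iff,
      mem_fixingSubgroup_iff]
    refine and_congr ⟨fun h => mul_mem (mul_mem (inv_mem ha) h) ha, fun h => ?_⟩
      ⟨fun h p hp => ?_, fun h q hq => ?_⟩
    · have := mul_mem (mul_mem ha h) (inv_mem ha)
      simpa [mul_assoc] using this
    · have := h (a p) (by rw [← hao]; exact Finset.mem_image_of_mem _ hp)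
      simp only [Equiv.Perm.smul_def] at this ⊢
      simp [this]
    · rw [← hao, Finset.coe_image] at hq
      obtain ⟨p, hp, rfl⟩ := hq
      have := h p hp
      simp only [Equiv.Perm.smul_def, Equiv.Perm.mul_apply, Equiv.Perm.inv_def,
        Equiv.symm_apply_eq] at this
      exact this
  refine ⟨?_, fun g hg => ?_⟩
  · rw [show (16 : ℕ) = Nat.card (St 6) from (card_St 6 (by norm_num)).symm]
    refine Nat.card_congr (Equiv.subtypeEquiv (MulAut.conj a⁻¹).toEquiv fun g => ?_)
    simpa using hconj g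
  · have h := St6_eq.2 _ ((hconj g).mp hg)
    have h' := congrArg (fun z => a * z * a⁻¹) h
    simpa [mul_assoc] using h'

/-- The positions outside the reference dodecad used in the certificate. -/
def op (i : ℕ) : GolayPt := pt (outIdx.getD i 0)

unseal tableL in
theorem m11Orbit_spec : ∀ i < 3, ∀ e ∈ m11Orbit.getD i [],
    (wordEltL e.2).getD (outIdx.getD i 0) 0 = e.1 ∧
    (∀ j < i, (wordEltL e.2).getD (outIdx.getD j 0) 0 = outIdx.getD j 0) ∧
    (wordEltL e.2).getD 0 0 = 0 ∧
    permMask (wordEltL e.2) dodecadMask 24 = dodecadMask := by decide +kernel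

theorem m11Orbit_covers_check : ∀ i < 3, ∀ x < 24, dodecadMask.testBit x = true ∨
    (∃ j < i, x = outIdx.getD j 0) ∨ x ∈ (m11Orbit.getD i []).map Prod.fst := by decide +kernel

theorem m11Orbit_covers (i : ℕ) (hi : i < 3) (x : ℕ) (hx : x < 24)
    (hm : dodecadMask.testBit x = false) (hne : ∀ j < i, x ≠ outIdx.getD j 0) :
    x ∈ (m11Orbit.getD i []).map Prod.fst := by
  rcases m11Orbit_covers_check i hi x hx with h | ⟨j, hj, h⟩ | h
  · rw [hm] at h; exact Bool.noConfusion h
  · exact absurd h (hne j hj)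
  · exact h

theorem outIdx_lt : ∀ j < 3, outIdx.getD j 0 < 24 := by decide +kernel

theorem exists_map_out : ∀ k ≤ 3, ∀ x : ℕ → GolayPt,
    (∀ i < k, ∀ j < k, x i = x j → i = j) → (∀ i < k, x i ∉ refDodecad) →
    ∃ g ∈ stabilizer M24 refDodecad ⊓ stabilizer M24 (some 0 : GolayPt),
      ∀ j < k, (g : Equiv.Perm GolayPt) (op j) = x j := by
  intro k
  induction k with
  | zero => intro _ x _ _; exact ⟨1, one_mem _, by simp⟩
  | succ k ih =>
    intro hk x hx hout
    obtain ⟨g, hg, hgx⟩ := ih (by omega) x (fun i hi j hj => hx i (by omega) j (by omega))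
      fun i hi => hout i (by omega)
    set z := (g : Equiv.Perm GolayPt)⁻¹ (x k) with hz
    have hgz : (g : Equiv.Perm GolayPt) z = x k := Equiv.apply_symm_apply _ _
    have hzout : dodecadMask.testBit (idx z) = false := by
      rw [Bool.eq_false_iff]
      intro h
      have hzd : z ∈ refDodecad := by simpa [refDodecad, pts] using h
      apply hout k (by omega)
      rw [← hgz, ← mem_stabilizer_iff.mp hg.1]
      exact Finset.smul_mem_smul_finset (a := g) hzd
    have hne : ∀ j < k, idx z ≠ outIdx.getD j 0 := by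
      intro j hj h
      have hzj : z = op j := by rw [op, ← h, pt_idx]
      have := (hx j (by omega) k (by omega) (by rw [← hgx j hj, ← hzj, hgz]))
      omega
    obtain ⟨e, he, hx1⟩ := List.mem_map.mp
      (m11Orbit_covers k (by omega) _ (idx_lt _) hzout hne)
    obtain ⟨h1, h2, h3, h4⟩ := m11Orbit_spec k (by omega) e he
    have happ : ∀ j, j < 24 → idx ((wordEltM e.2 : Equiv.Perm GolayPt) (pt j)) =
        (wordEltL e.2).getD j 0 := fun j hj => by rw [← toList_wordEltM, toList_getD _ hj]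
    refine ⟨g * wordEltM e.2, mul_mem hg ⟨?_, ?_⟩, fun j hj => ?_⟩
    · show wordEltM e.2 • refDodecad = refDodecad
      rw [refDodecad, smul_pts, toList_wordEltM, h4]
    · show (wordEltM e.2 : Equiv.Perm GolayPt) (some 0) = some 0
      have h0 := (happ 0 (by norm_num)).trans h3
      have hp0 : pt 0 = some 0 := by decide +kernel
      rw [hp0] at h0
      exact idx_injective (h0.trans (show 0 = idx (some 0) by decide +kernel))
    · show (g : Equiv.Perm GolayPt) ((wordEltM e.2 : Equiv.Perm GolayPt) (op j)) = x j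
      rcases Nat.lt_succ_iff_lt_or_eq.mp hj with h | rfl
      · rw [show (wordEltM e.2 : Equiv.Perm GolayPt) (op j) = op j from idx_injective ?_, hgx j h]
        rw [op, happ _ (outIdx_lt j (by omega)), h2 j h, idx_pt _ (outIdx_lt j (by omega))]
      · rw [show (wordEltM e.2 : Equiv.Perm GolayPt) (op j) = z from idx_injective ?_, hgz]
        rw [op, happ _ (outIdx_lt j (by omega)), h1, hx1]

theorem three_transitive_complement {d : Finset GolayPt} (hd : d ∈ dodecads) {p : GolayPt}
    (hp : p ∈ d) (x y : Fin 3 ↪ GolayPt) (hx : ∀ i, x i ∉ d) (hy : ∀ i, y i ∉ d) :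
    ∃ g ∈ stabilizer M24 d ⊓ stabilizer M24 p,
      ∀ i, (g : Equiv.Perm GolayPt) (x i) = y i := by
  -- move `(refDodecad, 0)` to `(d, p)`
  obtain ⟨a, had, hap⟩ : ∃ a : M24, a • refDodecad = d ∧ a • (some 0 : GolayPt) = p := by
    obtain ⟨t, ht, htc⟩ := Finset.exists_subset_card_eq (s := d.erase p) (n := 4)
      (by rw [Finset.card_erase_of_mem hp, dodecad_card hd]; norm_num)
    let e : Fin 4 ≃ t := (Fintype.equivFinOfCardEq (by simp [htc])).symm
    have hmem : ∀ i, (e i : GolayPt) ≠ p ∧ (e i : GolayPt) ∈ d := fun i =>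
      Finset.mem_erase.mp (ht (e i).2)
    have he : ∀ i j, (e i : GolayPt) = e j → i = j := fun i j h => e.injective (Subtype.ext h)
    let u : Fin 5 ↪ GolayPt := ⟨![(e 0 : GolayPt), p, e 1, e 2, e 3], by
      intro i j
      fin_cases i <;> fin_cases j <;>
        simp [(hmem 0).1, (hmem 1).1, (hmem 2).1, (hmem 3).1, Ne.symm (hmem 0).1,
          Ne.symm (hmem 1).1, Ne.symm (hmem 2).1, Ne.symm (hmem 3).1,
          (e.injective.eq_iff), Subtype.coe_inj]⟩
    have hu : ∀ i, u i ∈ d := by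
      intro i
      fin_cases i
      exacts [(hmem 0).2, hp, (hmem 1).2, (hmem 2).2, (hmem 3).2]
    obtain ⟨a, ha, had⟩ := exists_map_five hd u hu
    refine ⟨a, had, ?_⟩
    have hb1 : bp 1 = some 0 := by decide +kernel
    rw [← hb1]
    exact ha 1
  have key : ∀ z : Fin 3 ↪ GolayPt, (∀ i, z i ∉ d) → ∃ g : M24, g • refDodecad = d ∧
      g • (some 0 : GolayPt) = p ∧ ∀ i : Fin 3, (g : Equiv.Perm GolayPt) (op i) = z i := by
    intro z hz
    obtain ⟨g, hg, hgz⟩ := exists_map_out 3 le_rfl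
      (fun i => if h : i < 3 then (a : Equiv.Perm GolayPt)⁻¹ (z ⟨i, h⟩) else none)
      (fun i hi j hj h => by simpa [hi, hj] using h) (fun i hi hmem => by
        simp only [hi, dif_pos] at hmem
        apply hz ⟨i, hi⟩
        have h' := Finset.smul_mem_smul_finset (a := a) hmem
        rw [had] at h'
        simpa [Subgroup.smul_def] using h')
    refine ⟨a * g, ?_, ?_, fun i => ?_⟩
    · rw [mul_smul, mem_stabilizer_iff.mp hg.1, had]
    · rw [mul_smul, mem_stabilizer_iff.mp hg.2, hap]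
    · show (a : Equiv.Perm GolayPt) ((g : Equiv.Perm GolayPt) (op i)) = z i
      rw [hgz i i.2]; simp
  obtain ⟨b, hb1, hb2, hb3⟩ := key x hx
  obtain ⟨c, hc1, hc2, hc3⟩ := key y hy
  refine ⟨c * b⁻¹, ⟨?_, ?_⟩, fun i => ?_⟩
  · show (c * b⁻¹) • d = d
    rw [mul_smul, inv_smul_eq_iff.mpr hb1.symm, hc1]
  · show (c * b⁻¹) • p = p
    rw [mul_smul, inv_smul_eq_iff.mpr hb2.symm, hc2]
  · show (c : Equiv.Perm GolayPt) ((b : Equiv.Perm GolayPt)⁻¹ (x i)) = y i
    rw [← hb3 i, Equiv.Perm.inv_def, Equiv.symm_apply_apply, hc3 i]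

end CfsgLib.Golay
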