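/-
Maximality of a stabiliser from the sizes of its orbits.
-/
import Cfsg.Agent.Golay.OrbitTools

set_option autoImplicit false

namespace CfsgLib.Golay.Cert

open Cfsg CfsgLib.Golay
open scoped Pointwise

/-- The only unions of classes, containing at least two objects, of a size dividing the number of
all objects, are full: then the stabiliser of `A` is maximal. -/
theorem Layout.isCoatom' {C : Cat} {A : Obj} {B : List Obj} {L : List (List ℕ × ℕ)} {N : ℕ} (hC : C.Inv)
    (hT : IsTrans C [] [] N) (hA : C.Mem A)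
    (hB : ∀ g : M24, g • A = A ↔ Fix B g) (h : Layout C B L) (hnd : (L.map (·.1)).Nodup)
    (hN : 1 < N) (hdiv : ∀ l ∈ L.sublists, (l.map (·.2)).sum ∣ N → (l.map (·.2)).sum ≤ 1 ∨ (l.map (·.2)).sum = N) :
    IsCoatom (MulAction.stabilizer M24 A) := by
  classical
  set K := MulAction.stabilizer M24 A with hKdef
  have hKfix : ∀ g, g ∈ K ↔ Fix B g := fun g => MulAction.mem_stabilizer_iff.trans (hB g)
  have hcardK : Nat.card K * N = Nat.card M24 := by
    have h1 := hT.card_mul hC (K := (⊤ : Subgroup M24)) (fun g => by simp [Fix]) hA rfl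
    rw [top_inf_eq, ← hKdef, Subgroup.card_top] at h1
    exact h1
  have hKpos : 0 < Nat.card K := Nat.card_pos
  refine ⟨fun htop => ?_, fun H hKH => ?_⟩
  · rw [htop, Subgroup.card_top] at hcardK
    have : 0 < Nat.card M24 := Nat.card_pos
    nlinarith
  set O := MulAction.orbit H A with hO
  have hOmem : ∀ X ∈ O, C.Mem X := by
    rintro X ⟨g, rfl⟩
    exact hC g.1 A hA
  have hclosed : ∀ X ∈ O, ∀ Y, C.Mem Y → sig B Y = sig B X → Y ∈ O := by
    rintro X ⟨g, rfl⟩ Y hY he
    obtain ⟨p, hp, hpe⟩ := List.mem_map.mp (h.all _ (hOmem _ ⟨g, rfl⟩))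
    obtain ⟨k, hk, hkY⟩ := (h.each p hp).trans _ Y (hOmem _ ⟨g, rfl⟩) hpe.symm hY (he.trans hpe.symm)
    exact ⟨⟨k, hKH.le ((hKfix k).mpr hk)⟩ * g, by rw [← hkY]; exact mul_smul _ _ _⟩
  set P : List ℕ × ℕ → Bool := fun p => decide (∃ X ∈ O, sig B X = p.1)
  have hOcard : O.ncard = ((L.filter P).map (·.2)).sum := by
    rw [Set.ncard_eq_toFinset_card _ (Set.toFinite O)]
    rw [Finset.card_eq_sum_card_fiberwise (f := sig B) (t := ((L.filter P).map (·.1)).toFinset)]
    · have hnd' : ((L.filter P).map (·.1)).Nodup := hnd.sublist (List.filter_sublist.map _)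
      rw [List.sum_toFinset _ hnd', List.map_map]
      refine congrArg List.sum (List.map_congr_left fun p hp => ?_)
      obtain ⟨hpL, hpP⟩ := List.mem_filter.mp hp
      obtain ⟨X, hX, hXp⟩ := of_decide_eq_true hpP
      rw [Function.comp_apply, ← (h.each p hpL).ncard, ← Set.ncard_coe_finset]
      refine congrArg Set.ncard ?_
      ext Y
      simp only [Finset.coe_filter, Set.Finite.mem_toFinset, Set.mem_ofPred_eq]
      exact ⟨fun hY => ⟨hOmem Y hY.1, hY.2⟩, fun hY => ⟨hclosed X hX Y hY.1 (hY.2.trans hXp.symm), hY.2⟩⟩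
    · intro X hX
      simp only [Finset.mem_coe, Set.Finite.mem_toFinset] at hX
      simp only [List.coe_toFinset, Set.mem_ofPred_eq, List.mem_map, List.mem_filter]
      obtain ⟨p, hp, hpe⟩ := List.mem_map.mp (h.all _ (hOmem X hX))
      exact ⟨p, ⟨hp, decide_eq_true ⟨X, hX, hpe.symm⟩⟩, hpe⟩
  have hHO : O.ncard * Nat.card K = Nat.card H := by
    rw [Subgroup.card_eq_card_quotient_mul_card_subgroup (MulAction.stabilizer H A),
      ← Nat.card_congr (MulAction.orbitEquivQuotientStabilizer H A), Nat.card_coe_set_eq]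
    refine congrArg (O.ncard * ·) (Nat.card_congr ?_)
    exact { toFun := fun g => ⟨⟨g.1, hKH.le g.2⟩, g.2⟩
            invFun := fun g => ⟨g.1.1, g.2⟩
            left_inv := fun _ => rfl
            right_inv := fun _ => rfl }
  have hdvd : O.ncard ∣ N := by
    have := Subgroup.card_subgroup_dvd_card H
    rw [← hHO, ← hcardK, mul_comm (Nat.card K) N] at this
    exact Nat.dvd_of_mul_dvd_mul_right hKpos this
  rcases hdiv _ (List.mem_sublists.mpr List.filter_sublist) (hOcard ▸ hdvd) with h1 | h1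
  · exfalso
    rw [← hOcard] at h1
    have : Nat.card H ≤ Nat.card K := by
      rw [← hHO]; exact Nat.mul_le_of_le_div _ _ _ (by rwa [Nat.div_self hKpos])
    exact hKH.ne (Subgroup.eq_of_le_of_card_ge hKH.le this)
  · rw [← hOcard] at h1
    refine Subgroup.eq_top_of_card_eq H ?_
    rw [← hHO, h1, ← hcardK, mul_comm]

/-- The special case of a base made of `A` alone. -/
theorem Layout.isCoatom {C : Cat} {A : Obj} {L : List (List ℕ × ℕ)} {N : ℕ} (hC : C.Inv)
    (hT : IsTrans C [] [] N) (hA : C.Mem A) (h : Layout C [A] L) (hnd : (L.map (·.1)).Nodup)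
    (hN : 1 < N) (hdiv : ∀ l ∈ L.sublists, (l.map (·.2)).sum ∣ N → (l.map (·.2)).sum ≤ 1 ∨ (l.map (·.2)).sum = N) :
    IsCoatom (MulAction.stabilizer M24 A) :=
  Layout.isCoatom' hC hT hA (fun g => by simp [Fix]) h hnd hN hdiv

/-- An object alone with its invariant vector. -/
theorem Layout.eq_self {C : Cat} {A : Obj} {L : List (List ℕ × ℕ)} (h : Layout C [A] L) {v : List ℕ}
    (hv : (v, 1) ∈ L) (hA : C.Mem A) (hAv : sig [A] A = v) {Y : Obj} (hY : C.Mem Y)
    (hYv : sig [A] Y = v) : Y = A := by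
  obtain ⟨g, hg, hgY⟩ := (h.each _ hv).trans A Y hA hAv hY hYv
  exact hgY.symm.trans (hg A (by simp))

theorem sig_self (A : Obj) (g : M24) : sig [g • A] (g • A) = sig [A] A :=
  sig_smul g [A] A

end CfsgLib.Golay.Cert
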