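/-
An octad with up to two points, moved to standard position.
-/
import Cfsg.Agent.Golay.StabTools
import Cfsg.Agent.Golay.FamOne
import Cfsg.Agent.Golay.Orb.TwoPts

set_option autoImplicit false

namespace CfsgLib.Golay.Cert

open Cfsg CfsgLib.Golay
open scoped Pointwise

/-- The reference octad. -/
def oStd : Finset GolayPt := pts 8536111

theorem oStd_mem : oStd ∈ octads :=
  (mem_octads_iff _).mpr ⟨8536111 % 4096, Nat.mod_lt _ (by norm_num), by decide +kernel,
    congrArg pts (by decide +kernel : (8536111 : ℕ) = word (8536111 % 4096))⟩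

theorem bTwoPts_eq : bTwoPts.map toObj = [ptO (pt 23), ptO (pt 0)] := by
  simp only [bTwoPts, List.map_cons, List.map_nil, toObj_point 8388608 23 (by norm_num) (by norm_num),
    toObj_point 1 0 (by norm_num) (by norm_num)]

theorem pair_trans {p q : GolayPt} (hpq : p ≠ q) : Trans octCat [ptO p, ptO q] := by
  obtain ⟨k, hk1, hk2⟩ := exists_map_two (p := pt 23) (q := pt 0) (by decide +kernel) hpq
  refine ((bTwoPts_eq ▸ Cat.trans' bTwoPts_oct_ok : Trans octCat [ptO (pt 23), ptO (pt 0)])).at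
    octads_cat.2 (k := k) ?_
  simp [smul_ptO, hk1, hk2]

/-- Two points and an octad move together, given the same membership pattern. -/
theorem exists_map_octad_two {o o' : Finset GolayPt} (ho : o ∈ octads) (ho' : o' ∈ octads)
    {p q p' q' : GolayPt} (hpq : p ≠ q) (hpq' : p' ≠ q') (hp : p ∈ o ↔ p' ∈ o') (hq : q ∈ o ↔ q' ∈ o') :
    ∃ g : M24, g • p = p' ∧ g • q = q' ∧ g • o = o' := by
  obtain ⟨a, hap, haq⟩ := exists_map_two hpq hpq'
  obtain ⟨g, hg, hgo⟩ := (pair_trans hpq').sets octads_cat.1 (smul_mem_octads' a ho) ho' (by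
    simp only [sig, List.map_cons, List.map_nil, J_ptO_one', ← hap, ← haq, smul_mem_iff']
    rw [hap, haq]; simp only [hp, hq])
  refine ⟨g * a, ?_, ?_, by rw [mul_smul, hgo]⟩
  · rw [mul_smul, hap, fixes_ptO.mp (hg _ (by simp))]
  · rw [mul_smul, haq, fixes_ptO.mp (hg _ (by simp))]

theorem exists_other {o : Finset GolayPt} (ho : o ∈ octads) (p : GolayPt) : ∃ q ∈ o, p ≠ q := by
  obtain ⟨q, hq, hne⟩ := Finset.exists_mem_ne (by rw [octad_card ho]; norm_num : 1 < o.card) p
  exact ⟨q, hq, hne.symm⟩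

/-- One point and an octad move together. -/
theorem exists_map_octad_one {o o' : Finset GolayPt} (ho : o ∈ octads) (ho' : o' ∈ octads)
    {p p' : GolayPt} (hp : p ∈ o ↔ p' ∈ o') : ∃ g : M24, g • p = p' ∧ g • o = o' := by
  obtain ⟨q, hq, hne⟩ := exists_other ho p
  obtain ⟨q', hq', hne'⟩ := exists_other ho' p'
  obtain ⟨g, h1, -, h3⟩ := exists_map_octad_two ho ho' hne hne' hp (iff_of_true hq hq')
  exact ⟨g, h1, h3⟩

end CfsgLib.Golay.Cert
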