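/-
Orbits on octads of the stabilisers of an octad and up to two points.
-/
import Cfsg.Agent.Golay.OctadPos
import Cfsg.Agent.Golay.Orb.OctBase
import Cfsg.Agent.Golay.Orb.OctPtIn
import Cfsg.Agent.Golay.Orb.OctPtOut
import Cfsg.Agent.Golay.Orb.OctPtsIn
import Cfsg.Agent.Golay.Orb.OctPtsInOut

set_option autoImplicit false

namespace CfsgLib.Golay.Cert

open Cfsg CfsgLib.Golay
open scoped Pointwise

theorem bOct_eq : bOct.map toObj = [one' oStd] := by
  simp only [bOct, List.map_cons, List.map_nil, toObj_one, oStd]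

theorem map_one_octad {o : Finset GolayPt} (ho : o ∈ octads) :
    ∃ k : M24, [one' oStd].map (k • ·) = [one' o] := by
  obtain ⟨k, hk⟩ := octad_transitive oStd_mem ho
  exact ⟨k, by simp [smul_one', hk]⟩

theorem oct_trans {o : Finset GolayPt} (ho : o ∈ octads) : Trans octCat [one' o] := by
  obtain ⟨k, hk⟩ := map_one_octad ho
  exact ((bOct_eq ▸ Cat.trans' bOct_oct_ok : Trans octCat [one' oStd])).at octads_cat.2 hk

theorem oct_count {o : Finset GolayPt} (ho : o ∈ octads) (i j n : ℕ) (hj : j < 4)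
    (hv : (bOct_octData.getD j ([], 0, [])).1 = [100 ^ i]) (hn : [1, 30, 280, 448].getD j 0 = n) :
    {x : Finset GolayPt | x ∈ octads ∧ (o ∩ x).card = i}.ncard = n := by
  obtain ⟨k, hk⟩ := map_one_octad ho
  refine (((bOct_eq ▸ Cat.count' bOct_oct_ok j hj hv hn : IsTrans octCat [one' oStd] [100 ^ i] n)).at
    octads_cat.2 hk).count_sets octads_cat.1 fun x => ?_
  simp only [sig, List.map_cons, List.map_nil, J_one'_one', List.cons.injEq, and_true, Set.mem_ofPred_eq]
  exact and_congr_right fun _ => ⟨fun h => h ▸ rfl, pow100_inj⟩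

theorem bOctIn_eq : bOctIn.map toObj = [ptO (pt 0), one' oStd] := by
  simp only [bOctIn, List.map_cons, List.map_nil, toObj_point 1 0 (by norm_num) (by norm_num), toObj_one, oStd]

theorem bOctOut_eq : bOctOut.map toObj = [ptO (pt 4), one' oStd] := by
  simp only [bOctOut, List.map_cons, List.map_nil, toObj_point 16 4 (by norm_num) (by norm_num), toObj_one, oStd]

theorem bOctInIn_eq : bOctInIn.map toObj = [ptO (pt 0), ptO (pt 1), one' oStd] := by
  simp only [bOctInIn, List.map_cons, List.map_nil, toObj_point 1 0 (by norm_num) (by norm_num),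
    toObj_point 2 1 (by norm_num) (by norm_num), toObj_one, oStd]

theorem bOctInOut_eq : bOctInOut.map toObj = [ptO (pt 0), ptO (pt 4), one' oStd] := by
  simp only [bOctInOut, List.map_cons, List.map_nil, toObj_point 1 0 (by norm_num) (by norm_num),
    toObj_point 16 4 (by norm_num) (by norm_num), toObj_one, oStd]

theorem oStd_pts : pt 0 ∈ oStd ∧ pt 1 ∈ oStd ∧ pt 4 ∉ oStd ∧ pt 0 ≠ pt 1 ∧ pt 0 ≠ pt 4 := by
  simp only [oStd, mem_pts]
  decide +kernel

theorem map_in {o : Finset GolayPt} (ho : o ∈ octads) {x : GolayPt} (hx : x ∈ o) :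
    ∃ k : M24, [ptO (pt 0), one' oStd].map (k • ·) = [ptO x, one' o] := by
  obtain ⟨k, h1, h2⟩ := exists_map_octad_one oStd_mem ho (p := pt 0) (p' := x) (iff_of_true oStd_pts.1 hx)
  exact ⟨k, by simp [smul_one', smul_ptO, h1, h2]⟩

theorem map_out {o : Finset GolayPt} (ho : o ∈ octads) {x : GolayPt} (hx : x ∉ o) :
    ∃ k : M24, [ptO (pt 4), one' oStd].map (k • ·) = [ptO x, one' o] := by
  obtain ⟨k, h1, h2⟩ := exists_map_octad_one oStd_mem ho (p := pt 4) (p' := x)
    (iff_of_false oStd_pts.2.2.1 hx)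
  exact ⟨k, by simp [smul_one', smul_ptO, h1, h2]⟩

theorem map_in_in {o : Finset GolayPt} (ho : o ∈ octads) {p q : GolayPt} (hp : p ∈ o) (hq : q ∈ o)
    (hpq : p ≠ q) : ∃ k : M24, [ptO (pt 0), ptO (pt 1), one' oStd].map (k • ·) = [ptO p, ptO q, one' o] := by
  obtain ⟨k, h1, h2, h3⟩ := exists_map_octad_two oStd_mem ho oStd_pts.2.2.2.1 hpq
    (iff_of_true oStd_pts.1 hp) (iff_of_true oStd_pts.2.1 hq)
  exact ⟨k, by simp [smul_one', smul_ptO, h1, h2, h3]⟩

theorem map_in_out {o : Finset GolayPt} (ho : o ∈ octads) {p q : GolayPt} (hp : p ∈ o) (hq : q ∉ o) :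
    ∃ k : M24, [ptO (pt 0), ptO (pt 4), one' oStd].map (k • ·) = [ptO p, ptO q, one' o] := by
  obtain ⟨k, h1, h2, h3⟩ := exists_map_octad_two oStd_mem ho oStd_pts.2.2.2.2
    (fun h : p = q => hq (h ▸ hp)) (iff_of_true oStd_pts.1 hp) (iff_of_false oStd_pts.2.2.1 hq)
  exact ⟨k, by simp [smul_one', smul_ptO, h1, h2, h3]⟩

/-- Elements fixing a base of points and one set, from `Fix`. -/
theorem fix_pt {B : List Obj} {g : M24} (h : Fix B g) {p : GolayPt} (hp : ptO p ∈ B) :
    (g : Equiv.Perm GolayPt) p = p := fixes_ptO.mp (h _ hp)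

theorem fix_set {B : List Obj} {g : M24} (h : Fix B g) {s : Finset GolayPt} (hs : one' s ∈ B) :
    (g : Equiv.Perm GolayPt) • s = s := fixes_one'.mp (h _ hs)

theorem sig_in_iff {p : GolayPt} {o x : Finset GolayPt} {a i : ℕ} :
    sig [ptO p, one' o] (one' x) = [a, 100 ^ i] ↔ (if p ∈ x then 100 else 1) = a ∧ (o ∩ x).card = i := by
  simp only [sig, List.map_cons, List.map_nil, J_ptO_one', J_one'_one', List.cons.injEq, and_true]
  exact and_congr_right fun _ => ⟨pow100_inj, fun h => h ▸ rfl⟩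

theorem sig_two_iff {p q : GolayPt} {o x : Finset GolayPt} {a b i : ℕ} :
    sig [ptO p, ptO q, one' o] (one' x) = [a, b, 100 ^ i] ↔
      (if p ∈ x then 100 else 1) = a ∧ (if q ∈ x then 100 else 1) = b ∧ (o ∩ x).card = i := by
  simp only [sig, List.map_cons, List.map_nil, J_ptO_one', J_one'_one', List.cons.injEq, and_true]
  exact and_congr_right fun _ => and_congr_right fun _ => ⟨pow100_inj, fun h => h ▸ rfl⟩

end CfsgLib.Golay.Cert
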