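/-
The stabiliser of an octad: order, induced alternating group, complement.
-/
import Cfsg.Agent.Golay.OctadOrbits
import Cfsg.Agent.Golay.Complement
import Cfsg.Agent.Golay.MaximalTools

set_option autoImplicit false

namespace CfsgLib.Golay.Cert

open Cfsg CfsgLib.Golay MulAction
open scoped Pointwise

theorem card_stab_octad {o : Finset GolayPt} (ho : o ∈ octads) :
    Nat.card (stabilizer M24 o) = 322560 := by
  have h := octCat_trans.card_mul octads_cat.2 (K := (⊤ : Subgroup M24)) (fun g => by simp [Fix])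
    (octads_cat.1.le ⟨o, ho, rfl⟩) rfl
  rw [top_inf_eq, Subgroup.card_top, card_M24] at h
  rw [show stabilizer M24 o = stabilizer M24 (one' o) from by ext g; simp [fixes_one']]
  omega

/-- The action induced on an octad. -/
def res (o : Finset GolayPt) : stabilizer M24 o →* Equiv.Perm ↥o where
  toFun g := (g.1.1).subtypePerm fun x => by
    rw [← show (g.1 • x ∈ g.1 • o ↔ x ∈ o) from smul_mem_iff' g.1, mem_stabilizer_iff.mp g.2]
    rfl
  map_one' := by ext; rfl
  map_mul' := fun _ _ => by ext; rfl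

theorem res_apply {o : Finset GolayPt} (g : stabilizer M24 o) (x : ↥o) :
    (res o g x : GolayPt) = (g.1.1) x := rfl

theorem mem_stab_of_fix {o : Finset GolayPt} {g : M24}
    (h : ∀ x ∈ o, (g : Equiv.Perm GolayPt) x = x) : g ∈ stabilizer M24 o := by
  rw [mem_stabilizer_iff, smul_finset_eq_image]
  exact (Finset.image_congr fun x hx => h x hx).trans Finset.image_id

/-- The pointwise stabiliser is the kernel. -/
noncomputable def kerEquiv {o : Finset GolayPt} :
    (res o).ker ≃ ↥(M24 ⊓ fixingSubgroup (Equiv.Perm GolayPt) (o : Set GolayPt)) where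
  toFun g := ⟨g.1.1.1, g.1.1.2, (mem_fixingSubgroup_iff (Equiv.Perm GolayPt)).mpr fun x hx => by
    have h := congrArg (fun e : Equiv.Perm ↥o => (e ⟨x, hx⟩ : GolayPt)) g.2
    exact h⟩
  invFun g := ⟨⟨⟨g.1, g.2.1⟩, mem_stab_of_fix fun x hx =>
      (mem_fixingSubgroup_iff (Equiv.Perm GolayPt)).mp g.2.2 x hx⟩,
    Equiv.ext fun x => Subtype.ext ((mem_fixingSubgroup_iff (Equiv.Perm GolayPt)).mp g.2.2 x x.2)⟩
  left_inv := fun _ => rfl
  right_inv := fun _ => rfl

theorem card_ker_res {o : Finset GolayPt} (ho : o ∈ octads) : Nat.card (res o).ker = 16 :=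
  (Nat.card_congr kerEquiv).trans (octad_fixing ho).1

theorem range_res {o : Finset GolayPt} (ho : o ∈ octads) : (res o).range = alternatingGroup ↥o := by
  apply Equiv.Perm.eq_alternatingGroup_of_index_eq_two
  have h1 := Subgroup.card_eq_card_quotient_mul_card_subgroup (res o).ker
  rw [card_stab_octad ho, card_ker_res ho,
    Nat.card_congr (QuotientGroup.quotientKerEquivRange (res o)).toEquiv] at h1
  have h2 := (res o).range.card_mul_index
  rw [Nat.card_perm, Nat.card_eq_fintype_card (α := ↥o), Fintype.card_coe, octad_card ho,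
    show Nat.card (res o).range = 20160 by omega] at h2
  norm_num [Nat.factorial] at h2
  omega

/-- An element fixing an octad pointwise and a point outside is trivial. -/
theorem eq_one_of_fix {o : Finset GolayPt} (ho : o ∈ octads) {p : GolayPt} (hp : p ∉ o) {g : M24}
    (hfix : ∀ x ∈ o, (g : Equiv.Perm GolayPt) x = x) (hgp : (g : Equiv.Perm GolayPt) p = p) : g = 1 := by
  have hs := baseOctad_spec
  have h6 : bp 6 ∉ pts baseOctad := by
    rw [mem_pts, idx_bp 6 (by norm_num), hs.2.2.2.1]; simp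
  obtain ⟨k, hk1, hk2⟩ := exists_map_octad_one pts_baseOctad_mem ho (p := bp 6) (p' := p) (iff_of_false h6 hp)
  have hcn : k⁻¹ * g * k = 1 := by
    apply Subtype.ext
    refine octAut_rigid (M24_le_octAut (k⁻¹ * g * k).2) fun j hj => ?_
    have key : (g : Equiv.Perm GolayPt) ((k : Equiv.Perm GolayPt) (bp j)) = (k : Equiv.Perm GolayPt) (bp j) := by
      rcases Nat.lt_succ_iff_lt_or_eq.mp hj with h | rfl
      · refine hfix _ ?_
        have hb : bp j ∈ pts baseOctad := by
          rcases Nat.lt_succ_iff_lt_or_eq.mp h with h | rfl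
          · exact bp_mem_baseOctad j h
          · rw [mem_pts, idx_bp 5 (by norm_num)]; exact hs.2.2.2.2
        rw [← hk2]
        exact (smul_mem_iff' k).mpr hb
      · rw [show (k : Equiv.Perm GolayPt) (bp 6) = p from hk1, hgp]
    show (k : Equiv.Perm GolayPt)⁻¹ ((g : Equiv.Perm GolayPt) ((k : Equiv.Perm GolayPt) (bp j))) = bp j
    rw [key, Equiv.Perm.inv_def, Equiv.symm_apply_apply]
  rw [mul_assoc, inv_mul_eq_one] at hcn
  exact mul_eq_right.mp hcn.symm

/-- The pointwise stabiliser is transitive outside. -/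
theorem exists_fix_map {o : Finset GolayPt} (ho : o ∈ octads) {p q : GolayPt} (hp : p ∉ o) (hq : q ∉ o) :
    ∃ g : M24, (∀ x ∈ o, (g : Equiv.Perm GolayPt) x = x) ∧ (g : Equiv.Perm GolayPt) p = q := by
  classical
  let T := {g : M24 // ∀ x ∈ o, (g : Equiv.Perm GolayPt) x = x}
  let f : T → {y : GolayPt // y ∉ o} := fun g => ⟨g.1.1 p, fun h => hp (by
    have h2 := g.1.1.injective (g.2 _ h)
    rwa [h2] at h)⟩
  have hf : Function.Injective f := by
    intro a b hab
    have hab' : a.1.1 p = b.1.1 p := congrArg Subtype.val hab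
    refine Subtype.ext ?_
    have := eq_one_of_fix ho hp (g := b.1⁻¹ * a.1) (fun x hx => by
      show b.1.1⁻¹ (a.1.1 x) = x
      rw [a.2 x hx, Equiv.Perm.inv_def, Equiv.symm_apply_eq, b.2 x hx]) (by
      show b.1.1⁻¹ (a.1.1 p) = p
      rw [hab', Equiv.Perm.inv_def, Equiv.symm_apply_apply])
    exact (inv_mul_eq_one.mp this).symm
  have hT : Nat.card T = 16 := by
    rw [← (octad_fixing ho).1]
    exact Nat.card_congr
      { toFun := fun g => ⟨g.1.1, g.1.2, (mem_fixingSubgroup_iff (Equiv.Perm GolayPt)).mpr g.2⟩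
        invFun := fun g => ⟨⟨g.1, g.2.1⟩, (mem_fixingSubgroup_iff (Equiv.Perm GolayPt)).mp g.2.2⟩
        left_inv := fun _ => rfl
        right_inv := fun _ => rfl }
  have hY : Nat.card {y : GolayPt // y ∉ o} = 16 := by
    rw [Nat.card_eq_fintype_card, Fintype.card_subtype_compl, Fintype.card_coe, octad_card ho, card_golayPt]
  obtain ⟨g, hg⟩ := ((Nat.bijective_iff_injective_and_card f).mpr ⟨hf, hT.trans hY.symm⟩).2 ⟨q, hq⟩
  exact ⟨g.1, g.2, congrArg Subtype.val hg⟩

theorem mem_fix_iff {o : Finset GolayPt} {σ : Equiv.Perm GolayPt} :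
    σ ∈ fixingSubgroup (Equiv.Perm GolayPt) (o : Set GolayPt) ↔ ∀ x ∈ o, σ x = x :=
  mem_fixingSubgroup_iff (Equiv.Perm GolayPt)

/-- Members of the stabiliser of a set and a point, as permutations. -/
theorem mem_inf_iff {o : Finset GolayPt} {p : GolayPt} {σ : Equiv.Perm GolayPt} :
    σ ∈ M24 ⊓ stabilizer (Equiv.Perm GolayPt) o ⊓ stabilizer (Equiv.Perm GolayPt) p ↔
      σ ∈ M24 ∧ σ • o = o ∧ σ p = p := by
  simp [Subgroup.mem_inf, and_assoc]

/-- The stabiliser of an octad and an outside point is the alternating group on the octad. -/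
noncomputable def resPt {o : Finset GolayPt} (ho : o ∈ octads) (p : GolayPt) :
    ↥(M24 ⊓ stabilizer (Equiv.Perm GolayPt) o ⊓ stabilizer (Equiv.Perm GolayPt) p) →* alternatingGroup ↥o :=
  (((res o).comp
    { toFun := fun g => (⟨⟨g.1, g.2.1.1⟩, g.2.1.2⟩ : stabilizer M24 o)
      map_one' := rfl
      map_mul' := fun _ _ => rfl }).codRestrict _ fun g => by rw [← range_res ho]; exact ⟨_, rfl⟩)

theorem resPt_bijective {o : Finset GolayPt} (ho : o ∈ octads) {p : GolayPt} (hp : p ∉ o) :
    Function.Bijective (resPt ho p) := by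
  refine ⟨(injective_iff_map_eq_one _).mpr fun g hg => ?_, fun a => ?_⟩
  · have hfix : ∀ x ∈ o, g.1 x = x := fun x hx =>
      congrArg (fun e : ↥(alternatingGroup ↥o) => ((e : Equiv.Perm ↥o) ⟨x, hx⟩ : GolayPt)) hg
    have := eq_one_of_fix ho hp (g := ⟨g.1, g.2.1.1⟩) hfix g.2.2
    exact Subtype.ext (congrArg (fun z : M24 => (z : Equiv.Perm GolayPt)) this)
  · obtain ⟨g, hg⟩ : (a : Equiv.Perm ↥o) ∈ (res o).range := by rw [range_res ho]; exact a.2
    have hgp : g.1.1 p ∉ o := fun h => hp (by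
      rw [← smul_mem_iff' g.1, mem_stabilizer_iff.mp g.2]; exact h)
    obtain ⟨e, he, hep⟩ := exists_fix_map ho hp hgp
    have hmem : (e⁻¹ * g.1).1 ∈ M24 ⊓ stabilizer (Equiv.Perm GolayPt) o ⊓ stabilizer (Equiv.Perm GolayPt) p := by
      refine mem_inf_iff.mpr ⟨(e⁻¹ * g.1).2, ?_, ?_⟩
      · show (e⁻¹ * g.1) • o = o
        rw [mul_smul, mem_stabilizer_iff.mp g.2, inv_smul_eq_iff]
        exact (mem_stabilizer_iff.mp (mem_stab_of_fix he)).symm
      · show e.1⁻¹ (g.1.1 p) = p
        rw [← hep, Equiv.Perm.inv_def, Equiv.symm_apply_apply]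
    refine ⟨⟨_, hmem⟩, Subtype.ext (Equiv.ext fun x => Subtype.ext ?_)⟩
    show e.1⁻¹ (g.1.1 x) = ((a : Equiv.Perm ↥o) x : GolayPt)
    rw [← hg, res_apply, Equiv.Perm.inv_def, Equiv.symm_apply_eq]
    exact (he _ (res o g x).2).symm

end CfsgLib.Golay.Cert
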