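/-
The two orbits of the group of the code on sextuples of points, and their pointwise stabilisers.
-/
import Cfsg.Agent.Golay.OctadStab

set_option autoImplicit false

namespace CfsgLib.Golay.Cert

open Cfsg CfsgLib.Golay MulAction
open scoped Pointwise

/-- Six points in a common octad. -/
def InOct (x : ℕ → GolayPt) : Prop := ∃ o ∈ octads, ∀ j < 6, x j ∈ o

theorem bp_six_not_mem : bp 6 ∉ pts baseOctad := by
  rw [mem_pts, idx_bp 6 (by norm_num), baseOctad_spec.2.2.2.1]; simp

theorem six_map (x : ℕ → GolayPt) (hx : ∀ i < 6, ∀ j < 6, x i = x j → i = j) :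
    ∃ g ∈ M24, (∀ j < 5, g (bp j) = x j) ∧
      ((InOct x → g (bp 5) = x 5) ∧ (¬ InOct x → g (bp 6) = x 5)) := by
  obtain ⟨g, hg, hgx⟩ := exists_mem_map_base 5 le_rfl x fun i hi j hj => hx i (by omega) j (by omega)
  set y : GolayPt := g⁻¹ (x 5) with hy
  have hgy : g y = x 5 := by rw [hy, Equiv.Perm.inv_def, Equiv.apply_symm_apply]
  have hne : ∀ j < 5, idx y ≠ baseIdx.getD j 0 := by
    intro j hj h
    rw [← idx_bp j (by omega)] at h
    have := congrArg g (idx_injective h)
    rw [hgy, hgx j hj] at this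
    exact absurd (hx 5 (by norm_num) j (by omega) this) (by omega)
  have key : InOct x ↔ y ∈ pts baseOctad := by
    constructor
    · rintro ⟨o, ho, hox⟩
      have hcard : ((Finset.range 5).image x).card = 5 := by
        rw [Finset.card_image_of_injOn, Finset.card_range]
        intro i hi j hj h
        simp only [Finset.coe_range, Set.mem_Iio] at hi hj
        exact hx i (by omega) j (by omega) h
      have he : (pts baseOctad).image g = o := by
        refine octad_unique (M24_octad hg pts_baseOctad_mem) ho hcard.ge ?_ ?_ <;> intro p hp <;>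
          obtain ⟨j, hj, rfl⟩ := Finset.mem_image.mp hp <;> have hj' := Finset.mem_range.mp hj
        · exact Finset.mem_image.mpr ⟨_, bp_mem_baseOctad j hj', hgx j hj'⟩
        · exact hox j (by omega)
      have h5 := hox 5 (by norm_num)
      rw [← he, Finset.mem_image] at h5
      obtain ⟨z, hz, hz'⟩ := h5
      rwa [← g.injective (hz'.trans hgy.symm)]
    · intro hyb
      refine ⟨_, M24_octad hg pts_baseOctad_mem, fun j hj => ?_⟩
      rcases Nat.lt_succ_iff_lt_or_eq.mp hj with h | rfl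
      · exact Finset.mem_image.mpr ⟨_, bp_mem_baseOctad j h, hgx j h⟩
      · exact Finset.mem_image.mpr ⟨y, hyb, hgy⟩
  by_cases hin : y ∈ pts baseOctad
  · obtain ⟨e, he, hey⟩ := List.mem_map.mp (orb_five _ (idx_lt y) (mem_pts.mp hin) hne)
    obtain ⟨h1, h2⟩ := orb_apply (k := 5) (by norm_num) he
    refine ⟨g * elt e.2, mul_mem hg (elt_mem_M24 _), fun j hj => ?_, fun _ => ?_, fun h => absurd (key.mpr hin) h⟩
    · rw [Equiv.Perm.mul_apply, h2 j hj, hgx j hj]
    · rw [Equiv.Perm.mul_apply, idx_injective (h1.trans hey), hgy]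
  · obtain ⟨e, he, hey⟩ := List.mem_map.mp (orb_six _ (idx_lt y) (by simpa [mem_pts] using hin))
    obtain ⟨h1, h2⟩ := orb_apply (k := 6) (by norm_num) he
    refine ⟨g * elt e.2, mul_mem hg (elt_mem_M24 _), fun j hj => ?_, fun h => absurd (key.mp h) hin, fun _ => ?_⟩
    · rw [Equiv.Perm.mul_apply, h2 j (by omega), hgx j hj]
    · rw [Equiv.Perm.mul_apply, idx_injective (h1.trans hey), hgy]

/-- Six points lying in a common octad, or two sextuples neither of which does, are conjugate. -/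
theorem six_trans {x y : ℕ → GolayPt} (hx : ∀ i < 6, ∀ j < 6, x i = x j → i = j)
    (hy : ∀ i < 6, ∀ j < 6, y i = y j → i = j) (h : InOct x ↔ InOct y) :
    ∃ g ∈ M24, ∀ j < 6, g (x j) = y j := by
  obtain ⟨a, ha, ha5, ha1, ha2⟩ := six_map x hx
  obtain ⟨b, hb, hb5, hb1, hb2⟩ := six_map y hy
  refine ⟨b * a⁻¹, mul_mem hb (inv_mem ha), fun j hj => ?_⟩
  have key : ∀ {q p r}, a q = p → b q = r → (b * a⁻¹) p = r := by
    intro q p r h1 h2
    rw [← h1, Equiv.Perm.mul_apply, Equiv.Perm.inv_def, Equiv.symm_apply_apply, h2]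
  rcases Nat.lt_succ_iff_lt_or_eq.mp hj with hj5 | rfl
  · exact key (ha5 j hj5) (hb5 j hj5)
  · by_cases hin : InOct x
    · exact key (ha1 hin) (hb1 (h.mp hin))
    · exact key (ha2 hin) (hb2 (h.not.mp hin))

/-- The pointwise stabiliser of the first five base points and one point outside their octad. -/
theorem card_St_five_six : Nat.card ↥(St 5 ⊓ stabilizer (Equiv.Perm GolayPt) (bp 6)) = 3 := by
  have horb : orbit (St 5) (bp 6) = {p | p ∉ pts baseOctad} := by
    ext p
    constructor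
    · rintro ⟨g, rfl⟩ hp
      have hO := fixed_baseOctad (M24_le_octAut (mem_St.mp g.2).1) (mem_St.mp g.2).2
      have h : g.1 (bp 6) ∈ pts baseOctad := hp
      rw [← hO, Finset.mem_image] at h
      obtain ⟨z, hz, hz'⟩ := h
      exact bp_six_not_mem (g.1.injective hz' ▸ hz)
    · intro hp
      obtain ⟨e, he, hey⟩ := List.mem_map.mp (orb_six _ (idx_lt p) (by simpa [mem_pts] using hp))
      obtain ⟨h1, h2⟩ := orb_apply (k := 6) (by norm_num) he
      exact ⟨⟨elt e.2, mem_St.mpr ⟨elt_mem_M24 _, fun j hj => h2 j (by omega)⟩⟩,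
        idx_injective (h1.trans hey)⟩
  have h16 : {p : GolayPt | p ∉ pts baseOctad}.ncard = 16 := by
    rw [show {p : GolayPt | p ∉ pts baseOctad} = ↑(pts baseOctad)ᶜ by ext; simp, Set.ncard_coe_finset,
      Finset.card_compl, card_golayPt, octad_card pts_baseOctad_mem]
  have h := (stabilizer (St 5) (bp 6)).card_mul_index
  rw [index_stabilizer, horb, h16, card_St 5 (by norm_num)] at h
  have e : ↥(St 5 ⊓ stabilizer (Equiv.Perm GolayPt) (bp 6)) ≃ ↥(stabilizer (St 5) (bp 6)) :=
    { toFun := fun g => ⟨⟨g.1, g.2.1⟩, g.2.2⟩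
      invFun := fun g => ⟨g.1.1, g.1.2, g.2⟩
      left_inv := fun _ => rfl
      right_inv := fun _ => rfl }
  rw [Nat.card_congr e]
  simp only [List.getD_cons_succ, List.getD_cons_zero] at h
  omega

/-- The subgroup fixing every point of a set. -/
def fixE (E : Finset GolayPt) : Type := {g : Equiv.Perm GolayPt // g ∈ M24 ∧ ∀ p ∈ E, g p = p}

/-- An enumeration of six points. -/
theorem exists_enum {E : Finset GolayPt} (hE : E.card = 6) :
    ∃ x : ℕ → GolayPt, (∀ i < 6, ∀ j < 6, x i = x j → i = j) ∧ ∀ p, p ∈ E ↔ ∃ i < 6, x i = p := by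
  let e : Fin 6 ≃ E := (Fintype.equivFinOfCardEq (by simp [hE])).symm
  refine ⟨fun i => if h : i < 6 then (e ⟨i, h⟩ : GolayPt) else none, fun i hi j hj h => ?_, fun p => ?_⟩
  · simp only [hi, hj, dif_pos] at h
    simpa using e.injective (Subtype.ext h)
  · constructor
    · intro hp
      obtain ⟨i, hi⟩ := e.surjective ⟨p, hp⟩
      exact ⟨i, i.2, by simp [hi]⟩
    · rintro ⟨i, hi, rfl⟩
      simp [hi]

theorem inOct_iff {E : Finset GolayPt} {x : ℕ → GolayPt} (hx : ∀ p, p ∈ E ↔ ∃ i < 6, x i = p) :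
    InOct x ↔ ∃ o ∈ octads, E ⊆ o := by
  refine exists_congr fun o => and_congr_right fun _ => ⟨fun h p hp => ?_, fun h j hj => h ((hx _).mpr ⟨j, hj, rfl⟩)⟩
  obtain ⟨i, hi, rfl⟩ := (hx p).mp hp
  exact h i hi

/-- The whole symmetric group is induced on six points. -/
theorem exists_perm_six {E : Finset GolayPt} (hE : E.card = 6) (σ : Equiv.Perm ↥E) :
    ∃ g ∈ M24, ∀ p : ↥E, g p = σ p := by
  obtain ⟨x, hinj, hx⟩ := exists_enum hE
  have hm : ∀ i < 6, x i ∈ E := fun i hi => (hx _).mpr ⟨i, hi, rfl⟩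
  let y : ℕ → GolayPt := fun i => if h : i < 6 then σ ⟨x i, hm i h⟩ else none
  have hy : ∀ p, p ∈ E ↔ ∃ i < 6, y i = p := by
    intro p
    constructor
    · intro hp
      obtain ⟨i, hi, hxi⟩ := (hx _).mp (σ.symm ⟨p, hp⟩).2
      refine ⟨i, hi, ?_⟩
      simp only [y, hi, dif_pos]
      rw [show (⟨x i, hm i hi⟩ : ↥E) = σ.symm ⟨p, hp⟩ from Subtype.ext hxi, Equiv.apply_symm_apply]
    · rintro ⟨i, hi, rfl⟩
      simp [y, hi]
  obtain ⟨g, hg, hgx⟩ := six_trans (y := y) hinj (fun i hi j hj h => by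
    simp only [y, hi, hj, dif_pos] at h
    exact hinj i hi j hj (congrArg Subtype.val (σ.injective (Subtype.ext h))))
    ((inOct_iff hx).trans (inOct_iff hy).symm)
  refine ⟨g, hg, fun p => ?_⟩
  obtain ⟨i, hi, hxi⟩ := (hx _).mp p.2
  rw [← hxi, hgx i hi]
  simp only [y, hi, dif_pos]
  exact congrArg (fun q => (σ q : GolayPt)) (Subtype.ext hxi)

/-- The pointwise stabiliser of six points. -/
theorem card_fixE {E : Finset GolayPt} (hE : E.card = 6) :
    ((∃ o ∈ octads, E ⊆ o) → Nat.card (fixE E) = 16) ∧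
    ((¬ ∃ o ∈ octads, E ⊆ o) → Nat.card (fixE E) = 3) := by
  obtain ⟨x, hinj, hx⟩ := exists_enum hE
  obtain ⟨a, ha, ha5, ha1, ha2⟩ := six_map x hinj
  have hconj : ∀ (k : ℕ), a (bp k) = x 5 →
      Nat.card (fixE E) = Nat.card ↥(St 5 ⊓ stabilizer (Equiv.Perm GolayPt) (bp k)) := by
    intro k hk
    have hmem : ∀ g : Equiv.Perm GolayPt, (g ∈ M24 ∧ ∀ p ∈ E, g p = p) ↔
        a⁻¹ * g * a ∈ St 5 ⊓ stabilizer (Equiv.Perm GolayPt) (bp k) := by
      intro g
      have hfix : ∀ q, (a⁻¹ * g * a) q = q ↔ g (a q) = a q := fun q => by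
        simp [Equiv.Perm.mul_apply, Equiv.symm_apply_eq]
      simp only [Subgroup.mem_inf, mem_St, mem_stabilizer_iff, Equiv.Perm.smul_def, hfix, hk]
      constructor
      · rintro ⟨hg, hfixE⟩
        exact ⟨⟨mul_mem (mul_mem (inv_mem ha) hg) ha, fun j hj => by
          rw [ha5 j hj]; exact hfixE _ ((hx _).mpr ⟨j, by omega, rfl⟩)⟩, hfixE _ ((hx _).mpr ⟨5, by omega, rfl⟩)⟩
      · rintro ⟨⟨hg, h5⟩, h6⟩
        refine ⟨?_, fun p hp => ?_⟩
        · rw [show g = a * (a⁻¹ * g * a) * a⁻¹ by group]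
          exact mul_mem (mul_mem ha hg) (inv_mem ha)
        obtain ⟨i, hi, rfl⟩ := (hx p).mp hp
        rcases Nat.lt_succ_iff_lt_or_eq.mp hi with hi5 | rfl
        · have := h5 i hi5
          rwa [ha5 i hi5] at this
        · exact h6
    exact Nat.card_congr
      ((Equiv.mulLeft a⁻¹).trans (Equiv.mulRight a) |>.subtypeEquiv fun g => hmem g)
  refine ⟨fun h => ?_, fun h => ?_⟩
  · rw [hconj 5 (ha1 ((inOct_iff hx).mpr h))]
    have hs : St 5 ⊓ stabilizer (Equiv.Perm GolayPt) (bp 5) = St 6 := by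
      ext g; simp [St_succ_iff (k := 5)]
    rw [hs]
    simpa using card_St 6 (by norm_num)
  · rw [hconj 6 (ha2 ((inOct_iff hx).not.mpr h)), card_St_five_six]

/-- The setwise stabiliser of six points in no common octad. -/
theorem card_stab_six {E : Finset GolayPt} (hE : E.card = 6) (h : ¬ ∃ o ∈ octads, E ⊆ o) :
    Nat.card ↥(stabilizer M24 E) = 2160 := by
  have hker : Nat.card (res E).ker = 3 := by
    rw [← (card_fixE hE).2 h]
    exact Nat.card_congr
      { toFun := fun g => ⟨g.1.1.1, g.1.1.2, fun p hp => by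
          have := congrArg (fun e : Equiv.Perm ↥E => (e ⟨p, hp⟩ : GolayPt)) g.2
          exact this⟩
        invFun := fun g => ⟨⟨⟨g.1, g.2.1⟩, mem_stab_of_fix g.2.2⟩,
          Equiv.ext fun p => Subtype.ext (g.2.2 p p.2)⟩
        left_inv := fun _ => rfl
        right_inv := fun _ => rfl }
  have hsurj : Function.Surjective (res E) := by
    intro σ
    obtain ⟨g, hg, hgσ⟩ := exists_perm_six hE σ
    have hst : (⟨g, hg⟩ : M24) ∈ stabilizer M24 E := by
      rw [mem_stabilizer_iff, smul_finset_eq_image]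
      refine Finset.eq_of_subset_of_card_le (fun q hq => ?_) ?_
      · obtain ⟨p, hp, rfl⟩ := Finset.mem_image.mp hq
        show g p ∈ E
        rw [hgσ ⟨p, hp⟩]
        exact (σ _).2
      · rw [Finset.card_image_of_injective _ g.injective]
    exact ⟨⟨_, hst⟩, Equiv.ext fun p => Subtype.ext (hgσ p)⟩
  have h1 := Subgroup.card_eq_card_quotient_mul_card_subgroup (res E).ker
  rw [hker, Nat.card_congr (QuotientGroup.quotientKerEquivOfSurjective _ hsurj).toEquiv, Nat.card_perm,
    Nat.card_eq_fintype_card (α := ↥E), Fintype.card_coe, hE] at h1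
  rw [show Nat.factorial 6 = 720 from rfl] at h1
  omega

end CfsgLib.Golay.Cert
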