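/-
Normal forms for elements with a prescribed action on six points, and conjugacy of elements of
prime order.
-/
import Cfsg.Agent.Golay.SixPoints
import Cfsg.Agent.Golay.NormalData

set_option autoImplicit false

namespace CfsgLib.Golay.Cert

open Cfsg CfsgLib.Golay
open scoped Pointwise

theorem toList_injective : Function.Injective toList := fun σ τ h => Equiv.ext fun p =>
  idx_injective (by rw [← toList_getD_idx, ← toList_getD_idx, h])

theorem toList_coe_injective : Function.Injective fun g : M24 => toList (g : Equiv.Perm GolayPt) :=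
  toList_injective.comp Subtype.val_injective

/-- Powers of a position list. -/
def powL (L : List ℕ) : ℕ → List ℕ
  | 0 => List.range 24
  | n + 1 => compL L (powL L n)

theorem toList_pow (σ : Equiv.Perm GolayPt) : ∀ n, toList (σ ^ n) = powL (toList σ) n
  | 0 => by rw [pow_zero, toList_one]; rfl
  | n + 1 => by rw [pow_succ', toList_mul, toList_pow σ n]; rfl

/-- The lists agree at the listed positions. -/
def agreeL (Q A B : List ℕ) : Bool := Q.all fun i => A.getD i 0 == B.getD i 0

theorem agreeL_iff {Q A B : List ℕ} : agreeL Q A B = true ↔ ∀ i ∈ Q, A.getD i 0 = B.getD i 0 := by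
  simp [agreeL, List.all_eq_true]

/-- Every element fixing the listed positions is listed. -/
def FixList (Q : List ℕ) (F : List (List ℕ)) : Prop :=
  ∀ g : M24, (∀ i ∈ Q, (toList (g : Equiv.Perm GolayPt)).getD i 0 = i) → toList (g : Equiv.Perm GolayPt) ∈ F

theorem FixList.snoc {Q : List ℕ} {F : List (List ℕ)} (h : FixList Q F) (i : ℕ) :
    FixList (Q ++ [i]) (F.filter fun f => f.getD i 0 == i) := fun g hg =>
  List.mem_filter.mpr ⟨h g fun j hj => hg j (by simp [hj]), by simpa using hg i (by simp)⟩

unseal tableL in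
theorem fiveList_spec : (orb 5).all (fun a => (orb 6).all fun b =>
    fiveList.contains (compL (tableL.getD a.2 (List.range 24)) (tableL.getD b.2 (List.range 24)))) = true := by
  decide +kernel

/-- The five standard positions. -/
def q5 : List ℕ := [23, 0, 1, 2, 3]

theorem pt_q5 : ∀ j < 5, pt (q5.getD j 0) = bp j := by
  intro j hj; interval_cases j <;> rfl

theorem fixList_five : FixList q5 fiveList := by
  intro g hg
  have hfix : ∀ j < 5, (g : Equiv.Perm GolayPt) (bp j) = bp j := fun j hj => idx_injective (by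
    rw [← toList_getD_idx, idx_bp j (by omega)]
    exact hg _ (by interval_cases j <;> decide))
  obtain ⟨a, ha, hax⟩ := orbit_covers (k := 5) (by norm_num) (M24_le_octAut g.2) hfix
  obtain ⟨ha1, ha2⟩ := orb_apply (k := 5) (by norm_num) ha
  set g1 : Equiv.Perm GolayPt := (elt a.2)⁻¹ * g with hg1
  have hg1M : g1 ∈ M24 := mul_mem (inv_mem (elt_mem_M24 _)) g.2
  have h6 : ∀ j < 6, g1 (bp j) = bp j := by
    intro j hj
    rw [hg1, Equiv.Perm.mul_apply, Equiv.Perm.inv_def, Equiv.symm_apply_eq]
    rcases Nat.lt_succ_iff_lt_or_eq.mp hj with h | rfl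
    · rw [hfix j h, ha2 j h]
    · exact hax.symm
  obtain ⟨b, hb, hbx⟩ := orbit_covers (k := 6) (by norm_num) (M24_le_octAut hg1M) h6
  obtain ⟨hb1, hb2⟩ := orb_apply (k := 6) (by norm_num) hb
  have h7 : (elt b.2)⁻¹ * g1 = 1 := by
    refine octAut_rigid (M24_le_octAut (mul_mem (inv_mem (elt_mem_M24 _)) hg1M)) fun j hj => ?_
    rw [Equiv.Perm.mul_apply, Equiv.Perm.inv_def, Equiv.symm_apply_eq]
    rcases Nat.lt_succ_iff_lt_or_eq.mp hj with h | rfl
    · rw [h6 j h, hb2 j h]
    · exact hbx.symm
  have hg : (g : Equiv.Perm GolayPt) = elt a.2 * elt b.2 := by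
    rw [inv_mul_eq_one.mp h7, hg1, mul_inv_cancel_left]
  rw [hg, toList_mul, toList_elt, toList_elt]
  have := List.all_eq_true.mp (List.all_eq_true.mp fiveList_spec a ha) b hb
  simpa using this

/-- Six standard positions. -/
def q6 (i : ℕ) : List ℕ := q5 ++ [i]

/-- The elements fixing six standard positions. -/
def fixSix (i : ℕ) : List (List ℕ) := fiveList.filter fun f => f.getD i 0 == i

theorem fixList_six (i : ℕ) : FixList (q6 i) (fixSix i) := fixList_five.snoc i

/-- The coset of a fixer list through a given element. -/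
theorem coset_mem {Q : List ℕ} (hQ : ∀ i ∈ Q, i < 24) {F : List (List ℕ)} (hF : FixList Q F)
    {k : List ℕ} (hk : genOK k = true) {σ : M24}
    (h : agreeL Q (toList (σ : Equiv.Perm GolayPt)) k = true) :
    toList (σ : Equiv.Perm GolayPt) ∈ F.map (compL k) := by
  obtain ⟨c, hc⟩ := genOK_spec hk
  refine List.mem_map.mpr ⟨_, hF (c⁻¹ * σ) fun i hi => ?_, ?_⟩
  · rw [Subgroup.coe_mul, toList_getD _ (hQ i hi), Subgroup.coe_inv, Equiv.Perm.mul_apply]
    have := agreeL_iff.mp h i hi
    rw [← hc, toList_getD _ (hQ i hi), toList_getD _ (hQ i hi)] at this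
    rw [idx_injective this, Equiv.Perm.inv_def, Equiv.symm_apply_apply, idx_pt i (hQ i hi)]
  · rw [← hc, ← toList_mul, ← Subgroup.coe_mul, mul_inv_cancel_left]

/-- The list has the order `p`, for prime `p`. -/
def ordB (p : ℕ) (L : List ℕ) : Bool := L != List.range 24 && powL L p == List.range 24

/-- Every listed candidate of order `p` is conjugate to a representative. -/
def classOK (g0 : List ℕ) (F : List (List ℕ)) (p : ℕ) (reps conjs : List (List ℕ)) : Bool :=
  genOK g0 && (reps.all genOK && (conjs.all genOK && F.all fun f =>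
    !(ordB p (compL g0 f)) ||
      conjs.any fun c => reps.any fun r => compL c (compL g0 f) == compL r c))

/-- The list of an element of order `p` is conjugate to a representative. -/
def ConjTo (reps : List (List ℕ)) (σ : M24) : Prop :=
  ∃ k : M24, toList ((k * σ * k⁻¹ : M24) : Equiv.Perm GolayPt) ∈ reps

theorem ConjTo.of_conj {reps : List (List ℕ)} {σ : M24} (g : M24) (h : ConjTo reps (g⁻¹ * σ * g)) :
    ConjTo reps σ := by
  obtain ⟨k, hk⟩ := h
  exact ⟨k * g⁻¹, by rwa [show k * g⁻¹ * σ * (k * g⁻¹)⁻¹ = k * (g⁻¹ * σ * g) * k⁻¹ by group]⟩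

theorem classOK_spec {Q : List ℕ} (hQ : ∀ i ∈ Q, i < 24) {F : List (List ℕ)} (hF : FixList Q F)
    {g0 : List ℕ} {p : ℕ} {reps conjs : List (List ℕ)} (h : classOK g0 F p reps conjs = true)
    {σ : M24} (ha : agreeL Q (toList (σ : Equiv.Perm GolayPt)) g0 = true) (h1 : σ ≠ 1)
    (hp : σ ^ p = 1) : ConjTo reps σ := by
  simp only [classOK, Bool.and_eq_true, List.all_eq_true] at h
  obtain ⟨hg0, hreps, hconjs, hall⟩ := h
  obtain ⟨f, hf, hfe⟩ := List.mem_map.mp (coset_mem hQ hF hg0 ha)
  have hord : ordB p (compL g0 f) = true := by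
    rw [hfe]
    simp only [ordB, Bool.and_eq_true, bne_iff_ne, ne_eq, beq_iff_eq]
    constructor
    · exact fun e => h1 (toList_coe_injective (e.trans toList_one.symm))
    · rw [← toList_pow, ← SubgroupClass.coe_pow, hp]
      exact toList_one
  have := hall f hf
  rw [hord, Bool.not_true, Bool.false_or, List.any_eq_true] at this
  obtain ⟨c, hc, hc'⟩ := this
  obtain ⟨r, hr, hrc⟩ := List.any_eq_true.mp hc'
  rw [beq_iff_eq, hfe] at hrc
  obtain ⟨k, hk⟩ := genOK_spec (hconjs c hc)
  obtain ⟨ρ, hρ⟩ := genOK_spec (hreps r hr)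
  have hkey : k * σ = ρ * k := toList_coe_injective (by
    simp only [Subgroup.coe_mul, toList_mul, hk, hρ]; exact hrc)
  exact ⟨k, by rwa [hkey, mul_inv_cancel_right, hρ]⟩

end CfsgLib.Golay.Cert
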