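/-
Packed orbit steps.
-/
import Mathlib.Data.List.Range

set_option autoImplicit false

namespace CfsgLib.Golay.Cert

/-- A step `(generator, parent, child)` from one number. -/
def unpack (n : ℕ) : ℕ × ℕ × ℕ := (n / 16777216, n / 4096 % 4096, n % 4096)

end CfsgLib.Golay.Cert
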