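/-
Small sets of points moved to standard position.
-/
import Cfsg.Agent.Golay.OrbitTools
import Cfsg.Agent.Golay.FamOne
import Cfsg.Agent.Golay.Orb.PairBase
import Cfsg.Agent.Golay.Orb.TripleBase
import Cfsg.Agent.Golay.Orb.PairTwoPts

set_option autoImplicit false

namespace CfsgLib.Golay.Cert

open Cfsg CfsgLib.Golay Finset
open scoped Pointwise

/-- The octads through a set, as an object. -/
noncomputable def thru (s : Finset GolayPt) : Obj := (Steiner.blocks octads).filter (s ⊆ ·)

theorem mem_thru {s o : Finset GolayPt} : o ∈ thru s ↔ o ∈ octads ∧ s ⊆ o := by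
  simp [thru, Steiner.mem_blocks]

theorem smul_thru (g : M24) (s : Finset GolayPt) : g • thru s = thru (g • s) := by
  ext o
  rw [Finset.mem_smul_finset, mem_thru]
  constructor
  · rintro ⟨o', ho', rfl⟩
    rw [mem_thru] at ho'
    exact ⟨smul_mem_octads' g ho'.1, smul_finset_subset_smul_finset ho'.2⟩
  · rintro ⟨ho, hs⟩
    refine ⟨g⁻¹ • o, mem_thru.mpr ⟨smul_mem_octads' g⁻¹ ho, ?_⟩, smul_inv_smul g o⟩
    rw [← inv_smul_smul g s]
    exact smul_finset_subset_smul_finset hs

/-- A finite list of masks is the set of octads through a set when the count is right. -/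
theorem toObj_thru {l : List ℕ} {m i n : ℕ} (hl : canonL l = true) (hlen : l.length = n)
    (hok : ∀ a ∈ l, wt 24 a = 8 ∧ word (a % 4096) = a ∧ a &&& m = m)
    (hi : wt 24 m = i) (hi5 : i ≤ 5) (hn : n * (8 - i).choose (5 - i) = (24 - i).choose (5 - i))
    (hne : (8 - i).choose (5 - i) ≠ 0) : toObj l = thru (pts m) := by
  refine eq_of_subset_of_card_le (fun o ho => ?_) ?_
  · obtain ⟨a, ha, rfl⟩ := mem_toObj.mp ho
    obtain ⟨h8, hw, hsub⟩ := hok a ha
    refine mem_thru.mpr ⟨(mem_octads_iff _).mpr ⟨a % 4096, Nat.mod_lt _ (by norm_num), by rw [hw]; exact h8,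
      by rw [hw]⟩, fun p hp => ?_⟩
    rw [mem_pts] at hp ⊢
    rw [← hsub, Nat.testBit_and, Bool.and_eq_true] at hp
    exact hp.1
  · rw [toObj, List.toFinset_card_of_nodup (nodup_pts hl), List.length_map, hlen]
    exact (Steiner.count_eq octads_steiner hi5 (by rw [card_golayPt]; exact hn) hne (pts m)
      (by rw [card_pts, hi])).le

/-- The standard pair. -/
def pairStd : Finset GolayPt := pts 8388609

/-- The standard triple. -/
def tripleStd : Finset GolayPt := pts 8388611

theorem bPair_eq : bPair.map toObj = [one' pairStd] := by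
  simp only [bPair, List.map_cons, List.map_nil, toObj_one, pairStd]

theorem bTriple_eq : bTriple.map toObj = [one' tripleStd, thru tripleStd] := by
  simp only [bTriple, List.map_cons, List.map_nil, toObj_one, tripleStd]
  congr 2
  exact toObj_thru (i := 3) (n := 21) (by decide +kernel) (by decide +kernel) (by decide +kernel)
    (by decide +kernel) (by norm_num) (by decide) (by decide)

theorem bPQS_eq : bPQS.map toObj =
    [ptO (pt 23), ptO (pt 0), one' (pts 6), thru ({pt 23, pt 0} ∪ pts 6)] := by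
  have hu : ({pt 23, pt 0} : Finset GolayPt) ∪ pts 6 = pts 8388615 := by decide +kernel
  simp only [bPQS, List.map_cons, List.map_nil, toObj_one,
    toObj_point 8388608 23 (by norm_num) (by norm_num), toObj_point 1 0 (by norm_num) (by norm_num), hu]
  congr 4
  exact toObj_thru (i := 4) (n := 5) (by decide +kernel) (by decide +kernel) (by decide +kernel)
    (by decide +kernel) (by norm_num) (by decide) (by decide)

/-- Sets of at most five points of equal size are conjugate. -/
theorem exists_map_card {s t : Finset GolayPt} (h : s.card = t.card) (h5 : s.card ≤ 5) :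
    ∃ g : M24, g • s = t := by
  let e1 : Fin s.card ≃ s := (Fintype.equivFinOfCardEq (Fintype.card_coe s)).symm
  let e2 : Fin s.card ≃ t := (Fintype.equivFinOfCardEq ((Fintype.card_coe t).trans h.symm)).symm
  have key : ∀ (u : Finset GolayPt) (e : Fin s.card ≃ u), ∃ g ∈ M24, ∀ j : Fin s.card, g (bp j) = e j := by
    intro u e
    obtain ⟨g, hg, hgx⟩ := exists_mem_map_base s.card h5
      (fun i => if hi : i < s.card then (e ⟨i, hi⟩ : GolayPt) else none) fun i hi j hj he => by
        simp only [hi, hj, dif_pos] at he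
        simpa using e.injective (Subtype.ext he)
    exact ⟨g, hg, fun j => by rw [hgx j j.2]; simp⟩
  obtain ⟨a, ha, hax⟩ := key s e1
  obtain ⟨b, hb, hbx⟩ := key t e2
  refine ⟨⟨b * a⁻¹, mul_mem hb (inv_mem ha)⟩, eq_of_subset_of_card_le (fun y hy => ?_) (by rw [card_smul_finset, h])⟩
  obtain ⟨x, hx, rfl⟩ := mem_smul_finset.mp hy
  obtain ⟨j, hj⟩ := e1.surjective ⟨x, hx⟩
  have h1 : a (bp j) = x := by rw [hax, hj]
  show b (a⁻¹ x) ∈ t
  rw [← h1, Equiv.Perm.inv_def, Equiv.symm_apply_apply, hbx]
  exact (e2 j).2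

theorem map_pair {s : Finset GolayPt} (hs : s.card = 2) :
    ∃ k : M24, [one' pairStd].map (k • ·) = [one' s] := by
  have h2 : pairStd.card = 2 := by rw [pairStd, card_pts]; decide +kernel
  obtain ⟨k, hk⟩ := exists_map_card (s := pairStd) (t := s) (by omega) (by omega)
  exact ⟨k, by simp [smul_one', hk]⟩

theorem map_triple {s : Finset GolayPt} (hs : s.card = 3) :
    ∃ k : M24, [one' tripleStd, thru tripleStd].map (k • ·) = [one' s, thru s] := by
  have h3 : tripleStd.card = 3 := by rw [tripleStd, card_pts]; decide +kernel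
  obtain ⟨k, hk⟩ := exists_map_card (s := tripleStd) (t := s) (by omega) (by omega)
  exact ⟨k, by simp [smul_one', smul_thru, hk]⟩

theorem map_pqs {p q : GolayPt} (hpq : p ≠ q) {s : Finset GolayPt} (hs : s.card = 2) (hps : p ∉ s)
    (hqs : q ∉ s) :
    ∃ k : M24, [ptO (pt 23), ptO (pt 0), one' (pts 6), thru ({pt 23, pt 0} ∪ pts 6)].map (k • ·) =
      [ptO p, ptO q, one' s, thru ({p, q} ∪ s)] := by
  obtain ⟨u, v, huv, rfl⟩ := card_eq_two.mp hs
  simp only [mem_insert, Finset.mem_singleton, not_or] at hps hqs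
  let x : ℕ → GolayPt := fun i => if i = 0 then p else if i = 1 then q else if i = 2 then u else v
  obtain ⟨g, hg, hgx⟩ := exists_mem_map_base 4 (by norm_num) x fun i hi j hj he => by
    interval_cases i <;> interval_cases j <;>
      simp [x, hpq, hpq.symm, huv, huv.symm, hps.1, hps.2, hqs.1, hqs.2, Ne.symm hps.1, Ne.symm hps.2,
        Ne.symm hqs.1, Ne.symm hqs.2] at he ⊢
  have hb : bp 0 = pt 23 ∧ bp 1 = pt 0 ∧ bp 2 = pt 1 ∧ bp 3 = pt 2 := by decide +kernel
  refine ⟨⟨g, hg⟩, ?_⟩
  have h0 : (⟨g, hg⟩ : M24) • pt 23 = p := by rw [← hb.1]; exact (hgx 0 (by norm_num)).trans (by simp [x])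
  have h1 : (⟨g, hg⟩ : M24) • pt 0 = q := by rw [← hb.2.1]; exact (hgx 1 (by norm_num)).trans (by simp [x])
  have h2 : (⟨g, hg⟩ : M24) • pt 1 = u := by rw [← hb.2.2.1]; exact (hgx 2 (by norm_num)).trans (by simp [x])
  have h3 : (⟨g, hg⟩ : M24) • pt 2 = v := by rw [← hb.2.2.2]; exact (hgx 3 (by norm_num)).trans (by simp [x])
  have h6 : (pts 6 : Finset GolayPt) = {pt 1, pt 2} := by decide +kernel
  simp only [List.map_cons, List.map_nil, smul_ptO, smul_one', smul_thru, smul_finset_union, h6,
    smul_finset_insert, smul_finset_singleton, h0, h1, h2, h3]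

theorem pow_le_J {A : Obj} {a b : Finset GolayPt} (ha : a ∈ A) :
    100 ^ (a ∩ b).card ≤ J A (one' b) := by
  simp only [J, one', sum_singleton]
  exact single_le_sum (f := fun a => 100 ^ (a ∩ b).card) (fun _ _ => Nat.zero_le _) ha

/-- Whether some octad of `A` contains `b`, read off from the invariant. -/
theorem exists_super_iff {A : Obj} {b : Finset GolayPt} {j : ℕ} (hb : b.card = j + 1) (hA : A.card < 100) :
    (∃ a ∈ A, b ⊆ a) ↔ 100 ^ (j + 1) ≤ J A (one' b) := by
  constructor
  · rintro ⟨a, ha, hba⟩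
    have := pow_le_J (b := b) ha
    rwa [inter_eq_right.mpr hba, hb] at this
  · intro h
    by_contra hno
    simp only [not_exists, not_and] at hno
    have hle : J A (one' b) ≤ A.card * 100 ^ j := by
      simp only [J, one', sum_singleton]
      refine (sum_le_card_nsmul A _ (100 ^ j) fun a ha => Nat.pow_le_pow_right (by norm_num) ?_).trans_eq
        (by rw [smul_eq_mul])
      by_contra hc
      refine hno a ha (inter_eq_right.mp (eq_of_subset_of_card_le inter_subset_right ?_))
      omega
    have : A.card * 100 ^ j < 100 ^ (j + 1) := by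
      rw [pow_succ']
      exact Nat.mul_lt_mul_of_pos_right hA (by positivity)
    omega

theorem thru_card_lt {s : Finset GolayPt} (hs : s.card = 3 ∨ s.card = 4) : (thru s).card < 100 := by
  rcases hs with h | h
  · rw [thru, Steiner.count_eq octads_steiner (i := 3) (n := 21) (by norm_num)
      (by rw [card_golayPt]; decide) (by decide) s h]
    norm_num
  · rw [thru, octads_through_four h]; norm_num

theorem exists_octad_iff_thru {s b : Finset GolayPt} :
    (∃ o ∈ octads, s ∪ b ⊆ o) ↔ ∃ o ∈ thru s, b ⊆ o := by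
  simp [mem_thru, union_subset_iff, and_assoc]

theorem J_mod {A : Finset GolayPt} {X : Obj} (hX : X.card < 100) :
    J (one' A) X % 100 = (X.filter fun t => A ∩ t = ∅).card := by
  rw [J_one'_left, sum_nat_mod]
  have : ∀ t ∈ X, 100 ^ (A ∩ t).card % 100 = if A ∩ t = ∅ then 1 else 0 := fun t _ => by
    by_cases h : A ∩ t = ∅
    · simp [h]
    · rw [if_neg h]
      obtain ⟨k, hk⟩ : ∃ k, (A ∩ t).card = k + 1 :=
        ⟨_, (Nat.sub_add_cancel (card_pos.mpr (nonempty_iff_ne_empty.mpr h))).symm⟩
      rw [hk, pow_succ, Nat.mul_mod_left]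
  rw [sum_congr rfl this, ← card_filter]
  exact Nat.mod_eq_of_lt (lt_of_le_of_lt (card_filter_le _ _) hX)

end CfsgLib.Golay.Cert
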