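/-
Conjugacy classes of elements of order 2, 3, 5 and 7.
-/
import Cfsg.Agent.Golay.NormalForm
import Cfsg.Agent.Golay.PointsPos

set_option autoImplicit false

namespace CfsgLib.Golay.Cert

open Cfsg CfsgLib.Golay
open scoped Pointwise

/-- An element moving at most five points is trivial. -/
theorem eq_one_of_small {g : M24} {S : Finset GolayPt} (hS : S.card ≤ 5)
    (h : ∀ p ∉ S, (g : Equiv.Perm GolayPt) p = p) : g = 1 := by
  have ho := pts_baseOctad_mem
  obtain ⟨t, htsub, htc⟩ := Finset.exists_subset_card_eq (s := (pts baseOctad)ᶜ) (n := S.card) (by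
    rw [Finset.card_compl, card_golayPt, octad_card ho]; omega)
  obtain ⟨k, hk⟩ := exists_map_card htc (htc ▸ hS)
  subst hk
  have hdisj : ∀ x ∈ k • pts baseOctad, x ∉ k • t := fun x hx hxt => by
    obtain ⟨y, hy, rfl⟩ := Finset.mem_smul_finset.mp hx
    rw [smul_mem_iff'] at hxt
    exact Finset.mem_compl.mp (htsub hxt) hy
  obtain ⟨r, -, hr⟩ : ∃ r ∈ (Finset.univ : Finset GolayPt), r ∉ k • pts baseOctad ∪ k • t := by
    refine Finset.exists_mem_notMem_of_card_lt_card (lt_of_le_of_lt (Finset.card_union_le _ _) ?_)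
    rw [Finset.card_univ, card_golayPt, Finset.card_smul_finset, octad_card ho]
    omega
  rw [Finset.mem_union, not_or] at hr
  exact eq_one_of_fix (smul_mem_octads' k ho) hr.1 (fun x hx => h x (hdisj x hx)) (h r hr.2)

/-- Six distinct points, moved to standard position. -/
theorem normal_six (l : List GolayPt) (hlen : l.length = 6) (hnd : l.Nodup) :
    ∃ g : M24, (∀ j < 5, (g : Equiv.Perm GolayPt) (pt (q5.getD j 0)) = l.getD j none) ∧
      ∃ i, (i = 5 ∨ i = 4) ∧ (g : Equiv.Perm GolayPt) (pt i) = l.getD 5 none := by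
  have hinj : ∀ i < 6, ∀ j < 6, l.getD i none = l.getD j none → i = j := by
    intro i hi j hj h
    rw [List.getD_eq_getElem _ _ (hlen ▸ hi), List.getD_eq_getElem _ _ (hlen ▸ hj)] at h
    exact hnd.getElem_inj_iff.mp h
  obtain ⟨g, hg, h5, ha, hb⟩ := six_map (fun i => l.getD i none) hinj
  refine ⟨⟨g, hg⟩, fun j hj => by rw [pt_q5 j hj]; exact h5 j hj, ?_⟩
  by_cases hin : InOct fun i => l.getD i none
  · exact ⟨5, Or.inl rfl, ha hin⟩
  · exact ⟨4, Or.inr rfl, hb hin⟩

/-- Five distinct points, moved to standard position. -/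
theorem normal_five (l : List GolayPt) (hlen : l.length = 5) (hnd : l.Nodup) :
    ∃ g : M24, ∀ j < 5, (g : Equiv.Perm GolayPt) (pt (q5.getD j 0)) = l.getD j none := by
  obtain ⟨g, hg, hgx⟩ := exists_mem_map_base 5 le_rfl (fun i => l.getD i none) fun i hi j hj h => by
    rw [List.getD_eq_getElem _ _ (hlen ▸ hi), List.getD_eq_getElem _ _ (hlen ▸ hj)] at h
    exact hnd.getElem_inj_iff.mp h
  exact ⟨⟨g, hg⟩, fun j hj => by rw [pt_q5 j hj]; exact hgx j hj⟩

/-- A conjugate agrees with a pattern. -/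
theorem agree_conj {Qf : List ℕ} {n : ℕ} {π g0 : List ℕ}
    (hpat : ∀ i < n, Qf.getD i 0 < 24 ∧ g0.getD (Qf.getD i 0) 0 = Qf.getD (π.getD i 0) 0 ∧
      π.getD i 0 < Qf.length ∧ Qf.getD (π.getD i 0) 0 < 24)
    (hn : n ≤ Qf.length) {g σ : M24} {l : List GolayPt}
    (hgl : ∀ i < Qf.length, (g : Equiv.Perm GolayPt) (pt (Qf.getD i 0)) = l.getD i none)
    (hσ : ∀ i < n, (σ : Equiv.Perm GolayPt) (l.getD i none) = l.getD (π.getD i 0) none) :
    agreeL (Qf.take n) (toList ((g⁻¹ * σ * g : M24) : Equiv.Perm GolayPt)) g0 = true := by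
  rw [agreeL_iff]
  intro q hq
  obtain ⟨i, hi, rfl⟩ := List.mem_iff_getElem.mp hq
  have hi' : i < n := lt_of_lt_of_le hi (by simp)
  rw [List.getElem_take, ← List.getD_eq_getElem _ 0 (hi'.trans_le hn)]
  obtain ⟨h1, h2, h3, h4⟩ := hpat i hi'
  rw [toList_getD _ h1, h2, Subgroup.coe_mul, Subgroup.coe_mul, Equiv.Perm.mul_apply,
    Equiv.Perm.mul_apply, hgl i (hi'.trans_le hn), hσ i hi', ← hgl _ h3, Subgroup.coe_inv,
    Equiv.Perm.inv_def, Equiv.symm_apply_apply, idx_pt _ h4]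

theorem conj_pow_ne {g σ : M24} {p : ℕ} (h1 : σ ≠ 1) (hp : σ ^ p = 1) :
    g⁻¹ * σ * g ≠ 1 ∧ (g⁻¹ * σ * g) ^ p = 1 := by
  refine ⟨fun e => h1 ?_, ?_⟩
  · rw [show σ = g * (g⁻¹ * σ * g) * g⁻¹ by group, e]
    group
  · rw [show g⁻¹ * σ * g = g⁻¹ * σ * (g⁻¹)⁻¹ by rw [inv_inv], conj_pow, hp]
    group

theorem ok_two : classOK pat2A fiveList 2 reps2 conjs2 = true ∧
    classOK pat2B5 (fixSix 5) 2 reps2 conjs2 = true ∧
    classOK pat2B4 (fixSix 4) 2 reps2 conjs2 = true := by decide +kernel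

theorem ok_three : classOK pat3x5 (fixSix 5) 3 reps3 conjs3 = true ∧
    classOK pat3x4 (fixSix 4) 3 reps3 conjs3 = true := by decide +kernel

theorem ok_five : classOK pat5 fiveList 5 reps5 conjs5 = true := by decide +kernel

theorem ok_seven : classOK pat7x5 fiveList 7 reps7 conjs7 = true ∧
    classOK pat7x4 fiveList 7 reps7 conjs7 = true := by decide +kernel

theorem conjTo_two {σ : M24} (h1 : σ ≠ 1) (hp : σ ^ 2 = 1) : ConjTo reps2 σ := by
  obtain ⟨a, ha⟩ : ∃ a, (σ : Equiv.Perm GolayPt) a ≠ a := by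
    by_contra h; push Not at h
    exact h1 (eq_one_of_small (S := ∅) (by simp) fun p _ => h p)
  have hinv : ∀ p, (σ : Equiv.Perm GolayPt) ((σ : Equiv.Perm GolayPt) p) = p := by
    intro p
    have := congrArg (fun z : M24 => (z : Equiv.Perm GolayPt) p) hp
    simpa [pow_two] using this
  obtain ⟨b, hb, hbm⟩ : ∃ b, b ∉ ({a, (σ : Equiv.Perm GolayPt) a} : Finset GolayPt) ∧ (σ : Equiv.Perm GolayPt) b ≠ b := by
    by_contra h; push Not at h
    exact h1 (eq_one_of_small (S := {a, (σ : Equiv.Perm GolayPt) a}) ((Finset.card_le_two).trans (by norm_num)) h)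
  obtain ⟨c, -, hc⟩ : ∃ c ∈ (Finset.univ : Finset GolayPt), c ∉ ({a, (σ : Equiv.Perm GolayPt) a, b, (σ : Equiv.Perm GolayPt) b} : Finset GolayPt) :=
    Finset.exists_mem_notMem_of_card_lt_card (lt_of_le_of_lt Finset.card_le_four
      (by rw [Finset.card_univ, card_golayPt]; norm_num))
  simp only [Finset.mem_insert, Finset.mem_singleton, not_or] at hb hc
  set s := (σ : Equiv.Perm GolayPt) with hs
  have hsab : s a ≠ s b := fun e => hb.1 (s.injective e).symm
  have hsab' : a ≠ s b := fun e => hb.2 (by rw [e, hinv])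
  by_cases hcc : s c = c
  · obtain ⟨g, hg⟩ := normal_five [a, s a, b, s b, c] rfl (by
      simp only [List.nodup_cons, List.mem_cons, List.not_mem_nil, or_false, not_or, List.nodup_nil]
      exact ⟨⟨Ne.symm ha, Ne.symm hb.1, hsab', Ne.symm hc.1⟩, ⟨Ne.symm hb.2, hsab, Ne.symm hc.2.1⟩,
        ⟨Ne.symm hbm, Ne.symm hc.2.2.1⟩, Ne.symm hc.2.2.2, not_false, trivial⟩)
    obtain ⟨hn1, hn2⟩ := conj_pow_ne (g := g) h1 hp
    refine ConjTo.of_conj g (classOK_spec (Q := q5) (by decide) fixList_five ok_two.1 ?_ hn1 hn2)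
    refine agree_conj (Qf := q5) (n := 5) (π := [1, 0, 3, 2, 4]) (by decide +kernel) le_rfl hg fun i hi => ?_
    interval_cases i
    exacts [rfl, hinv a, rfl, hinv b, hcc]
  · obtain ⟨g, hg, j, hj, hgj⟩ := normal_six [a, s a, b, s b, c, s c] rfl (by
      simp only [List.nodup_cons, List.mem_cons, List.not_mem_nil, or_false, not_or, List.nodup_nil]
      refine ⟨⟨Ne.symm ha, Ne.symm hb.1, hsab', Ne.symm hc.1, fun e => hc.2.1 ?_⟩,
        ⟨Ne.symm hb.2, hsab, Ne.symm hc.2.1, fun e => hc.1 (s.injective e).symm⟩,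
        ⟨Ne.symm hbm, Ne.symm hc.2.2.1, fun e => hc.2.2.2 ?_⟩,
        ⟨Ne.symm hc.2.2.2, fun e => hc.2.2.1 (s.injective e).symm⟩, Ne.symm hcc, not_false, trivial⟩
      · rw [e, hinv]
      · rw [e, hinv])
    obtain ⟨hn1, hn2⟩ := conj_pow_ne (g := g) h1 hp
    have hgl : ∀ i < (q6 j).length, (g : Equiv.Perm GolayPt) (pt ((q6 j).getD i 0)) =
        [a, s a, b, s b, c, s c].getD i none := by
      intro i hi
      have hi' : i < 6 := by simpa [q6, q5] using hi
      interval_cases i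
      exacts [hg 0 (by norm_num), hg 1 (by norm_num), hg 2 (by norm_num), hg 3 (by norm_num), hg 4 (by norm_num), hgj]
    have hσ : ∀ i < 6, s ([a, s a, b, s b, c, s c].getD i none) =
        [a, s a, b, s b, c, s c].getD ([1, 0, 3, 2, 5, 4].getD i 0) none := by
      intro i hi
      interval_cases i
      exacts [rfl, hinv a, rfl, hinv b, rfl, hinv c]
    rcases hj with rfl | rfl
    · exact ConjTo.of_conj g (classOK_spec (Q := q6 5) (by decide) (fixList_six 5) ok_two.2.1
        (agree_conj (n := 6) (by decide +kernel) (by decide) hgl hσ) hn1 hn2)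
    · exact ConjTo.of_conj g (classOK_spec (Q := q6 4) (by decide) (fixList_six 4) ok_two.2.2
        (agree_conj (n := 6) (by decide +kernel) (by decide) hgl hσ) hn1 hn2)

theorem conjTo_three {σ : M24} (h1 : σ ≠ 1) (hp : σ ^ 3 = 1) : ConjTo reps3 σ := by
  set s := (σ : Equiv.Perm GolayPt) with hs
  have h3 : ∀ p, s (s (s p)) = p := by
    intro p
    have := congrArg (fun z : M24 => (z : Equiv.Perm GolayPt) p) hp
    simpa [pow_succ] using this
  have h2 : ∀ p, s p ≠ p → s (s p) ≠ p ∧ s (s p) ≠ s p := fun p hm =>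
    ⟨fun e => hm (by conv_lhs => rw [← e, h3]), fun e => hm (s.injective e)⟩
  obtain ⟨a, ha⟩ : ∃ a, s a ≠ a := by
    by_contra h; push Not at h
    exact h1 (eq_one_of_small (S := ∅) (by simp) fun p _ => h p)
  obtain ⟨b, hb, hbm⟩ : ∃ b, b ∉ ({a, s a, s (s a)} : Finset GolayPt) ∧ s b ≠ b := by
    by_contra h; push Not at h
    exact h1 (eq_one_of_small (S := {a, s a, s (s a)}) ((Finset.card_le_three).trans (by norm_num)) h)
  simp only [Finset.mem_insert, Finset.mem_singleton, not_or] at hb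
  obtain ⟨hb0, hb1, hb2⟩ := hb
  obtain ⟨g, hg, j, hj, hgj⟩ := normal_six [a, s a, s (s a), b, s b, s (s b)] rfl (by
    simp only [List.nodup_cons, List.mem_cons, List.not_mem_nil, or_false, not_or, List.nodup_nil]
    refine ⟨⟨Ne.symm ha, Ne.symm (h2 a ha).1, Ne.symm hb0, fun e => hb2 ?_, fun e => hb1 ?_⟩,
      ⟨Ne.symm (h2 a ha).2, Ne.symm hb1, fun e => hb0 (s.injective e).symm, fun e => hb2 ?_⟩,
      ⟨Ne.symm hb2, fun e => hb1 (s.injective e).symm, fun e => hb0 (s.injective (s.injective e)).symm⟩,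
      ⟨Ne.symm hbm, Ne.symm (h2 b hbm).1⟩, Ne.symm (h2 b hbm).2, not_false, trivial⟩
    · rw [e, h3]
    · rw [e, h3]
    · rw [e, h3])
  obtain ⟨hn1, hn2⟩ := conj_pow_ne (g := g) h1 hp
  have hgl : ∀ i < (q6 j).length, (g : Equiv.Perm GolayPt) (pt ((q6 j).getD i 0)) =
      [a, s a, s (s a), b, s b, s (s b)].getD i none := by
    intro i hi
    have hi' : i < 6 := by simpa [q6, q5] using hi
    interval_cases i
    exacts [hg 0 (by norm_num), hg 1 (by norm_num), hg 2 (by norm_num), hg 3 (by norm_num), hg 4 (by norm_num), hgj]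
  have hσ : ∀ i < 6, s ([a, s a, s (s a), b, s b, s (s b)].getD i none) =
      [a, s a, s (s a), b, s b, s (s b)].getD ([1, 2, 0, 4, 5, 3].getD i 0) none := by
    intro i hi
    interval_cases i
    exacts [rfl, rfl, h3 a, rfl, rfl, h3 b]
  rcases hj with rfl | rfl
  · exact ConjTo.of_conj g (classOK_spec (Q := q6 5) (by decide) (fixList_six 5) ok_three.1
      (agree_conj (n := 6) (by decide +kernel) (by decide) hgl hσ) hn1 hn2)
  · exact ConjTo.of_conj g (classOK_spec (Q := q6 4) (by decide) (fixList_six 4) ok_three.2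
      (agree_conj (n := 6) (by decide +kernel) (by decide) hgl hσ) hn1 hn2)

end CfsgLib.Golay.Cert
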