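/-
The catalogue of sextets is complete.
-/
import Cfsg.Agent.Golay.CatTools
import Cfsg.Agent.Golay.Cats.SextData
import Cfsg.Prelude.Def_SporadicCombinatorics

set_option autoImplicit false

namespace CfsgLib.Golay.Cert

open Cfsg CfsgLib.Golay Finset
open scoped Pointwise

theorem sextet_disjoint {S : Obj} (hS : S ∈ sextets) {t u : Finset GolayPt} (ht : t ∈ S) (hu : u ∈ S)
    (h : t ≠ u) : Disjoint t u := by
  have h8 := octad_card (hS.2.2 t ht u hu h)
  have := card_union_add_card_inter t u
  rw [h8, hS.2.1 t ht, hS.2.1 u hu] at this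
  exact disjoint_iff_inter_eq_empty.mpr (card_eq_zero.mp (by omega))

theorem sextet_cover {S : Obj} (hS : S ∈ sextets) (p : GolayPt) : ∃ t ∈ S, p ∈ t := by
  have hd : (S : Set (Finset GolayPt)).PairwiseDisjoint id := fun t ht u hu h =>
    sextet_disjoint hS ht hu h
  have hc : (S.biUnion id).card = 24 := by
    rw [card_biUnion hd, sum_congr rfl (g := fun _ => 4) fun u hu => show (id u).card = 4 from hS.2.1 u hu, sum_const, hS.1, smul_eq_mul]
  have : S.biUnion id = univ := eq_univ_of_card _ (by rw [hc, card_golayPt])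
  simpa using this.ge (mem_univ p)

/-- A sextet is determined by one of its tetrads. -/
theorem sextet_eq {S : Obj} (hS : S ∈ sextets) {t : Finset GolayPt} (ht : t ∈ S) :
    S = insert t (((Steiner.blocks octads).filter (t ⊆ ·)).image (· \ t)) := by
  refine eq_of_subset_of_card_le (fun u hu => ?_) ?_
  · by_cases h : u = t
    · subst h; exact mem_insert_self _ _
    · refine mem_insert_of_mem (mem_image.mpr ⟨t ∪ u, ?_, ?_⟩)
      · exact mem_filter.mpr ⟨Steiner.mem_blocks.mpr (hS.2.2 t ht u hu (Ne.symm h)), subset_union_left⟩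
      · rw [union_sdiff_left, sdiff_eq_self_of_disjoint (sextet_disjoint hS hu ht h)]
  · refine (card_insert_le _ _).trans ?_
    have := card_image_le (s := (Steiner.blocks octads).filter (t ⊆ ·)) (f := (· \ t))
    rw [octads_through_four (hS.2.1 t ht)] at this
    rw [hS.1]; omega

theorem sextets_ncard_le : sextets.ncard ≤ 1771 := by
  choose f hf hf' using fun S (hS : S ∈ sextets) => sextet_cover hS (none : GolayPt)
  classical
  let F : Obj → Finset GolayPt := fun S => if hS : S ∈ sextets then (f S hS).erase none else ∅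
  have hinj : Set.InjOn F sextets := by
    intro S hS S' hS' h
    simp only [F, dif_pos hS, dif_pos hS'] at h
    have h2 : f S hS = f S' hS' := by
      rw [← insert_erase (hf' S hS), h, insert_erase (hf' S' hS')]
    rw [sextet_eq hS (hf S hS), sextet_eq hS' (hf S' hS'), h2]
  have hmaps : ∀ S ∈ sextets, F S ∈ (((univ : Finset GolayPt).erase none).powersetCard 3 : Set (Finset GolayPt)) := by
    intro S hS
    simp only [F, dif_pos hS, mem_coe, mem_powersetCard]
    exact ⟨erase_subset_erase _ (subset_univ _), by rw [card_erase_of_mem (hf' S hS), hS.2.1 _ (hf S hS)]⟩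
  refine (Set.ncard_le_ncard_of_injOn F hmaps hinj (finite_toSet _)).trans ?_
  rw [Set.ncard_coe_finset, card_powersetCard, card_erase_of_mem (mem_univ _), card_univ, card_golayPt]
  decide

theorem smul_mem_sextets (g : M24) (S : Obj) (hS : S ∈ sextets) : g • S ∈ sextets := by
  refine ⟨by rw [card_smul_finset]; exact hS.1, ?_, ?_⟩
  · intro t ht
    obtain ⟨t', ht', rfl⟩ := mem_smul_finset.mp ht
    rw [card_smul_finset]; exact hS.2.1 t' ht'
  · intro t ht u hu htu
    obtain ⟨t', ht', rfl⟩ := mem_smul_finset.mp ht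
    obtain ⟨u', hu', rfl⟩ := mem_smul_finset.mp hu
    rw [← smul_finset_union]
    exact smul_mem_octads' g (hS.2.2 t' ht' u' hu' fun h => htu (h ▸ rfl))

theorem sext0_mem : toObj (sextCat.obj 0) ∈ sextets := by
  have hc : canonL (sextCat.obj 0) = true ∧ (sextCat.obj 0).length = 6 ∧
      (∀ m ∈ sextCat.obj 0, wt 24 m = 4) ∧ ∀ m ∈ sextCat.obj 0, ∀ n ∈ sextCat.obj 0, m ≠ n →
        wt 24 (m ||| n) = 8 ∧ word ((m ||| n) % 4096) = m ||| n := by decide +kernel
  obtain ⟨h1, h2, h3, h4⟩ := hc
  refine ⟨?_, ?_, ?_⟩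
  · rw [toObj, List.toFinset_card_of_nodup (nodup_pts h1), List.length_map, h2]
  · intro t ht
    obtain ⟨m, hm, rfl⟩ := mem_toObj.mp ht
    rw [card_pts, h3 m hm]
  · intro t ht u hu htu
    obtain ⟨m, hm, rfl⟩ := mem_toObj.mp ht
    obtain ⟨n, hn, rfl⟩ := mem_toObj.mp hu
    obtain ⟨h5, h6⟩ := h4 m hm n hn fun h => htu (h ▸ rfl)
    have hu' : pts m ∪ pts n = pts (m ||| n) := by ext p; simp [pts, Nat.testBit_or]
    rw [hu']
    exact (mem_octads_iff _).mpr ⟨(m ||| n) % 4096, Nat.mod_lt _ (by norm_num), by rw [h6]; exact h5,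
      by rw [h6]⟩

theorem sextets_cat : sextets = {X | sextCat.Mem X} ∧ sextCat.Inv :=
  Cat.eq_fam sextCat_trans smul_mem_sextets ⟨0, by decide +kernel, rfl⟩ sext0_mem sextets_ncard_le
    (Set.toFinite _)

end CfsgLib.Golay.Cert
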