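/-
The catalogue of trios is complete.
-/
import Cfsg.Agent.Golay.CatTools
import Cfsg.Agent.Golay.Cats.TrioData
import Cfsg.Prelude.Def_SporadicCombinatorics

set_option autoImplicit false

namespace CfsgLib.Golay.Cert

open Cfsg CfsgLib.Golay Finset
open scoped Pointwise

theorem trio_cover {T : Obj} (hT : T ∈ trios) (p : GolayPt) : ∃ o ∈ T, p ∈ o := by
  have hd : (T : Set (Finset GolayPt)).PairwiseDisjoint id := fun o ho o' ho' h => hT.2.2 o ho o' ho' h
  have hc : (T.biUnion id).card = 24 := by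
    rw [card_biUnion hd, sum_congr rfl (g := fun _ => 8) fun o ho => show (id o).card = 8 from
      octad_card (hT.2.1 o ho), sum_const, hT.1, smul_eq_mul]
  have : T.biUnion id = univ := eq_univ_of_card _ (by rw [hc, card_golayPt])
  simpa using this.ge (mem_univ p)

/-- A trio is determined by two of its octads. -/
theorem trio_eq {T : Obj} (hT : T ∈ trios) {o a : Finset GolayPt} (ho : o ∈ T) (ha : a ∈ T) (hne : o ≠ a) :
    T = {o, a, (o ∪ a)ᶜ} := by
  refine eq_of_subset_of_card_le (fun b hb => ?_) ?_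
  · simp only [mem_insert, mem_singleton]
    by_cases h1 : b = o
    · exact Or.inl h1
    by_cases h2 : b = a
    · exact Or.inr (Or.inl h2)
    refine Or.inr (Or.inr (eq_of_subset_of_card_le (fun p hp => ?_) ?_))
    · rw [mem_compl, mem_union, not_or]
      exact ⟨disjoint_left.mp (hT.2.2 b hb o ho h1) hp, disjoint_left.mp (hT.2.2 b hb a ha h2) hp⟩
    · rw [card_compl, card_union_of_disjoint (hT.2.2 o ho a ha hne), card_golayPt,
        octad_card (hT.2.1 o ho), octad_card (hT.2.1 a ha), octad_card (hT.2.1 b hb)]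
  · rw [hT.1]; exact card_le_three

/-- At most fifteen trios pass through an octad. -/
theorem trios_through_le {o : Finset GolayPt} (ho : o ∈ octads) :
    {T | T ∈ trios ∧ o ∈ T}.ncard ≤ 15 := by
  classical
  set A := (Set.toFinite {T : Obj | T ∈ trios ∧ o ∈ T}).toFinset with hA
  have hmem : ∀ T, T ∈ A ↔ T ∈ trios ∧ o ∈ T := fun T => by simp [hA]
  have hdisj : (A : Set Obj).PairwiseDisjoint fun T => T.erase o := by
    intro T hT T' hT' hne
    rw [Function.onFun, disjoint_left]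
    intro a ha ha'
    obtain ⟨h1, h2⟩ := mem_erase.mp ha
    obtain ⟨-, h2'⟩ := mem_erase.mp ha'
    exact hne ((trio_eq ((hmem T).mp hT).1 ((hmem T).mp hT).2 h2 (Ne.symm h1)).trans
      (trio_eq ((hmem T').mp hT').1 ((hmem T').mp hT').2 h2' (Ne.symm h1)).symm)
  have h1 : (A.biUnion fun T => T.erase o).card ≤ 30 := by
    rw [← octads_disjoint ho]
    refine card_le_card fun a ha => ?_
    obtain ⟨T, hT, haT⟩ := mem_biUnion.mp ha
    obtain ⟨hne, ha'⟩ := mem_erase.mp haT
    exact mem_filter.mpr ⟨Steiner.mem_blocks.mpr (((hmem T).mp hT).1.2.1 a ha'),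
      ((hmem T).mp hT).1.2.2 o ((hmem T).mp hT).2 a ha' hne.symm⟩
  rw [card_biUnion hdisj, sum_congr rfl (g := fun _ => 2) (fun T hT => by
    rw [card_erase_of_mem ((hmem T).mp hT).2, ((hmem T).mp hT).1.1]), sum_const, smul_eq_mul] at h1
  rw [Set.ncard_eq_toFinset_card _ (Set.toFinite _), ← hA]
  omega

theorem trios_ncard_le : trios.ncard ≤ 3795 := by
  classical
  set Os := (Steiner.blocks octads).filter fun o => ({none} : Finset GolayPt) ⊆ o
  have hOs : Os.card = 253 := Steiner.count_eq octads_steiner (i := 1) (n := 253) (by norm_num)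
    (by rw [card_golayPt]; decide) (by decide) {none} (card_singleton _)
  have hsub : trios ⊆ ⋃ o ∈ (Os : Set (Finset GolayPt)), {T | T ∈ trios ∧ o ∈ T} := by
    intro T hT
    obtain ⟨o, ho, hp⟩ := trio_cover hT none
    simp only [Set.mem_iUnion, Set.mem_ofPred_eq, exists_prop]
    exact ⟨o, mem_filter.mpr ⟨Steiner.mem_blocks.mpr (hT.2.1 o ho), singleton_subset_iff.mpr hp⟩, hT, ho⟩
  refine (Set.ncard_le_ncard hsub (Set.toFinite _)).trans ?_
  refine (Finset.set_ncard_biUnion_le Os fun o => {T | T ∈ trios ∧ o ∈ T}).trans ?_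
  refine (sum_le_card_nsmul Os _ 15 fun o ho =>
    trios_through_le (Steiner.mem_blocks.mp (mem_filter.mp ho).1)).trans ?_
  rw [hOs]; norm_num

theorem smul_mem_trios (g : M24) (T : Obj) (hT : T ∈ trios) : g • T ∈ trios := by
  refine ⟨by rw [card_smul_finset]; exact hT.1, ?_, ?_⟩
  · intro o ho
    obtain ⟨o', ho', rfl⟩ := mem_smul_finset.mp ho
    exact smul_mem_octads' g (hT.2.1 o' ho')
  · intro o ho a ha hoa
    obtain ⟨o', ho', rfl⟩ := mem_smul_finset.mp ho
    obtain ⟨a', ha', rfl⟩ := mem_smul_finset.mp ha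
    have := hT.2.2 o' ho' a' ha' fun h => hoa (h ▸ rfl)
    rw [disjoint_iff_inter_eq_empty] at this ⊢
    rw [← smul_finset_inter, this, smul_finset_empty]

theorem trio0_mem : toObj (trioCat.obj 0) ∈ trios := by
  have hc : canonL (trioCat.obj 0) = true ∧ (trioCat.obj 0).length = 3 ∧
      (∀ m ∈ trioCat.obj 0, wt 24 m = 8 ∧ word (m % 4096) = m) ∧
      ∀ m ∈ trioCat.obj 0, ∀ n ∈ trioCat.obj 0, m ≠ n → m &&& n = 0 := by decide +kernel
  obtain ⟨h1, h2, h3, h4⟩ := hc
  refine ⟨?_, ?_, ?_⟩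
  · rw [toObj, List.toFinset_card_of_nodup (nodup_pts h1), List.length_map, h2]
  · intro o ho
    obtain ⟨m, hm, rfl⟩ := mem_toObj.mp ho
    obtain ⟨h5, h6⟩ := h3 m hm
    exact (mem_octads_iff _).mpr ⟨m % 4096, Nat.mod_lt _ (by norm_num), by rw [h6]; exact h5,
      by rw [h6]⟩
  · intro t ht u hu htu
    obtain ⟨m, hm, rfl⟩ := mem_toObj.mp ht
    obtain ⟨n, hn, rfl⟩ := mem_toObj.mp hu
    have h0 := h4 m hm n hn fun h => htu (h ▸ rfl)
    rw [disjoint_iff_inter_eq_empty]
    have : pts m ∩ pts n = pts (m &&& n) := by ext p; simp [pts, Nat.testBit_and]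
    rw [this, h0]
    ext p; simp [pts]

theorem trios_cat : trios = {X | trioCat.Mem X} ∧ trioCat.Inv :=
  Cat.eq_fam trioCat_trans smul_mem_trios ⟨0, by decide +kernel, rfl⟩ trio0_mem trios_ncard_le
    (Set.toFinite _)

end CfsgLib.Golay.Cert
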