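/-
Counting the catalogue members left invariant by an element, and fixed point sets.
-/
import Cfsg.Agent.Golay.Classes
import Cfsg.Agent.Golay.FamOne
import Cfsg.Agent.Golay.FamSextet
import Cfsg.Agent.Golay.FamTrio

set_option autoImplicit false

namespace CfsgLib.Golay.Cert

open Cfsg CfsgLib.Golay
open scoped Pointwise

theorem permF_lt (σ : Equiv.Perm GolayPt) (m : ℕ) : permF (toList σ) m < 2 ^ 24 := by
  refine Nat.lt_pow_two_of_testBit _ fun j hj => Bool.eq_false_iff.mpr fun h => ?_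
  obtain ⟨i, hi, -, hL⟩ := (testBit_permF _ _ _).mp h
  have hi' : i < 24 := by simpa [toList] using hi
  rw [toList_getD σ hi'] at hL
  have := idx_lt (σ (pt i))
  omega

/-- The number of catalogue members mapped to themselves by a position list. -/
def invCount (C : Cat) (L : List ℕ) : ℕ :=
  ((List.range C.size).filter fun i => same L (C.obj i) (C.obj i)).length

theorem smul_toObj_eq_iff {X : List ℕ} (hX : canonL X = true) {g : M24} :
    g • toObj X = toObj X ↔ same (toList (g : Equiv.Perm GolayPt)) X X = true := by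
  refine ⟨fun h => ?_, fun h => same_spec rfl hX h⟩
  simp only [same, beq_self_eq_true, Bool.true_and, List.all_eq_true, List.contains_iff_mem]
  intro m hm
  have h1 : pts (permF (toList (g : Equiv.Perm GolayPt)) m) ∈ toObj X := by
    rw [← h, smul_toObj]
    exact mem_toObj.mpr ⟨_, List.mem_map_of_mem hm, rfl⟩
  obtain ⟨m', hm', he⟩ := mem_toObj.mp h1
  rwa [← pts_inj ((canonL_spec hX).2 m' hm') (permF_lt _ _) he]

theorem ncard_inv_eq {C : Cat} (hC : C.canon = true) (g : M24) :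
    {X | C.Mem X ∧ g • X = X}.ncard = invCount C (toList (g : Equiv.Perm GolayPt)) := by
  classical
  have hnd : ((List.range C.size).filter fun i =>
      same (toList (g : Equiv.Perm GolayPt)) (C.obj i) (C.obj i)).Nodup := List.nodup_range.filter _
  rw [invCount, ← List.toFinset_card_of_nodup hnd, ← Set.ncard_coe_finset]
  symm
  refine Set.ncard_congr (fun i _ => toObj (C.obj i)) ?_ ?_ ?_
  · intro i hi
    simp only [List.coe_toFinset, Set.mem_ofPred_eq, List.mem_filter, List.mem_range] at hi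
    exact ⟨⟨i, hi.1, rfl⟩, (smul_toObj_eq_iff (C.canonL_obj hC hi.1)).mpr hi.2⟩
  · intro i j hi hj h
    simp only [List.coe_toFinset, Set.mem_ofPred_eq, List.mem_filter, List.mem_range] at hi hj
    exact C.obj_inj hC hi.1 hj.1 h
  · rintro _ ⟨⟨i, hi, rfl⟩, h⟩
    exact ⟨i, by
      simp only [List.coe_toFinset, Set.mem_ofPred_eq, List.mem_filter, List.mem_range]
      exact ⟨hi, (smul_toObj_eq_iff (C.canonL_obj hC hi)).mp h⟩, rfl⟩

theorem ncard_inv_conj {C : Cat} (hC : C.Inv) (k g : M24) :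
    {X | C.Mem X ∧ (k * g * k⁻¹) • X = X}.ncard = {X | C.Mem X ∧ g • X = X}.ncard := by
  conv_rhs => rw [← Set.ncard_image_of_injective _ (MulAction.injective k : Function.Injective (k • · : Obj → Obj))]
  congr 1
  ext X
  simp only [Set.mem_image, Set.mem_ofPred_eq]
  constructor
  · rintro ⟨hX, h⟩
    refine ⟨k⁻¹ • X, ⟨hC _ _ hX, ?_⟩, smul_inv_smul _ _⟩
    rw [mul_smul, mul_smul] at h
    exact (eq_inv_smul_iff).mpr h
  · rintro ⟨Y, ⟨hY, h⟩, rfl⟩
    exact ⟨hC _ _ hY, by rw [mul_smul, mul_smul, inv_smul_smul, h]⟩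

theorem ncard_inv_of_conjTo {C : Cat} (hC : C.canon = true) (hI : C.Inv) {g k : M24} {r : List ℕ}
    (h : toList ((k * g * k⁻¹ : M24) : Equiv.Perm GolayPt) = r) :
    {X | C.Mem X ∧ g • X = X}.ncard = invCount C r := by
  rw [← ncard_inv_conj hI k g, ncard_inv_eq hC, h]

/-- The fixed points of a permutation. -/
abbrev fixedPts (σ : Equiv.Perm GolayPt) : Finset GolayPt := Finset.univ.filter fun p => σ p = p

/-- The fixed positions of a list, as a mask. -/
def fixMask (L : List ℕ) : ℕ :=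
  ((List.range 24).filter fun i => L.getD i 0 == i).foldl (fun m i => m + 2 ^ i) 0

theorem fixedPts_eq (σ : Equiv.Perm GolayPt) :
    fixedPts σ = Finset.univ.filter fun p => (toList σ).getD (idx p) 0 = idx p :=
  Finset.filter_congr fun p _ => by rw [toList_getD_idx]; exact idx_injective.eq_iff.symm

theorem fixedPts_conj (k g : M24) :
    fixedPts ((k * g * k⁻¹ : M24) : Equiv.Perm GolayPt) = k • fixedPts (g : Equiv.Perm GolayPt) := by
  ext p
  rw [← Finset.inv_smul_mem_iff]
  simp only [fixedPts, Finset.mem_filter, Finset.mem_univ, true_and]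
  show (k : Equiv.Perm GolayPt) ((g : Equiv.Perm GolayPt) ((k : Equiv.Perm GolayPt)⁻¹ p)) = p ↔
    (g : Equiv.Perm GolayPt) ((k : Equiv.Perm GolayPt)⁻¹ p) = (k : Equiv.Perm GolayPt)⁻¹ p
  simp only [Equiv.Perm.inv_def]
  exact ⟨fun h => by rw [Equiv.eq_symm_apply, h], fun h => by rw [h, Equiv.apply_symm_apply]⟩

/-- An involution with eight fixed points. -/
def rep2A : List ℕ := reps2.getD 0 []
/-- An involution without fixed points. -/
def rep2B : List ℕ := reps2.getD 1 []
/-- An element of order three with six fixed points. -/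
def rep3A : List ℕ := reps3.getD 0 []
/-- An element of order three without fixed points. -/
def rep3B : List ℕ := reps3.getD 1 []

theorem reps_eq : reps2 = [rep2A, rep2B] ∧ reps3 = [rep3A, rep3B] ∧
    genOK rep2A = true ∧ genOK rep2B = true ∧ genOK rep3A = true ∧ genOK rep3B = true := by decide +kernel

/-- The fixed set of a list. -/
def fixSet (L : List ℕ) : Finset GolayPt := Finset.univ.filter fun p => L.getD (idx p) 0 = idx p

theorem fixSet_spec : fixSet rep2A = pts (fixMask rep2A) ∧ (fixSet rep2A).card = 8 ∧ fixSet rep2B = ∅ ∧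
    (fixSet rep3A).card = 6 ∧ fixSet rep3B = ∅ ∧ word (fixMask rep2A % 4096) = fixMask rep2A ∧
    wt 24 (fixMask rep2A) = 8 := by decide +kernel

theorem fixSet_rep2A_mem : fixSet rep2A ∈ octads := by
  rw [fixSet_spec.1, mem_octads_iff]
  exact ⟨_, Nat.mod_lt _ (by norm_num), by rw [fixSet_spec.2.2.2.2.2.1]; exact fixSet_spec.2.2.2.2.2.2,
    by rw [fixSet_spec.2.2.2.2.2.1]⟩

/-- The two kinds of involutions. -/
theorem two_cases {g : M24} (h : orderOf g = 2) :
    ∃ k : M24, (toList ((k * g * k⁻¹ : M24) : Equiv.Perm GolayPt) = rep2A ∧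
      fixedPts (g : Equiv.Perm GolayPt) ∈ octads ∧ (fixedPts (g : Equiv.Perm GolayPt)).card = 8) ∨
      (toList ((k * g * k⁻¹ : M24) : Equiv.Perm GolayPt) = rep2B ∧
        (fixedPts (g : Equiv.Perm GolayPt)).card = 0) := by
  obtain ⟨k, hk⟩ := conjTo_two (σ := g) (fun e => by simp [e] at h) (h ▸ pow_orderOf_eq_one g)
  refine ⟨k, ?_⟩
  have hf : fixedPts (g : Equiv.Perm GolayPt) =
      k⁻¹ • fixSet (toList ((k * g * k⁻¹ : M24) : Equiv.Perm GolayPt)) := by
    rw [fixSet, ← fixedPts_eq, fixedPts_conj, inv_smul_smul]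
  rw [reps_eq.1, List.mem_cons, List.mem_singleton] at hk
  rcases hk with hk | hk
  · refine Or.inl ⟨hk, ?_, ?_⟩ <;> rw [hf, hk]
    · exact smul_mem_octads' _ fixSet_rep2A_mem
    · rw [Finset.card_smul_finset, fixSet_spec.2.1]
  · refine Or.inr ⟨hk, ?_⟩
    rw [hf, hk, fixSet_spec.2.2.1]
    simp

/-- The two kinds of elements of order three. -/
theorem three_cases {g : M24} (h : orderOf g = 3) :
    ∃ k : M24, (toList ((k * g * k⁻¹ : M24) : Equiv.Perm GolayPt) = rep3A ∧
      (fixedPts (g : Equiv.Perm GolayPt)).card = 6) ∨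
      (toList ((k * g * k⁻¹ : M24) : Equiv.Perm GolayPt) = rep3B ∧
        (fixedPts (g : Equiv.Perm GolayPt)).card = 0) := by
  obtain ⟨k, hk⟩ := conjTo_three (σ := g) (fun e => by simp [e] at h) (h ▸ pow_orderOf_eq_one g)
  refine ⟨k, ?_⟩
  have hf : (fixedPts (g : Equiv.Perm GolayPt)).card =
      (fixSet (toList ((k * g * k⁻¹ : M24) : Equiv.Perm GolayPt))).card := by
    rw [fixSet, ← fixedPts_eq, fixedPts_conj, Finset.card_smul_finset]
  rw [reps_eq.2.1, List.mem_cons, List.mem_singleton] at hk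
  rcases hk with hk | hk
  · exact Or.inl ⟨hk, by rw [hf, hk, fixSet_spec.2.2.2.1]⟩
  · exact Or.inr ⟨hk, by rw [hf, hk, fixSet_spec.2.2.2.2.1, Finset.card_empty]⟩

theorem conj_of_same {g h k k' : M24}
    (e : toList ((k * g * k⁻¹ : M24) : Equiv.Perm GolayPt) = toList ((k' * h * k'⁻¹ : M24) : Equiv.Perm GolayPt)) :
    (k'⁻¹ * k) * g * (k'⁻¹ * k)⁻¹ = h := by
  have e' : k * g * k⁻¹ = k' * h * k'⁻¹ := toList_coe_injective e
  calc (k'⁻¹ * k) * g * (k'⁻¹ * k)⁻¹ = k'⁻¹ * (k * g * k⁻¹) * k' := by group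
    _ = h := by rw [e']; group

theorem sets_inv_ncard {C : Cat} {F : Set (Finset GolayPt)} (hF : one' '' F = {X | C.Mem X}) (g : M24) :
    {s | s ∈ F ∧ g • s = s}.ncard = {X | C.Mem X ∧ g • X = X}.ncard := by
  rw [← Set.ncard_image_of_injective _ one'_injective]
  congr 1
  ext X
  constructor
  · rintro ⟨s, ⟨hs, hg⟩, rfl⟩
    exact ⟨hF.le ⟨s, hs, rfl⟩, fixes_one'.mpr hg⟩
  · rintro ⟨hX, hg⟩
    obtain ⟨s, hs, rfl⟩ := hF.ge hX
    exact ⟨s, ⟨hs, fixes_one'.mp hg⟩, rfl⟩

theorem objs_inv_ncard {C : Cat} {F : Set Obj} (hF : F = {X | C.Mem X}) (g : M24) :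
    {S | S ∈ F ∧ g • S = S}.ncard = {X | C.Mem X ∧ g • X = X}.ncard := by
  rw [hF]; rfl

theorem cats_canon : octCat.canon = true ∧ dodCat.canon = true ∧ sextCat.canon = true ∧ trioCat.canon = true := by
  decide +kernel

theorem order_lift {σ : Equiv.Perm GolayPt} (hσ : σ ∈ M24) : orderOf (⟨σ, hσ⟩ : M24) = orderOf σ :=
  (Subgroup.orderOf_coe ⟨σ, hσ⟩).symm

end CfsgLib.Golay.Cert
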