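/-
Subgroups of the order of a point stabiliser fix a point.
-/
import Cfsg.Agent.Golay.InvCount
import Cfsg.Agent.Golay.Mathieu

set_option autoImplicit false

namespace CfsgLib.Golay.Cert

open Cfsg CfsgLib.Golay MulAction
open scoped Pointwise

theorem ok_big : classOK pat7x5 fiveList 7 reps7 conjs7 = true ∧ classOK pat7x4 fiveList 7 reps7 conjs7 = true ∧
    classOK pat7x5 fiveList 11 reps11 conjs11 = true ∧ classOK pat7x4 fiveList 11 reps11 conjs11 = true := by
  decide +kernel

theorem conjTo_big {p : ℕ} {reps conjs : List (List ℕ)} (hp : p.Prime) (h7 : 7 ≤ p)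
    (ok5 : classOK pat7x5 fiveList p reps conjs = true) (ok4 : classOK pat7x4 fiveList p reps conjs = true)
    {σ : M24} (h : orderOf σ = p) : ConjTo reps σ := by
  haveI := Fact.mk hp
  have h1 : σ ≠ 1 := fun e => hp.one_lt.ne' (by rw [← h, e, orderOf_one])
  have hσp : σ ^ p = 1 := h ▸ pow_orderOf_eq_one σ
  set s := (σ : Equiv.Perm GolayPt) with hs
  obtain ⟨a, ha⟩ : ∃ a, s a ≠ a := by
    by_contra hc; push Not at hc
    exact h1 (eq_one_of_small (S := ∅) (by simp) fun q _ => hc q)
  have hinj : ∀ i < p, ∀ j < p, (s ^ i) a = (s ^ j) a → i = j := by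
    have hper : Function.minimalPeriod (⇑s) a = p := by
      refine Function.minimalPeriod_eq_prime ?_ fun h => ha h
      show (⇑s)^[p] a = a
      rw [Equiv.Perm.iterate_eq_pow, hs, ← SubgroupClass.coe_pow, hσp]
      rfl
    intro i hi j hj e
    rw [← Equiv.Perm.iterate_eq_pow, ← Equiv.Perm.iterate_eq_pow] at e
    exact (Function.iterate_eq_iterate_iff_of_lt_minimalPeriod (hper.symm ▸ hi) (hper.symm ▸ hj)).mp e
  obtain ⟨g, hg, j, hj, hgj⟩ := normal_six ((List.range 6).map fun i => (s ^ i) a) (by simp) (by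
    refine List.Nodup.map_on (fun i hi j hj e => hinj i ?_ j ?_ e) List.nodup_range <;>
      simp only [List.mem_range] at hi hj <;> omega)
  obtain ⟨hn1, hn2⟩ := conj_pow_ne (g := g) h1 hσp
  set l := (List.range 6).map fun i => (s ^ i) a with hl
  have hgl : ∀ i < (q6 j).length, (g : Equiv.Perm GolayPt) (pt ((q6 j).getD i 0)) = l.getD i none := by
    intro i hi
    have hi' : i < 6 := by simpa [q6, q5] using hi
    interval_cases i
    exacts [hg 0 (by norm_num), hg 1 (by norm_num), hg 2 (by norm_num), hg 3 (by norm_num), hg 4 (by norm_num), hgj]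
  have hσ : ∀ i < 5, s (l.getD i none) = l.getD ([1, 2, 3, 4, 5].getD i 0) none := by
    intro i hi
    interval_cases i <;> exact (Equiv.Perm.mul_apply s _ a).symm.trans (by rw [← pow_succ']; rfl)
  rcases hj with rfl | rfl
  · exact ConjTo.of_conj g (classOK_spec (Q := (q6 5).take 5) (by decide) fixList_five ok5
      (agree_conj (n := 5) (by decide +kernel) (by decide) hgl hσ) hn1 hn2)
  · exact ConjTo.of_conj g (classOK_spec (Q := (q6 4).take 5) (by decide) fixList_five ok4
      (agree_conj (n := 5) (by decide +kernel) (by decide) hgl hσ) hn1 hn2)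

theorem fixSet_big : (∀ r ∈ reps7, (fixSet r).card = 3) ∧ ∀ r ∈ reps11, (fixSet r).card = 2 := by decide +kernel

theorem fixed_of_conjTo {reps : List (List ℕ)} {n : ℕ} (hn : ∀ r ∈ reps, (fixSet r).card = n) {σ : M24}
    (h : ConjTo reps σ) : (fixedPts (σ : Equiv.Perm GolayPt)).card = n := by
  obtain ⟨k, hk⟩ := h
  rw [← hn _ hk, fixSet, ← fixedPts_eq, fixedPts_conj, Finset.card_smul_finset]

theorem fixed_seven {σ : M24} (h : orderOf σ = 7) : (fixedPts (σ : Equiv.Perm GolayPt)).card = 3 :=
  fixed_of_conjTo fixSet_big.1 (conjTo_big (by norm_num) le_rfl ok_big.1 ok_big.2.1 h)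

theorem fixed_eleven {σ : M24} (h : orderOf σ = 11) : (fixedPts (σ : Equiv.Perm GolayPt)).card = 2 :=
  fixed_of_conjTo fixSet_big.2 (conjTo_big (by norm_num) (by norm_num) ok_big.2.2.1 ok_big.2.2.2 h)

/-- An invariant set and the fixed points in it. -/
theorem card_inv_mod {σ : Equiv.Perm GolayPt} {q : ℕ} (hq : q.Prime) (hσ : σ ^ q = 1) (S : Finset GolayPt)
    (hS : ∀ p ∈ S, σ p ∈ S) : S.card % q = (S.filter fun p => σ p = p).card % q := by
  haveI := Fact.mk hq
  classical
  have hS' : ∀ p, σ p ∈ S ↔ p ∈ S := fun p => ⟨fun h => by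
    have himg : S.image σ = S := Finset.eq_of_subset_of_card_le
      (fun y hy => by obtain ⟨x, hx, rfl⟩ := Finset.mem_image.mp hy; exact hS x hx)
      (by rw [Finset.card_image_of_injective _ σ.injective])
    rw [← himg, Finset.mem_image] at h
    obtain ⟨x, hx, hxp⟩ := h
    rwa [← σ.injective hxp], hS p⟩
  have hp : (σ.subtypePerm hS') ^ q ^ 1 = 1 := by
    rw [Equiv.Perm.subtypePerm_pow]
    ext p
    simp [hσ]
  have h := Equiv.Perm.card_compl_support_modEq hp
  rw [Fintype.card_coe] at h
  refine h.symm.trans (congrArg (· % q) ?_)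
  rw [← Finset.card_map (Function.Embedding.subtype _)]
  congr 1
  ext p
  simp only [Finset.mem_map, Finset.mem_compl, Equiv.Perm.mem_support, not_not, Finset.mem_filter,
    Function.Embedding.subtype_apply, Subtype.exists, exists_and_right, exists_eq_right]
  exact ⟨fun ⟨hp, e⟩ => ⟨hp, congrArg Subtype.val e⟩, fun ⟨hp, e⟩ => ⟨hp, Subtype.ext e⟩⟩

theorem pow_coe_eq_one {σ : M24} {q : ℕ} (h : σ ^ q = 1) : (σ : Equiv.Perm GolayPt) ^ q = 1 := by
  rw [← SubgroupClass.coe_pow, h]; rfl

/-- The orbit of a point. -/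
noncomputable def orbF (H : Subgroup M24) (x : GolayPt) : Finset GolayPt := (orbit H x).toFinite.toFinset

theorem mem_orbF {H : Subgroup M24} {x y : GolayPt} : y ∈ orbF H x ↔ y ∈ orbit H x := Set.Finite.mem_toFinset _

theorem self_mem_orbF (H : Subgroup M24) (x : GolayPt) : x ∈ orbF H x := mem_orbF.mpr (mem_orbit_self x)

theorem orbF_inv {H : Subgroup M24} {x p : GolayPt} {h : M24} (hh : h ∈ H) (hp : p ∈ orbF H x) :
    (h : Equiv.Perm GolayPt) p ∈ orbF H x := by
  obtain ⟨k, rfl⟩ := mem_orbF.mp hp
  exact mem_orbF.mpr ⟨⟨h, hh⟩ * k, mul_smul (⟨h, hh⟩ : H) k x⟩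

theorem card_orbF (H : Subgroup M24) (x : GolayPt) :
    (orbF H x).card * Nat.card ↥(H ⊓ stabilizer M24 x) = Nat.card H := by
  have h := (stabilizer H x).card_mul_index
  rw [index_stabilizer, Set.ncard_eq_toFinset_card _ (orbit H x).toFinite] at h
  rw [mul_comm, ← h]
  congr 1
  exact Nat.card_congr
    { toFun := fun g => ⟨⟨g.1, g.2.1⟩, g.2.2⟩
      invFun := fun g => ⟨g.1.1, g.1.2, g.2⟩
      left_inv := fun _ => rfl
      right_inv := fun _ => rfl }

theorem le_stab_of_orbF {H : Subgroup M24} {x : GolayPt} (h : (orbF H x).card = 1) : H ≤ stabilizer M24 x := by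
  intro g hg
  obtain ⟨y, hy⟩ := Finset.card_eq_one.mp h
  have h1 := orbF_inv hg (self_mem_orbF H x)
  have h2 := self_mem_orbF H x
  rw [hy, Finset.mem_singleton] at h1 h2
  exact mem_stabilizer_iff.mpr (h1.trans h2.symm)

/-- An element of order 11 and a second fixed point: only its powers commute with it. -/
theorem eleven_centralizer {u c : M24} (hu : orderOf u = 11) {e : GolayPt}
    (hue : (u : Equiv.Perm GolayPt) e = e) (hce : (c : Equiv.Perm GolayPt) e = e) (hc : c * u = u * c)
    {q : ℕ} (hq : q.Prime) (hcq : orderOf c = q) : q = 11 := by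
  by_contra hne
  set F := fixedPts (c : Equiv.Perm GolayPt) with hF
  have hFu : ∀ p ∈ F, (u : Equiv.Perm GolayPt) p ∈ F := by
    intro p hp
    simp only [hF, fixedPts, Finset.mem_filter, Finset.mem_univ, true_and] at hp ⊢
    have := congrArg (fun z : M24 => (z : Equiv.Perm GolayPt) p) hc
    simp only [Subgroup.coe_mul, Equiv.Perm.mul_apply, hp] at this
    exact this
  set U := fixedPts (u : Equiv.Perm GolayPt) with hU
  have hUc : ∀ p ∈ U, (c : Equiv.Perm GolayPt) p ∈ U := by
    intro p hp
    simp only [hU, fixedPts, Finset.mem_filter, Finset.mem_univ, true_and] at hp ⊢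
    have := congrArg (fun z : M24 => (z : Equiv.Perm GolayPt) p) hc
    simp only [Subgroup.coe_mul, Equiv.Perm.mul_apply, hp] at this
    exact this.symm
  have hU2 : U.card = 2 := fixed_eleven hu
  have heU : e ∈ U := by simp [hU, fixedPts, hue]
  obtain ⟨e', he'U, hne'⟩ := Finset.exists_mem_ne (by omega : 1 < U.card) e
  have hUeq : U = {e, e'} := (Finset.eq_of_subset_of_card_le
    (by simp [Finset.insert_subset_iff, heU, he'U]) (by rw [hU2, Finset.card_pair hne'.symm])).symm
  have hce' : (c : Equiv.Perm GolayPt) e' = e' := by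
    have h := hUc e' he'U
    rw [hUeq, Finset.mem_insert, Finset.mem_singleton] at h
    rcases h with h | h
    · exact absurd ((c : Equiv.Perm GolayPt).injective (h.trans hce.symm)) hne'
    · exact h
  have hUF : U ⊆ F := by
    rw [hUeq]; simp [Finset.insert_subset_iff, hF, fixedPts, hce, hce']
  have h11 := card_inv_mod (by norm_num : Nat.Prime 11) (pow_coe_eq_one (hu ▸ pow_orderOf_eq_one u)) F hFu
  have hfilt : (F.filter fun p => (u : Equiv.Perm GolayPt) p = p) = U := by
    ext p
    simp only [Finset.mem_filter, hU, fixedPts, Finset.mem_univ, true_and]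
    exact ⟨fun h => h.2, fun h => ⟨hUF (by simp [hU, fixedPts, h]), h⟩⟩
  rw [hfilt, hU2] at h11
  have hq' := card_inv_mod hq (pow_coe_eq_one (hcq ▸ pow_orderOf_eq_one c)) Finset.univ (fun p _ => Finset.mem_univ _)
  rw [Finset.card_univ, card_golayPt] at hq'
  change 24 % q = F.card % q at hq'
  have hle : F.card ≤ 24 := by rw [← card_golayPt]; exact Finset.card_le_univ _
  have hge : 2 ≤ F.card := by rw [← hU2]; exact Finset.card_le_card hUF
  have hcases : F.card = 2 ∨ F.card = 13 ∨ F.card = 24 := by omega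
  rcases hcases with h | h | h
  · have hd : q ∣ 22 := (Nat.modEq_iff_dvd' (by norm_num)).mp (show 2 % q = 24 % q by rw [hq', h])
    have : q ≤ 22 := Nat.le_of_dvd (by norm_num) hd
    interval_cases q <;> first | omega | norm_num at hq | norm_num at hd | skip
    obtain ⟨k, ⟨-, -, h8⟩ | ⟨-, h0⟩⟩ := two_cases hcq <;> simp only [hF] at h <;> omega
  · have hd : q ∣ 11 := (Nat.modEq_iff_dvd' (by norm_num)).mp (show 13 % q = 24 % q by rw [hq', h])
    exact hne ((Nat.prime_dvd_prime_iff_eq hq (by norm_num)).mp hd)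
  · have hall : F = Finset.univ := Finset.eq_univ_of_card _ (by rw [h, card_golayPt])
    have : c = 1 := eq_one_of_small (S := ∅) (by simp) fun p _ => by
      have := Finset.mem_univ p
      rw [← hall] at this
      simpa [hF, fixedPts] using this
    rw [this, orderOf_one] at hcq
    exact hq.one_lt.ne hcq

/-- There is no subgroup of order 425040 fixing a point. -/
theorem no_425040 {J : Subgroup M24} {e : GolayPt} (hJ : J ≤ stabilizer M24 e) :
    Nat.card J ≠ 425040 := by
  intro hcard
  haveI : Fact (Nat.Prime 11) := ⟨by norm_num⟩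
  obtain ⟨u, hu⟩ := exists_prime_orderOf_dvd_card' (G := J) 11 (by rw [hcard]; norm_num)
  set P := Subgroup.zpowers u with hP
  have hPc : Nat.card P = 11 := (Nat.card_zpowers u).trans hu
  have hfac : (425040 : ℕ).factorization 11 = 1 := by
    rw [show (425040 : ℕ) = 11 ^ 1 * 38640 by norm_num, Nat.factorization_mul (by norm_num) (by norm_num),
      Finsupp.add_apply, Nat.Prime.factorization_pow (by norm_num), Finsupp.single_eq_same,
      Nat.factorization_eq_zero_of_not_dvd (by norm_num : ¬ 11 ∣ 38640)]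
  let S : Sylow 11 J := Sylow.ofCard P (by rw [hPc, hcard, hfac]; rfl)
  have hn := card_sylow_modEq_one 11 J
  rw [Sylow.card_eq_index_normalizer S] at hn
  have hi := (Subgroup.normalizer (P : Set J)).card_mul_index
  rw [hcard] at hi
  change (Subgroup.normalizer (P : Set J)).index % 11 = 1 % 11 at hn
  -- the centraliser
  have hC : Nat.card (Subgroup.centralizer (P : Set J)) = 11 := by
    set C := Subgroup.centralizer (P : Set J) with hCdef
    have hPC : P ≤ C := by
      intro x hx
      rw [hCdef, Subgroup.mem_centralizer_iff]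
      intro y hy
      obtain ⟨m, rfl⟩ := Subgroup.mem_zpowers_iff.mp hx
      obtain ⟨n, rfl⟩ := Subgroup.mem_zpowers_iff.mp hy
      exact (zpow_mul_comm u n m)
    have hprime : ∀ q, q.Prime → q ∣ Nat.card C → q = 11 := by
      intro q hq hd
      haveI := Fact.mk hq
      obtain ⟨c, hc⟩ := exists_prime_orderOf_dvd_card' (G := C) q hd
      refine eleven_centralizer (u := u.1) (c := c.1.1) (by rw [Subgroup.orderOf_coe]; exact hu) (hJ u.2) (hJ c.1.2) ?_ hq ?_
      · exact congrArg Subtype.val (Subgroup.mem_centralizer_iff.mp c.2 u (Subgroup.mem_zpowers u)).symm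
      · rw [Subgroup.orderOf_coe, Subgroup.orderOf_coe]; exact hc
    have hne0 : Nat.card C ≠ 0 := Nat.card_pos.ne'
    have hpow := Nat.eq_prime_pow_of_unique_prime_dvd hne0 fun {d} hd hd' => hprime d hd hd'
    have h1 : 11 ∣ Nat.card C := hPc ▸ Subgroup.card_dvd_of_le hPC
    have h2 : Nat.card C ∣ 425040 := hcard ▸ Subgroup.card_subgroup_dvd_card C
    generalize (Nat.card C).primeFactorsList.length = k at hpow
    match k, hpow with
    | 0, hpow => rw [hpow] at h1; norm_num at h1
    | 1, hpow => rw [hpow]; rfl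
    | k + 2, hpow =>
      rw [hpow] at h2
      exact absurd ((Nat.pow_dvd_pow 11 (by omega : 2 ≤ k + 2)).trans h2) (by norm_num)
  have hN := Subgroup.card_eq_card_quotient_mul_card_subgroup P.normalizerMonoidHom.ker
  rw [Nat.card_congr (QuotientGroup.quotientKerEquivRange P.normalizerMonoidHom).toEquiv,
    Subgroup.normalizerMonoidHom_ker,
    Nat.card_congr (Subgroup.subgroupOfEquivOfLe (Subgroup.centralizer_le_normalizer (P : Set J))).toEquiv, hC] at hN
  haveI : IsCyclic P := by rw [hP]; infer_instance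
  have hr : Nat.card P.normalizerMonoidHom.range ∣ 10 := by
    refine (Subgroup.card_subgroup_dvd_card _).trans ?_
    rw [IsCyclic.card_mulAut, hPc, Nat.totient_prime (by norm_num)]
  rw [hN] at hi
  generalize Nat.card P.normalizerMonoidHom.range = m at hr hi
  have : m ≤ 10 := Nat.le_of_dvd (by norm_num) hr
  interval_cases m <;> omega

/-- A subgroup of the order of a point stabiliser is one. -/
theorem eq_stab_of_card {H : Subgroup M24} (hH : Nat.card H = 10200960) : ∃ p : GolayPt, H = stabilizer M24 p := by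
  haveI : Fact (Nat.Prime 23) := ⟨by norm_num⟩
  obtain ⟨z, hz⟩ := exists_prime_orderOf_dvd_card' (G := H) 23 (by rw [hH]; norm_num)
  have hzo : orderOf z.1 = 23 := by rw [Subgroup.orderOf_coe, hz]
  have hz1 := pow_coe_eq_one (hzo ▸ pow_orderOf_eq_one z.1)
  have hF := card_inv_mod (by norm_num : Nat.Prime 23) hz1 Finset.univ (fun p _ => Finset.mem_univ _)
  rw [Finset.card_univ, card_golayPt] at hF
  set F := fixedPts (z.1 : Equiv.Perm GolayPt) with hFdef
  change 24 % 23 = F.card % 23 at hF
  have hle : F.card ≤ 24 := by rw [← card_golayPt]; exact Finset.card_le_univ _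
  have hne : F.card ≠ 24 := fun h => by
    have hall : F = Finset.univ := Finset.eq_univ_of_card _ (by rw [h, card_golayPt])
    have : z.1 = 1 := eq_one_of_small (S := ∅) (by simp) fun p _ => by
      have := Finset.mem_univ p
      rw [← hall] at this
      simpa [hFdef, fixedPts] using this
    rw [this, orderOf_one] at hzo
    norm_num at hzo
  obtain ⟨e, he⟩ := Finset.card_eq_one.mp (by omega : F.card = 1)
  have heF : (z.1 : Equiv.Perm GolayPt) e = e := by
    have : e ∈ F := by rw [he]; simp
    simpa [hFdef, fixedPts] using this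
  have hO := card_inv_mod (by norm_num : Nat.Prime 23) hz1 (orbF H e) (fun p hp => orbF_inv z.2 hp)
  have hfilt : ((orbF H e).filter fun p => (z.1 : Equiv.Perm GolayPt) p = p) = {e} := by
    ext p
    simp only [Finset.mem_filter, Finset.mem_singleton]
    refine ⟨fun h => ?_, fun h => by subst h; exact ⟨self_mem_orbF H p, heF⟩⟩
    have : p ∈ F := by simp [hFdef, fixedPts, h.2]
    simpa [he] using this
  rw [hfilt, Finset.card_singleton] at hO
  have hOle : (orbF H e).card ≤ 24 := by rw [← card_golayPt]; exact Finset.card_le_univ _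
  have hcases : (orbF H e).card = 1 ∨ (orbF H e).card = 24 := by omega
  rcases hcases with h | h
  · exact ⟨e, Subgroup.eq_of_le_of_card_ge (le_stab_of_orbF h) (by rw [hH, card_stab_point])⟩
  · have hc := card_orbF H e
    rw [h, hH] at hc
    exact absurd (by omega) (no_425040 (J := H ⊓ stabilizer M24 e) inf_le_right)

/-- The analogue inside a point stabiliser. -/
theorem eq_pair_of_card {H : Subgroup M24} {e : GolayPt} (hle : H ≤ stabilizer M24 e)
    (hH : Nat.card H = 443520) : ∃ y, y ≠ e ∧ H = stabilizer M24 e ⊓ stabilizer M24 y := by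
  haveI : Fact (Nat.Prime 11) := ⟨by norm_num⟩
  haveI : Fact (Nat.Prime 7) := ⟨by norm_num⟩
  obtain ⟨u, hu⟩ := exists_prime_orderOf_dvd_card' (G := H) 11 (by rw [hH]; norm_num)
  obtain ⟨v, hv⟩ := exists_prime_orderOf_dvd_card' (G := H) 7 (by rw [hH]; norm_num)
  have huo : orderOf u.1 = 11 := by rw [Subgroup.orderOf_coe, hu]
  have hvo : orderOf v.1 = 7 := by rw [Subgroup.orderOf_coe, hv]
  set U := fixedPts (u.1 : Equiv.Perm GolayPt) with hU
  have hU2 : U.card = 2 := fixed_eleven huo
  have heU : e ∈ U := by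
    simp only [hU, fixedPts, Finset.mem_filter, Finset.mem_univ, true_and]
    exact hle u.2
  obtain ⟨y, hyU, hye⟩ := Finset.exists_mem_ne (by omega : 1 < U.card) e
  set O := orbF H y with hOdef
  have heO : e ∉ O := by
    intro h
    obtain ⟨k, hk⟩ := mem_orbF.mp h
    exact hye ((MulAction.injective (k : M24)) (hk.trans (mem_stabilizer_iff.mp (hle k.2)).symm))
  have hO11 := card_inv_mod (by norm_num : Nat.Prime 11) (pow_coe_eq_one (huo ▸ pow_orderOf_eq_one u.1)) O
    (fun p hp => orbF_inv u.2 hp)
  have hfilt : (O.filter fun p => (u.1 : Equiv.Perm GolayPt) p = p) = {y} := by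
    have hUeq : U = {e, y} := (Finset.eq_of_subset_of_card_le
      (by simp [Finset.insert_subset_iff, heU, hyU]) (by rw [hU2, Finset.card_pair hye.symm])).symm
    ext p
    simp only [Finset.mem_filter, Finset.mem_singleton]
    constructor
    · intro h
      have : p ∈ U := by simp [hU, fixedPts, h.2]
      rw [hUeq] at this
      simp only [Finset.mem_insert, Finset.mem_singleton] at this
      exact this.resolve_left fun he => heO (he ▸ h.1)
    · rintro rfl
      refine ⟨self_mem_orbF H p, ?_⟩
      simpa [hU, fixedPts] using hyU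
  rw [hfilt, Finset.card_singleton] at hO11
  have hOle : O.card ≤ 23 := by
    have : O ⊆ Finset.univ.erase e := fun p hp => Finset.mem_erase.mpr ⟨fun h => heO (h ▸ hp), Finset.mem_univ _⟩
    have := Finset.card_le_card this
    rw [Finset.card_erase_of_mem (Finset.mem_univ _), Finset.card_univ, card_golayPt] at this
    exact this
  have hc := card_orbF H y
  rw [hH] at hc
  have hO7 := card_inv_mod (by norm_num : Nat.Prime 7) (pow_coe_eq_one (hvo ▸ pow_orderOf_eq_one v.1)) O
    (fun p hp => orbF_inv v.2 hp)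
  have h3 : (O.filter fun p => (v.1 : Equiv.Perm GolayPt) p = p).card ≤ 3 := by
    rw [← fixed_seven hvo]
    exact Finset.card_le_card fun p hp => by
      simp only [Finset.mem_filter] at hp
      simp [fixedPts, hp.2]
  have hcases : O.card = 1 ∨ O.card = 12 ∨ O.card = 23 := by omega
  rcases hcases with h | h | h
  · exact ⟨y, hye, Subgroup.eq_of_le_of_card_ge (le_inf hle (le_stab_of_orbF h))
      (by rw [hH, card_stab_pair e y hye.symm])⟩
  · omega
  · rw [← hOdef, h] at hc
    omega

end CfsgLib.Golay.Cert
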