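/-
All automorphisms of the groups of degree 24 and 23 are inner.
-/
import Cfsg.Agent.Golay.IndexPoint
import Cfsg.Prelude.Def_Spor_Mathieu
import Cfsg.Prelude.Def_KGroupFacts

set_option autoImplicit false

namespace CfsgLib.Golay.Cert

open Cfsg CfsgLib.Golay MulAction
open scoped Pointwise

/-- A bijection of the points matching point stabilisers under an automorphism. -/
theorem exists_point_perm {G : Subgroup (Equiv.Perm GolayPt)} (α : MulAut G) (ok : GolayPt → Prop)
    (hbad : ∀ y, ¬ ok y → ∀ g : G, g.1 y = y)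
    (hsep : ∀ y z, ok y → ok z → (∀ g : G, g.1 y = y → g.1 z = z) → y = z)
    (hex : ∀ y, ok y → ∃ z, ok z ∧ ∀ g : G, (α g).1 z = z ↔ g.1 y = y) :
    ∃ π : Equiv.Perm GolayPt, (∀ y, ¬ ok y → π y = y) ∧ ∀ (g : G) (y : GolayPt), (α g).1 (π y) = π (g.1 y) := by
  classical
  choose z hzok hz using hex
  let f : GolayPt → GolayPt := fun y => if h : ok y then z y h else y
  have hfok : ∀ y, ok (f y) ↔ ok y := fun y => by
    by_cases h : ok y
    · simp [f, h, hzok y h]
    · simp [f, h]
  have hinj : Function.Injective f := by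
    intro a b e
    by_cases ha : ok a
    · have hb : ok b := (hfok b).mp (e ▸ (hfok a).mpr ha)
      simp only [f, ha, hb, dif_pos] at e
      exact hsep a b ha hb fun g hg => (hz b hb g).mp (e ▸ (hz a ha g).mpr hg)
    · have hb : ¬ ok b := fun h => ha ((hfok a).mp (e ▸ (hfok b).mpr h))
      simpa [f, ha, hb] using e
  have hgok : ∀ (g : G) y, ok y → ok (g.1 y) := by
    intro g y hy
    by_contra hn
    exact hn ((g.1.injective (hbad _ hn g)).symm ▸ hy)
  refine ⟨Equiv.ofBijective f (Finite.injective_iff_bijective.mp hinj), fun y hy => by simp [f, hy], fun g y => ?_⟩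
  simp only [Equiv.ofBijective_apply]
  by_cases hy : ok y
  · have hgy := hgok g y hy
    simp only [f, hy, hgy, dif_pos]
    refine hsep _ _ (hgok _ _ (hzok y hy)) (hzok _ hgy) fun k hk => ?_
    have h1 : ((α g)⁻¹ * k * α g).1 (z y hy) = z y hy := by
      simp only [Subgroup.coe_mul, Subgroup.coe_inv, Equiv.Perm.mul_apply, hk, Equiv.Perm.inv_def,
        Equiv.symm_apply_apply]
    have h2 := (hz y hy (g⁻¹ * α.symm k * g)).mp (by
      simpa only [map_mul, map_inv, MulEquiv.apply_symm_apply] using h1)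
    simp only [Subgroup.coe_mul, Subgroup.coe_inv, Equiv.Perm.mul_apply, Equiv.Perm.inv_def,
      Equiv.symm_apply_eq] at h2
    simpa only [MulEquiv.apply_symm_apply] using (hz _ hgy (α.symm k)).mpr h2
  · simp only [f, hy, dif_neg, not_false_eq_true, hbad y hy]

/-- Eight points every six of which, through a given one, lie in an octad. -/
theorem mem_octads_of_six {X : Finset GolayPt} (hX : X.card = 8) {x : GolayPt} (hx : x ∈ X)
    (h : ∀ E ⊆ X, x ∈ E → E.card = 6 → ∃ o ∈ octads, E ⊆ o) : X ∈ octads := by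
  obtain ⟨t, hxt, htX, htc⟩ := Finset.exists_subsuperset_card_eq (n := 5)
    (Finset.singleton_subset_iff.mpr hx) (by simp) (by omega)
  have hxt' := Finset.singleton_subset_iff.mp hxt
  obtain ⟨a, haX, hat⟩ := Finset.exists_mem_notMem_of_card_lt_card (by omega : t.card < X.card)
  obtain ⟨o, ho, hoE⟩ := h (insert a t) (Finset.insert_subset haX htX) (Finset.mem_insert_of_mem hxt')
    (by rw [Finset.card_insert_of_notMem hat, htc])
  suffices X ⊆ o by
    rwa [Finset.eq_of_subset_of_card_le this (by rw [hX, octad_card ho])]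
  intro b hb
  by_cases hbt : b ∈ t
  · exact hoE (Finset.mem_insert_of_mem hbt)
  obtain ⟨o', ho', hoE'⟩ := h (insert b t) (Finset.insert_subset hb htX) (Finset.mem_insert_of_mem hxt')
    (by rw [Finset.card_insert_of_notMem hbt, htc])
  have := octad_unique ho ho' htc.ge ((Finset.subset_insert _ _).trans hoE) ((Finset.subset_insert _ _).trans hoE')
  exact this ▸ hoE' (Finset.mem_insert_self _ _)

/-- A matched bijection keeps six points in an octad, if the group contains their pointwise stabilisers. -/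
theorem six_inOct_image {G : Subgroup (Equiv.Perm GolayPt)} (hGM : G ≤ M24) (α : MulAut G) {π : Equiv.Perm GolayPt}
    (key : ∀ (g : G) y, (α g).1 (π y) = π (g.1 y)) {E : Finset GolayPt} (hE : E.card = 6)
    (hG1 : ∀ g ∈ M24, (∀ p ∈ E, g p = p) → g ∈ G)
    (hG2 : ∀ g ∈ M24, (∀ p ∈ E.image π, g p = p) → g ∈ G)
    (h : ∃ o ∈ octads, E ⊆ o) : ∃ o ∈ octads, E.image π ⊆ o := by
  have hE' : (E.image π).card = 6 := by rw [Finset.card_image_of_injective _ π.injective, hE]
  have hcard : Nat.card (fixE E) = Nat.card (fixE (E.image π)) := by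
    refine Nat.card_congr
      { toFun := fun g => ⟨(α ⟨g.1, hG1 _ g.2.1 g.2.2⟩).1, hGM (α _).2, fun q hq => ?_⟩
        invFun := fun g => ⟨(α.symm ⟨g.1, hG2 _ g.2.1 g.2.2⟩).1, hGM (α.symm _).2, fun p hp => ?_⟩
        left_inv := fun g => ?_
        right_inv := fun g => ?_ }
    · obtain ⟨p, hp, rfl⟩ := Finset.mem_image.mp hq
      rw [key, g.2.2 p hp]
    · refine π.injective ?_
      rw [← key, MulEquiv.apply_symm_apply]
      exact g.2.2 _ (Finset.mem_image_of_mem _ hp)
    · apply Subtype.ext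
      show (α.symm (α ⟨g.1, hG1 _ g.2.1 g.2.2⟩)).1 = g.1
      exact congrArg Subtype.val (α.symm_apply_apply ⟨g.1, hG1 _ g.2.1 g.2.2⟩)
    · apply Subtype.ext
      show (α (α.symm ⟨g.1, hG2 _ g.2.1 g.2.2⟩)).1 = g.1
      exact congrArg Subtype.val (α.apply_symm_apply ⟨g.1, hG2 _ g.2.1 g.2.2⟩)
  rw [(card_fixE hE).1 h] at hcard
  by_contra hn
  rw [(card_fixE hE').2 hn] at hcard
  omega

/-- A matched bijection maps an octad through a suitable point to an octad. -/
theorem image_mem_octads {G : Subgroup (Equiv.Perm GolayPt)} (hGM : G ≤ M24) (α : MulAut G) {π : Equiv.Perm GolayPt}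
    (key : ∀ (g : G) y, (α g).1 (π y) = π (g.1 y)) {o : Finset GolayPt} (ho : o ∈ octads) {x : GolayPt}
    (hx : x ∈ o) (hG : ∀ g ∈ M24, g x = x ∨ g (π x) = π x → g ∈ G) : o.image π ∈ octads := by
  refine mem_octads_of_six (by rw [Finset.card_image_of_injective _ π.injective, octad_card ho])
    (Finset.mem_image_of_mem _ hx) fun E hEX hxE hE => ?_
  have hpre : E = (E.image π.symm).image π := by simp [Finset.image_image]
  rw [hpre]
  refine six_inOct_image hGM α key (by rw [Finset.card_image_of_injective _ π.symm.injective, hE])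
    (fun g hg hfix => hG g hg (Or.inl (hfix x (Finset.mem_image.mpr ⟨_, hxE, π.symm_apply_apply x⟩))))
    (fun g hg hfix => hG g hg (Or.inr (hfix (π x) (by rw [← hpre]; exact hxE))))
    ⟨o, ho, fun q hq => ?_⟩
  obtain ⟨e, he, rfl⟩ := Finset.mem_image.mp hq
  obtain ⟨p, hp, rfl⟩ := Finset.mem_image.mp (hEX he)
  rwa [π.symm_apply_apply]

/-- Octads through the extra point which span the code. -/
def spanMasks : List ℕ := [8391797, 8394986, 8398155, 8407702, 8421811, 8455014, 8521420, 8654232, 8919856, 9440193, 10486557, 12584506]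

/-- Coordinates of the basis words. -/
def rowCoords : List ℕ := [2283, 2364, 2711, 3524, 868, 1741, 3482, 984, 1974, 3946, 1595, 3189]

theorem spanMasks_spec : (∀ m ∈ spanMasks, word (m % 4096) = m ∧ wt 24 m = 8 ∧ m.testBit 23 = true) ∧
    ∀ i < 12, comb spanMasks (rowCoords.getD i 0) = rows.getD i 0 := by decide +kernel

/-- A permutation mapping the octads through the extra point to octads lies in the group. -/
theorem mem_M24_of_octads {π : Equiv.Perm GolayPt}
    (h : ∀ o ∈ octads, (none : GolayPt) ∈ o → o.image π ∈ octads) : π ∈ M24 := by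
  let S : Submodule (ZMod 2) (GolayPt → ZMod 2) :=
    Submodule.comap (LinearMap.funLeft (ZMod 2) (ZMod 2) (π⁻¹ : Equiv.Perm GolayPt)) golayCode
  have hS : ∀ m ∈ spanMasks, vec m ∈ S := by
    intro m hm
    obtain ⟨h1, h2, h3⟩ := spanMasks_spec.1 m hm
    have ho : pts m ∈ octads := (mem_octads_iff _).mpr ⟨_, Nat.mod_lt _ (by norm_num), by rw [h1]; exact h2, by rw [h1]⟩
    obtain ⟨c, -, -, hc⟩ := (mem_octads_iff _).mp (h _ ho (by rw [mem_pts]; exact h3))
    show (fun q => vec m (π⁻¹ q)) ∈ golayCode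
    have hv : (fun q => vec m (π⁻¹ q)) = vec (word c) := by
      funext q
      have hiff : q ∈ pts (word c) ↔ π⁻¹ q ∈ pts m := by
        rw [← hc, Finset.mem_image]
        exact ⟨fun ⟨p, hp, he⟩ => by rwa [← he, Equiv.Perm.inv_def, Equiv.symm_apply_apply],
          fun hp => ⟨_, hp, π.apply_symm_apply q⟩⟩
      simp only [mem_pts] at hiff
      simp only [vec, hiff]
    rw [hv]
    exact vec_word_mem c
  refine mem_M24_of_preserves π fun r hr => ?_
  obtain ⟨i, hi, rfl⟩ := List.mem_iff_getElem.mp hr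
  have hi' : i < 12 := by simpa [rows] using hi
  have hmem := vec_comb_mem S spanMasks hS (rowCoords.getD i 0)
  rw [spanMasks_spec.2 i hi', List.getD_eq_getElem _ _ hi] at hmem
  change (fun q => vec rows[i] (π⁻¹ q)) ∈ golayCode at hmem
  rw [← vec_permMask] at hmem
  obtain ⟨c, hc, he⟩ := (mem_code_iff _).mp hmem
  have he' : word c = permMask (toList π) rows[i] 24 := (vec_inj (permMask_lt π rows[i]) (word_lt c hc) he).symm
  exact ((congrArg (fun x => word (x % 4096)) he'.symm).trans (congrArg word (word_mod c hc))).trans he'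

theorem out_eq_one {G : Subgroup (Equiv.Perm GolayPt)}
    (h : ∀ α : MulAut G, ∃ π : Equiv.Perm GolayPt, π ∈ G ∧ ∀ (g : G) y, (α g).1 (π y) = π (g.1 y)) :
    Nat.card (Out G) = 1 := by
  have : Inn G = ⊤ := by
    rw [eq_top_iff]
    intro α _
    obtain ⟨π, hπ, key⟩ := h α
    refine ⟨⟨π, hπ⟩, MulEquiv.ext fun g => Subtype.ext (Equiv.ext fun y => ?_)⟩
    have := key g (π⁻¹ y)
    rw [Equiv.Perm.inv_def, Equiv.apply_symm_apply] at this
    rw [MulAut.conj_apply, Subgroup.coe_mul, Subgroup.coe_mul, Equiv.Perm.mul_apply, Equiv.Perm.mul_apply,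
      Subgroup.coe_inv, Equiv.Perm.inv_def, this]
  rw [show Nat.card (Out G) = (Inn G).index from rfl, this, Subgroup.index_top]

theorem m24_point_perm (α : MulAut M24) :
    ∃ π : Equiv.Perm GolayPt, π ∈ M24 ∧ ∀ (g : M24) y, (α g).1 (π y) = π (g.1 y) := by
  obtain ⟨π, -, key⟩ := exists_point_perm α (fun _ => True) (fun _ h => absurd trivial h)
    (fun y z _ _ h => by
      by_contra hne
      obtain ⟨w, -, hw⟩ : ∃ w ∈ (Finset.univ : Finset GolayPt), w ∉ ({y, z} : Finset GolayPt) :=
        Finset.exists_mem_notMem_of_card_lt_card (lt_of_le_of_lt Finset.card_le_two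
          (by rw [Finset.card_univ, card_golayPt]; norm_num))
      simp only [Finset.mem_insert, Finset.mem_singleton, not_or] at hw
      obtain ⟨g, hg1, hg2⟩ := exists_map_two (p := y) (q := z) (p' := y) (q' := w) hne (Ne.symm hw.1)
      exact hw.2 (hg2.symm.trans (h g hg1)))
    (fun y _ => by
      obtain ⟨z, hz⟩ := eq_stab_of_card (H := (stabilizer M24 y).map α.toMonoidHom)
        (by rw [Subgroup.card_map_of_injective α.injective, card_stab_point])
      refine ⟨z, trivial, fun g => ?_⟩
      show α g ∈ stabilizer M24 z ↔ g ∈ stabilizer M24 y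
      rw [← hz]
      exact Subgroup.mem_map_iff_mem α.injective)
  refine ⟨π, mem_M24_of_octads fun o ho hn => image_mem_octads le_rfl α key ho hn fun g hg _ => hg, key⟩

theorem out_m24 : Nat.card (Out M24) = 1 := out_eq_one m24_point_perm

theorem mem_m23 {g : Equiv.Perm GolayPt} : g ∈ Spor.M23 ↔ g ∈ M24 ∧ g none = none := by
  simp [Spor.M23]

/-- The inclusion. -/
def m23Incl : Spor.M23 →* M24 := Subgroup.inclusion inf_le_left

theorem m23Incl_injective : Function.Injective m23Incl := Subgroup.inclusion_injective _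

theorem m23_point_perm (α : MulAut Spor.M23) :
    ∃ π : Equiv.Perm GolayPt, π ∈ Spor.M23 ∧ ∀ (g : Spor.M23) y, (α g).1 (π y) = π (g.1 y) := by
  obtain ⟨π, hπ, key⟩ := exists_point_perm α (fun y => y ≠ none)
    (fun y h g => by rw [not_not.mp h]; exact (mem_m23.mp g.2).2)
    (fun y z hy hz h => by
      by_contra hne
      obtain ⟨w, -, hw⟩ : ∃ w ∈ (Finset.univ : Finset GolayPt), w ∉ ({none, y, z} : Finset GolayPt) :=
        Finset.exists_mem_notMem_of_card_lt_card (lt_of_le_of_lt Finset.card_le_three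
          (by rw [Finset.card_univ, card_golayPt]; norm_num))
      simp only [Finset.mem_insert, Finset.mem_singleton, not_or] at hw
      obtain ⟨g, hg1, hg2⟩ := exists_stab_two none hy hz hy hw.1 hne (Ne.symm hw.2.1)
      exact hw.2.2 (hg2.symm.trans (h ⟨g.1.1, mem_m23.mpr ⟨g.1.2, g.2⟩⟩ hg1)))
    (fun y hy => by
      let K : Subgroup Spor.M23 := (stabilizer M24 y).comap m23Incl
      have hK : Nat.card K = 443520 := by
        rw [← card_stab_pair none y hy.symm]
        exact Nat.card_congr
          { toFun := fun g => ⟨⟨g.1.1, (mem_m23.mp g.1.2).1⟩, (mem_m23.mp g.1.2).2, g.2⟩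
            invFun := fun g => ⟨⟨g.1.1, mem_m23.mpr ⟨g.1.2, g.2.1⟩⟩, g.2.2⟩
            left_inv := fun _ => rfl
            right_inv := fun _ => rfl }
      obtain ⟨z, hz, he⟩ := eq_pair_of_card (H := (K.map α.toMonoidHom).map m23Incl) (e := none)
        (by rintro _ ⟨k, -, rfl⟩; exact (mem_m23.mp k.2).2)
        (by rw [Subgroup.card_map_of_injective m23Incl_injective, Subgroup.card_map_of_injective α.injective, hK])
      refine ⟨z, hz, fun g => ?_⟩
      show m23Incl (α g) ∈ stabilizer M24 z ↔ g ∈ K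
      rw [← Subgroup.mem_map_iff_mem (f := α.toMonoidHom) α.injective,
        ← Subgroup.mem_map_iff_mem (K := K.map α.toMonoidHom) (f := m23Incl) m23Incl_injective, he]
      exact (and_iff_right (mem_m23.mp (α g).2).2).symm)
  have hn : π none = none := hπ none (by simp)
  refine ⟨π, mem_m23.mpr ⟨mem_M24_of_octads fun o ho hno =>
    image_mem_octads inf_le_left α key ho hno fun g hg h => mem_m23.mpr ⟨hg, by simpa [hn] using h⟩, hn⟩, key⟩

theorem out_m23 : Nat.card (Out Spor.M23) = 1 := out_eq_one m23_point_perm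

end CfsgLib.Golay.Cert
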