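/-
Data for the automorphisms of the groups of degree 22 and 12.
-/
import Mathlib.Data.List.Range

set_option autoImplicit false

namespace CfsgLib.Golay.Cert

/-- The masks of the fixed octads spanning a hyperplane of the code. -/
def fix22Masks : List ℕ := [8391797,8398155,8412681,8421811,8471941,8524371,8657159,8922769,9440193,10486557,12587685]

/-- Involutions with these fixed sets. -/
def fix22Elts : List (List ℕ) := [
  [0,21,2,16,4,5,6,19,22,13,10,11,20,9,18,17,3,15,14,7,12,1,8,23],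
  [0,1,18,3,15,7,6,5,8,14,10,12,11,13,9,4,17,16,2,22,21,20,19,23],
  [0,4,7,3,1,22,17,2,16,9,10,11,12,15,14,13,8,6,21,20,19,18,5,23],
  [0,1,21,9,4,5,19,7,8,3,22,17,20,14,13,15,18,11,16,6,12,2,10,23],
  [0,20,2,22,6,11,4,7,8,15,10,5,13,12,14,9,16,21,19,18,1,17,3,23],
  [0,1,15,18,4,13,6,16,22,9,20,21,12,5,19,2,7,17,3,14,10,11,8,23],
  [0,1,2,20,19,9,16,22,8,5,17,11,12,21,15,14,6,10,18,4,3,13,7,23],
  [0,14,11,15,4,6,5,7,22,9,10,2,20,13,1,3,17,16,21,19,12,18,8,23],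
  [0,17,13,15,12,19,6,7,8,9,22,11,4,2,18,3,21,1,14,5,20,16,10,23],
  [0,18,2,3,4,19,15,16,8,9,14,12,11,20,10,6,7,22,1,5,13,21,17,23],
  [0,10,2,4,3,5,14,7,21,9,1,17,12,18,6,20,19,11,13,16,15,8,22,23]]

/-- An octad through one of the two points. -/
def extraMask : ℕ := 8394986

/-- Coordinates of the basis words. -/
def coords22 : List ℕ := [1137,1176,3403,1761,2485,2918,3791,495,989,1971,2840,3647]

/-- The masks of fixed octads spanning the code. -/
def fix12Masks : List ℕ := [15777,18147,36294,42232,84464,133817,290352,535268,1050548,2101096,4202192,8391797]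

/-- Involutions with these fixed sets. -/
def fix12Elts : List (List ℕ) := [
  [0,4,3,2,1,5,18,7,8,16,10,11,12,13,22,23,9,20,6,21,17,19,14,15],
  [0,1,3,2,12,5,6,7,18,9,10,22,4,16,14,21,13,23,8,20,19,15,11,17],
  [4,1,2,12,0,23,6,7,8,16,10,11,3,18,20,15,9,21,13,22,14,17,19,5],
  [2,12,0,3,4,5,6,7,18,16,10,23,1,13,21,15,9,19,8,17,22,14,20,11],
  [18,13,3,2,4,5,6,7,8,12,22,11,9,1,14,17,16,15,0,23,21,20,10,19],
  [0,13,8,3,4,5,18,7,2,9,20,11,16,1,15,14,12,17,6,22,10,23,19,21],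
  [16,8,3,2,4,5,12,22,1,9,10,11,6,13,14,19,0,21,18,15,23,17,7,20],
  [18,4,2,8,1,5,6,7,3,9,21,11,16,13,23,20,12,22,0,19,15,10,17,14],
  [3,12,2,0,4,5,18,7,8,9,10,17,1,16,19,22,13,11,6,14,20,23,15,21],
  [16,4,13,3,1,5,6,19,8,9,10,11,18,2,17,20,0,14,12,7,15,21,23,22],
  [1,0,3,2,4,14,6,7,16,9,10,11,12,18,5,19,8,23,13,15,21,20,22,17],
  [0,8,2,13,4,5,6,15,1,16,10,11,18,3,20,7,9,19,12,17,14,22,21,23]]

/-- Coordinates of the basis words. -/
def coords12 : List ℕ := [3198,1172,3398,1774,2495,2912,3785,489,984,1969,2841,3639]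

/-- Words with a single high bit. -/
def hiWords : List ℕ := [1183,2366,1763,3526,3859,2745,493,986,1972,3944,2639,3189]

/-- A position outside the reference dodecad. -/
def outPos : ℕ := 4

/-- A second position inside. -/
def inPos : ℕ := 1

/-- Elements fixing the dodecad and its first point, moving the outside point everywhere. -/
def transOut : List (List ℕ) := [
  [0,1,2,3,4,5,6,7,8,9,10,11,12,13,14,15,16,17,18,19,20,21,22,23],
  [0,1,2,3,5,10,15,14,6,8,17,19,23,20,12,9,11,4,21,22,13,18,16,7],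
  [0,1,2,3,10,17,9,12,15,6,4,22,7,13,23,8,19,5,18,16,20,21,11,14],
  [0,1,2,3,11,16,12,6,23,7,22,10,9,21,8,14,17,19,20,5,18,13,4,15],
  [0,1,2,6,13,4,7,15,9,23,5,21,12,10,8,3,11,20,16,22,17,18,19,14],
  [0,1,2,3,16,22,14,8,12,23,19,5,15,18,9,7,10,11,13,4,21,20,17,6],
  [0,1,2,3,17,4,8,23,9,15,5,16,14,20,7,6,22,10,21,11,13,18,19,12],
  [0,1,2,7,18,21,12,15,8,3,22,4,14,16,23,9,17,19,20,13,11,5,10,6],
  [0,1,2,3,19,11,23,15,7,14,16,17,8,18,6,12,4,22,13,10,21,20,5,9],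
  [0,1,2,6,20,13,9,14,23,3,4,11,8,17,15,7,19,5,18,21,10,16,22,12],
  [0,1,2,6,21,11,12,7,14,15,19,5,23,18,9,8,20,22,17,4,16,10,13,3],
  [0,1,2,3,22,19,7,9,14,12,11,4,6,21,15,23,5,16,20,17,18,13,10,8]]

/-- An element moving the second inside point. -/
def moveIn : List ℕ := [0,2,1,3,4,19,6,12,14,9,10,22,7,21,8,23,17,16,18,5,20,13,11,15]

/-- Elements moving every other outside point. -/
def moveOut : List (List ℕ) := [
  [0,1,3,9,4,20,7,14,2,23,13,16,15,17,12,6,22,5,19,11,10,21,18,8],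
  [0,1,2,6,4,5,3,8,7,9,20,22,14,17,12,23,21,13,18,19,10,16,11,15]]

end CfsgLib.Golay.Cert
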