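/-
The automorphism groups of the Mathieu groups of degree 22 and 12: one outer class.
-/
import Cfsg.Agent.Golay.OutMathieu
import Cfsg.Agent.Golay.OutTwoData
import Cfsg.Agent.Golay.DodecadPos
import Cfsg.Agent.Golay.MathieuSmall

set_option autoImplicit false

namespace CfsgLib.Golay.Cert

open Cfsg CfsgLib.Golay MulAction
open scoped Pointwise

/-- Counting outer automorphisms through an overgroup inducing all of them faithfully. -/
theorem out_card {G P : Subgroup (Equiv.Perm GolayPt)} (hGP : G ≤ P)
    (hnorm : ∀ π ∈ P, ∀ g ∈ G, π * g * π⁻¹ ∈ G)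
    (hsurj : ∀ α : MulAut G, ∃ π ∈ P, ∀ g : G, (α g).1 = π * g * π⁻¹)
    (hfaith : ∀ π ∈ P, (∀ g ∈ G, π * g * π⁻¹ = g) → π = 1) :
    Nat.card (Out G) * Nat.card G = Nat.card P := by
  let c : P → MulAut G := fun π =>
    { toFun := fun g => ⟨π.1 * g.1 * π.1⁻¹, hnorm _ π.2 _ g.2⟩
      invFun := fun g => ⟨π.1⁻¹ * g.1 * π.1, by simpa using hnorm _ (inv_mem π.2) _ g.2⟩
      left_inv := fun g => Subtype.ext (by simp [mul_assoc])
      right_inv := fun g => Subtype.ext (by simp [mul_assoc])
      map_mul' := fun g h => Subtype.ext (by simp [mul_assoc]) }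
  have hc : ∀ (π : P) (g : G), (c π g).1 = π.1 * g.1 * π.1⁻¹ := fun _ _ => rfl
  have hbij : Function.Bijective c := by
    refine ⟨fun a b h => Subtype.ext ?_, fun α => ?_⟩
    · have := hfaith (b.1⁻¹ * a.1) (mul_mem (inv_mem b.2) a.2) fun g hg => by
        have h' : a.1 * g * a.1⁻¹ = b.1 * g * b.1⁻¹ := by rw [← hc a ⟨g, hg⟩, ← hc b ⟨g, hg⟩, h]
        calc b.1⁻¹ * a.1 * g * (b.1⁻¹ * a.1)⁻¹ = b.1⁻¹ * (a.1 * g * a.1⁻¹) * b.1 := by group
          _ = g := by rw [h']; group
      exact (inv_mul_eq_one.mp this).symm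
    · obtain ⟨π, hπ, h⟩ := hsurj α
      exact ⟨⟨π, hπ⟩, MulEquiv.ext fun g => Subtype.ext (h g).symm⟩
  have hinj : Function.Injective (MulAut.conj : G →* MulAut G) := by
    rw [injective_iff_map_eq_one]
    intro g hg
    refine Subtype.ext (hfaith g.1 (hGP g.2) fun x hx => ?_)
    exact congrArg (fun a : MulAut G => (a ⟨x, hx⟩).1) hg
  have h := (Inn G).card_mul_index
  rw [show Nat.card ↥(Inn G) = Nat.card G from Nat.card_congr (MonoidHom.ofInjective hinj).symm.toEquiv,
    ← Nat.card_eq_of_bijective c hbij] at h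
  rw [show Nat.card (Out G) = (Inn G).index from rfl, mul_comm, h]

/-- Masks which are the fixed sets of listed involutions with a further property. -/
def fixOK (P : List ℕ → Bool) (masks : List ℕ) (elts : List (List ℕ)) : Bool :=
  (List.range masks.length).all fun j =>
    genOK (elts.getD j []) && (powL (elts.getD j []) 2 == List.range 24 && (elts.getD j [] != List.range 24 &&
      (P (elts.getD j []) && (wt 24 (masks.getD j 0) == 8 && (List.range 24).all fun i =>
        (masks.getD j 0).testBit i == ((elts.getD j []).getD i 0 == i)))))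

theorem key_symm {G : Subgroup (Equiv.Perm GolayPt)} {α : MulAut G} {π : Equiv.Perm GolayPt}
    (key : ∀ (g : G) y, (α g).1 (π y) = π (g.1 y)) (g : G) (y : GolayPt) :
    (α.symm g).1 (π⁻¹ y) = π⁻¹ (g.1 y) := by
  have h := key (α.symm g) (π⁻¹ y)
  rw [MulEquiv.apply_symm_apply, Equiv.Perm.inv_def, Equiv.apply_symm_apply] at h
  rw [h, Equiv.Perm.inv_def, Equiv.symm_apply_apply]

theorem fixOK_octad {P : List ℕ → Bool} {masks : List ℕ} {elts : List (List ℕ)} (h : fixOK P masks elts = true)
    {G : Subgroup (Equiv.Perm GolayPt)} (hGM : G ≤ M24) (hP : ∀ g : M24, P (toList g.1) = true → g.1 ∈ G)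
    {α : MulAut G} {π : Equiv.Perm GolayPt} (key : ∀ (g : G) y, (α g).1 (π y) = π (g.1 y))
    {m : ℕ} (hm : m ∈ masks) : (pts m).image π ∈ octads := by
  obtain ⟨j, hj, rfl⟩ := List.mem_iff_getElem.mp hm
  simp only [fixOK, List.all_eq_true, List.mem_range, Bool.and_eq_true, beq_iff_eq, bne_iff_ne, ne_eq] at h
  obtain ⟨hg, hpow, hne, hPL, hwt, hfix⟩ := h j hj
  rw [List.getD_eq_getElem _ _ hj] at hwt hfix
  obtain ⟨t, ht⟩ := genOK_spec hg
  rw [← ht] at hpow hne hPL hfix
  have htG : t.1 ∈ G := hP t hPL
  have hfx : fixedPts t.1 = pts masks[j] := by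
    ext p
    rw [fixedPts_eq, Finset.mem_filter, mem_pts]
    simp only [Finset.mem_univ, true_and]
    rw [hfix _ (idx_lt p), beq_iff_eq]
  set s : G := ⟨t.1, htG⟩ with hs
  have hord : orderOf (⟨(α s).1, hGM (α s).2⟩ : M24) = 2 := by
    rw [order_lift (hGM (α s).2), Subgroup.orderOf_coe, MulEquiv.orderOf_eq]
    refine orderOf_eq_prime (Subtype.ext (toList_injective ?_)) fun e => hne ?_
    · rw [SubgroupClass.coe_pow, toList_pow, Subgroup.coe_one, toList_one]; exact hpow
    · rw [show t.1 = 1 from congrArg Subtype.val e, toList_one]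
  have himg : fixedPts (α s).1 = (pts masks[j]).image π := by
    rw [← hfx]
    ext q
    simp only [fixedPts, Finset.mem_filter, Finset.mem_univ, true_and, Finset.mem_image]
    constructor
    · intro hq
      refine ⟨π⁻¹ q, π.injective ?_, by simp⟩
      rw [← key s]
      simpa using hq
    · rintro ⟨p, hp, rfl⟩
      rw [key, hp]
  have hcard : (fixedPts (α s).1).card = 8 := by
    rw [himg, Finset.card_image_of_injective _ π.injective, card_pts, hwt]
  obtain ⟨k, ⟨-, h8, -⟩ | ⟨-, h0⟩⟩ := two_cases hord
  · exact himg ▸ h8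
  · change (fixedPts (α s).1).card = 0 at h0
    omega

theorem image_vec_mem {π : Equiv.Perm GolayPt} {m : ℕ} (h : (pts m).image π ∈ octads) :
    (fun q => vec m (π⁻¹ q)) ∈ golayCode := by
  obtain ⟨c, -, -, hc⟩ := (mem_octads_iff _).mp h
  have hv : (fun q => vec m (π⁻¹ q)) = vec (word c) := by
    funext q
    have hiff : q ∈ pts (word c) ↔ π⁻¹ q ∈ pts m := by
      rw [← hc, Finset.mem_image]
      exact ⟨fun ⟨p, hp, he⟩ => by rwa [← he, Equiv.Perm.inv_def, Equiv.symm_apply_apply],
        fun hp => ⟨_, hp, π.apply_symm_apply q⟩⟩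
    simp only [mem_pts] at hiff
    simp only [vec, hiff]
  rw [hv]
  exact vec_word_mem c

theorem mem_M24_of_span {π : Equiv.Perm GolayPt} {masks coords : List ℕ}
    (hco : ∀ i < 12, comb masks (coords.getD i 0) = rows.getD i 0)
    (hS : ∀ m ∈ masks, (fun q => vec m (π⁻¹ q)) ∈ golayCode) : π ∈ M24 := by
  let S : Submodule (ZMod 2) (GolayPt → ZMod 2) :=
    Submodule.comap (LinearMap.funLeft (ZMod 2) (ZMod 2) (π⁻¹ : Equiv.Perm GolayPt)) golayCode
  refine mem_M24_of_preserves π fun r hr => ?_
  obtain ⟨i, hi, rfl⟩ := List.mem_iff_getElem.mp hr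
  have hi' : i < 12 := by simpa [rows] using hi
  have hmem := vec_comb_mem S masks hS (coords.getD i 0)
  rw [hco i hi', List.getD_eq_getElem _ _ hi] at hmem
  change (fun q => vec rows[i] (π⁻¹ q)) ∈ golayCode at hmem
  rw [← vec_permMask] at hmem
  obtain ⟨c, hc, he⟩ := (mem_code_iff _).mp hmem
  have he' : word c = permMask (toList π) rows[i] 24 := (vec_inj (permMask_lt π rows[i]) (word_lt c hc) he).symm
  exact ((congrArg (fun x => word (x % 4096)) he'.symm).trans (congrArg word (word_mod c hc))).trans he'

/-! ### The code is its own orthogonal -/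

theorem hi_spec : ∀ j < 12, word (hiWords.getD j 0) >>> 12 = 2 ^ j := by decide +kernel

theorem low_spec : ∀ i < 12, ∀ p : GolayPt, idx p < 12 →
    vec (rows.getD i 0) p = if idx p = i then 1 else 0 := by decide +kernel

theorem mem_code_of_orth {w : GolayPt → ZMod 2} (h : ∀ c, ∑ p, w p * vec (word c) p = 0) :
    w ∈ golayCode := by
  let v : GolayPt → ZMod 2 := ∑ i ∈ Finset.range 12, w (pt i) • vec (rows.getD i 0)
  have hv : v ∈ golayCode := by
    refine Submodule.sum_mem _ fun i hi => Submodule.smul_mem _ _ ?_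
    have hi' : i < rows.length := by simpa [rows] using Finset.mem_range.mp hi
    rw [List.getD_eq_getElem _ _ hi']
    obtain ⟨hlt, hw⟩ : word (rows[i] % 4096) = rows[i] ∧ True := ⟨by revert hi'; revert i; decide +kernel, trivial⟩
    exact hlt ▸ vec_word_mem _
  suffices w + v = 0 by
    have hwv : w = v := by
      funext p
      have := congrFun this p
      simp only [Pi.add_apply, Pi.zero_apply] at this
      revert this; generalize w p = a; generalize v p = b; revert a b; decide
    exact hwv ▸ hv
  set x := w + v with hx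
  have hlow : ∀ p, idx p < 12 → x p = 0 := by
    intro p hp
    simp only [hx, v, Pi.add_apply, Finset.sum_apply, Pi.smul_apply, smul_eq_mul]
    rw [Finset.sum_eq_single (idx p), low_spec _ hp p hp, if_pos rfl, pt_idx]
    · generalize w p = a; revert a; decide
    · intro i hi hne
      rw [low_spec i (Finset.mem_range.mp hi) p hp, if_neg (Ne.symm hne), mul_zero]
    · intro hn; exact absurd (Finset.mem_range.mpr hp) hn
  have horth : ∀ c, ∑ p, x p * vec (word c) p = 0 := by
    intro c
    simp only [hx, Pi.add_apply, add_mul, Finset.sum_add_distrib, h c, dot_eq_zero hv (vec_word_mem c), add_zero]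
  funext p
  by_cases hp : idx p < 12
  · exact hlow p hp
  · obtain ⟨j, hj, hpj⟩ : ∃ j < 12, idx p = 12 + j := ⟨idx p - 12, by have := idx_lt p; omega, by omega⟩
    have hsum := horth (hiWords.getD j 0)
    rw [Finset.sum_eq_single p] at hsum
    · have : vec (word (hiWords.getD j 0)) p = 1 := by
        have := congrArg (fun n => n.testBit j) (hi_spec j hj)
        simp only [Nat.testBit_shiftRight, Nat.testBit_two_pow_self] at this
        simp only [vec, hpj, this, ↓reduceIte]
      rw [this, mul_one] at hsum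
      exact hsum
    · intro q _ hq
      by_cases hq' : idx q < 12
      · rw [hlow q hq', zero_mul]
      · have hb := congrArg (fun n => n.testBit (idx q - 12)) (hi_spec j hj)
        simp only [Nat.testBit_shiftRight, Nat.testBit_two_pow, show 12 + (idx q - 12) = idx q by omega] at hb
        have : ¬ j = idx q - 12 := fun e => hq (idx_injective (by omega))
        simp only [vec, hb, this, decide_false, Bool.false_eq_true, ↓reduceIte, mul_zero]
    · intro hn; exact absurd (Finset.mem_univ p) hn

/-! ### Degree 22 -/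

theorem ok22 : fixOK (fun L => L.getD 23 0 == 23 && L.getD 0 0 == 0) fix22Masks fix22Elts = true ∧
    fix22Masks.all (fun m => m.testBit 23 && m.testBit 0 && word (m % 4096) == m) = true ∧
    word (extraMask % 4096) = extraMask ∧ extraMask.testBit 23 = true ∧ extraMask.testBit 0 = false ∧
    ∀ i < 12, comb (fix22Masks ++ [extraMask]) (coords22.getD i 0) = rows.getD i 0 := by decide +kernel

theorem mem_m22 {x : Equiv.Perm GolayPt} :
    x ∈ Spor.M22 ↔ x ∈ M24 ∧ x none = none ∧ x (some 0) = some 0 := by
  simp only [Spor.M22, Spor.M23, Subgroup.mem_inf, mem_stabilizer_iff, Equiv.Perm.smul_def, and_assoc]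

theorem pt_ends : pt 23 = none ∧ pt 0 = some 0 ∧ idx (none : GolayPt) = 23 ∧ idx (some 0 : GolayPt) = 0 := by
  decide +kernel

theorem m22_span {α : MulAut Spor.M22} {π : Equiv.Perm GolayPt} (hn : π none = none) (h0 : π (some 0) = some 0)
    (key : ∀ (g : Spor.M22) y, (α g).1 (π y) = π (g.1 y)) :
    π ∈ M24 ∨ Equiv.swap (none : GolayPt) (some 0) * π ∈ M24 := by
  set τ := Equiv.swap (none : GolayPt) (some 0) with hτ
  obtain ⟨hok, hboth, hw, he1, he0, hco⟩ := ok22
  simp only [List.all_eq_true, Bool.and_eq_true, beq_iff_eq] at hboth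
  have hP : ∀ g : M24, (fun L : List ℕ => L.getD 23 0 == 23 && L.getD 0 0 == 0) (toList g.1) = true → g.1 ∈ Spor.M22 := by
    intro g hg
    simp only [Bool.and_eq_true, beq_iff_eq] at hg
    rw [toList_getD _ (by norm_num), toList_getD _ (by norm_num), pt_ends.1, pt_ends.2.1] at hg
    exact mem_m22.mpr ⟨g.2, idx_injective (hg.1.trans pt_ends.2.2.1.symm), idx_injective (hg.2.trans pt_ends.2.2.2.symm)⟩
  have hle : Spor.M22 ≤ M24 := fun x hx => (mem_m22.mp hx).1
  have hC : ∀ m ∈ fix22Masks, (fun q => vec m (π⁻¹ q)) ∈ golayCode := fun m hm =>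
    image_vec_mem (fixOK_octad hok hle hP key hm)
  have hC' : ∀ m ∈ fix22Masks, (fun q => vec m (π q)) ∈ golayCode := fun m hm => by
    have := image_vec_mem (fixOK_octad hok hle hP (α := α.symm) (π := π⁻¹) (key_symm key) hm)
    simpa using this
  have hsn : π.symm none = none := π.symm_apply_eq.mpr hn.symm
  have hs0 : π.symm (some 0) = some 0 := π.symm_apply_eq.mpr h0.symm
  set w : GolayPt → ZMod 2 := fun q => vec extraMask (π⁻¹ q) with hwdef
  have hwn : w none = 1 ∧ w (some 0) = 0 := by
    constructor
    · show vec extraMask (π⁻¹ none) = 1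
      rw [Equiv.Perm.inv_def, hsn]
      simp [vec, pt_ends.2.2.1, he1]
    · show vec extraMask (π⁻¹ (some 0)) = 0
      rw [Equiv.Perm.inv_def, hs0]
      simp [vec, pt_ends.2.2.2, he0]
  have hmem1 : vec extraMask ∈ golayCode := hw ▸ vec_word_mem _
  have hdot : ∀ m ∈ fix22Masks, ∑ p, w p * vec m p = 0 := by
    intro m hm
    rw [← dot_eq_zero hmem1 (hC' m hm), ← Equiv.sum_comp π]
    simp [hwdef]
  have hvecm : ∀ m ∈ fix22Masks, vec m none = vec m (some 0) := fun m hm => by
    simp [vec, pt_ends.2.2.1, pt_ends.2.2.2, (hboth m hm).1.1, (hboth m hm).1.2]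
  have hcomb : ∀ c, vec (word c) ∈ Submodule.span (ZMod 2) (vec '' {m | m ∈ fix22Masks ++ [extraMask]}) := by
    intro c
    refine vec_comb_mem _ rows (fun r hr => ?_) c
    obtain ⟨i, hi, rfl⟩ := List.mem_iff_getElem.mp hr
    have hi' : i < 12 := by simpa [rows] using hi
    rw [← List.getD_eq_getElem _ 0 hi, ← hco i hi']
    exact vec_comb_mem _ _ (fun m hm => Submodule.subset_span (Set.mem_image_of_mem vec hm)) _
  have orth : ∀ z : GolayPt → ZMod 2, (∀ m ∈ fix22Masks, ∑ p, z p * vec m p = 0) →
      ∑ p, z p * vec extraMask p = 0 → z ∈ golayCode := by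
    intro z hz hz1
    refine mem_code_of_orth fun c => ?_
    have hx := hcomb c
    revert hx
    generalize vec (word c) = x
    intro hx
    induction hx using Submodule.span_induction with
    | mem x hx =>
      obtain ⟨m, hm, rfl⟩ := hx
      rcases List.mem_append.mp hm with hm | hm
      · exact hz m hm
      · rw [List.mem_singleton.mp hm]; exact hz1
    | zero => simp
    | add a b _ _ ha hb => simp [mul_add, Finset.sum_add_distrib, ha, hb]
    | smul r a _ ha => simp [mul_left_comm _ r, ← Finset.mul_sum, ha]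
  have h01 : ∀ a : ZMod 2, a = 0 ∨ a = 1 := by decide
  rcases h01 (∑ p, w p * vec extraMask p) with hb | hb
  · refine Or.inl (mem_M24_of_span (masks := fix22Masks ++ [extraMask]) hco fun m hm => ?_)
    rcases List.mem_append.mp hm with hm | hm
    · exact hC m hm
    · rw [List.mem_singleton.mp hm]; exact orth w hdot hb
  · refine Or.inr (mem_M24_of_span (masks := fix22Masks ++ [extraMask]) hco fun m hm => ?_)
    have hinv : ∀ q, (τ * π)⁻¹ q = π⁻¹ (τ q) := fun q => by simp [hτ, mul_inv_rev]
    simp only [hinv]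
    rcases List.mem_append.mp hm with hm | hm
    · have heq : (fun q => vec m (π⁻¹ (τ q))) = fun q => vec m (π⁻¹ q) := by
        funext q
        by_cases hq : q = none
        · subst hq
          rw [hτ, Equiv.swap_apply_left, Equiv.Perm.inv_def, hsn,
            hs0, hvecm m hm]
        by_cases hq' : q = some 0
        · subst hq'
          rw [hτ, Equiv.swap_apply_right, Equiv.Perm.inv_def, hsn,
            hs0, hvecm m hm]
        rw [hτ, Equiv.swap_apply_of_ne_of_ne hq hq']
      rw [heq]
      exact hC m hm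
    · rw [List.mem_singleton.mp hm]
      show (fun q => w (τ q)) ∈ golayCode
      set u : GolayPt → ZMod 2 := fun q => if q = none ∨ q = some 0 then 1 else 0 with hu
      have heq : (fun q => w (τ q)) = w + u := by
        funext q
        by_cases hq : q = none
        · subst hq
          simp only [Pi.add_apply, hu, hτ, Equiv.swap_apply_left, hwn.1, hwn.2, true_or, if_true]
          decide
        by_cases hq' : q = some 0
        · subst hq'
          simp [hu, hτ, hwn.1, hwn.2]
        simp [hu, hτ, Equiv.swap_apply_of_ne_of_ne hq hq', hq, hq']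
      have hune : (none : GolayPt) ≠ some 0 := by simp
      have husum : ∀ z : GolayPt → ZMod 2, ∑ p, u p * z p = z none + z (some 0) := by
        intro z
        simp only [hu, ite_mul, one_mul, zero_mul]
        rw [← Finset.sum_filter, show (Finset.univ.filter fun p : GolayPt => p = none ∨ p = some 0) = {none, some 0} by
          ext p; simp, Finset.sum_pair hune]
      rw [heq]
      refine orth _ (fun m hm => ?_) ?_
      · simp only [Pi.add_apply, add_mul, Finset.sum_add_distrib, hdot m hm, husum, hvecm m hm, zero_add]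
        exact CharTwo.add_self_eq_zero _
      · simp only [Pi.add_apply, add_mul, Finset.sum_add_distrib, hb, husum]
        simp [vec, pt_ends.2.2.1, pt_ends.2.2.2, he1, he0]
        decide

end CfsgLib.Golay.Cert
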