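/-
The group of degree 22 has two classes of automorphisms.
-/
import Cfsg.Agent.Golay.OutTwo
import Cfsg.Agent.S5599

set_option autoImplicit false

namespace CfsgLib.Golay.Cert

open Cfsg CfsgLib.Golay MulAction
open scoped Pointwise

theorem ok_five_fixed : ∀ r ∈ reps5, (fixSet r).card = 4 := by decide +kernel

theorem conjTo_five {σ : M24} (h : orderOf σ = 5) : ConjTo reps5 σ := by
  set s := (σ : Equiv.Perm GolayPt) with hs
  have h1 : σ ≠ 1 := fun e => by rw [e, orderOf_one] at h; norm_num at h
  have hσ5 : σ ^ 5 = 1 := h ▸ pow_orderOf_eq_one σ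
  obtain ⟨a, ha⟩ : ∃ a, s a ≠ a := by
    by_contra hc; push Not at hc
    exact h1 (eq_one_of_small (S := ∅) (by simp) fun q _ => hc q)
  have hper : Function.minimalPeriod (⇑s) a = 5 := by
    haveI : Fact (Nat.Prime 5) := ⟨by norm_num⟩
    refine Function.minimalPeriod_eq_prime ?_ fun h => ha h
    show (⇑s)^[5] a = a
    rw [Equiv.Perm.iterate_eq_pow, pow_coe_eq_one hσ5]
    rfl
  obtain ⟨g, hg⟩ := normal_five ((List.range 5).map fun i => (⇑s)^[i] a) (by simp) (by
    refine List.Nodup.map_on (fun i hi j hj e => ?_) List.nodup_range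
    simp only [List.mem_range] at hi hj
    exact (Function.iterate_eq_iterate_iff_of_lt_minimalPeriod (hper.symm ▸ hi) (hper.symm ▸ hj)).mp e)
  obtain ⟨hn1, hn2⟩ := conj_pow_ne (g := g) h1 hσ5
  refine ConjTo.of_conj g (classOK_spec (Q := q5) (by decide) fixList_five ok_five ?_ hn1 hn2)
  refine agree_conj (Qf := q5) (n := 5) (π := [1, 2, 3, 4, 0]) (by decide +kernel) le_rfl hg fun i hi => ?_
  have h5 : (⇑s)^[5] a = a := by rw [← hper]; exact Function.iterate_minimalPeriod
  interval_cases i
  exacts [rfl, rfl, rfl, rfl, h5]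

theorem fixed_five {σ : M24} (h : orderOf σ = 5) : (fixedPts (σ : Equiv.Perm GolayPt)).card = 4 :=
  fixed_of_conjTo ok_five_fixed (conjTo_five h)

/-- Subgroups of the order of a triple stabiliser inside a pair stabiliser. -/
theorem eq_triple_of_card {H : Subgroup M24} {a b : GolayPt} (hab : a ≠ b)
    (hle : H ≤ stabilizer M24 a ⊓ stabilizer M24 b) (hH : Nat.card H = 20160) :
    ∃ y, (y ≠ a ∧ y ≠ b) ∧ H = stabilizer M24 a ⊓ stabilizer M24 b ⊓ stabilizer M24 y := by
  haveI : Fact (Nat.Prime 7) := ⟨by norm_num⟩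
  haveI : Fact (Nat.Prime 5) := ⟨by norm_num⟩
  have hbad : ∀ h : H, ∀ p, p = a ∨ p = b → (h.1.1 : Equiv.Perm GolayPt) p = p := by
    rintro h p (rfl | rfl)
    exacts [(hle h.2).1, (hle h.2).2]
  obtain ⟨v, hv⟩ := exists_prime_orderOf_dvd_card' (G := H) 7 (by rw [hH]; norm_num)
  obtain ⟨f, hf⟩ := exists_prime_orderOf_dvd_card' (G := H) 5 (by rw [hH]; norm_num)
  have hvo : orderOf v.1 = 7 := by rw [Subgroup.orderOf_coe, hv]
  have hfo : orderOf f.1 = 5 := by rw [Subgroup.orderOf_coe, hf]
  set V := fixedPts (v.1 : Equiv.Perm GolayPt) with hV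
  have hV3 : V.card = 3 := fixed_seven hvo
  have habV : ({a, b} : Finset GolayPt) ⊆ V := by
    intro p hp
    simp only [Finset.mem_insert, Finset.mem_singleton] at hp
    simp only [hV, fixedPts, Finset.mem_filter, Finset.mem_univ, true_and]
    exact hbad v p hp
  obtain ⟨y, hyV, hy⟩ := Finset.exists_mem_notMem_of_card_lt_card
    (by rw [Finset.card_pair hab, hV3]; norm_num : ({a, b} : Finset GolayPt).card < V.card)
  simp only [Finset.mem_insert, Finset.mem_singleton, not_or] at hy
  set O := orbF H y with hO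
  have hOab : ∀ p, (p = a ∨ p = b) → p ∉ O := by
    intro p hp hpO
    obtain ⟨k, hk⟩ := mem_orbF.mp hpO
    have : y = p := (MulAction.injective (k.1 : M24)) (hk.trans (hbad k p hp).symm)
    rcases hp with rfl | rfl <;> [exact hy.1 this; exact hy.2 this]
  have hO7 := card_inv_mod (by norm_num : Nat.Prime 7) (pow_coe_eq_one (hvo ▸ pow_orderOf_eq_one v.1)) O
    (fun p hp => orbF_inv v.2 hp)
  have hfilt : (O.filter fun p => (v.1 : Equiv.Perm GolayPt) p = p) = {y} := by
    have hVeq : V = {a, b, y} := (Finset.eq_of_subset_of_card_le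
      (by intro p hp; simp only [Finset.mem_insert, Finset.mem_singleton] at hp
          rcases hp with rfl | rfl | rfl
          exacts [habV (by simp), habV (by simp), hyV])
      (by rw [hV3, Finset.card_eq_three.mpr ⟨a, b, y, hab, Ne.symm hy.1, Ne.symm hy.2, rfl⟩])).symm
    ext p
    simp only [Finset.mem_filter, Finset.mem_singleton]
    constructor
    · intro h
      have : p ∈ V := by simp [hV, fixedPts, h.2]
      rw [hVeq] at this
      simp only [Finset.mem_insert, Finset.mem_singleton] at this
      rcases this with rfl | rfl | rfl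
      · exact absurd h.1 (hOab _ (Or.inl rfl))
      · exact absurd h.1 (hOab _ (Or.inr rfl))
      · rfl
    · rintro rfl
      exact ⟨self_mem_orbF H p, by simpa [hV, fixedPts] using hyV⟩
  rw [hfilt, Finset.card_singleton] at hO7
  set R := (Finset.univ \ ({a, b} : Finset GolayPt)) \ O with hR
  have hOsub : O ⊆ Finset.univ \ ({a, b} : Finset GolayPt) := fun p hp => by
    simp only [Finset.mem_sdiff, Finset.mem_univ, true_and, Finset.mem_insert, Finset.mem_singleton]
    exact fun h => hOab p h hp
  have h22 : (Finset.univ \ ({a, b} : Finset GolayPt)).card = 22 := by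
    rw [Finset.card_sdiff_of_subset (Finset.subset_univ _), Finset.card_univ, card_golayPt, Finset.card_pair hab]
  have hRc : R.card + O.card = 22 := by rw [hR, Finset.card_sdiff_add_card_eq_card hOsub, h22]
  set W := fixedPts (f.1 : Equiv.Perm GolayPt) with hW
  have hW2 : (W \ {a, b}).card = 2 := by
    have hsub : ({a, b} : Finset GolayPt) ⊆ W := by
      intro p hp
      simp only [Finset.mem_insert, Finset.mem_singleton] at hp
      simp only [hW, fixedPts, Finset.mem_filter, Finset.mem_univ, true_and]
      exact hbad f p hp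
    rw [Finset.card_sdiff_of_subset hsub, Finset.card_pair hab, show W.card = 4 from fixed_five hfo]
  have hO5 := card_inv_mod (by norm_num : Nat.Prime 5) (pow_coe_eq_one (hfo ▸ pow_orderOf_eq_one f.1)) O
    (fun p hp => orbF_inv f.2 hp)
  have hfle : (O.filter fun p => (f.1 : Equiv.Perm GolayPt) p = p).card ≤ 2 := by
    rw [← hW2]
    refine Finset.card_le_card fun p hp => ?_
    simp only [Finset.mem_filter] at hp
    simp only [Finset.mem_sdiff, hW, fixedPts, Finset.mem_filter, Finset.mem_univ, true_and,
      Finset.mem_insert, Finset.mem_singleton]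
    exact ⟨hp.2, fun h => hOab p h hp.1⟩
  have hc := card_orbF H y
  rw [hH, ← hO] at hc
  have hcases : O.card = 1 ∨ O.card = 8 ∨ O.card = 15 ∨ O.card = 22 := by omega
  rcases hcases with h | h | h | h
  · refine ⟨y, ⟨hy.1, hy.2⟩, Subgroup.eq_of_le_of_card_ge (le_inf hle (le_stab_of_orbF h)) ?_⟩
    -- the order of the triple stabiliser
    set P := stabilizer M24 a ⊓ stabilizer M24 b with hP
    have hP' := card_orbF P y
    rw [hP, card_stab_pair a b hab] at hP'
    have horb : orbF P y = Finset.univ \ ({a, b} : Finset GolayPt) := by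
      ext p
      simp only [mem_orbF, Finset.mem_sdiff, Finset.mem_univ, true_and, Finset.mem_insert, Finset.mem_singleton, not_or]
      constructor
      · rintro ⟨k, rfl⟩
        exact ⟨fun e => hy.1 ((MulAction.injective (k : M24)) (e.trans k.2.1.symm)),
          fun e => hy.2 ((MulAction.injective (k : M24)) (e.trans k.2.2.symm))⟩
      · rintro ⟨hpa, hpb⟩
        obtain ⟨z, -, hz⟩ : ∃ z ∈ (Finset.univ : Finset GolayPt), z ∉ ({a, b, y, p} : Finset GolayPt) :=
          Finset.exists_mem_notMem_of_card_lt_card (lt_of_le_of_lt Finset.card_le_four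
            (by rw [Finset.card_univ, card_golayPt]; norm_num))
        simp only [Finset.mem_insert, Finset.mem_singleton, not_or] at hz
        obtain ⟨k, hk, -⟩ := exists_stab_pair_two hab (x := y) (y := z) (z := p) (w := z) hy ⟨hz.1, hz.2.1⟩
          ⟨hpa, hpb⟩ ⟨hz.1, hz.2.1⟩ (Ne.symm hz.2.2.1) (Ne.symm hz.2.2.2)
        exact ⟨k, hk⟩
    rw [← hP] at hP'
    rw [horb, h22] at hP'
    omega
  · omega
  · -- an element fixing nine points would be trivial
    exfalso
    have hR7 : R.card = 7 := by omega
    have hRinv : ∀ k : H, ∀ p ∈ R, (k.1.1 : Equiv.Perm GolayPt) p ∈ R := by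
      intro k p hp
      simp only [hR, Finset.mem_sdiff, Finset.mem_univ, true_and, Finset.mem_insert, Finset.mem_singleton] at hp ⊢
      refine ⟨fun e => hp.1 ?_, fun e => hp.2 ?_⟩
      · have := hbad k _ e
        exact (k.1.1).injective this ▸ e
      · have := orbF_inv (inv_mem k.2) e
        simpa using this
    let φ : H →* Equiv.Perm {p // p ∈ R} :=
      { toFun := fun k => (k.1.1).subtypePerm fun p => ⟨fun h => by
          have := hRinv k⁻¹ _ h
          simpa using this, hRinv k p⟩
        map_one' := by ext; rfl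
        map_mul' := fun _ _ => by ext; rfl }
    have hker : φ.ker = ⊥ := by
      rw [Subgroup.eq_bot_iff_forall]
      intro k hk
      have hfix : ∀ p, (p = a ∨ p = b ∨ p ∈ R) → (k.1.1 : Equiv.Perm GolayPt) p = p := by
        rintro p (hp | hp | hp)
        · exact hbad k p (Or.inl hp)
        · exact hbad k p (Or.inr hp)
        · exact congrArg (fun e : Equiv.Perm {p // p ∈ R} => (e ⟨p, hp⟩).1) hk
      by_contra hne
      -- some power has prime order, yet fixes nine points
      have ho : orderOf k.1 ≠ 1 := fun e => hne (Subtype.ext (orderOf_eq_one_iff.mp e))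
      obtain ⟨q, hq, hdq⟩ := Nat.exists_prime_and_dvd ho
      haveI := Fact.mk hq
      obtain ⟨c, hc⟩ := exists_prime_orderOf_dvd_card' (G := Subgroup.zpowers k.1) q (by rw [Nat.card_zpowers]; exact hdq)
      have hco : orderOf c.1 = q := by rw [Subgroup.orderOf_coe, hc]
      have hcfix : ∀ p, (p = a ∨ p = b ∨ p ∈ R) → (c.1.1 : Equiv.Perm GolayPt) p = p := by
        intro p hp
        obtain ⟨n, hn⟩ := Subgroup.mem_zpowers_iff.mp c.2
        rw [← hn, SubgroupClass.coe_zpow]
        exact Equiv.Perm.zpow_apply_eq_self_of_apply_eq_self (hfix p hp) n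
      have h9 : 9 ≤ (fixedPts (c.1.1 : Equiv.Perm GolayPt)).card := by
        have hdis : Disjoint ({a, b} : Finset GolayPt) R := by
          rw [Finset.disjoint_left]; intro p hp hpR
          simp only [hR, Finset.mem_sdiff] at hpR
          exact hpR.1.2 hp
        refine le_trans ?_ (Finset.card_le_card (s := ({a, b} : Finset GolayPt) ∪ R) fun p hp => ?_)
        · rw [Finset.card_union_of_disjoint hdis, Finset.card_pair hab, hR7]
        · simp only [Finset.mem_union, Finset.mem_insert, Finset.mem_singleton, or_assoc] at hp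
          simp [fixedPts, hcfix p hp]
      have hmem : orderOf c.1 ∣ 20160 := hH ▸ (Subgroup.orderOf_dvd_natCard H (by
        obtain ⟨n, hn⟩ := Subgroup.mem_zpowers_iff.mp c.2
        exact hn ▸ zpow_mem k.2 n))
      rw [hco] at hmem
      have hqs : q = 2 ∨ q = 3 ∨ q = 5 ∨ q = 7 := by
        rw [show (20160 : ℕ) = 2 ^ 6 * 3 ^ 2 * 5 * 7 by norm_num] at hmem
        rcases hq.dvd_mul.mp hmem with h | h
        · rcases hq.dvd_mul.mp h with h | h
          · rcases hq.dvd_mul.mp h with h | h
            · exact Or.inl ((Nat.prime_dvd_prime_iff_eq hq Nat.prime_two).mp (hq.dvd_of_dvd_pow h))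
            · exact Or.inr (Or.inl ((Nat.prime_dvd_prime_iff_eq hq Nat.prime_three).mp (hq.dvd_of_dvd_pow h)))
          · exact Or.inr (Or.inr (Or.inl ((Nat.prime_dvd_prime_iff_eq hq (by norm_num)).mp h)))
        · exact Or.inr (Or.inr (Or.inr ((Nat.prime_dvd_prime_iff_eq hq (by norm_num)).mp h)))
      rcases hqs with e | e | e | e <;> rw [e] at hco
      · obtain ⟨_, ⟨-, -, h8⟩ | ⟨-, h0⟩⟩ := two_cases hco <;> omega
      · obtain ⟨_, ⟨-, h8⟩ | ⟨-, h0⟩⟩ := three_cases hco <;> omega
      · have := fixed_five hco; omega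
      · have := fixed_seven hco; omega
    have hdvd := Subgroup.card_dvd_of_injective φ ((MonoidHom.ker_eq_bot_iff φ).mp hker)
    rw [hH, Nat.card_perm, Nat.card_eq_fintype_card, Fintype.card_coe, hR7] at hdvd
    norm_num [Nat.factorial] at hdvd
  · rw [h] at hc
    omega

/-- The inclusion. -/
def m22Incl : Spor.M22 →* M24 := Subgroup.inclusion fun _ hx => (mem_m22.mp hx).1

theorem m22Incl_injective : Function.Injective m22Incl := Subgroup.inclusion_injective _

theorem card_m22 : Nat.card Spor.M22 = 443520 := by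
  rw [← card_stab_pair none (some 0) (by simp)]
  exact Nat.card_congr
    { toFun := fun g => ⟨⟨g.1, (mem_m22.mp g.2).1⟩, (mem_m22.mp g.2).2.1, (mem_m22.mp g.2).2.2⟩
      invFun := fun g => ⟨g.1.1, mem_m22.mpr ⟨g.1.2, g.2.1, g.2.2⟩⟩
      left_inv := fun _ => rfl
      right_inv := fun _ => rfl }

theorem m22_sep {y z : GolayPt} (hy : y ≠ none ∧ y ≠ some 0) (hz : z ≠ none ∧ z ≠ some 0)
    (h : ∀ g : Spor.M22, g.1 y = y → g.1 z = z) : y = z := by
  by_contra hne
  obtain ⟨w, -, hw⟩ : ∃ w ∈ (Finset.univ : Finset GolayPt), w ∉ ({none, some 0, y, z} : Finset GolayPt) :=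
    Finset.exists_mem_notMem_of_card_lt_card (lt_of_le_of_lt Finset.card_le_four
      (by rw [Finset.card_univ, card_golayPt]; norm_num))
  simp only [Finset.mem_insert, Finset.mem_singleton, not_or] at hw
  obtain ⟨g, hg1, hg2⟩ := exists_stab_pair_two (p := none) (q := some 0) (by simp)
    hy hz hy ⟨hw.1, hw.2.1⟩ hne (Ne.symm hw.2.2.1)
  exact hw.2.2.2 (hg2.symm.trans (h ⟨g.1.1, mem_m22.mpr ⟨g.1.2, g.2.1, g.2.2⟩⟩ hg1))

theorem out_m22 : Nat.card (Out Spor.M22) = 2 := by
  set P := M24 ⊓ stabilizer (Equiv.Perm GolayPt) ({none, some 0} : Finset GolayPt) with hP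
  have hidx : Spor.M22.relIndex P = 2 :=
    (Cfsg.Agent.S5599.result projInv projInv_mem (by decide +kernel) (by decide +kernel)).1
  have hle : Spor.M22 ≤ P := fun x hx => by
    obtain ⟨h1, h2, h3⟩ := mem_m22.mp hx
    refine ⟨h1, ?_⟩
    show x • ({none, some 0} : Finset GolayPt) = _
    simp [Finset.smul_finset_insert, Equiv.Perm.smul_def, h2, h3]
  have hcard : Nat.card P = 2 * 443520 := by
    have h := (Spor.M22.subgroupOf P).card_mul_index
    rw [Nat.card_congr (Subgroup.subgroupOfEquivOfLe hle).toEquiv, card_m22] at h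
    rw [Subgroup.relIndex] at hidx
    rw [hidx] at h
    omega
  have hP_mem : ∀ π ∈ P, π ∈ M24 ∧ ((π none = none ∧ π (some 0) = some 0) ∨ (π none = some 0 ∧ π (some 0) = none)) := by
    rintro π ⟨h1, h2⟩
    refine ⟨h1, ?_⟩
    have h2' : π • ({none, some 0} : Finset GolayPt) = {none, some 0} := h2
    have a : π none ∈ ({none, some 0} : Finset GolayPt) := h2' ▸ Finset.smul_mem_smul_finset (by simp)
    have b : π (some 0) ∈ ({none, some 0} : Finset GolayPt) := h2' ▸ Finset.smul_mem_smul_finset (by simp)
    simp only [Finset.mem_insert, Finset.mem_singleton] at a b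
    rcases a with a | a <;> rcases b with b | b
    · exact absurd (π.injective (a.trans b.symm)) (by simp)
    · exact Or.inl ⟨a, b⟩
    · exact Or.inr ⟨a, b⟩
    · exact absurd (π.injective (a.trans b.symm)) (by simp)
  have h := out_card (G := Spor.M22) (P := P) hle
    (fun π hπ g hg => by
      obtain ⟨hπM, hcase⟩ := hP_mem π hπ
      obtain ⟨hgM, hg1, hg2⟩ := mem_m22.mp hg
      refine mem_m22.mpr ⟨mul_mem (mul_mem hπM hgM) (inv_mem hπM), ?_⟩
      rcases hcase with ⟨a, b⟩ | ⟨a, b⟩ <;>
        simp [Equiv.Perm.mul_apply, Equiv.Perm.inv_def, π.symm_apply_eq.mpr a.symm,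
          π.symm_apply_eq.mpr b.symm, hg1, hg2, a, b])
    (fun α => by
      obtain ⟨π, hfix, key⟩ := exists_point_perm α (fun y => y ≠ none ∧ y ≠ some 0)
        (fun y h g => by
          rcases not_and_or.mp h with h | h <;> rw [not_not.mp h]
          exacts [(mem_m22.mp g.2).2.1, (mem_m22.mp g.2).2.2])
        (fun y z => m22_sep)
        (fun y hy => by
          let K : Subgroup Spor.M22 := (stabilizer M24 y).comap m22Incl
          have hK : Nat.card K = 20160 := by
            have h := card_orbF (stabilizer M24 (none : GolayPt) ⊓ stabilizer M24 (some 0 : GolayPt)) y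
            rw [card_stab_pair none (some 0) (by simp)] at h
            have horb : orbF (stabilizer M24 (none : GolayPt) ⊓ stabilizer M24 (some 0 : GolayPt)) y =
                Finset.univ \ ({none, some 0} : Finset GolayPt) := by
              ext p
              simp only [mem_orbF, Finset.mem_sdiff, Finset.mem_univ, true_and, Finset.mem_insert, Finset.mem_singleton, not_or]
              constructor
              · rintro ⟨k, rfl⟩
                exact ⟨fun e => hy.1 ((MulAction.injective (k : M24)) (e.trans k.2.1.symm)),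
                  fun e => hy.2 ((MulAction.injective (k : M24)) (e.trans k.2.2.symm))⟩
              · rintro ⟨hpa, hpb⟩
                obtain ⟨z, -, hz⟩ : ∃ z ∈ (Finset.univ : Finset GolayPt), z ∉ ({none, some 0, y, p} : Finset GolayPt) :=
                  Finset.exists_mem_notMem_of_card_lt_card (lt_of_le_of_lt Finset.card_le_four
                    (by rw [Finset.card_univ, card_golayPt]; norm_num))
                simp only [Finset.mem_insert, Finset.mem_singleton, not_or] at hz
                obtain ⟨k, hk, -⟩ := exists_stab_pair_two (by simp) (x := y) (y := z) (z := p) (w := z) hy ⟨hz.1, hz.2.1⟩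
                  ⟨hpa, hpb⟩ ⟨hz.1, hz.2.1⟩ (Ne.symm hz.2.2.1) (Ne.symm hz.2.2.2)
                exact ⟨k, hk⟩
            rw [horb, Finset.card_sdiff_of_subset (Finset.subset_univ _), Finset.card_univ, card_golayPt,
              Finset.card_pair (by simp)] at h
            have he : Nat.card K = Nat.card ↥(stabilizer M24 (none : GolayPt) ⊓ stabilizer M24 (some 0 : GolayPt) ⊓ stabilizer M24 y) :=
              Nat.card_congr
                { toFun := fun g => ⟨m22Incl g.1, ⟨(mem_m22.mp g.1.2).2.1, (mem_m22.mp g.1.2).2.2⟩, g.2⟩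
                  invFun := fun g => ⟨⟨g.1.1, mem_m22.mpr ⟨g.1.2, g.2.1.1, g.2.1.2⟩⟩, g.2.2⟩
                  left_inv := fun _ => rfl
                  right_inv := fun _ => rfl }
            omega
          obtain ⟨z, hz, he⟩ := eq_triple_of_card (H := (K.map α.toMonoidHom).map m22Incl)
            (a := none) (b := some 0) (by simp)
            (by rintro _ ⟨k, -, rfl⟩; exact ⟨(mem_m22.mp k.2).2.1, (mem_m22.mp k.2).2.2⟩)
            (by rw [Subgroup.card_map_of_injective m22Incl_injective, Subgroup.card_map_of_injective α.injective, hK])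
          refine ⟨z, hz, fun g => ?_⟩
          show m22Incl (α g) ∈ stabilizer M24 z ↔ g ∈ K
          rw [← Subgroup.mem_map_iff_mem (f := α.toMonoidHom) α.injective,
            ← Subgroup.mem_map_iff_mem (K := K.map α.toMonoidHom) (f := m22Incl) m22Incl_injective, he]
          exact (and_iff_right (⟨(mem_m22.mp (α g).2).2.1, (mem_m22.mp (α g).2).2.2⟩ :
            m22Incl (α g) ∈ stabilizer M24 (none : GolayPt) ⊓ stabilizer M24 (some 0 : GolayPt))).symm)
      have hn : π none = none := hfix none (by simp)
      have h0 : π (some 0) = some 0 := hfix (some 0) (by simp)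
      have hconj : ∀ g : Spor.M22, (α g).1 = π * g.1 * π⁻¹ := fun g => by
        refine Equiv.ext fun p => ?_
        rw [Equiv.Perm.mul_apply, Equiv.Perm.mul_apply, ← key, Equiv.Perm.inv_def, Equiv.apply_symm_apply]
      rcases m22_span hn h0 key with hM | hM
      · exact ⟨π, hle (mem_m22.mpr ⟨hM, hn, h0⟩), hconj⟩
      · refine ⟨_, ⟨hM, ?_⟩, fun g => ?_⟩
        · show (Equiv.swap (none : GolayPt) (some 0) * π) • ({none, some 0} : Finset GolayPt) = _
          simp [Finset.smul_finset_insert, Equiv.Perm.smul_def, hn, h0, Finset.pair_comm]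
        · obtain ⟨-, a1, a2⟩ := mem_m22.mp (α g).2
          set τ := Equiv.swap (none : GolayPt) (some 0) with hτ
          have h1 := Equiv.swap_apply_apply (α g).1 (none : GolayPt) (some 0)
          rw [a1, a2, ← hτ, eq_mul_inv_iff_mul_eq] at h1
          calc (α g).1 = τ * (α g).1 * τ⁻¹ := eq_mul_inv_of_mul_eq h1.symm
            _ = _ := by rw [hconj]; group)
    (fun π hπ h => by
      obtain ⟨hπM, -⟩ := hP_mem π hπ
      have hfixp : ∀ y, y ≠ none ∧ y ≠ some 0 → π y = y := by
        intro y hy
        by_contra hne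
        have hy' : π y ≠ none ∧ π y ≠ some 0 := by
          obtain ⟨-, hcase⟩ := hP_mem π hπ
          rcases hcase with ⟨a, b⟩ | ⟨a, b⟩
          · exact ⟨fun e => hy.1 (π.injective (e.trans a.symm)), fun e => hy.2 (π.injective (e.trans b.symm))⟩
          · exact ⟨fun e => hy.2 (π.injective (e.trans b.symm)), fun e => hy.1 (π.injective (e.trans a.symm))⟩
        refine hne (m22_sep hy hy' fun g hg => ?_).symm
        have hc := congrArg (fun σ : Equiv.Perm GolayPt => σ (π y)) (h g.1 g.2)
        simp only [Equiv.Perm.mul_apply, Equiv.Perm.inv_def, Equiv.symm_apply_apply, hg] at hc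
        exact hc.symm
      have := eq_one_of_small (g := ⟨π, hπM⟩) (S := {none, some 0}) (Finset.card_le_two.trans (by norm_num))
        fun p hp => hfixp p (by simpa using hp)
      exact congrArg (fun z : M24 => z.1) this)
  have h' : Nat.card (Out Spor.M22) * 443520 = 2 * 443520 := (congrArg (Nat.card (Out Spor.M22) * ·) card_m22.symm).trans (h.trans hcard)
  exact Nat.eq_of_mul_eq_mul_right (by norm_num) h'

end CfsgLib.Golay.Cert
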