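/-
Homomorphisms into the group of degree 24 given by tables of position lists.
-/
import Cfsg.Agent.Golay.Cert
import Cfsg.Agent.Golay.NormalForm

set_option autoImplicit false

namespace CfsgLib.Golay.Cert

open Cfsg CfsgLib.Golay MulAction
open scoped Pointwise

/-- The element with a given position list (the identity for lists that are not elements). -/
noncomputable def ofList (L : List ℕ) : M24 := if h : genOK L = true then (genOK_spec h).choose else 1

theorem toList_ofList {L : List ℕ} (h : genOK L = true) : toList (ofList L).1 = L := by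
  rw [ofList, dif_pos h]
  exact (genOK_spec h).choose_spec

theorem ofList_toList (g : M24) (h : genOK (toList g.1) = true) : ofList (toList g.1) = g :=
  toList_coe_injective (toList_ofList h)

/-- A table respecting right multiplication by generators is a homomorphism. -/
theorem table_hom {G : Type*} [Group G] (f : G → List ℕ) {K : Subgroup M24} {S : Set G}
    (hS : Submonoid.closure S = ⊤) (h1 : f 1 = List.range 24) (hgen : ∀ s ∈ S, ∃ k ∈ K, toList k.1 = f s)
    (hmul : ∀ g, ∀ s ∈ S, f (g * s) = compL (f g) (f s)) :
    ∃ φ : G →* M24, (∀ g, φ g ∈ K) ∧ ∀ g, toList (φ g).1 = f g := by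
  have hex : ∀ g, ∃ k ∈ K, toList k.1 = f g := by
    intro g
    have hg : g ∈ Submonoid.closure S := hS ▸ Submonoid.mem_top g
    induction hg using Submonoid.closure_induction_right with
    | one => exact ⟨1, one_mem _, by rw [h1]; exact toList_one⟩
    | mul_right x _ y hy ih =>
      obtain ⟨a, ha, hax⟩ := ih
      obtain ⟨b, hb, hby⟩ := hgen y hy
      exact ⟨a * b, mul_mem ha hb, by rw [hmul x y hy, ← hax, ← hby, Subgroup.coe_mul, toList_mul]⟩
  choose φ hφK hφ using hex
  refine ⟨MonoidHom.mk' φ fun g h => ?_, hφK, hφ⟩
  have hh : h ∈ Submonoid.closure S := hS ▸ Submonoid.mem_top h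
  induction hh using Submonoid.closure_induction_right generalizing g with
  | one =>
    rw [mul_one, left_eq_mul]
    refine toList_coe_injective ?_
    show toList (φ 1).1 = toList (1 : M24).1
    rw [hφ, h1]
    exact toList_one.symm
  | mul_right x _ y hy ih =>
    have hs : ∀ g, φ (g * y) = φ g * φ y := fun g => by
      refine toList_coe_injective ?_
      show toList (φ (g * y)).1 = toList (φ g * φ y).1
      rw [hφ, hmul g y hy, Subgroup.coe_mul, toList_mul, hφ, hφ]
    rw [← mul_assoc, hs, hs x, ih, mul_assoc]

/-- An injective homomorphism into a subgroup that is no larger is an isomorphism. -/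
theorem iso_of_hom {G H : Type*} [Group G] [Group H] {K : Subgroup H} [Finite K] (φ : G →* H) (hK : ∀ g, φ g ∈ K)
    (hinj : Function.Injective φ) (hcard : Nat.card K ≤ Nat.card G) : Nonempty (K ≃* G) := by
  have hb : Function.Bijective (φ.codRestrict K hK) :=
    Function.Injective.bijective_of_nat_card_le (fun a b h => hinj (congrArg Subtype.val h)) hcard
  exact ⟨(MulEquiv.ofBijective _ hb).symm⟩

theorem submonoid_closure_top {G : Type*} [Group G] [Finite G] {S : Set G} (h : Subgroup.closure S = ⊤) :
    Submonoid.closure S = ⊤ := by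
  rw [← Subgroup.closure_toSubmonoid_of_finite, h, Subgroup.top_toSubmonoid]

/-- The centraliser of an element inside a subgroup. -/
def centInfEquiv {H : Type*} [Group H] (K : Subgroup H) (x : K) :
    Subgroup.centralizer ({x} : Set K) ≃* ↥(K ⊓ Subgroup.centralizer ({(x : H)} : Set H)) where
  toFun g := ⟨g.1.1, g.1.2, Subgroup.mem_centralizer_singleton_iff.mpr
    (congrArg Subtype.val (Subgroup.mem_centralizer_singleton_iff.mp g.2))⟩
  invFun g := ⟨⟨g.1, g.2.1⟩, Subgroup.mem_centralizer_singleton_iff.mpr
    (Subtype.ext (Subgroup.mem_centralizer_singleton_iff.mp g.2.2))⟩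
  left_inv _ := rfl
  right_inv _ := rfl
  map_mul' _ _ := rfl

end CfsgLib.Golay.Cert
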