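/-
Elements of prime order in M₂₄ and M₂₂ with normalizing and centralizing elements.
-/

namespace CfsgLib.Golay.BlockData

/-- An element of order 5. -/
def x5 : List Nat := [1, 2, 3, 23, 4, 5, 21, 18, 19, 11, 6, 16, 15, 7, 14, 9, 12, 17, 8, 13, 22, 20, 10, 0]

/-- An element normalizing the cyclic group of order 5. -/
def y5 : List Nat := [2, 23, 1, 3, 4, 5, 19, 6, 10, 12, 18, 9, 15, 22, 17, 11, 16, 14, 20, 21, 8, 7, 13, 0]

/-- An element of order 7. -/
def x7 : List Nat := [1, 2, 3, 5, 4, 14, 15, 8, 6, 21, 13, 9, 11, 12, 23, 20, 10, 17, 22, 19, 18, 16, 7, 0]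

/-- An element normalizing the cyclic group of order 7. -/
def y7 : List Nat := [2, 5, 23, 1, 4, 3, 8, 20, 22, 16, 21, 9, 12, 10, 14, 15, 11, 17, 7, 19, 18, 13, 6, 0]

/-- An element of order 11. -/
def x11 : List Nat := [1, 2, 3, 4, 17, 7, 6, 9, 8, 18, 20, 15, 16, 14, 12, 13, 5, 10, 19, 11, 21, 22, 23, 0]

/-- An element normalizing the cyclic group of order 11. -/
def y11 : List Nat := [3, 10, 22, 1, 4, 14, 6, 5, 8, 18, 23, 7, 9, 13, 16, 19, 11, 20, 15, 12, 2, 17, 21, 0]

/-- An element of order 23. -/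
def x23 : List Nat := [1, 2, 3, 4, 8, 7, 21, 13, 17, 22, 11, 14, 5, 15, 12, 9, 16, 10, 23, 20, 6, 18, 19, 0]

/-- An element normalizing the cyclic group of order 23. -/
def y23 : List Nat := [2, 4, 17, 11, 12, 1, 19, 3, 7, 14, 22, 20, 23, 8, 21, 10, 16, 15, 18, 13, 9, 6, 5, 0]

/-- An element of order 7 fixing the base points. -/
def u7 : List Nat := [0, 2, 3, 4, 7, 8, 19, 10, 14, 6, 12, 17, 1, 15, 9, 16, 11, 21, 5, 18, 20, 22, 13, 23]

/-- An element normalizing the cyclic group of order 7, fixing the base points. -/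
def v7 : List Nat := [0, 3, 7, 12, 2, 8, 14, 4, 9, 5, 10, 16, 1, 11, 19, 21, 13, 17, 18, 6, 20, 22, 15, 23]

/-- An element of order 11 fixing the base points. -/
def u11 : List Nat := [0, 2, 3, 4, 5, 9, 19, 22, 12, 13, 15, 6, 20, 14, 21, 7, 1, 8, 16, 10, 11, 18, 17, 23]

/-- An element normalizing the cyclic group of order 11, fixing the base points. -/
def v11 : List Nat := [0, 4, 13, 18, 2, 5, 19, 10, 6, 14, 8, 20, 15, 16, 3, 11, 1, 12, 21, 7, 17, 9, 22, 23]

/-- An involution centralizing the element of order five. -/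
def a5 : List Nat := [18, 8, 19, 13, 14, 17, 15, 23, 1, 21, 12, 20, 10, 3, 4, 6, 22, 5, 0, 2, 11, 9, 16, 7]

/-- A second such involution. -/
def b5 : List Nat := [6, 21, 20, 22, 17, 14, 0, 12, 9, 8, 23, 19, 7, 16, 5, 18, 13, 4, 15, 11, 2, 1, 3, 10]

/-- An involution centralizing the element of order seven. -/
def i7 : List Nat := [9, 21, 16, 10, 4, 13, 6, 7, 8, 0, 3, 23, 14, 5, 12, 15, 2, 19, 18, 17, 20, 1, 22, 11]

/-- An element of order three centralizing the element of order seven. -/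
def t7 : List Nat := [9, 21, 16, 10, 17, 13, 5, 2, 3, 18, 8, 20, 15, 6, 12, 14, 7, 19, 0, 4, 23, 22, 1, 11]

/-- An involution with fixed points in the kernel on the tetrads. -/
def tB : List Nat := [1, 0, 23, 14, 13, 17, 6, 7, 8, 15, 20, 11, 12, 4, 3, 9, 22, 5, 18, 19, 10, 21, 16, 2]

end CfsgLib.Golay.BlockData
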