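/-
Centralizers and numbers of the elements of order 5, 7, 11, 23 in M₂₄, and of order 7, 11 in M₂₂.
-/
import Cfsg.Agent.Golay.InvCount
import Cfsg.Agent.Golay.BlockData
import Cfsg.Agent.Char.PrimeNormBound

set_option autoImplicit false

namespace CfsgLib.Golay.Cert

open Cfsg CfsgLib.Golay CfsgLib.Golay.BlockData MulAction
open scoped Pointwise

/-- The standard five positions are consecutive in a cycle. -/
def cycStart (X : List ℕ) : Bool :=
  X.getD 23 0 == 0 && X.getD 0 0 == 1 && X.getD 1 0 == 2 && X.getD 2 0 == 3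

/-- A bound for the centralizer. -/
def centBound (X : List ℕ) (n m : ℕ) : Bool :=
  cycStart X && decide (((List.range 24).filter fun i => X.getD i 0 != i).length ≤ n) &&
    decide ((fiveList.filter fun f => compL f X == compL X f).length ≤ m)

theorem card_centralizer_le {x : M24} {X : List ℕ} (hX : toList (x : Equiv.Perm GolayPt) = X)
    {n m : ℕ} (h : centBound X n m = true) :
    Nat.card (Subgroup.centralizer ({x} : Set M24)) ≤ n * m := by
  classical
  simp only [centBound, cycStart, Bool.and_eq_true, beq_iff_eq, decide_eq_true_eq] at h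
  obtain ⟨⟨⟨⟨⟨h0, h1⟩, h2⟩, h3⟩, hn⟩, hm⟩ := h
  set C := Subgroup.centralizer ({x} : Set M24)
  have hcomm : ∀ c ∈ C, ∀ p, (c : Equiv.Perm GolayPt) ((x : Equiv.Perm GolayPt) p) =
      (x : Equiv.Perm GolayPt) ((c : Equiv.Perm GolayPt) p) := by
    intro c hc p
    exact congrArg (fun z : M24 => (z : Equiv.Perm GolayPt) p) (Subgroup.mem_centralizer_singleton_iff.1 hc)
  have hxpt : ∀ i < 24, (x : Equiv.Perm GolayPt) (pt i) = pt (X.getD i 0) := by
    intro i hi
    rw [← hX, toList_getD _ hi, pt_idx]
  have horb : Nat.card (orbit C (pt 23)) ≤ n := by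
    let F := (((List.range 24).filter fun i => X.getD i 0 != i).map pt).toFinset
    have hsub : orbit C (pt 23) ⊆ (F : Set GolayPt) := by
      rintro _ ⟨c, rfl⟩
      simp only [F, List.coe_toFinset, Set.mem_ofPred_eq, List.mem_map, List.mem_filter, List.mem_range, bne_iff_ne]
      refine ⟨idx ((c : M24) • pt 23), ⟨idx_lt _, fun e => ?_⟩, pt_idx _⟩
      have h4 := hxpt _ (idx_lt ((c : M24) • pt 23))
      rw [e, pt_idx] at h4
      change (x : Equiv.Perm GolayPt) (((c : M24) : Equiv.Perm GolayPt) (pt 23)) =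
        ((c : M24) : Equiv.Perm GolayPt) (pt 23) at h4
      rw [← hcomm _ c.2, hxpt 23 (by norm_num), h0] at h4
      exact absurd (((c : M24) : Equiv.Perm GolayPt).injective h4) (by decide)
    calc Nat.card (orbit C (pt 23)) ≤ F.card := by
          rw [Nat.card_coe_set_eq, ← Set.ncard_coe_finset]
          exact Set.ncard_le_ncard hsub F.finite_toSet
      _ ≤ n := (List.toFinset_card_le _).trans (by rw [List.length_map]; exact hn)
  have hstab : Nat.card (stabilizer C (pt 23)) ≤ m := by
    let F := fiveList.filter fun f => compL f X == compL X f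
    have hmem : ∀ c : stabilizer C (pt 23), toList ((c.1 : M24) : Equiv.Perm GolayPt) ∈ F := by
      rintro ⟨⟨c, hc⟩, hfix⟩
      have e23 : (c : Equiv.Perm GolayPt) (pt 23) = pt 23 := hfix
      have step : ∀ i < 24, (c : Equiv.Perm GolayPt) (pt i) = pt i →
          (c : Equiv.Perm GolayPt) (pt (X.getD i 0)) = pt (X.getD i 0) := by
        intro i hi e
        rw [← hxpt i hi, hcomm c hc, e]
      have e0 := step 23 (by norm_num) e23
      rw [h0] at e0
      have e1 := step 0 (by norm_num) e0
      rw [h1] at e1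
      have e2 := step 1 (by norm_num) e1
      rw [h2] at e2
      have e3 := step 2 (by norm_num) e2
      rw [h3] at e3
      refine List.mem_filter.2 ⟨fixList_five c fun i hi => ?_, ?_⟩
      · simp only [q5, List.mem_cons, List.not_mem_nil, or_false] at hi
        rcases hi with rfl | rfl | rfl | rfl | rfl
        all_goals rw [toList_getD _ (by norm_num)]
        · rw [e23, idx_pt _ (by norm_num)]
        · rw [e0, idx_pt _ (by norm_num)]
        · rw [e1, idx_pt _ (by norm_num)]
        · rw [e2, idx_pt _ (by norm_num)]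
        · rw [e3, idx_pt _ (by norm_num)]
      · rw [beq_iff_eq, ← hX, ← toList_mul, ← toList_mul, ← Subgroup.coe_mul, ← Subgroup.coe_mul,
          Subgroup.mem_centralizer_singleton_iff.1 hc]
    calc Nat.card (stabilizer C (pt 23)) ≤ Nat.card (F.toFinset) :=
          Nat.card_le_card_of_injective (fun c => ⟨_, List.mem_toFinset.2 (hmem c)⟩)
            fun a b e => Subtype.ext (Subtype.ext (toList_coe_injective (congrArg Subtype.val e)))
      _ ≤ m := by
          rw [Nat.card_eq_finsetCard]
          exact (List.toFinset_card_le _).trans hm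
  calc Nat.card C = Nat.card (stabilizer C (pt 23)) * Nat.card (orbit C (pt 23)) := by
        rw [Nat.card_congr (orbitEquivQuotientStabilizer C (pt 23)), mul_comm,
          ← Subgroup.card_eq_card_quotient_mul_card_subgroup]
    _ ≤ n * m := by rw [mul_comm n m]; exact Nat.mul_le_mul hstab horb

/-- A normalizing pair: an element of order `p` and an element conjugating it to its `a`-th power. -/
def pairOK (X Y : List ℕ) (p a : ℕ) : Bool :=
  genOK X && genOK Y && ordB p X && (compL Y X == compL (powL X a) Y)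

theorem pairOK_spec {X Y : List ℕ} {p a : ℕ} [Fact p.Prime] (h : pairOK X Y p a = true) :
    ∃ x y : M24, toList (x : Equiv.Perm GolayPt) = X ∧ toList (y : Equiv.Perm GolayPt) = Y ∧
      orderOf x = p ∧ y * x * y⁻¹ = x ^ a := by
  simp only [pairOK, ordB, Bool.and_eq_true, bne_iff_ne, ne_eq, beq_iff_eq] at h
  obtain ⟨⟨⟨hX, hY⟩, h1, hp⟩, hc⟩ := h
  obtain ⟨x, hx⟩ := genOK_spec hX
  obtain ⟨y, hy⟩ := genOK_spec hY
  refine ⟨x, y, hx, hy, orderOf_eq_prime (toList_coe_injective ?_) (fun e => h1 ?_), ?_⟩
  · show toList ((x ^ p : M24) : Equiv.Perm GolayPt) = toList ((1 : M24) : Equiv.Perm GolayPt)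
    rw [SubgroupClass.coe_pow, toList_pow, hx, hp, OneMemClass.coe_one, toList_one]
  · rw [← hx, e, OneMemClass.coe_one, toList_one]
  · refine mul_inv_eq_iff_eq_mul.2 (toList_coe_injective ?_)
    show toList ((y * x : M24) : Equiv.Perm GolayPt) = toList ((x ^ a * y : M24) : Equiv.Perm GolayPt)
    rw [Subgroup.coe_mul, Subgroup.coe_mul, toList_mul, toList_mul, SubgroupClass.coe_pow, toList_pow,
      hx, hy, hc]

/-- An element commuting with a given one, of given prime order. -/
def centOK (X Z : List ℕ) (p : ℕ) : Bool := genOK Z && ordB p Z && (compL Z X == compL X Z)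

theorem centOK_spec {x : M24} {X Z : List ℕ} (hx : toList (x : Equiv.Perm GolayPt) = X) {p : ℕ}
    [Fact p.Prime] (h : centOK X Z p = true) :
    ∃ z : M24, toList (z : Equiv.Perm GolayPt) = Z ∧ orderOf z = p ∧
      z ∈ Subgroup.centralizer ({x} : Set M24) := by
  simp only [centOK, ordB, Bool.and_eq_true, bne_iff_ne, ne_eq, beq_iff_eq] at h
  obtain ⟨⟨hZ, h1, hp⟩, hc⟩ := h
  obtain ⟨z, hz⟩ := genOK_spec hZ
  refine ⟨z, hz, orderOf_eq_prime (toList_coe_injective ?_) (fun e => h1 ?_), ?_⟩
  · show toList ((z ^ p : M24) : Equiv.Perm GolayPt) = toList ((1 : M24) : Equiv.Perm GolayPt)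
    rw [SubgroupClass.coe_pow, toList_pow, hz, hp, OneMemClass.coe_one, toList_one]
  · rw [← hz, e, OneMemClass.coe_one, toList_one]
  · rw [Subgroup.mem_centralizer_singleton_iff]
    refine toList_coe_injective ?_
    show toList ((z * x : M24) : Equiv.Perm GolayPt) = toList ((x * z : M24) : Equiv.Perm GolayPt)
    rw [Subgroup.coe_mul, Subgroup.coe_mul, toList_mul, toList_mul, hx, hz, hc]

/-- Elements of an order with Sylow subgroups of that order have centralizers of equal size. -/
theorem card_centralizer_eq {G : Type*} [Group G] [Finite G] {p : ℕ} [Fact p.Prime]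
    (hG : ¬ p ^ 2 ∣ Nat.card G) {x u : G} (hx : orderOf x = p) (hu : orderOf u = p) :
    Nat.card (Subgroup.centralizer ({u} : Set G)) = Nat.card (Subgroup.centralizer ({x} : Set G)) := by
  obtain ⟨k, hk, hc⟩ := PrimeNorm.exists_isConj_pow hG hx hu
  obtain ⟨c, hc⟩ := isConj_iff.1 hc
  have hz : Subgroup.zpowers (x ^ k) = Subgroup.zpowers x := by
    refine Subgroup.eq_of_le_of_card_ge (Subgroup.zpowers_le.2 (Subgroup.npow_mem_zpowers x k)) ?_
    rw [Nat.card_zpowers, Nat.card_zpowers, hx,
      Nat.Coprime.orderOf_pow (by rw [hx]; exact ((Fact.out : p.Prime).coprime_iff_not_dvd.2 hk)), hx]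
  have hC : Subgroup.centralizer ({x ^ k} : Set G) = Subgroup.centralizer ({x} : Set G) := by
    have e : ∀ w : G, Subgroup.centralizer (Subgroup.zpowers w : Set G) = Subgroup.centralizer ({w} : Set G) :=
      fun w => by rw [Subgroup.zpowers_eq_closure, Subgroup.centralizer_closure]
    rw [← e, ← e, hz]
  rw [← hC, ← hc, show ({c * x ^ k * c⁻¹} : Set G) = (MulAut.conj c).toMonoidHom '' {x ^ k} by simp]
  have : Subgroup.centralizer ((MulAut.conj c).toMonoidHom '' {x ^ k}) =
      (Subgroup.centralizer ({x ^ k} : Set G)).map (MulAut.conj c).toMonoidHom := by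
    ext g
    rw [Subgroup.mem_map_equiv, Set.image_singleton, Subgroup.mem_centralizer_singleton_iff,
      Subgroup.mem_centralizer_singleton_iff]
    simp only [MulEquiv.toMonoidHom_eq_coe, MonoidHom.coe_coe, MulAut.conj_apply, MulAut.conj_symm_apply]
    constructor
    · intro h
      calc c⁻¹ * g * c * x ^ k = c⁻¹ * (g * (c * x ^ k * c⁻¹)) * c := by group
        _ = c⁻¹ * (c * x ^ k * c⁻¹ * g) * c := by rw [h]
        _ = x ^ k * (c⁻¹ * g * c) := by group
    · intro h
      calc g * (c * x ^ k * c⁻¹) = c * (c⁻¹ * g * c * x ^ k) * c⁻¹ := by group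
        _ = c * (x ^ k * (c⁻¹ * g * c)) * c⁻¹ := by rw [h]
        _ = c * x ^ k * c⁻¹ * g := by group
  rw [this, Subgroup.card_map_of_injective (MulAut.conj c).injective]

theorem bounds_ok : centBound x5 20 3 = true ∧ centBound x7 21 2 = true ∧
    centBound x11 22 1 = true ∧ centBound x23 23 1 = true := by decide +kernel

theorem pairs_ok : pairOK x5 y5 5 2 = true ∧ pairOK x7 y7 7 2 = true ∧
    pairOK x11 y11 11 3 = true ∧ pairOK x23 y23 23 2 = true ∧
    pairOK u7 v7 7 2 = true ∧ pairOK u11 v11 11 3 = true := by decide +kernel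

theorem cents_ok : centOK x5 a5 2 = true ∧ centOK x5 b5 2 = true ∧ centOK x7 i7 2 = true ∧
    centOK x7 t7 3 = true ∧ compL a5 b5 = compL b5 a5 ∧ a5 ≠ b5 := by decide +kernel

theorem dvd_centralizer_of_mem {G : Type*} [Group G] [Finite G] {x z : G}
    (h : z ∈ Subgroup.centralizer ({x} : Set G)) :
    orderOf z ∣ Nat.card (Subgroup.centralizer ({x} : Set G)) := Subgroup.orderOf_dvd_natCard _ h

theorem four_dvd_centralizer {G : Type*} [Group G] [Finite G] {x a b : G} (ha : orderOf a = 2)
    (hb : orderOf b = 2) (hab : a * b = b * a) (hne : a ≠ b)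
    (hax : a ∈ Subgroup.centralizer ({x} : Set G)) (hbx : b ∈ Subgroup.centralizer ({x} : Set G)) :
    4 ∣ Nat.card (Subgroup.centralizer ({x} : Set G)) := by
  haveI : Fact (Nat.Prime 2) := ⟨Nat.prime_two⟩
  have hpg : ∀ v : G, orderOf v = 2 → IsPGroup 2 (Subgroup.zpowers v) := fun v hv =>
    IsPGroup.of_card (n := 1) (by rw [Nat.card_zpowers, hv, pow_one])
  have haN : Subgroup.zpowers b ≤ Subgroup.normalizer (Subgroup.zpowers a : Set G) := by
    refine Subgroup.zpowers_le.2 (Subgroup.centralizer_le_normalizer _ ?_)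
    rw [Subgroup.mem_centralizer_iff]
    rintro _ ⟨n, rfl⟩
    exact ((show Commute a b from hab).zpow_left n).eq
  set K := Subgroup.zpowers a ⊔ Subgroup.zpowers b with hK
  obtain ⟨k, hk⟩ := IsPGroup.iff_card.1 (IsPGroup.to_sup_of_normal_left' (hpg a ha) (hpg b hb) haN)
  have hle : K ≤ Subgroup.centralizer ({x} : Set G) :=
    sup_le (Subgroup.zpowers_le.2 hax) (Subgroup.zpowers_le.2 hbx)
  refine dvd_trans ?_ (Subgroup.card_dvd_of_le hle)
  have h3 : 2 < Nat.card K := by
    have hsub : ({1, a, b} : Set G) ⊆ (K : Set G) := by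
      rintro v (rfl | rfl | rfl)
      exacts [K.one_mem, le_sup_left (a := Subgroup.zpowers v) (Subgroup.mem_zpowers v),
        le_sup_right (a := Subgroup.zpowers a) (Subgroup.mem_zpowers v)]
    have h1 : a ≠ 1 := fun e => by rw [e, orderOf_one] at ha; norm_num at ha
    have h2 : b ≠ 1 := fun e => by rw [e, orderOf_one] at hb; norm_num at hb
    have := Set.ncard_le_ncard hsub (Set.toFinite _)
    rw [Set.ncard_insert_of_notMem (by simp [Ne.symm h1, Ne.symm h2]) (Set.toFinite _),
      Set.ncard_pair hne] at this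
    rw [← SetLike.coe_sort_coe, Nat.card_coe_set_eq]
    omega
  rw [hk] at h3 ⊢
  have : 2 ≤ k := by
    by_contra h
    have hkle : 2 ^ k ≤ 2 ^ 1 := Nat.pow_le_pow_right (by norm_num) (by omega)
    omega
  exact Dvd.dvd.trans (by norm_num) (pow_dvd_pow 2 this)

end CfsgLib.Golay.Cert
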