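/-
Centralizers of involutions in M₂₄ and M₂₂, for the local theory of blocks at two.
-/
import Cfsg.Agent.Golay.InvCount
import Cfsg.Agent.Golay.PrimeCentralizer
import Cfsg.Agent.Golay.OctadStab
import Cfsg.Agent.Golay.BlockData
import Cfsg.Agent.Blocks.NormalSub

set_option autoImplicit false

namespace CfsgLib.Golay.Cert

open Cfsg CfsgLib.Golay MulAction
open scoped Pointwise

set_option linter.style.haveILetI false

theorem disjoint_octad_exists : (List.range 4096).any (fun x =>
    decide (wt 24 (word x) = 8) && (word x &&& baseOctad == 0)) = true := by decide +kernel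

/-- Every octad misses another one. -/
theorem exists_disjoint_octad {o : Finset GolayPt} (ho : o ∈ octads) :
    ∃ o' ∈ octads, Disjoint o o' := by
  obtain ⟨x, hx, hx'⟩ := List.any_eq_true.mp disjoint_octad_exists
  simp only [Bool.and_eq_true, decide_eq_true_eq, beq_iff_eq] at hx'
  have hm : pts (word x) ∈ octads := (mem_octads_iff _).mpr ⟨x, List.mem_range.mp hx, hx'.1, rfl⟩
  have hd : Disjoint (pts baseOctad) (pts (word x)) := by
    rw [Finset.disjoint_left]
    intro p h1 h2
    rw [mem_pts] at h1 h2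
    have := congrArg (fun n => n.testBit (idx p)) hx'.2
    simp [Nat.testBit_and, h1, h2] at this
  obtain ⟨a, ha⟩ := octad_transitive pts_baseOctad_mem ho
  refine ⟨a • pts (word x), smul_mem_octads' a hm, ?_⟩
  rw [← ha, Finset.disjoint_left]
  intro p h1 h2
  obtain ⟨q, hq, rfl⟩ := Finset.mem_smul_finset.mp h1
  rw [smul_mem_iff'] at h2
  exact Finset.disjoint_left.mp hd hq h2

/-- An element fixing every point outside an octad is trivial. -/
theorem eq_one_of_fix_outside {o : Finset GolayPt} (ho : o ∈ octads) {g : M24}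
    (h : ∀ p ∉ o, (g : Equiv.Perm GolayPt) p = p) : g = 1 := by
  obtain ⟨o', ho', hd⟩ := exists_disjoint_octad ho
  obtain ⟨p, -, hp⟩ := Finset.exists_mem_notMem_of_card_lt_card (s := o ∪ o') (t := Finset.univ) (by
    rw [Finset.card_union_of_disjoint hd, octad_card ho, octad_card ho', Finset.card_univ, card_golayPt]
    norm_num)
  rw [Finset.mem_union, not_or] at hp
  exact eq_one_of_fix ho' hp.2 (fun x hx => h x (Finset.disjoint_right.mp hd hx)) (h p hp.1)

theorem fixed_octad_of_point {t : M24} (ht : orderOf t = 2) {a : GolayPt}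
    (ha : (t : Equiv.Perm GolayPt) a = a) : fixedPts (t : Equiv.Perm GolayPt) ∈ octads := by
  obtain ⟨k, hk⟩ := two_cases ht
  rcases hk with ⟨-, h, -⟩ | ⟨-, h⟩
  · exact h
  · rw [Finset.card_eq_zero] at h
    have : a ∈ fixedPts (t : Equiv.Perm GolayPt) := by simp [ha]
    rw [h] at this
    simp at this

theorem comm_of_sq {G : Type*} [Group G] {a b : G} (ha : a * a = 1) (hb : b * b = 1)
    (hab : a * b * (a * b) = 1) : a * b = b * a := by
  calc a * b = (a * b)⁻¹ := (inv_eq_of_mul_eq_one_right hab).symm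
    _ = b * a := by rw [mul_inv_rev, inv_eq_of_mul_eq_one_right ha, inv_eq_of_mul_eq_one_right hb]

/-- The centralizer of an involution with fixed points has one block, inside any subgroup
containing the pointwise stabilizer of the fixed octad. -/
theorem sameBlock_centralizer {G : Type*} [Group G] [Fintype G] {M : Ideal AlgInt}
    (hM : IsPModular 2 M) (f : G →* M24) (hf : Function.Injective f) {t : G} (ht : orderOf t = 2)
    {a : GolayPt} (ha : (f t : Equiv.Perm GolayPt) a = a)
    (hQ : ∀ g : M24, (∀ x, (f t : Equiv.Perm GolayPt) x = x → (g : Equiv.Perm GolayPt) x = x) →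
      g ∈ f.range) :
    ∀ χ ψ : IrrCharacter (Subgroup.centralizer ({t} : Set G)),
    SameBlock M (χ : Subgroup.centralizer ({t} : Set G) → ℂ)
      (ψ : Subgroup.centralizer ({t} : Set G) → ℂ) := by
  classical
  haveI := hM.2.1.isPrime
  letI : Fintype (Subgroup.centralizer ({t} : Set G)) := Fintype.ofFinite _
  have hft : orderOf (f t) = 2 := by rw [orderOf_injective f hf, ht]
  set o := fixedPts (f t : Equiv.Perm GolayPt) with ho_def
  have ho : o ∈ octads := fixed_octad_of_point hft ha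
  have hmem : ∀ x, x ∈ o ↔ (f t : Equiv.Perm GolayPt) x = x := by intro x; simp [ho_def]
  set H := Subgroup.centralizer ({t} : Set G)
  have hcommt : ∀ (h : H) x, (f h : Equiv.Perm GolayPt) ((f t : Equiv.Perm GolayPt) x) =
      (f t : Equiv.Perm GolayPt) ((f h : Equiv.Perm GolayPt) x) := by
    intro h x
    have := congrArg f (Subgroup.mem_centralizer_singleton_iff.1 h.2)
    rw [map_mul, map_mul] at this
    exact congrArg (fun z : M24 => (z : Equiv.Perm GolayPt) x) this
  have hinv : ∀ (h : H) x, (f h : Equiv.Perm GolayPt) x ∈ o ↔ x ∈ o := by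
    intro h x
    rw [hmem, hmem, ← hcommt]
    exact (f h : Equiv.Perm GolayPt).injective.eq_iff
  let Q : Subgroup H := (fixingSubgroup (Equiv.Perm GolayPt) (o : Set GolayPt)).comap
    ((M24.subtype.comp f).comp H.subtype)
  have hQmem : ∀ h : H, h ∈ Q ↔ ∀ x ∈ o, (f h : Equiv.Perm GolayPt) x = x := by
    intro h
    show (f h : Equiv.Perm GolayPt) ∈ fixingSubgroup (Equiv.Perm GolayPt) (o : Set GolayPt) ↔ _
    rw [mem_fix_iff]
  haveI : Q.Normal := ⟨fun q hq h => by
    rw [hQmem] at hq ⊢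
    intro x hx
    simp only [Subgroup.coe_mul, Subgroup.coe_inv, map_mul, map_inv, Equiv.Perm.mul_apply]
    have hy : (f h : Equiv.Perm GolayPt)⁻¹ x ∈ o := by
      rw [← hinv h, Equiv.Perm.inv_def, Equiv.apply_symm_apply]; exact hx
    rw [hq _ hy, Equiv.Perm.inv_def, Equiv.apply_symm_apply]⟩
  have hsq : ∀ g : M24, (∀ x ∈ o, (g : Equiv.Perm GolayPt) x = x) → g * g = 1 := fun g hg =>
    Subtype.ext ((octad_fixing ho).2 _ ⟨g.2, mem_fix_iff.2 hg⟩)
  have hQp : IsPGroup 2 Q := fun q => ⟨1, by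
    refine Subtype.ext (Subtype.ext (hf ?_))
    simp only [pow_one, pow_two, Subgroup.coe_mul, map_mul, OneMemClass.coe_one, map_one]
    exact hsq _ ((hQmem q.1).1 q.2)⟩
  have hlift : ∀ g : M24, (∀ x ∈ o, (g : Equiv.Perm GolayPt) x = x) → ∃ q : H, q ∈ Q ∧ f q = g := by
    intro g hg
    obtain ⟨q, rfl⟩ := hQ g fun x hx => hg x ((hmem x).2 hx)
    have hct : f q * f t = f t * f q := comm_of_sq (hsq _ hg) (hsq _ fun x hx => (hmem x).1 hx)
      (hsq _ fun x hx => by rw [Subgroup.coe_mul, Equiv.Perm.mul_apply, (hmem x).1 hx, hg x hx])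
    refine ⟨⟨q, Subgroup.mem_centralizer_singleton_iff.2 (hf (by rw [map_mul, map_mul]; exact hct))⟩,
      (hQmem _).2 hg, rfl⟩
  refine fun χ ψ => CfsgLib.Block.sameBlock_of_constrained hM Q hQp (fun c hc => ?_) χ ψ
  obtain ⟨p, -, hp⟩ := Finset.exists_mem_notMem_of_card_lt_card (s := o) (t := Finset.univ) (by
    rw [octad_card ho, Finset.card_univ, card_golayPt]; norm_num)
  have hcp : (f c : Equiv.Perm GolayPt) p ∉ o := fun h => hp ((hinv c p).1 h)
  obtain ⟨g, hg, hgp⟩ := exists_fix_map ho hp hcp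
  obtain ⟨q, hqQ, rfl⟩ := hlift g hg
  suffices h : (f q)⁻¹ * f c = 1 by
    rw [inv_mul_eq_one] at h
    rwa [← Subtype.ext (hf h) (a1 := q) (a2 := c)]
  refine eq_one_of_fix_outside ho fun r hr => ?_
  obtain ⟨g', hg', hg'p⟩ := exists_fix_map ho hp hr
  obtain ⟨q', hq'Q, rfl⟩ := hlift g' hg'
  have e1 : c * q' = q' * c := (Subgroup.mem_centralizer_iff.1 hc q' hq'Q).symm
  have e2 : f q * f q' = f q' * f q := comm_of_sq (hsq _ hg) (hsq _ hg')
    (hsq _ fun x hx => by rw [Subgroup.coe_mul, Equiv.Perm.mul_apply, hg' x hx, hg x hx])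
  have e1' : f c * f q' = f q' * f c := by
    rw [← map_mul, ← map_mul, ← Subgroup.coe_mul, ← Subgroup.coe_mul, e1]
  have e3 : (f q)⁻¹ * f c * f q' = f q' * ((f q)⁻¹ * f c) := by
    rw [mul_assoc, e1', ← mul_assoc, ← mul_assoc]
    congr 1
    exact (show Commute (f q) (f q') from e2).inv_left.eq
  have hfix : (((f q)⁻¹ * f c : M24) : Equiv.Perm GolayPt) p = p := by
    show (f q : Equiv.Perm GolayPt)⁻¹ ((f c : Equiv.Perm GolayPt) p) = p
    rw [Equiv.Perm.inv_def, Equiv.symm_apply_eq]
    exact hgp.symm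
  rw [← hg'p]
  have h4 := congrArg (fun z : M24 => (z : Equiv.Perm GolayPt) p) e3
  change (((f q)⁻¹ * f c : M24) : Equiv.Perm GolayPt) ((f q' : Equiv.Perm GolayPt) p) =
    (f q' : Equiv.Perm GolayPt) ((((f q)⁻¹ * f c : M24) : Equiv.Perm GolayPt) p) at h4
  rw [hfix] at h4
  exact h4

theorem rep2B_sq : powL rep2B 2 = List.range 24 := by decide +kernel

theorem centOK_spec' {x : M24} {X Z : List ℕ} (hx : toList (x : Equiv.Perm GolayPt) = X)
    (h : genOK Z = true ∧ ordB 2 Z = true ∧ compL Z X = compL X Z) :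
    ∃ z : M24, toList (z : Equiv.Perm GolayPt) = Z ∧ orderOf z = 2 ∧
      z ∈ Subgroup.centralizer ({x} : Set M24) := by
  haveI : Fact (Nat.Prime 2) := ⟨Nat.prime_two⟩
  exact centOK_spec hx (by simp [centOK, h.1, h.2.1, h.2.2])

/-- The sextets all of whose tetrads are invariant under a list. -/
def tetInv (L : List ℕ) : List ℕ :=
  (List.range sextCat.size).filter fun i => (sextCat.obj i).all fun m => permF L m == m

theorem tetInv_rep2B : (tetInv rep2B).length = 1 ∧ genOK BlockData.tB = true ∧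
    (tetInv rep2B).all (fun i => (sextCat.obj i).all fun m => permF BlockData.tB m == m) = true ∧
    ordB 2 BlockData.tB = true ∧ compL BlockData.tB rep2B = compL rep2B BlockData.tB ∧
    (fixSet BlockData.tB).card = 8 := by decide +kernel

theorem perm_four_pow : ∀ g z : Equiv.Perm (Fin 4), (∀ i, z i ≠ i) → z * z = 1 → g * z = z * g →
    g * g * (g * g) = 1 := by decide +kernel

/-- In the centralizer of an involution without fixed points, a normal 2-subgroup contains an
involution with fixed points. -/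
theorem exists_normal_two {z : M24} (hz : toList (z : Equiv.Perm GolayPt) = rep2B) :
    ∃ K : Subgroup M24, ∃ t ∈ K, K ≤ Subgroup.centralizer ({z} : Set M24) ∧
      (K.subgroupOf (Subgroup.centralizer ({z} : Set M24))).Normal ∧ IsPGroup 2 K ∧
      orderOf t = 2 ∧ ∃ a, (t : Equiv.Perm GolayPt) a = a := by
  classical
  haveI : Fact (Nat.Prime 2) := ⟨Nat.prime_two⟩
  obtain ⟨hlen, hgen, hall, hord, hcomm, hfix⟩ := tetInv_rep2B
  obtain ⟨i₀, hi₀⟩ := List.length_eq_one_iff.mp hlen
  have hi₀m : i₀ ∈ tetInv rep2B := by rw [hi₀]; simp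
  obtain ⟨hlt, hzi⟩ := List.mem_filter.mp hi₀m
  rw [List.mem_range] at hlt
  rw [List.all_eq_true] at hzi hall
  have hti := hall i₀ hi₀m
  rw [List.all_eq_true] at hti
  have hcan := cats_canon.2.2.1
  set S := toObj (sextCat.obj i₀) with hS
  have hSs : S ∈ sextets := sextets_cat.1.ge ⟨i₀, hlt, rfl⟩
  have hfixS : ∀ (g : M24) (L : List ℕ), toList (g : Equiv.Perm GolayPt) = L →
      (∀ m ∈ sextCat.obj i₀, (permF L m == m) = true) → ∀ T ∈ S, g • T = T := by
    intro g L hL h T hT
    obtain ⟨m, hm, rfl⟩ := mem_toObj.mp hT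
    rw [smul_finset_eq_image, ← pts_permF, hL, beq_iff_eq.mp (h m hm)]
  have hzS := hfixS z rep2B hz hzi
  have huniq : ∀ h ∈ Subgroup.centralizer ({z} : Set M24), h • S = S := by
    intro h hh
    obtain ⟨j, hj, hje⟩ := sextets_cat.2 h S ⟨i₀, hlt, rfl⟩
    have hj' : j ∈ tetInv rep2B := by
      refine List.mem_filter.mpr ⟨List.mem_range.mpr hj, List.all_eq_true.mpr fun m hm => beq_iff_eq.mpr ?_⟩
      have hmem : pts m ∈ h • S := hje ▸ mem_toObj.mpr ⟨m, hm, rfl⟩
      obtain ⟨T, hT, hTm⟩ := Finset.mem_smul_finset.mp hmem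
      have hzm : z • pts m = pts m := by
        rw [← hTm, ← mul_smul, ← Subgroup.mem_centralizer_singleton_iff.1 hh, mul_smul, hzS T hT]
      rw [smul_finset_eq_image, ← pts_permF, hz] at hzm
      have h24 := (canonL_spec (sextCat.canonL_obj hcan hj)).2 m hm
      exact pts_inj (hz ▸ permF_lt _ _) h24 hzm
    rw [hi₀, List.mem_singleton] at hj'
    rw [← hje, hj']
  obtain ⟨t, ht, hto, htc⟩ : ∃ t : M24, toList (t : Equiv.Perm GolayPt) = BlockData.tB ∧
      orderOf t = 2 ∧ t ∈ Subgroup.centralizer ({z} : Set M24) := by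
    refine centOK_spec' hz ?_
    exact ⟨hgen, hord, hcomm⟩
  let K : Subgroup M24 :=
    Subgroup.centralizer ({z} : Set M24) ⊓ ⨅ T ∈ S, MulAction.stabilizer M24 T
  have hK : ∀ g, g ∈ K ↔ g ∈ Subgroup.centralizer ({z} : Set M24) ∧ ∀ T ∈ S, g • T = T := by
    intro g; simp [K, Subgroup.mem_iInf]
  obtain ⟨a, ha⟩ : ∃ a, a ∈ fixSet BlockData.tB := Finset.card_pos.mp (by rw [hfix]; norm_num)
  refine ⟨K, t, (hK t).2 ⟨htc, hfixS t _ ht hti⟩, fun g hg => ((hK g).1 hg).1, ⟨?_⟩, ?_, hto, a, ?_⟩
  · rintro ⟨k, hk'⟩ hk ⟨h, hh⟩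
    rw [Subgroup.mem_subgroupOf] at hk ⊢
    obtain ⟨hkC, hkS⟩ := (hK k).1 hk
    refine (hK _).2 ⟨mul_mem (mul_mem hh hkC) (inv_mem hh), fun T hT => ?_⟩
    have : h⁻¹ • T ∈ S := by
      rw [← huniq h⁻¹ (inv_mem hh)]
      exact Finset.smul_mem_smul_finset hT
    show (h * k * h⁻¹) • T = T
    rw [mul_smul, mul_smul, hkS _ this, smul_inv_smul]
  · rintro ⟨g, hg⟩
    obtain ⟨hgC, hgS⟩ := (hK g).1 hg
    refine ⟨2, Subtype.ext ?_⟩
    show g ^ 4 = 1
    refine Subtype.ext (Equiv.ext fun p => ?_)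
    obtain ⟨T, hT, hpT⟩ := sextet_cover hSs p
    have hiff : ∀ (u : M24), u • T = T → ∀ x, (u : Equiv.Perm GolayPt) x ∈ T ↔ x ∈ T := fun u hu x => by
      conv_lhs => rw [← hu]
      exact smul_mem_iff' u
    let e : ↥T ≃ Fin 4 := T.equivFinOfCardEq (hSs.2.1 T hT)
    let g' : Equiv.Perm (Fin 4) := e.permCongr ((g : Equiv.Perm GolayPt).subtypePerm (hiff g (hgS T hT)))
    let z' : Equiv.Perm (Fin 4) := e.permCongr ((z : Equiv.Perm GolayPt).subtypePerm (hiff z (hzS T hT)))
    have hfree : ∀ x, (z : Equiv.Perm GolayPt) x ≠ x := by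
      intro x hx
      have : x ∈ fixSet rep2B := by
        rw [fixSet, ← hz, ← fixedPts_eq]; simp [hx]
      rw [fixSet_spec.2.2.1] at this
      simp at this
    have hz2 : z ^ 2 = 1 := toList_coe_injective (by
      show toList ((z ^ 2 : M24) : Equiv.Perm GolayPt) = toList ((1 : M24) : Equiv.Perm GolayPt)
      rw [SubgroupClass.coe_pow, toList_pow, hz, OneMemClass.coe_one, toList_one]
      exact rep2B_sq)
    have h4 := perm_four_pow g' z' (fun i h => hfree (e.symm i) (by
        have := congrArg (fun w => ((e.symm w : ↥T) : GolayPt)) h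
        simpa [z'] using this))
      (Equiv.ext fun i => by
        apply e.symm.injective
        apply Subtype.ext
        have := congrArg (fun w : M24 => (w : Equiv.Perm GolayPt) (e.symm i)) hz2
        simpa [z', pow_two] using this)
      (Equiv.ext fun i => by
        apply e.symm.injective
        apply Subtype.ext
        have := congrArg (fun w : M24 => (w : Equiv.Perm GolayPt) (e.symm i))
          (Subgroup.mem_centralizer_singleton_iff.1 hgC)
        simpa [z', g'] using this)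
    have := congrArg (fun w : Equiv.Perm (Fin 4) => ((e.symm (w (e ⟨p, hpT⟩)) : ↥T) : GolayPt)) h4
    simp only [g', Equiv.Perm.mul_apply, Equiv.permCongr_apply, Equiv.symm_apply_apply,
      Equiv.Perm.subtypePerm_apply, Equiv.Perm.one_apply] at this
    simpa [pow_succ] using this
  · have := (Finset.mem_filter.mp ha).2
    rw [← ht, toList_getD_idx] at this
    exact idx_injective this

end CfsgLib.Golay.Cert
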