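/-
Commuting elements of orders three and two.
-/
import Cfsg.Agent.Golay.InvCount

set_option autoImplicit false

namespace CfsgLib.Golay.Cert

open Cfsg CfsgLib.Golay
open scoped Pointwise

theorem comm_ok :
    (∀ f ∈ fixSix 5, ordB 3 f = false) ∧ genOK pat2B4 = true ∧ genOK pat2B5 = true ∧
    ∀ f ∈ fixSix 4, ∀ f' ∈ fixSix 4, ordB 3 f = true → ordB 2 (compL pat2B4 f') = true →
      compL (compL pat2B4 f') f ≠ compL f (compL pat2B4 f') := by decide +kernel

theorem ordB_of {g : M24} {p : ℕ} (h1 : g ≠ 1) (hp : g ^ p = 1) :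
    ordB p (toList (g : Equiv.Perm GolayPt)) = true := by
  simp only [ordB, Bool.and_eq_true, bne_iff_ne, ne_eq, beq_iff_eq]
  refine ⟨fun e => h1 (toList_coe_injective (e.trans toList_one.symm)), ?_⟩
  rw [← toList_pow, ← SubgroupClass.coe_pow, hp]
  exact toList_one

/-- A fixed-point-free involution commutes with no element of order three with six fixed points. -/
theorem not_comm_six {x s : M24} (hx : orderOf x = 3) (hs : orderOf s = 2) (hc : x * s = s * x)
    (hx6 : (fixedPts (x : Equiv.Perm GolayPt)).card = 6) (hs0 : (fixedPts (s : Equiv.Perm GolayPt)).card = 0) :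
    False := by
  have hfree : ∀ p, (s : Equiv.Perm GolayPt) p ≠ p := fun p h => by
    rw [Finset.card_eq_zero, Finset.filter_eq_empty_iff] at hs0
    exact hs0 (Finset.mem_univ p) h
  set t := (s : Equiv.Perm GolayPt) with ht
  have hinv : ∀ p, t (t p) = p := by
    intro p
    have := congrArg (fun z : M24 => (z : Equiv.Perm GolayPt) p) (hs ▸ pow_orderOf_eq_one s : s ^ 2 = 1)
    simpa [pow_two] using this
  set E := fixedPts (x : Equiv.Perm GolayPt) with hE
  have hEt : ∀ p ∈ E, t p ∈ E := by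
    intro p hp
    simp only [hE, fixedPts, Finset.mem_filter, Finset.mem_univ, true_and] at hp ⊢
    have := congrArg (fun z : M24 => (z : Equiv.Perm GolayPt) p) hc
    simp only [Subgroup.coe_mul, Equiv.Perm.mul_apply, hp] at this
    exact this
  obtain ⟨a, ha⟩ : E.Nonempty := Finset.card_pos.mp (by omega)
  obtain ⟨b, hbE, hb⟩ : ∃ b ∈ E, b ∉ ({a, t a} : Finset GolayPt) :=
    Finset.exists_mem_notMem_of_card_lt_card (lt_of_le_of_lt Finset.card_le_two (by omega))
  obtain ⟨c, hcE, hcn⟩ : ∃ c ∈ E, c ∉ ({a, t a, b, t b} : Finset GolayPt) :=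
    Finset.exists_mem_notMem_of_card_lt_card (lt_of_le_of_lt Finset.card_le_four (by omega))
  simp only [Finset.mem_insert, Finset.mem_singleton, not_or] at hb hcn
  obtain ⟨g, hg, j, hj, hgj⟩ := normal_six [a, t a, b, t b, c, t c] rfl (by
    simp only [List.nodup_cons, List.mem_cons, List.not_mem_nil, or_false, not_or, List.nodup_nil]
    refine ⟨⟨Ne.symm (hfree a), Ne.symm hb.1, fun e => hb.2 ?_, Ne.symm hcn.1, fun e => hcn.2.1 ?_⟩,
      ⟨Ne.symm hb.2, fun e => hb.1 (t.injective e).symm, Ne.symm hcn.2.1, fun e => hcn.1 (t.injective e).symm⟩,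
      ⟨Ne.symm (hfree b), Ne.symm hcn.2.2.1, fun e => hcn.2.2.2 ?_⟩,
      ⟨Ne.symm hcn.2.2.2, fun e => hcn.2.2.1 (t.injective e).symm⟩, Ne.symm (hfree c), not_false, trivial⟩
    · rw [e, hinv]
    · rw [e, hinv]
    · rw [e, hinv])
  have hgl : ∀ i < (q6 j).length, (g : Equiv.Perm GolayPt) (pt ((q6 j).getD i 0)) =
      [a, t a, b, t b, c, t c].getD i none := by
    intro i hi
    have hi' : i < 6 := by simpa [q6, q5] using hi
    interval_cases i
    exacts [hg 0 (by norm_num), hg 1 (by norm_num), hg 2 (by norm_num), hg 3 (by norm_num), hg 4 (by norm_num), hgj]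
  have hxfix : ∀ i < 6, (x : Equiv.Perm GolayPt) ([a, t a, b, t b, c, t c].getD i none) =
      [a, t a, b, t b, c, t c].getD i none := by
    intro i hi
    have hm : ∀ p ∈ E, (x : Equiv.Perm GolayPt) p = p := fun p hp => by simpa [hE, fixedPts] using hp
    interval_cases i
    exacts [hm _ ha, hm _ (hEt _ ha), hm _ hbE, hm _ (hEt _ hbE), hm _ hcE, hm _ (hEt _ hcE)]
  have hσ : ∀ i < 6, t ([a, t a, b, t b, c, t c].getD i none) =
      [a, t a, b, t b, c, t c].getD ([1, 0, 3, 2, 5, 4].getD i 0) none := by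
    intro i hi
    interval_cases i
    exacts [rfl, hinv a, rfl, hinv b, rfl, hinv c]
  obtain ⟨hx1, hx3⟩ := conj_pow_ne (g := g) (σ := x) (p := 3) (fun e => by simp [e] at hx) (hx ▸ pow_orderOf_eq_one x)
  obtain ⟨hs1, hs2⟩ := conj_pow_ne (g := g) (σ := s) (p := 2) (fun e => by simp [e] at hs) (hs ▸ pow_orderOf_eq_one s)
  have hxmem : toList ((g⁻¹ * x * g : M24) : Equiv.Perm GolayPt) ∈ fixSix j := by
    refine fixList_six j _ fun i hi => ?_
    have hlt : i < 24 := by rcases hj with rfl | rfl <;> revert i <;> decide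
    obtain ⟨n, hn, rfl⟩ := List.mem_iff_getElem.mp hi
    have hn' : n < 6 := by simpa [q6, q5] using hn
    rw [toList_getD _ hlt, ← List.getD_eq_getElem _ 0 hn, Subgroup.coe_mul, Subgroup.coe_mul,
      Equiv.Perm.mul_apply, Equiv.Perm.mul_apply, hgl n hn, hxfix n hn', ← hgl n hn,
      Subgroup.coe_inv, Equiv.Perm.inv_def, Equiv.symm_apply_apply,
      idx_pt _ (by rw [List.getD_eq_getElem _ 0 hn]; exact hlt)]
  rcases hj with rfl | rfl
  · have := comm_ok.1 _ hxmem
    rw [ordB_of hx1 hx3] at this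
    cases this
  · have hag := agree_conj (Qf := q6 4) (n := 6) (π := [1, 0, 3, 2, 5, 4]) (g0 := pat2B4)
      (by decide +kernel) (by decide) hgl hσ
    obtain ⟨f', hf', hfe⟩ := List.mem_map.mp (coset_mem (Q := q6 4) (by decide) (fixList_six 4) comm_ok.2.1 hag)
    refine comm_ok.2.2.2 _ hxmem f' hf' (ordB_of hx1 hx3) (hfe ▸ ordB_of hs1 hs2) ?_
    rw [hfe, ← toList_mul, ← toList_mul, ← Subgroup.coe_mul, ← Subgroup.coe_mul]
    refine congrArg (fun z : M24 => toList (z : Equiv.Perm GolayPt)) ?_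
    calc g⁻¹ * s * g * (g⁻¹ * x * g) = g⁻¹ * (s * x) * g := by group
      _ = g⁻¹ * (x * s) * g := by rw [hc]
      _ = g⁻¹ * x * g * (g⁻¹ * s * g) := by group

end CfsgLib.Golay.Cert
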