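/-
Candidate lists for elements with prescribed images of five points.
-/
import Cfsg.Agent.Golay.TableHom
import Cfsg.Agent.Golay.Classes

set_option autoImplicit false

namespace CfsgLib.Golay.Cert

open Cfsg CfsgLib.Golay MulAction

/-- The candidates attached to a list of prescribed images; `Gi` is the inverse base change. -/
def candList (hs : List (List ℕ)) (Gi : List ℕ) : List (List ℕ) :=
  hs.flatMap fun h => fiveList.map fun f => compL (compL h f) Gi

theorem mem_candList {hs : List (List ℕ)} {n g : M24} {G : List ℕ} (hg : toList (g⁻¹ : M24).1 = G)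
    (h : ∃ h ∈ hs, genOK h = true ∧ agreeL q5 (toList (n * g).1) h = true) : toList n.1 ∈ candList hs G := by
  obtain ⟨h, hh, hok, hag⟩ := h
  obtain ⟨f, hf, hfe⟩ := List.mem_map.mp (coset_mem (Q := q5) (by decide) fixList_five hok hag)
  refine List.mem_flatMap.mpr ⟨h, hh, List.mem_map.mpr ⟨f, hf, ?_⟩⟩
  rw [hfe, ← hg, ← toList_mul, ← Subgroup.coe_mul, mul_inv_cancel_right]

/-- Agreement on the five standard positions. -/
theorem agree_five {σ : M24} {h : List ℕ}
    (e : ∀ j < 5, idx (σ.1 (pt (q5.getD j 0))) = h.getD (q5.getD j 0) 0) :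
    agreeL q5 (toList σ.1) h = true := by
  rw [agreeL_iff]
  intro i hi
  simp only [q5, List.mem_cons, List.not_mem_nil, or_false] at hi
  rcases hi with rfl | rfl | rfl | rfl | rfl <;> rw [toList_getD _ (by norm_num)]
  exacts [e 0 (by norm_num), e 1 (by norm_num), e 2 (by norm_num), e 3 (by norm_num), e 4 (by norm_num)]

/-- The candidates when the five points are the standard ones. -/
theorem mem_cands_std {hs : List (List ℕ)} {n : M24}
    (h : ∃ h ∈ hs, genOK h = true ∧ agreeL q5 (toList n.1) h = true) :
    toList n.1 ∈ hs.flatMap fun h => fiveList.map (compL h) := by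
  obtain ⟨h, hh, hok, hag⟩ := h
  exact List.mem_flatMap.mpr ⟨h, hh, coset_mem (Q := q5) (by decide) fixList_five hok hag⟩

/-- The candidate intertwines two position lists. -/
def conjB (A B c : List ℕ) : Bool :=
  (List.range 24).all fun i => c.getD (A.getD i 0) 0 == B.getD (c.getD i 0) 0

theorem conjB_iff {a b n : M24} : conjB (toList a.1) (toList b.1) (toList n.1) = true ↔ n * a = b * n := by
  simp only [conjB, List.all_eq_true, List.mem_range, beq_iff_eq]
  constructor
  · intro h
    refine Subtype.ext (Equiv.ext fun p => idx_injective ?_)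
    have := h (idx p) (idx_lt p)
    rw [toList_getD_idx, toList_getD_idx, toList_getD_idx, toList_getD_idx] at this
    simpa [Equiv.Perm.mul_apply] using this
  · intro h i hi
    rw [toList_getD _ hi, toList_getD_idx, toList_getD _ hi, toList_getD_idx]
    exact congrArg idx (congrArg (fun z : M24 => z.1 (pt i)) h)

/-- A set of elements given by a list. -/
theorem card_of_list {K : Subgroup M24} {l : List (List ℕ)} (h1 : ∀ g ∈ K, toList g.1 ∈ l)
    (h2 : ∀ L ∈ l, ∃ g ∈ K, toList g.1 = L) (hnd : l.Nodup) : Nat.card K = l.length := by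
  have e : K ≃ {L // L ∈ l} := Equiv.ofBijective (fun g => ⟨toList g.1.1, h1 g.1 g.2⟩)
    ⟨fun a b h => Subtype.ext (toList_coe_injective (congrArg Subtype.val h)), fun L => by
      obtain ⟨g, hg, hgL⟩ := h2 L.1 L.2
      exact ⟨⟨g, hg⟩, Subtype.ext hgL⟩⟩
  rw [Nat.card_congr (e.trans (Equiv.subtypeEquivRight fun L => (List.mem_toFinset (l := l)).symm)),
    Nat.card_eq_fintype_card, Fintype.card_coe, List.toFinset_card_of_nodup hnd]

end CfsgLib.Golay.Cert
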