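/-
Invariant subspaces and cosets of the code as a module for its group.
-/
import Cfsg.Agent.Golay.OctadPos
import Cfsg.Agent.Golay.OutTwo
import Cfsg.Agent.S5393
import Cfsg.Agent.Code24.Golay

set_option autoImplicit false

namespace CfsgLib.Golay.Cert

open Cfsg CfsgLib.Golay
open scoped Pointwise

/-- The indicator of a set. -/
def ind (s : Finset GolayPt) : GolayPt → ZMod 2 := fun p => if p ∈ s then 1 else 0

theorem zmod_two (a : ZMod 2) : a = 0 ∨ a = 1 := by revert a; decide

theorem ind_support (w : GolayPt → ZMod 2) : ind (support₂ w) = w := by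
  funext p
  rcases zmod_two (w p) with h | h <;> simp [ind, support₂, h]

theorem support_ind (s : Finset GolayPt) : support₂ (ind s) = s := by
  ext p
  by_cases h : p ∈ s <;> simp [ind, support₂, h]

theorem ind_mem_iff {s : Finset GolayPt} :
    ind s ∈ golayCode ↔ s ∈ supports (golayCode : Set (GolayPt → ZMod 2)) := by
  refine ⟨fun h => ⟨_, h, support_ind s⟩, ?_⟩
  rintro ⟨w, hw, rfl⟩
  rwa [ind_support]

theorem ind_symmDiff (s t : Finset GolayPt) : ind (symmDiff s t) = ind s + ind t := by
  funext p
  by_cases hs : p ∈ s <;> by_cases ht : p ∈ t <;> simp [ind, Finset.mem_symmDiff, hs, ht] <;> decide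

theorem ind_perm (g : M24) (s : Finset GolayPt) : (fun p => ind s (g.1.symm p)) = ind (g • s) := by
  funext p
  have : p ∈ g • s ↔ g.1.symm p ∈ s := by
    rw [← Finset.inv_smul_mem_iff]
    exact Iff.rfl
  simp only [ind, this]

theorem code_perm (g : M24) {w : GolayPt → ZMod 2} (hw : w ∈ golayCode) :
    (fun p => w (g.1.symm p)) ∈ golayCode := by
  rw [← ind_support w, ind_perm, ind_mem_iff]
  rw [show g • support₂ w = (support₂ w).image g.1 from smul_finset_eq_image g _]
  exact M24_image g.2 ⟨w, hw, rfl⟩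

theorem add_self_zero (w : GolayPt → ZMod 2) : w + w = 0 := funext fun p => CharTwo.add_self_eq_zero (w p)

theorem octads_span {S : Submodule (ZMod 2) (GolayPt → ZMod 2)} (h : ∀ o ∈ octads, ind o ∈ S) : golayCode ≤ S := by
  have hok : (fix12Masks.all fun m => word (m % 4096) == m && wt 24 m == 8) = true ∧
      ∀ i < 12, comb fix12Masks (coords12.getD i 0) = rows.getD i 0 := by decide +kernel
  simp only [List.all_eq_true, Bool.and_eq_true, beq_iff_eq] at hok
  have hS : ∀ m ∈ fix12Masks, vec m ∈ S := fun m hm => by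
    have ho : pts m ∈ octads := (mem_octads_iff _).mpr
      ⟨_, Nat.mod_lt _ (by norm_num), by rw [(hok.1 m hm).1]; exact (hok.1 m hm).2, by rw [(hok.1 m hm).1]⟩
    have := h _ ho
    rwa [← support_vec, ind_support] at this
  intro w hw
  obtain ⟨c, -, rfl⟩ := (mem_code_iff w).mp hw
  refine vec_comb_mem S rows (fun r hr => ?_) c
  obtain ⟨i, hi, rfl⟩ := List.mem_iff_getElem.mp hr
  rw [← List.getD_eq_getElem _ 0 hi, ← hok.2 i (by simpa [rows] using hi)]
  exact vec_comb_mem S _ hS _

theorem ind_empty : ind (∅ : Finset GolayPt) = 0 := funext fun p => by simp [ind]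

/-- The group is transitive on octads and carries indicators accordingly. -/
theorem octad_perm {W : Submodule (ZMod 2) (GolayPt → ZMod 2)}
    (hW : ∀ σ ∈ M24, ∀ w ∈ W, (fun p => w (σ.symm p)) ∈ W) (g : M24) {s : Finset GolayPt} (h : ind s ∈ W) :
    ind (g • s) ∈ W := ind_perm g s ▸ hW _ g.2 _ h

theorem four_octads : pts 5279 ∈ octads ∧ ∃ o ∈ octads, symmDiff (pts 5279) o ∈ octads := by
  have key : ∀ m, word (m % 4096) = m → wt 24 m = 8 → pts m ∈ octads := fun m h1 h2 =>
    (mem_octads_iff _).mpr ⟨_, Nat.mod_lt _ (by norm_num), by rw [h1]; exact h2, by rw [h1]⟩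
  have hk : word (5279 % 4096) = 5279 ∧ wt 24 5279 = 8 := by decide +kernel
  obtain ⟨o, ho, h4⟩ : ∃ o ∈ octads, (pts 5279 ∩ o).card = 4 := by
    have hc : wt 24 (word 7) = 8 ∧ wt 24 (5279 &&& word 7) = 4 := by decide +kernel
    refine ⟨pts (word 7), (mem_octads_iff _).mpr ⟨7, by norm_num, hc.1, rfl⟩, ?_⟩
    rw [mask_inter, card_pts]
    exact hc.2
  refine ⟨key _ hk.1 hk.2, o, ho, supports_symmDiff (key _ hk.1 hk.2).1 ho.1, ?_⟩
  have := card_symmDiff_add (pts 5279) o
  rw [h4, octad_card ho, card_pts, hk.2] at this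
  omega

/-- An invariant subspace with a nonconstant word of the code contains the code. -/
theorem code_le {W : Submodule (ZMod 2) (GolayPt → ZMod 2)}
    (hW : ∀ σ ∈ M24, ∀ w ∈ W, (fun p => w (σ.symm p)) ∈ W) {c : GolayPt → ZMod 2} (hc : c ∈ W)
    (hcC : c ∈ golayCode) (h0 : c ≠ 0) (h1 : c ≠ fun _ => 1) : golayCode ≤ W := by
  obtain ⟨hone, hirr⟩ := Cfsg.Agent.S5393.result
  set one : GolayPt → ZMod 2 := fun _ => 1
  set W' := (W ⊓ golayCode) ⊔ Submodule.span (ZMod 2) {one} with hW'
  have hle : W' ≤ golayCode := sup_le inf_le_right (Submodule.span_le.mpr (by simpa using hone))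
  have hinv : ∀ σ ∈ M24, ∀ w ∈ W', (fun p => w (σ.symm p)) ∈ W' := by
    intro σ hσ w hw
    obtain ⟨a, ha, b, hb, rfl⟩ := Submodule.mem_sup.mp hw
    obtain ⟨r, rfl⟩ := Submodule.mem_span_singleton.mp hb
    refine Submodule.mem_sup.mpr ⟨fun p => a (σ.symm p), ⟨hW σ hσ a ha.1, code_perm ⟨σ, hσ⟩ ha.2⟩, r • one,
      Submodule.mem_span_singleton.mpr ⟨r, rfl⟩, ?_⟩
    funext p; rfl
  rcases hirr W' (Submodule.mem_sup_right (Submodule.mem_span_singleton_self one)) hle hinv with h | h
  · exfalso
    have : c ∈ W' := Submodule.mem_sup_left ⟨hc, hcC⟩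
    rw [h, Submodule.mem_span_singleton] at this
    obtain ⟨r, hr⟩ := this
    rcases zmod_two r with rfl | rfl
    · exact h0 (hr.symm.trans (zero_smul _ _))
    · exact h1 (hr.symm.trans (one_smul _ _))
  · have hall : ∀ o ∈ octads, ind o ∈ W ∨ ind o + one ∈ W := by
      intro o ho
      have : ind o ∈ W' := h ▸ ind_mem_iff.mpr ho.1
      obtain ⟨a, ha, b, hb, hab⟩ := Submodule.mem_sup.mp this
      obtain ⟨r, rfl⟩ := Submodule.mem_span_singleton.mp hb
      rcases zmod_two r with rfl | rfl
      · exact Or.inl (by rw [← hab, zero_smul, add_zero]; exact ha.1)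
      · exact Or.inr (by rw [← hab, one_smul, add_assoc, add_self_zero, add_zero]; exact ha.1)
    obtain ⟨ho1, o2, ho2, ho3⟩ := four_octads
    refine octads_span fun o ho => ?_
    have key : ∀ o ∈ octads, ind o ∈ W → ∀ o' ∈ octads, ind o' ∈ W := fun o ho h o' ho' => by
      obtain ⟨g, rfl⟩ := octad_transitive ho ho'
      exact octad_perm hW g h
    rcases hall _ ho1 with a | a
    · exact key _ ho1 a o ho
    · rcases hall _ ho2 with b | b
      · exact key _ ho2 b o ho
      · refine key _ ho3 ?_ o ho
        have := W.add_mem a b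
        rwa [add_add_add_comm, add_self_zero one, add_zero, ← ind_symmDiff] at this

/-- A word outside the code gives all the words of weight two. -/
theorem pair_mem {W : Submodule (ZMod 2) (GolayPt → ZMod 2)}
    (hW : ∀ σ ∈ M24, ∀ w ∈ W, (fun p => w (σ.symm p)) ∈ W) {w : GolayPt → ZMod 2} (hw : w ∈ W)
    (hwC : w ∉ golayCode) : ∀ p q : GolayPt, p ≠ q → ind {p, q} ∈ W := by
  obtain ⟨T, hT4, hTC⟩ : ∃ T : Finset GolayPt, T.card ≤ 4 ∧ w - ind T ∈ golayCode := by
    have hne : {v : GolayPt → ZMod 2 | hammingNorm v ≤ 4 ∧ w - v ∈ golayCode}.Nonempty := by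
      rcases Code24.golay_leaders w with ⟨h, -⟩ | ⟨h, -⟩ <;> exact Set.nonempty_of_ncard_ne_zero (by rw [h]; norm_num)
    obtain ⟨v, hv, hvC⟩ := hne
    exact ⟨support₂ v, by rwa [← hammingNorm_eq], by rwa [ind_support]⟩
  have hT0 : T.Nonempty := by
    rw [Finset.nonempty_iff_ne_empty]
    rintro rfl
    exact hwC (by simpa [ind_empty] using hTC)
  obtain ⟨a, ha⟩ := hT0
  obtain ⟨b, -, hb⟩ := Finset.exists_mem_notMem_of_card_lt_card
    (show T.card < (Finset.univ : Finset GolayPt).card by rw [Finset.card_univ, card_golayPt]; omega)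
  -- exchange one point of the leader
  suffices h : ind T ∈ W ∨ ind T + (fun _ => 1) ∈ W by
    have hswap : ind {a, b} ∈ W := by
      obtain ⟨g, hg⟩ := exists_map_card (s := T) (t := insert b (T.erase a)) (by
        rw [Finset.card_insert_of_notMem (fun e => hb (Finset.mem_of_mem_erase e)), Finset.card_erase_of_mem ha]
        have : 0 < T.card := Finset.card_pos.mpr ⟨a, ha⟩
        omega) (by omega)
      have hgT : symmDiff T (g • T) = {a, b} := by
        rw [hg]
        ext x
        simp only [Finset.mem_symmDiff, Finset.mem_insert, Finset.mem_erase, Finset.mem_singleton]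
        by_cases hxa : x = a
        · subst hxa
          have : x ≠ b := fun e => hb (e ▸ ha)
          simp [ha, this]
        by_cases hxb : x = b
        · subst hxb
          simp [hb]
        simp [hxa, hxb]
      rcases h with h | h
      · have := W.add_mem h (octad_perm hW g h)
        rwa [← ind_symmDiff, hgT] at this
      · have h' := W.add_mem h (hW _ g.2 _ h)
        rw [show (fun p : GolayPt => ((ind T + fun _ => (1 : ZMod 2)) : GolayPt → ZMod 2) (g.1.symm p)) = ind (g • T) + fun _ => 1 by
          rw [← ind_perm g T]; rfl, add_add_add_comm, add_self_zero (fun _ : GolayPt => (1 : ZMod 2)), add_zero,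
          ← ind_symmDiff, hgT] at h'
        exact h'
    intro p q hpq
    obtain ⟨g, h1, h2⟩ := exists_map_two (p := a) (q := b) (p' := p) (q' := q) (fun e => hb (e ▸ ha)) hpq
    have := octad_perm hW g hswap
    rwa [Finset.smul_finset_insert, Finset.smul_finset_singleton, h1, h2] at this
  set c := w - ind T with hc
  by_cases hfix : ∀ g : M24, (∀ p ∈ T, g.1 p = p) → (fun p => c (g.1.symm p)) = c
  · -- then the code part is constant
    have hconst : ∀ x y, x ∉ T → y ∉ T → c x = c y := by
      intro x y hx hy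
      obtain ⟨g, hg, hgx⟩ : ∃ g : M24, (∀ p ∈ T, g.1 p = p) ∧ g.1 x = y := by
        let e : Fin T.card ≃ T := (Fintype.equivFinOfCardEq (Fintype.card_coe T)).symm
        have key : ∀ z, z ∉ T → ∃ g ∈ M24, (∀ j : Fin T.card, g (bp j) = e j) ∧ g (bp T.card) = z := by
          intro z hz
          obtain ⟨g, hg, hgx⟩ := exists_mem_map_base (T.card + 1) (by omega)
            (fun i => if hi : i < T.card then (e ⟨i, hi⟩ : GolayPt) else z) (by
              intro i hi j hj he
              by_cases h1 : i < T.card <;> by_cases h2 : j < T.card <;> simp only [h1, h2, dif_pos, dif_neg, not_false_eq_true] at he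
              · simpa using e.injective (Subtype.ext he)
              · exact absurd (he ▸ (e ⟨i, h1⟩).2) hz
              · exact absurd (he.symm ▸ (e ⟨j, h2⟩).2) hz
              · omega)
          exact ⟨g, hg, fun j => by rw [hgx j (by omega)]; simp, by rw [hgx _ (by omega)]; simp⟩
        obtain ⟨u, hu, hu1, hu2⟩ := key x hx
        obtain ⟨v, hv, hv1, hv2⟩ := key y hy
        refine ⟨⟨v * u⁻¹, mul_mem hv (inv_mem hu)⟩, fun p hp => ?_, ?_⟩
        · obtain ⟨j, hj⟩ := e.surjective ⟨p, hp⟩
          have hup : u (bp j) = p := by rw [hu1 j, hj]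
          have hvp : v (bp j) = p := by rw [hv1 j, hj]
          conv_lhs => rw [← hup]
          simp [hvp]
        · rw [← hu2]; simp [hv2]
      have := congrFun (hfix g hg) y
      rw [← hgx, Equiv.symm_apply_apply] at this
      rw [← hgx]
      exact this
    obtain ⟨r, hr⟩ : ∃ r, ∀ x, x ∉ T → c x = r := ⟨c b, fun x hx => hconst x b hx hb⟩
    have hc' : c + (fun _ => r) ∈ golayCode := by
      refine golayCode.add_mem hTC ?_
      rcases zmod_two r with rfl | rfl
      · exact golayCode.zero_mem
      · exact Cfsg.Agent.S5393.result.1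
    have hsub : support₂ (c + fun _ => r) ⊆ T := by
      intro x hx
      by_contra hxT
      simp only [support₂, Finset.mem_filter, Pi.add_apply, hr x hxT] at hx
      exact hx.2 (CharTwo.add_self_eq_zero r)
    have hzero : c + (fun _ => r) = 0 := by
      have hle := Finset.card_le_card hsub
      have h0 : (support₂ (c + fun _ => r)).card = 0 := by
        rcases supports_card ⟨_, hc', rfl⟩ with h | h | h | h | h <;> omega
      rw [← ind_support (c + fun _ => r), Finset.card_eq_zero.mp h0]
      funext x; simp [ind]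
    have hw' : w = ind T + fun _ => r := by
      funext x
      have := congrFun hzero x
      simp only [hc, Pi.add_apply, Pi.sub_apply, Pi.zero_apply] at this ⊢
      exact (show ∀ r A B : ZMod 2, A - B + r = 0 → A = B + r by decide) _ _ _ this
    rcases zmod_two r with rfl | rfl
    · left; rwa [hw', show (fun _ : GolayPt => (0 : ZMod 2)) = 0 from rfl, add_zero] at hw
    · right; rwa [hw'] at hw
  · push Not at hfix
    obtain ⟨g, hg, hne⟩ := hfix
    have hgT : g • T = T := by
      rw [smul_finset_eq_image]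
      exact (Finset.image_congr fun x hx => hg x hx).trans Finset.image_id
    have hd : (fun p => w (g.1.symm p)) - w = (fun p => c (g.1.symm p)) - c := by
      have hiT := congrFun (show (fun p => ind T (g.1.symm p)) = ind T by rw [ind_perm, hgT])
      funext p
      simp only [hc, Pi.sub_apply, hiT p]
      abel
    have hmemW : (fun p => c (g.1.symm p)) - c ∈ W := hd ▸ W.sub_mem (hW _ g.2 _ hw) hw
    have hle := code_le hW hmemW (golayCode.sub_mem (code_perm g hTC) hTC) (sub_ne_zero.mpr hne) (fun e => by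
      have := congrFun e a
      have hga : g.1.symm a = a := g.1.symm_apply_eq.mpr (hg a ha).symm
      simp [hga] at this)
    left
    rw [show ind T = w - c by rw [hc, sub_sub_cancel]]
    exact W.sub_mem hw (hle hTC)

/-- The invariant subspaces. -/
theorem invariant_subspaces {W : Submodule (ZMod 2) (GolayPt → ZMod 2)}
    (hW : ∀ σ ∈ M24, ∀ w ∈ W, (fun p => w (σ.symm p)) ∈ W) :
    W = ⊥ ∨ W = Submodule.span (ZMod 2) {fun _ => (1 : ZMod 2)} ∨ W = golayCode ∨
      (W : Set (GolayPt → ZMod 2)) = {w | ∑ p, w p = 0} ∨ W = ⊤ := by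
  by_cases hC : W ≤ golayCode
  · by_cases hc : ∃ c ∈ W, c ≠ 0 ∧ c ≠ fun _ => 1
    · obtain ⟨c, hc, h0, h1⟩ := hc
      exact Or.inr (Or.inr (Or.inl (le_antisymm hC (code_le hW hc (hC hc) h0 h1))))
    · push Not at hc
      by_cases h1 : (fun _ => (1 : ZMod 2)) ∈ W
      · refine Or.inr (Or.inl (le_antisymm (fun w hw => ?_) (Submodule.span_le.mpr (by simpa using h1))))
        by_cases h0 : w = 0
        · rw [h0]; exact Submodule.zero_mem _
        · rw [hc w hw h0]; exact Submodule.mem_span_singleton_self _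
      · refine Or.inl ((Submodule.eq_bot_iff W).mpr fun w hw => ?_)
        by_contra h0
        exact h1 (hc w hw h0 ▸ hw)
  · obtain ⟨w, hw, hwC⟩ := SetLike.not_le_iff_exists.mp hC
    have hpair := pair_mem hW hw hwC
    have heven : ∀ n, ∀ s : Finset GolayPt, s.card = 2 * n → ind s ∈ W := by
      intro n
      induction n with
      | zero =>
        intro s hs
        rw [Finset.card_eq_zero.mp (by omega : s.card = 0), show ind (∅ : Finset GolayPt) = 0 by funext x; simp [ind]]
        exact W.zero_mem
      | succ n ih =>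
        intro s hs
        obtain ⟨p, hp, q, hq, hpq⟩ := Finset.one_lt_card.mp (by omega : 1 < s.card)
        have hsub : ({p, q} : Finset GolayPt) ⊆ s := by simp [Finset.insert_subset_iff, hp, hq]
        have hc : (s \ {p, q}).card = 2 * n := by
          rw [Finset.card_sdiff_of_subset hsub, Finset.card_pair hpq]; omega
        have hdec : ind s = ind (s \ {p, q}) + ind {p, q} := by
          funext x
          by_cases hx : x ∈ ({p, q} : Finset GolayPt)
          · simp only [Pi.add_apply, ind, hx, hsub hx, Finset.mem_sdiff, not_true_eq_false, and_false, if_true, if_false, zero_add]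
          · by_cases hxs : x ∈ s <;> simp [ind, hx, hxs, Finset.mem_sdiff]
        rw [hdec]
        exact W.add_mem (ih _ hc) (hpair p q hpq)
    have hsum : ∀ v : GolayPt → ZMod 2, ∑ p, v p = ((support₂ v).card : ZMod 2) := by
      intro v
      conv_lhs => rw [← ind_support v]
      simp [ind]
    have hev : ∀ v : GolayPt → ZMod 2, ∑ p, v p = 0 → v ∈ W := by
      intro v hv
      rw [hsum, ZMod.natCast_eq_zero_iff_even] at hv
      obtain ⟨n, hn⟩ := hv
      rw [← ind_support v]
      exact heven n _ (by omega)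
    by_cases hall : ∀ v ∈ W, ∑ p, v p = 0
    · exact Or.inr (Or.inr (Or.inr (Or.inl (Set.Subset.antisymm hall hev))))
    · push Not at hall
      obtain ⟨v, hv, hv1⟩ := hall
      refine Or.inr (Or.inr (Or.inr (Or.inr (eq_top_iff.mpr fun x _ => ?_))))
      by_cases hx : ∑ p, x p = 0
      · exact hev x hx
      · have h := hev (x + v) (by
          rw [Finset.sum_congr rfl (fun p _ => Pi.add_apply x v p), Finset.sum_add_distrib,
            (zmod_two _).resolve_left hx, (zmod_two _).resolve_left hv1]
          decide)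
        have := W.add_mem h hv
        rwa [add_assoc, add_self_zero, add_zero] at this

/-- The leaders of a coset. -/
def leads (w : GolayPt → ZMod 2) : Set (Finset GolayPt) := {T | T.card ≤ 4 ∧ w - ind T ∈ golayCode}

theorem leads_ncard (w : GolayPt → ZMod 2) :
    (leads w).ncard = {v : GolayPt → ZMod 2 | hammingNorm v ≤ 4 ∧ w - v ∈ golayCode}.ncard := by
  rw [← Set.ncard_image_of_injective (leads w) (fun a b (h : ind a = ind b) => by
    rw [← support_ind a, h, support_ind] : Function.Injective ind)]
  congr 1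
  ext v
  constructor
  · rintro ⟨T, ⟨h1, h2⟩, rfl⟩
    exact ⟨by rw [hammingNorm_eq, support_ind]; exact h1, h2⟩
  · rintro ⟨h1, h2⟩
    exact ⟨support₂ v, ⟨by rwa [← hammingNorm_eq], by rwa [ind_support]⟩, ind_support v⟩

/-- A group transitive on pairs of a large set and on the rest leaves no coset invariant. -/
theorem exists_moving {D : Finset GolayPt} {K : Set M24} (hD : 7 ≤ D.card)
    (hout : Dᶜ = ∅ ∨ 5 ≤ Dᶜ.card)
    (h2 : ∀ x ∈ D, ∀ y ∈ D, ∀ z ∈ D, x ≠ y → x ≠ z → ∃ g ∈ K, g • x = x ∧ g • y = z)
    (h1 : ∀ x ∈ D, ∀ y ∈ D, ∃ g ∈ K, g • x = y)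
    (h1' : ∀ x ∉ D, ∀ y ∉ D, ∃ g ∈ K, g • x = y)
    {w : GolayPt → ZMod 2} (hw : w ∉ golayCode) :
    ∃ g ∈ K, (fun p => w (g.1.symm p)) - w ∉ golayCode := by
  by_contra hno
  push Not at hno
  have hinv : ∀ g ∈ K, ∀ T ∈ leads w, g • T ∈ leads w := by
    intro g hg T hT
    refine ⟨by rw [Finset.card_smul_finset]; exact hT.1, ?_⟩
    have := golayCode.sub_mem (code_perm g hT.2) (hno g hg)
    rw [show w - ind (g • T) = (fun p => (w - ind T) (g.1.symm p)) - ((fun p => w (g.1.symm p)) - w) by
      rw [← ind_perm]; funext p; simp only [Pi.sub_apply]; abel]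
    exact this
  have hdisj : ∀ S ∈ leads w, ∀ T ∈ leads w, S ≠ T → Disjoint S T := by
    intro S hS T hT hne
    have hmem := ind_mem_iff.mp (show ind (symmDiff S T) ∈ golayCode by
      have := golayCode.add_mem hS.2 hT.2
      rwa [show (w - ind S) + (w - ind T) = ind (symmDiff S T) by
        rw [ind_symmDiff]; funext p; simp only [Pi.add_apply, Pi.sub_apply]
        generalize w p = A; generalize ind S p = B; generalize ind T p = C; revert A B C; decide] at this)
    have h := card_symmDiff_add S T
    have hS4 := hS.1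
    have hT4 := hT.1
    rw [Finset.disjoint_iff_inter_eq_empty, ← Finset.card_eq_zero]
    rcases supports_card hmem with h' | h' | h' | h' | h'
    · exact absurd (symmDiff_eq_bot.mp (Finset.card_eq_zero.mp h')) hne
    all_goals omega
  have hsub : ∀ T ∈ leads w, ∀ x ∈ T, x ∈ D → (T ∩ D).card = 1 := by
    intro T hT x hxT hxD
    refine le_antisymm ?_ (Finset.card_pos.mpr ⟨x, Finset.mem_inter.mpr ⟨hxT, hxD⟩⟩)
    by_contra hgt
    obtain ⟨y, hy, hyx⟩ := Finset.exists_mem_ne (by omega : 1 < (T ∩ D).card) x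
    rw [Finset.mem_inter] at hy
    have : D ⊆ T := by
      intro z hz
      by_cases hzx : z = x
      · exact hzx ▸ hxT
      obtain ⟨g, hg, hgx, hgy⟩ := h2 x hxD y hy.2 z hz (Ne.symm hyx) (Ne.symm hzx)
      have hgT : g • T = T := by
        by_contra hne
        exact Finset.disjoint_left.mp (hdisj _ (hinv g hg T hT) T hT hne)
          (hgx ▸ (smul_mem_iff' g).mpr hxT) hxT
      rw [← hgT, ← hgy]
      exact (smul_mem_iff' g).mpr hy.1
    have := Finset.card_le_card this
    have := hT.1
    omega
  rcases Code24.golay_leaders w with ⟨hone, -⟩ | ⟨hsix, hfour⟩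
  · rw [← leads_ncard] at hone
    obtain ⟨T, hT⟩ := Set.ncard_eq_one.mp hone
    have hTm : T ∈ leads w := hT ▸ Set.mem_singleton T
    have hfix : ∀ g ∈ K, g • T = T := fun g hg => by
      have := hinv g hg T hTm
      rwa [hT, Set.mem_singleton_iff] at this
    obtain ⟨x, hx⟩ : T.Nonempty := Finset.nonempty_iff_ne_empty.mpr fun h => hw (by simpa [h, ind_empty] using hTm.2)
    have htr : ∀ S : Finset GolayPt, x ∈ S → (∀ a ∈ S, ∀ b ∈ S, ∃ g ∈ K, g • a = b) → S.card ≤ 4 := by
      intro S hxS htr
      refine le_trans (Finset.card_le_card fun y hy => ?_) hTm.1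
      obtain ⟨g, hg, hgy⟩ := htr x hxS y hy
      rw [← hfix g hg, ← hgy]
      exact (smul_mem_iff' g).mpr hx
    by_cases hxD : x ∈ D
    · have := htr D hxD h1; omega
    · have h5 := htr Dᶜ (Finset.mem_compl.mpr hxD) fun a ha b hb =>
        h1' a (Finset.mem_compl.mp ha) b (Finset.mem_compl.mp hb)
      rcases hout with h | h
      · exact hxD (by have := Finset.eq_empty_iff_forall_notMem.mp h x; simpa using this)
      · omega
  · rw [← leads_ncard] at hsix
    have hfin : (leads w).Finite := Set.toFinite _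
    have hc6 : hfin.toFinset.card = 6 := by rw [← Set.ncard_eq_toFinset_card _ hfin, hsix]
    have hcov : hfin.toFinset.biUnion (fun T => T) = Finset.univ := by
      refine Finset.eq_univ_of_card _ ?_
      rw [Finset.card_biUnion (fun S hS T hT hne => hdisj S (by simpa using hS) T (by simpa using hT) hne),
        Finset.sum_congr rfl (g := fun _ => 4) (fun T hT => ?_), Finset.sum_const, hc6, card_golayPt]
      · rfl
      · have hT' : T ∈ leads w := by simpa using hT
        have := hfour (ind T) hT'.2 (by rw [hammingNorm_eq, support_ind]; exact hT'.1)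
        rw [hammingNorm_eq, support_ind] at this
        exact this
    have hD6 : D.card ≤ 6 := by
      calc D.card = (hfin.toFinset.biUnion (fun T => T) ∩ D).card := by rw [hcov, Finset.univ_inter]
        _ = (hfin.toFinset.biUnion fun T => T ∩ D).card := by rw [Finset.biUnion_inter]
        _ ≤ ∑ T ∈ hfin.toFinset, (T ∩ D).card := Finset.card_biUnion_le
        _ ≤ ∑ T ∈ hfin.toFinset, 1 := Finset.sum_le_sum fun T hT => by
          by_cases h : (T ∩ D).Nonempty
          · obtain ⟨x, hx⟩ := h
            rw [Finset.mem_inter] at hx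
            exact (hsub T (by simpa using hT) x hx.1 hx.2).le
          · simp [Finset.not_nonempty_iff_eq_empty.mp h]
        _ = 6 := by simp [hc6]
    omega

theorem perm_eq_of_smul {g : M24} {u : GolayPt → ZMod 2} (h : g • support₂ u = support₂ u) :
    (fun p => u (g.1.symm p)) = u := by
  rw [← ind_support u, ind_perm, h]

theorem moving_octad {o : Finset GolayPt} (ho : o ∈ octads) {w : GolayPt → ZMod 2} (hw : w ∉ golayCode) :
    ∃ g : M24, g • o = o ∧ (fun p => w (g.1.symm p)) - w ∉ golayCode := by
  refine exists_moving (D := o) (K := {g | g • o = o}) (by rw [octad_card ho]; norm_num)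
    (Or.inr (by rw [Finset.card_compl, card_golayPt, octad_card ho]; norm_num)) ?_ ?_ ?_ hw
  · intro x hx y hy z hz hxy hxz
    obtain ⟨g, h1, h2, h3⟩ := exists_map_octad_two ho ho hxy hxz (iff_of_true hx hx) (iff_of_true hy hz)
    exact ⟨g, h3, h1, h2⟩
  · intro x hx y hy
    obtain ⟨g, h1, h2⟩ := exists_map_octad_one ho ho (iff_of_true hx hy)
    exact ⟨g, h2, h1⟩
  · intro x hx y hy
    obtain ⟨g, h1, h2⟩ := exists_map_octad_one ho ho (iff_of_false hx hy)
    exact ⟨g, h2, h1⟩

theorem moving_dodecad {d : Finset GolayPt} (hd : d ∈ dodecads) {w : GolayPt → ZMod 2} (hw : w ∉ golayCode) :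
    ∃ g : M24, g • d = d ∧ (fun p => w (g.1.symm p)) - w ∉ golayCode := by
  have one_two : ∀ e ∈ dodecads, ∀ x ∈ e, ∀ y ∈ e, ∃ g : M24, g • e = e ∧ g • x = y := by
    intro e he x hx y hy
    by_cases hxy : x = y
    · exact ⟨1, one_smul _ _, by rw [one_smul, hxy]⟩
    · obtain ⟨g, h1, -⟩ := exists_dodecad_two he hx hy hy hx hxy (Ne.symm hxy)
      exact ⟨g.1, g.2, h1⟩
  refine exists_moving (D := d) (K := {g | g • d = d}) (by rw [dodecad_card hd]; norm_num)
    (Or.inr (by rw [Finset.card_compl, card_golayPt, dodecad_card hd]; norm_num)) ?_ ?_ ?_ hw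
  · intro x hx y hy z hz hxy hxz
    obtain ⟨g, h1, h2⟩ := exists_dodecad_two hd hx hy hx hz hxy hxz
    exact ⟨g.1, g.2, h1, h2⟩
  · exact one_two d hd
  · intro x hx y hy
    obtain ⟨g, h1, h2⟩ := one_two dᶜ (compl_mem_dodecads hd) x (Finset.mem_compl.mpr hx) y (Finset.mem_compl.mpr hy)
    exact ⟨g, by rw [compl_smul, compl_inj_iff] at h1; exact h1, h2⟩

/-- The stabiliser of a code word fixes no other coset. -/
theorem codeword_stab_moves {u : GolayPt → ZMod 2} (hu : u ∈ golayCode) {w : GolayPt → ZMod 2} (hw : w ∉ golayCode) :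
    ∃ σ ∈ M24, (fun p => u (σ.symm p)) = u ∧ (fun p => w (σ.symm p)) - w ∉ golayCode := by
  have hfull : (fun p => u p) = u := rfl
  suffices ∃ g : M24, g • support₂ u = support₂ u ∧ (fun p => w (g.1.symm p)) - w ∉ golayCode by
    obtain ⟨g, h1, h2⟩ := this
    exact ⟨g.1, g.2, perm_eq_of_smul h1, h2⟩
  have triv : (∀ g : M24, g • support₂ u = support₂ u) →
      ∃ g : M24, g • support₂ u = support₂ u ∧ (fun p => w (g.1.symm p)) - w ∉ golayCode := by
    intro hall
    obtain ⟨g, -, hg⟩ := exists_moving (D := Finset.univ) (K := Set.univ)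
      (by rw [Finset.card_univ, card_golayPt]; norm_num) (Or.inl Finset.compl_univ)
      (fun x _ y _ z _ hxy hxz => by
        obtain ⟨g, h1, h2⟩ := exists_map_two hxy hxz
        exact ⟨g, Set.mem_univ _, h1, h2⟩)
      (fun x _ y _ => by
        obtain ⟨g, hg⟩ := exists_map_card (s := {x}) (t := {y}) rfl (by simp)
        refine ⟨g, Set.mem_univ _, ?_⟩
        rwa [Finset.smul_finset_singleton, Finset.singleton_inj] at hg)
      (fun x hx => absurd (Finset.mem_univ x) hx) hw
    exact ⟨g, hall g, hg⟩
  have hs : support₂ u ∈ supports (golayCode : Set (GolayPt → ZMod 2)) := ⟨u, hu, rfl⟩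
  rcases supports_card hs with h | h | h | h | h
  · exact triv fun g => by rw [Finset.card_eq_zero.mp h, Finset.smul_finset_empty]
  · exact moving_octad ⟨hs, h⟩ hw
  · exact moving_dodecad ⟨hs, h⟩ hw
  · have ho : (support₂ u)ᶜ ∈ octads := by
      refine ⟨?_, by rw [Finset.card_compl, card_golayPt, h]⟩
      have h1 : ind (Finset.univ : Finset GolayPt) ∈ golayCode := by
        rw [show ind (Finset.univ : Finset GolayPt) = fun _ => 1 by funext p; simp [ind]]
        exact Cfsg.Agent.S5393.result.1
      have := supports_symmDiff (ind_mem_iff.mp h1) hs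
      rwa [show symmDiff Finset.univ (support₂ u) = (support₂ u)ᶜ by ext p; simp [Finset.mem_symmDiff]] at this
    obtain ⟨g, h1, h2⟩ := moving_octad ho hw
    refine ⟨g, ?_, h2⟩
    rw [compl_smul, compl_inj_iff] at h1
    exact h1
  · exact triv fun g => by
      rw [Finset.eq_univ_of_card _ (h.trans card_golayPt.symm), Finset.smul_finset_univ]

end CfsgLib.Golay.Cert
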