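/-
Five points of a dodecad determine an element of its stabiliser; hexad stabilisers.
-/
import Cfsg.Agent.Golay.Classes
import Cfsg.Agent.Golay.FamOne
import Cfsg.Agent.Golay.MathieuSmall
import Cfsg.Prelude.Def_SporadicCombinatorics

set_option autoImplicit false

namespace CfsgLib.Golay.Cert

open Cfsg CfsgLib.Golay MulAction
open scoped Pointwise

/-- An element carrying the standard five positions to five listed points of a dodecad. -/
theorem exists_std_five {d : Finset GolayPt} (hd : d ∈ dodecads) {l : List GolayPt} (hlen : l.length = 5)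
    (hnd : l.Nodup) (hl : ∀ x ∈ l, x ∈ d) :
    ∃ g : M24, g • refDodecad = d ∧ ∀ j < 5, g.1 (pt (q5.getD j 0)) = l.getD j none := by
  have hm : ∀ i : Fin 5, l.getD i none = l[i.1]'(hlen.symm ▸ i.2) := fun i => List.getD_eq_getElem _ _ _
  let x : Fin 5 ↪ GolayPt := ⟨fun i => l.getD i none, fun i j (h : l.getD i none = l.getD j none) => by
    rw [hm, hm] at h
    exact Fin.ext (hnd.getElem_inj_iff.mp h)⟩
  obtain ⟨g, hg, hgd⟩ := exists_map_five hd x fun i => by
    show l.getD i none ∈ d
    rw [hm]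
    exact hl _ (List.getElem_mem _)
  exact ⟨g, hgd, fun j hj => by rw [pt_q5 j hj]; exact hg ⟨j, hj⟩⟩

/-- Prescribed images of five points of a dodecad. -/
theorem exists_five_map {d : Finset GolayPt} (hd : d ∈ dodecads) {l l' : List GolayPt} (hlen : l.length = 5)
    (hlen' : l'.length = 5) (hnd : l.Nodup) (hnd' : l'.Nodup) (hl : ∀ x ∈ l, x ∈ d) (hl' : ∀ x ∈ l', x ∈ d) :
    ∃ g : M24, g ∈ stabilizer M24 d ∧ ∀ j < 5, g.1 (l.getD j none) = l'.getD j none := by
  obtain ⟨a, had, ha⟩ := exists_std_five hd hlen hnd hl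
  obtain ⟨b, hbd, hb⟩ := exists_std_five hd hlen' hnd' hl'
  refine ⟨b * a⁻¹, ?_, fun j hj => ?_⟩
  · rw [mem_stabilizer_iff, mul_smul, inv_smul_eq_iff.mpr had.symm, hbd]
  · rw [← ha j hj, ← hb j hj]
    simp [Equiv.Perm.mul_apply]

/-- An element of a dodecad stabiliser fixing five of its points is trivial. -/
theorem eq_one_of_five {d : Finset GolayPt} (hd : d ∈ dodecads) {g : M24} (hg : g ∈ stabilizer M24 d)
    {t : Finset GolayPt} (ht : t ⊆ d) (h5 : 5 ≤ t.card) (hfix : ∀ x ∈ t, g.1 x = x) : g = 1 := by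
  obtain ⟨u, hu, huc⟩ := Finset.exists_subset_card_eq h5
  let x : Fin 5 ↪ GolayPt :=
    ((Fintype.equivFinOfCardEq (show Fintype.card u = 5 by simp [huc])).symm.toEmbedding).trans
      (Function.Embedding.subtype _)
  have hxu : ∀ i, x i ∈ u := fun i => Subtype.prop _
  obtain ⟨k, -, huniq⟩ := sharply_five hd x x (fun i => ht (hu (hxu i))) (fun i => ht (hu (hxu i)))
  have h1 := huniq ⟨g, hg⟩ fun i => hfix _ (hu (hxu i))
  have h2 := huniq 1 fun i => rfl
  exact congrArg Subtype.val (h1.trans h2.symm)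

/-- The group induced on an invariant set. -/
def resOn (C : Finset GolayPt) (K : Subgroup M24) (hK : ∀ g ∈ K, g ∈ stabilizer M24 C) : K →* Equiv.Perm ↥C where
  toFun g := (g.1.1).subtypePerm fun x => apply_mem_iff (hK g.1 g.2) x
  map_one' := by ext; rfl
  map_mul' := fun _ _ => by ext; rfl

/-- A hexad stabiliser induces all permutations. -/
theorem hexad_iso {d : Finset GolayPt} (hd : d ∈ dodecads) {C : Finset GolayPt} (hC : C ∈ hexadsOn d) :
    Nonempty (↥(stabilizer M24 d ⊓ stabilizer M24 C) ≃* Equiv.Perm (Fin 6)) ∧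
      (∀ g ∈ stabilizer M24 d ⊓ stabilizer M24 C, (∀ p ∈ C, g.1 p = p) → g = 1) ∧
      ∀ g ∈ stabilizer M24 d ⊓ stabilizer M24 C, (∀ p ∈ d \ C, g.1 p = p) → g = 1 := by
  obtain ⟨hC6, o, ho, hoC⟩ := hC
  have hCd : C ⊆ d := hoC ▸ Finset.inter_subset_right
  have hCo : C ⊆ o := hoC ▸ Finset.inter_subset_left
  have hfa : ∀ g ∈ stabilizer M24 d ⊓ stabilizer M24 C, (∀ p ∈ C, g.1 p = p) → g = 1 :=
    fun g hg h => eq_one_of_five hd hg.1 hCd (by omega) h
  refine ⟨?_, hfa, fun g hg h => eq_one_of_five hd hg.1 Finset.sdiff_subset (by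
    rw [Finset.card_sdiff_of_subset hCd, dodecad_card hd, hC6]; norm_num) h⟩
  let f := resOn C (stabilizer M24 d ⊓ stabilizer M24 C) fun g hg => hg.2
  have hinj : Function.Injective f := by
    rw [injective_iff_map_eq_one]
    intro g hg
    exact Subtype.ext (hfa g.1 g.2 fun p hp => congrArg (fun e : Equiv.Perm ↥C => (e ⟨p, hp⟩ : GolayPt)) hg)
  have hsurj : Function.Surjective f := by
    intro σ
    let e : Fin 6 ≃ C := (Fintype.equivFinOfCardEq (by simp [hC6])).symm
    set l := (List.finRange 5).map fun i => (e i.castSucc : GolayPt) with hl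
    set l' := (List.finRange 5).map fun i => (σ (e i.castSucc) : GolayPt) with hl'
    have hnd : l.Nodup := List.Nodup.map (fun i j h => Fin.castSucc_injective _ (e.injective (Subtype.ext h))) (List.nodup_finRange 5)
    have hnd' : l'.Nodup := List.Nodup.map (fun i j h => Fin.castSucc_injective _ (e.injective (σ.injective (Subtype.ext h)))) (List.nodup_finRange 5)
    obtain ⟨g, hg, hgj⟩ := exists_five_map hd (l := l) (l' := l') (by simp [hl]) (by simp [hl']) hnd hnd'
      (fun x hx => by obtain ⟨i, -, rfl⟩ := List.mem_map.mp hx; exact hCd (Subtype.prop _))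
      (fun x hx => by obtain ⟨i, -, rfl⟩ := List.mem_map.mp hx; exact hCd (Subtype.prop _))
    have himg : ∀ i : Fin 5, g.1 (e i.castSucc) = σ (e i.castSucc) := fun i => by
      have := hgj i i.2
      rw [List.getD_eq_getElem _ _ (by simp [hl]), List.getD_eq_getElem _ _ (by simp [hl'])] at this
      simpa [hl, hl'] using this
    have hgo : g • o = o := by
      refine octad_unique (smul_mem_octads' g ho) ho (f := l'.toFinset) ?_ ?_ ?_
      · rw [List.toFinset_card_of_nodup hnd']; simp [hl']
      · intro x hx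
        obtain ⟨i, -, rfl⟩ := List.mem_map.mp (List.mem_toFinset.mp hx)
        rw [← himg i]
        exact (smul_mem_iff' g).mpr (hCo (Subtype.prop _))
      · intro x hx
        obtain ⟨i, -, rfl⟩ := List.mem_map.mp (List.mem_toFinset.mp hx)
        exact hCo (Subtype.prop _)
    have hgC : g ∈ stabilizer M24 C := by
      rw [mem_stabilizer_iff, ← hoC, Finset.smul_finset_inter, hgo, mem_stabilizer_iff.mp hg]
    refine ⟨⟨g, hg, hgC⟩, ?_⟩
    refine Equiv.ext fun x => ?_
    obtain ⟨i, rfl⟩ := e.surjective x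
    rcases Fin.eq_castSucc_or_eq_last i with ⟨j, rfl⟩ | rfl
    · exact Subtype.ext (himg j)
    · set τ : Equiv.Perm ↥C := f ⟨g, hg, hgC⟩ with hτ
      obtain ⟨i, hi⟩ := e.surjective (σ.symm (τ (e (Fin.last 5))))
      rcases Fin.eq_castSucc_or_eq_last i with ⟨j, rfl⟩ | rfl
      · exfalso
        have : τ (e (Fin.last 5)) = τ (e j.castSucc) := by
          rw [show τ (e j.castSucc) = σ (e j.castSucc) from Subtype.ext (himg j), hi, Equiv.apply_symm_apply]
        exact (Fin.castSucc_lt_last j).ne' (e.injective (τ.injective this))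
      · exact (σ.apply_symm_apply _).symm.trans (congrArg σ hi.symm)
  exact ⟨(MulEquiv.ofBijective f ⟨hinj, hsurj⟩).trans (Fintype.equivFinOfCardEq (by simp [hC6])).permCongrHom⟩

/-- Two octads meeting in two points span a hexad on a dodecad with the same stabiliser. -/
theorem two_octads_iso {o o' : Finset GolayPt} (ho : o ∈ octads) (ho' : o' ∈ octads) (h2 : (o ∩ o').card = 2) :
    Nonempty (↥(stabilizer M24 o ⊓ stabilizer M24 o') ≃* Equiv.Perm (Fin 6)) := by
  have hd : symmDiff o o' ∈ dodecads := by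
    refine ⟨supports_symmDiff ho.1 ho'.1, ?_⟩
    have := card_symmDiff_add o o'
    rw [octad_card ho, octad_card ho', h2] at this
    omega
  have hoC : o ∩ symmDiff o o' = o \ o' := by
    ext x; simp only [Finset.mem_inter, Finset.mem_symmDiff, Finset.mem_sdiff]; tauto
  have h6 : (o \ o').card = 6 := by
    rw [Finset.card_sdiff, Finset.inter_comm, h2, octad_card ho]
  have h6' : (o' \ o).card = 6 := by
    rw [Finset.card_sdiff, h2, octad_card ho']
  obtain ⟨e⟩ := (hexad_iso hd (C := o \ o') ⟨h6, o, ho, hoC⟩).1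
  refine ⟨(MulEquiv.subgroupCongr ?_).trans e⟩
  ext g
  simp only [Subgroup.mem_inf, mem_stabilizer_iff]
  constructor
  · rintro ⟨a, b⟩
    exact ⟨by rw [Finset.smul_finset_symmDiff, a, b], by rw [Finset.smul_finset_sdiff, a, b]⟩
  · rintro ⟨a, b⟩
    have b' : g • (o' \ o) = o' \ o := by
      have e1 : o' \ o = symmDiff o o' \ (o \ o') := by
        ext x; simp only [Finset.mem_sdiff, Finset.mem_symmDiff]; tauto
      rw [e1, Finset.smul_finset_sdiff, a, b]
    refine ⟨octad_unique (smul_mem_octads' g ho) ho (f := o \ o') (by omega) ?_ Finset.sdiff_subset,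
      octad_unique (smul_mem_octads' g ho') ho' (f := o' \ o) (by omega) ?_ Finset.sdiff_subset⟩
    · conv_lhs => rw [← b]
      exact Finset.smul_finset_subset_smul_finset Finset.sdiff_subset
    · conv_lhs => rw [← b']
      exact Finset.smul_finset_subset_smul_finset Finset.sdiff_subset

end CfsgLib.Golay.Cert
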