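/-
The stabiliser of a standard quartet of the reference dodecad.
-/
import Mathlib.Data.List.Range

set_option autoImplicit false

namespace CfsgLib.Golay.Cert

/-- The first standard triple. -/
def qT : ℕ := 8388611

/-- The second standard triple. -/
def qU : ℕ := 16396

/-- The third standard triple. -/
def qA : ℕ := 4672

/-- The fourth standard triple. -/
def qB : ℕ := 33152

/-- The sixth point of the standard hexad. -/
def qSix : ℕ := 14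

/-- Elements fixing two triples of the standard quartet. -/
def qPair : List (List ℕ) := [
  [0,1,2,3,4,5,6,7,8,9,10,11,12,13,14,15,16,17,18,19,20,21,22,23],
  [0,1,2,14,4,17,7,6,12,15,20,18,8,13,3,9,16,5,11,21,10,19,22,23],
  [0,1,3,2,4,17,15,12,9,8,10,16,7,20,14,6,11,5,18,22,13,21,19,23],
  [0,1,3,14,4,5,12,15,7,6,13,18,9,20,2,8,11,17,16,21,10,22,19,23],
  [0,1,14,2,4,5,9,8,15,12,20,16,6,10,3,7,18,17,11,22,13,19,21,23],
  [0,1,14,3,4,17,8,9,6,7,13,11,15,10,2,12,18,5,16,19,20,22,21,23],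
  [1,0,2,3,4,17,8,12,6,15,10,19,7,13,14,9,22,5,21,11,20,18,16,23],
  [1,0,2,14,4,5,12,8,7,9,20,21,6,13,3,15,22,17,19,18,10,11,16,23],
  [1,0,3,2,4,5,9,7,15,6,10,22,12,20,14,8,19,17,21,16,13,18,11,23],
  [1,0,3,14,4,17,7,9,12,8,13,21,15,20,2,6,19,5,22,18,10,16,11,23],
  [1,0,14,2,4,17,15,6,9,7,20,22,8,10,3,12,21,5,19,16,13,11,18,23],
  [1,0,14,3,4,5,6,15,8,12,13,19,9,10,2,7,21,17,22,11,20,16,18,23],
  [23,1,2,3,4,17,7,6,9,8,18,20,15,16,14,12,13,5,10,19,11,21,22,0],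
  [23,1,2,14,4,5,6,7,15,12,11,10,9,16,3,8,13,17,20,21,18,19,22,0],
  [23,1,3,2,4,5,12,15,8,9,18,13,6,11,14,7,20,17,10,22,16,21,19,0],
  [23,1,3,14,4,17,15,12,6,7,16,10,8,11,2,9,20,5,13,21,18,22,19,0],
  [23,1,14,2,4,17,8,9,12,15,11,13,7,18,3,6,10,5,20,22,16,19,21,0],
  [23,1,14,3,4,5,9,8,7,6,16,20,12,18,2,15,10,17,13,19,11,22,21,0],
  [1,23,2,3,4,5,9,15,7,12,18,19,6,16,14,8,22,17,21,20,11,10,13,0],
  [1,23,2,14,4,17,15,9,6,8,11,21,7,16,3,12,22,5,19,10,18,20,13,0],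
  [1,23,3,2,4,17,8,6,12,7,18,22,15,11,14,9,19,5,21,13,16,10,20,0],
  [1,23,3,14,4,5,6,8,15,9,16,21,12,11,2,7,19,17,22,10,18,13,20,0],
  [1,23,14,2,4,5,12,7,8,6,11,22,9,18,3,15,21,17,19,13,16,20,10,0],
  [1,23,14,3,4,17,7,12,9,15,16,19,8,18,2,6,21,5,22,20,11,13,10,0],
  [23,0,2,3,4,5,12,8,15,6,21,20,9,22,14,7,13,17,10,11,19,18,16,1],
  [23,0,2,14,4,17,8,12,9,7,19,10,15,22,3,6,13,5,20,18,21,11,16,1],
  [23,0,3,2,4,17,7,9,6,15,21,13,8,19,14,12,20,5,10,16,22,18,11,1],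
  [23,0,3,14,4,5,9,7,8,12,22,10,6,19,2,15,20,17,13,18,21,16,11,1],
  [23,0,14,2,4,5,6,15,7,9,19,13,12,21,3,8,10,17,20,16,22,11,18,1],
  [23,0,14,3,4,17,15,6,12,8,22,20,7,21,2,9,10,5,13,11,19,16,18,1],
  [0,23,2,3,4,17,15,9,12,7,21,11,8,22,14,6,16,5,18,20,19,10,13,1],
  [0,23,2,14,4,5,9,15,8,6,19,18,12,22,3,7,16,17,11,10,21,20,13,1],
  [0,23,3,2,4,5,6,8,7,12,21,16,9,19,14,15,11,17,18,13,22,10,20,1],
  [0,23,3,14,4,17,8,6,9,15,22,18,7,19,2,12,11,5,16,10,21,13,20,1],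
  [0,23,14,2,4,17,7,12,6,8,19,16,15,21,3,9,18,5,11,13,22,20,10,1],
  [0,23,14,3,4,5,12,7,15,9,22,11,6,21,2,8,18,17,16,20,19,13,10,1]]

/-- Elements moving the two triples to every ordered pair. -/
def qReps : List (List ℕ) := [
  [9,12,2,3,17,4,8,0,23,7,18,11,15,22,14,1,13,5,21,19,20,10,16,6],
  [9,12,7,8,4,5,23,14,3,1,18,21,0,22,15,2,11,17,13,16,20,19,10,6],
  [9,12,0,1,5,17,2,8,7,14,20,21,3,18,23,15,11,4,13,19,22,10,16,6],
  [3,14,6,9,17,5,15,0,23,7,16,11,8,22,12,1,20,4,19,21,13,10,18,2],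
  [3,14,7,8,5,17,12,23,0,6,13,20,9,22,15,1,11,4,19,21,16,18,10,2],
  [3,14,0,1,4,17,6,15,7,12,13,19,9,16,23,8,11,5,20,21,22,10,18,2],
  [8,15,6,9,4,17,0,14,3,1,10,21,23,22,12,2,20,5,16,13,11,19,18,7],
  [8,15,2,3,5,4,9,23,0,6,10,20,12,22,14,1,16,17,21,19,11,18,13,7],
  [8,15,0,1,17,4,6,14,2,9,10,21,12,11,23,3,16,5,20,19,22,13,18,7],
  [1,23,6,9,5,4,3,8,7,14,16,21,2,18,12,15,22,17,19,13,11,10,20,0],
  [1,23,2,3,4,5,9,15,7,12,18,19,6,16,14,8,22,17,21,20,11,10,13,0],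
  [1,23,7,8,17,5,12,14,2,9,18,21,6,11,15,3,22,4,19,20,16,13,10,0]]

/-- A generator of the normal subgroup of order nine. -/
def qN1 : List ℕ := [1,23,2,3,4,5,9,15,7,12,18,19,6,16,14,8,22,17,21,20,11,10,13,0]

/-- Another generator. -/
def qN2 : List ℕ := [1,23,3,14,4,5,6,8,15,9,16,21,12,11,2,7,19,17,22,10,18,13,20,0]

/-- A quartet with orbit of size 12. -/
def qX12 : List ℕ := [70,521,33152,8409088]

/-- A quartet with orbit of size 27. -/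
def qX27 : List ℕ := [7,896,36928,8405000]

/-- A quartet with orbit of size 72. -/
def qX72 : List ℕ := [7,584,49280,8392960]

/-- A quartet with orbit of size 108. -/
def qX108 : List ℕ := [7,4232,16704,8421888]

/-- Words of octads missing a candidate hexad by one point. -/
def qBad : List ℕ := [11, 131, 199, 322, 435, 595]

/-- Words of octads cutting the six standard hexads. -/
def qGood : List ℕ := [47, 595, 435, 636, 412, 992]

/-- The six positions outside the first two standard triples. -/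
def qRest : List ℕ := [6, 7, 8, 9, 12, 15]

end CfsgLib.Golay.Cert
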