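/-
The quartets of a dodecad: uniqueness through two triples, transitivity, the stabiliser and its orbits.
-/
import Cfsg.Agent.Golay.DodecadFive
import Cfsg.Agent.Golay.InvCount
import Cfsg.Agent.Golay.QuartetData
import Cfsg.Agent.Golay.DodecadPos
import Mathlib.Algebra.Module.ZMod
import Mathlib.LinearAlgebra.Matrix.GeneralLinearGroup.Card

set_option autoImplicit false

namespace CfsgLib.Golay.Cert

open Cfsg CfsgLib.Golay MulAction
open scoped Pointwise

/-- The standard quartet. -/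
def Q0 : Obj := {pts qT, pts qU, pts qA, pts qB}

/-- The joint stabiliser of a dodecad and a quartet. -/
abbrev dq (d : Finset GolayPt) (Q : Obj) : Subgroup M24 := stabilizer M24 d ⊓ stabilizer M24 Q

theorem smul_hexadsOn (g : M24) {d h : Finset GolayPt} (hh : h ∈ hexadsOn d) : g • h ∈ hexadsOn (g • d) := by
  obtain ⟨h6, o, ho, hod⟩ := hh
  exact ⟨by rw [Finset.card_smul_finset]; exact h6, g • o, smul_mem_octads' g ho,
    by rw [← Finset.smul_finset_inter, hod]⟩

theorem smul_quartets (g : M24) {d : Finset GolayPt} {Q : Obj} (hQ : Q ∈ quartets d) :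
    g • Q ∈ quartets (g • d) := by
  obtain ⟨h4, h3, h6⟩ := hQ
  refine ⟨by rw [Finset.card_smul_finset]; exact h4, ?_, ?_⟩
  · intro t ht
    obtain ⟨s, hs, rfl⟩ := Finset.mem_smul_finset.mp ht
    exact ⟨by rw [Finset.card_smul_finset]; exact (h3 s hs).1, Finset.smul_finset_subset_smul_finset (h3 s hs).2⟩
  · intro t ht u hu htu
    obtain ⟨s, hs, rfl⟩ := Finset.mem_smul_finset.mp ht
    obtain ⟨r, hr, rfl⟩ := Finset.mem_smul_finset.mp hu
    rw [← Finset.smul_finset_union]
    exact smul_hexadsOn g (h6 s hs r hr fun e => htu (by rw [e]))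

/-- A hexad is determined by five of its points. -/
theorem hexad_eq {d h h' f : Finset GolayPt} (hh : h ∈ hexadsOn d) (hh' : h' ∈ hexadsOn d) (hf : 5 ≤ f.card)
    (h1 : f ⊆ h) (h2 : f ⊆ h') : h = h' := by
  obtain ⟨-, o, ho, rfl⟩ := hh
  obtain ⟨-, o', ho', rfl⟩ := hh'
  rw [octad_unique ho ho' hf (h1.trans Finset.inter_subset_left) (h2.trans Finset.inter_subset_left)]

theorem pts_lor (a b : ℕ) : pts (a ||| b) = pts a ∪ pts b := by
  ext p
  simp [pts, Nat.testBit_or]

theorem qGood_ok :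
    (∀ a ∈ [qT, qU, qA, qB], wt 24 a = 3 ∧ a < 2 ^ 24 ∧ a &&& 8442831 = a) ∧
    (∀ a ∈ [qT, qU, qA, qB], ∀ b ∈ [qT, qU, qA, qB], a ≠ b →
      ∃ c ∈ qGood, c < 4096 ∧ wt 24 (word c) = 8 ∧ word c &&& 8442831 = a ||| b ∧ wt 24 (a ||| b) = 6) ∧
    [qT, qU, qA, qB].Nodup := by decide +kernel

set_option synthInstance.maxSize 2000 in
theorem qBad_ok :
    ∀ i ∈ qRest, ∀ j ∈ qRest, ∀ k ∈ qRest, i < j → j < k →
      2 ^ i + 2 ^ j + 2 ^ k = qA ∨ 2 ^ i + 2 ^ j + 2 ^ k = qB ∨
        ∃ c ∈ qBad, c < 4096 ∧ wt 24 (word c) = 8 ∧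
          (wt 24 (word c &&& (qT ||| (2 ^ i + 2 ^ j + 2 ^ k))) = 5 ∨
            wt 24 (word c &&& (qU ||| (2 ^ i + 2 ^ j + 2 ^ k))) = 5) := by decide +kernel

set_option synthInstance.maxSize 2000 in
theorem qRest_ok : ∀ x < 24, (8442831 : ℕ).testBit x = true → qT.testBit x = false → qU.testBit x = false →
    x ∈ qRest := by decide +kernel

theorem pts_sub_of_and {a b : ℕ} (h : a &&& b = a) : pts a ⊆ pts b := by
  intro p hp
  rw [mem_pts] at hp ⊢
  rw [← h, Nat.testBit_and] at hp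
  simp only [Bool.and_eq_true] at hp
  exact hp.2

theorem octad_word {c : ℕ} (hc : c < 4096) (h8 : wt 24 (word c) = 8) : pts (word c) ∈ octads :=
  (mem_octads_iff _).mpr ⟨c, hc, h8, rfl⟩

theorem Q0_mem : Q0 ∈ quartets refDodecad := by
  obtain ⟨h1, h2, h3⟩ := qGood_ok
  have hmem : ∀ t, t ∈ Q0 ↔ ∃ a ∈ [qT, qU, qA, qB], pts a = t := by
    intro t; simp [Q0, eq_comm]
  refine ⟨?_, fun t ht => ?_, fun t ht u hu htu => ?_⟩
  · rw [show Q0 = ([qT, qU, qA, qB].map pts).toFinset by simp [Q0],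
      List.toFinset_card_of_nodup (h3.map_on fun a ha b hb => pts_inj (h1 a ha).2.1 (h1 b hb).2.1)]
    rfl
  · obtain ⟨a, ha, rfl⟩ := (hmem t).mp ht
    exact ⟨(card_pts a).trans (h1 a ha).1, by rw [refDod_eq]; exact pts_sub_of_and (h1 a ha).2.2⟩
  · obtain ⟨a, ha, rfl⟩ := (hmem t).mp ht
    obtain ⟨b, hb, rfl⟩ := (hmem u).mp hu
    obtain ⟨c, -, hc, h8, hcd, h6⟩ := h2 a ha b hb fun e => htu (by rw [e])
    refine ⟨by rw [← pts_lor, card_pts, h6], pts (word c), octad_word hc h8, ?_⟩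
    rw [refDod_eq, mask_inter, hcd, pts_lor]

theorem union_disjoint {t u : Finset GolayPt} (ht : t.card = 3) (hu : u.card = 3) (h : (t ∪ u).card = 6) :
    Disjoint t u := by
  have := Finset.card_union_add_card_inter t u
  rw [Finset.disjoint_iff_inter_eq_empty, ← Finset.card_eq_zero]
  omega

/-- Only one quartet contains the two standard triples. -/
theorem quartet_std {Q : Obj} (hQ : Q ∈ quartets refDodecad) (hT : pts qT ∈ Q) (hU : pts qU ∈ Q) : Q = Q0 := by
  obtain ⟨h4, h3, h6⟩ := hQ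
  have hcl : ∀ a ∈ Q, a ≠ pts qT → a ≠ pts qU → a = pts qA ∨ a = pts qB := by
    intro a ha hnT hnU
    have hTa := h6 _ hT a ha (Ne.symm hnT)
    have hUa := h6 _ hU a ha (Ne.symm hnU)
    have hdT := union_disjoint (h3 _ hT).1 (h3 a ha).1 hTa.1
    have hdU := union_disjoint (h3 _ hU).1 (h3 a ha).1 hUa.1
    have hrest : ∀ p ∈ a, idx p ∈ qRest := by
      intro p hp
      refine qRest_ok _ (idx_lt p) ?_ ?_ ?_
      · have := (h3 a ha).2 hp
        rwa [refDod_eq, mem_pts] at this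
      · rw [Bool.eq_false_iff]
        exact fun h => Finset.disjoint_left.mp hdT (mem_pts.mpr h) hp
      · rw [Bool.eq_false_iff]
        exact fun h => Finset.disjoint_left.mp hdU (mem_pts.mpr h) hp
    obtain ⟨i, j, k, hi, hj, hk, hij, hjk, hijk⟩ : ∃ i j k, i ∈ qRest ∧ j ∈ qRest ∧ k ∈ qRest ∧ i < j ∧ j < k ∧
        a = pts (2 ^ i + 2 ^ j + 2 ^ k) := by
      have hc : (a.image idx).card = 3 := by rw [Finset.card_image_of_injective _ idx_injective]; exact (h3 a ha).1
      set l := (a.image idx).sort (· ≤ ·) with hl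
      have hlen : l.length = 3 := by rw [hl, Finset.length_sort, hc]
      obtain ⟨i, j, k, hlist⟩ := List.length_eq_three.mp hlen
      have hs : List.Pairwise (· < ·) l := (Finset.sortedLT_sort _).pairwise
      rw [hlist] at hs
      simp only [List.pairwise_cons, List.mem_cons, List.not_mem_nil, or_false, forall_eq_or_imp, forall_eq] at hs
      have hm : ∀ p, p ∈ a ↔ idx p = i ∨ idx p = j ∨ idx p = k := by
        intro p
        have : idx p ∈ l ↔ p ∈ a := by rw [hl, Finset.mem_sort]; exact idx_injective.mem_finset_image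
        rw [← this, hlist]
        simp
      have hin : ∀ x, x = i ∨ x = j ∨ x = k → x ∈ qRest ∧ x < 24 := by
        intro x hx
        have : x ∈ l := by rw [hlist]; simpa using hx
        rw [hl, Finset.mem_sort, Finset.mem_image] at this
        obtain ⟨p, hp, rfl⟩ := this
        exact ⟨hrest p hp, idx_lt p⟩
      refine ⟨i, j, k, (hin i (by simp)).1, (hin j (by simp)).1, (hin k (by simp)).1, hs.1.1, hs.2.1, ?_⟩
      have hpow : 2 ^ i + 2 ^ j + 2 ^ k = 2 ^ i ||| 2 ^ j ||| 2 ^ k := by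
        have key : ∀ a < 24, ∀ b < 24, ∀ c < 24, a < b → b < c → 2 ^ a + 2 ^ b + 2 ^ c = 2 ^ a ||| 2 ^ b ||| 2 ^ c := by
          decide +kernel
        exact key i (hin i (by simp)).2 j (hin j (by simp)).2 k (hin k (by simp)).2 hs.1.1 hs.2.1
      ext p
      rw [hm, mem_pts, hpow]
      simp only [Nat.testBit_or, Nat.testBit_two_pow, Bool.or_eq_true, decide_eq_true_eq]
      constructor <;> intro h <;> omega
    rcases qBad_ok i hi j hj k hk hij hjk with h | h | ⟨c, -, hc, h8, h5⟩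
    · exact Or.inl (hijk.trans (congrArg pts h))
    · exact Or.inr (hijk.trans (congrArg pts h))
    · exfalso
      have key : ∀ x, (pts x ∪ a) ∈ hexadsOn refDodecad →
          wt 24 (word c &&& (x ||| (2 ^ i + 2 ^ j + 2 ^ k))) ≠ 5 := by
        intro x hx e
        obtain ⟨h6', o, ho, hoh⟩ := hx
        have hC : pts (word c) ∩ (pts x ∪ a) = pts (word c &&& (x ||| (2 ^ i + 2 ^ j + 2 ^ k))) := by
          rw [hijk, ← pts_lor, mask_inter]
        have heq := octad_unique (octad_word hc h8) ho (f := pts (word c) ∩ (pts x ∪ a))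
          (by rw [hC, card_pts, e]) Finset.inter_subset_left (Finset.inter_subset_right.trans (hoh ▸ Finset.inter_subset_left))
        have : (pts (word c) ∩ (pts x ∪ a)).card = 6 := by
          rw [heq, Finset.inter_eq_right.mpr (hoh ▸ Finset.inter_subset_left)]
          exact h6'
        rw [hC, card_pts, e] at this
        omega
      rcases h5 with h | h
      exacts [key qT hTa h, key qU hUa h]
  refine Finset.eq_of_subset_of_card_le (fun a ha => ?_) (by rw [h4, Q0_mem.1])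
  by_cases hnT : a = pts qT
  · simp [Q0, hnT]
  by_cases hnU : a = pts qU
  · simp [Q0, hnU]
  rcases hcl a ha hnT hnU with h | h <;> simp [Q0, h]

/-- Two triples forming a hexad, moved to standard position. -/
theorem exists_std_pair {d : Finset GolayPt} (hd : d ∈ dodecads) {t u : Finset GolayPt} (ht : t.card = 3)
    (hu : u.card = 3) (hh : t ∪ u ∈ hexadsOn d) :
    ∃ k : M24, k • refDodecad = d ∧ k • pts qT = t ∧ k • pts qU = u := by
  have hdis := union_disjoint ht hu hh.1
  have hsub : t ∪ u ⊆ d := by obtain ⟨-, o, -, hod⟩ := hh; exact hod ▸ Finset.inter_subset_right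
  obtain ⟨a, b, c, hab, hac, hbc, rfl⟩ := Finset.card_eq_three.mp ht
  obtain ⟨e, f, g, hef, -, -, rfl⟩ := Finset.card_eq_three.mp hu
  simp only [Finset.disjoint_left, Finset.mem_insert, Finset.mem_singleton, not_or, forall_eq_or_imp, forall_eq] at hdis
  obtain ⟨k, hkd, hk⟩ := exists_std_five hd (l := [a, b, c, e, f]) rfl (by
    simp [hab, hac, hbc, hef, hdis.1.1, hdis.1.2.1, hdis.2.1.1, hdis.2.1.2.1, hdis.2.2.1, hdis.2.2.2.1]) (by
    intro x hx
    refine hsub ?_
    simp only [List.mem_cons, List.not_mem_nil, or_false] at hx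
    rcases hx with rfl | rfl | rfl | rfl | rfl <;> simp)
  have hT0 : pts qT = {pt 23, pt 0, pt 1} := by decide +kernel
  have hkT : k • pts qT = {a, b, c} := by
    rw [hT0, Finset.smul_finset_insert, Finset.smul_finset_insert, Finset.smul_finset_singleton]
    have e0 : k • pt 23 = a := hk 0 (by norm_num)
    have e1 : k • pt 0 = b := hk 1 (by norm_num)
    have e2 : k • pt 1 = c := hk 2 (by norm_num)
    rw [e0, e1, e2]
  refine ⟨k, hkd, hkT, ?_⟩
  have hTU : pts qT ∪ pts qU ∈ hexadsOn refDodecad :=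
    Q0_mem.2.2 _ (by simp [Q0]) _ (by simp [Q0]) (fun e => absurd
      (pts_inj (qGood_ok.1 qT (by simp)).2.1 (qGood_ok.1 qU (by simp)).2.1 e) (by decide +kernel))
  have hk' : k • (pts qT ∪ pts qU) = {a, b, c} ∪ {e, f, g} := by
    refine hexad_eq (hkd ▸ smul_hexadsOn k hTU) hh (f := {a, b, c, e, f}) ?_ ?_ ?_
    · rw [Finset.card_insert_of_notMem, Finset.card_insert_of_notMem, Finset.card_insert_of_notMem, Finset.card_pair hef] <;>
        simp [hab, hac, hbc, hdis.1.1, hdis.1.2.1, hdis.2.1.1, hdis.2.1.2.1, hdis.2.2.1, hdis.2.2.2.1]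
    · have hp : ∀ x ∈ pts qT ∪ pts qU, k.1 x ∈ k • (pts qT ∪ pts qU) := fun x hx => (smul_mem_iff' k).mpr hx
      have hin : ∀ i ∈ q5, pt i ∈ pts qT ∪ pts qU := by decide +kernel
      have e0 : k.1 (pt 23) = a := hk 0 (by norm_num)
      have e1 : k.1 (pt 0) = b := hk 1 (by norm_num)
      have e2 : k.1 (pt 1) = c := hk 2 (by norm_num)
      have e3 : k.1 (pt 2) = e := hk 3 (by norm_num)
      have e4 : k.1 (pt 3) = f := hk 4 (by norm_num)
      intro x hx
      simp only [Finset.mem_insert, Finset.mem_singleton] at hx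
      rcases hx with rfl | rfl | rfl | rfl | rfl
      exacts [e0 ▸ hp _ (hin 23 (by decide)), e1 ▸ hp _ (hin 0 (by decide)),
        e2 ▸ hp _ (hin 1 (by decide)), e3 ▸ hp _ (hin 2 (by decide)),
        e4 ▸ hp _ (hin 3 (by decide))]
    · intro x hx
      simp only [Finset.mem_insert, Finset.mem_singleton] at hx
      rcases hx with rfl | rfl | rfl | rfl | rfl <;> simp
  rw [Finset.smul_finset_union, hkT] at hk'
  have hd0 : Disjoint (k • pts qT) (k • pts qU) := by
    refine union_disjoint ?_ ?_ ?_ <;> simp only [← Finset.smul_finset_union, Finset.card_smul_finset]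
    exacts [(card_pts _).trans (qGood_ok.1 qT (by simp)).1, (card_pts _).trans (qGood_ok.1 qU (by simp)).1, hTU.1]
  rw [hkT] at hd0
  have hd1 : Disjoint ({a, b, c} : Finset GolayPt) {e, f, g} := union_disjoint ht hu hh.1
  calc k • pts qU = ({a, b, c} ∪ k • pts qU) \ {a, b, c} := (Finset.union_sdiff_cancel_left hd0).symm
    _ = ({a, b, c} ∪ {e, f, g}) \ {a, b, c} := by rw [hk']
    _ = {e, f, g} := Finset.union_sdiff_cancel_left hd1

/-- Two triples forming a hexad lie in exactly one quartet. -/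
theorem quartet_unique {d : Finset GolayPt} (hd : d ∈ dodecads) {t u : Finset GolayPt} (ht : t.card = 3)
    (hu : u.card = 3) (hh : t ∪ u ∈ hexadsOn d) : ∃! Q : Obj, Q ∈ quartets d ∧ t ∈ Q ∧ u ∈ Q := by
  obtain ⟨k, hkd, hkt, hku⟩ := exists_std_pair hd ht hu hh
  refine ⟨k • Q0, ⟨hkd ▸ smul_quartets k Q0_mem, hkt ▸ Finset.smul_mem_smul_finset (by simp [Q0]),
    hku ▸ Finset.smul_mem_smul_finset (by simp [Q0])⟩, ?_⟩
  rintro Q ⟨hQ, htQ, huQ⟩
  have h := quartet_std (Q := k⁻¹ • Q) (inv_smul_eq_iff.mpr hkd.symm ▸ smul_quartets k⁻¹ hQ)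
    (by rw [← inv_smul_smul k (pts qT), hkt]; exact Finset.smul_mem_smul_finset htQ)
    (by rw [← inv_smul_smul k (pts qU), hku]; exact Finset.smul_mem_smul_finset huQ)
  rw [← h, smul_inv_smul]

/-- A quartet moved to standard position. -/
theorem exists_std_quartet {d : Finset GolayPt} (hd : d ∈ dodecads) {Q : Obj} (hQ : Q ∈ quartets d) :
    ∃ k : M24, k • refDodecad = d ∧ k • Q0 = Q := by
  obtain ⟨t, htQ, u, huQ, htu⟩ := Finset.one_lt_card.mp (by rw [hQ.1]; norm_num : 1 < Q.card)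
  have hh := hQ.2.2 t htQ u huQ htu
  obtain ⟨k, hkd, hkt, hku⟩ := exists_std_pair hd (hQ.2.1 t htQ).1 (hQ.2.1 u huQ).1 hh
  refine ⟨k, hkd, ?_⟩
  obtain ⟨Q', -, huniq⟩ := quartet_unique hd (hQ.2.1 t htQ).1 (hQ.2.1 u huQ).1 hh
  rw [huniq Q ⟨hQ, htQ, huQ⟩, huniq (k • Q0) ⟨hkd ▸ smul_quartets k Q0_mem,
    hkt ▸ Finset.smul_mem_smul_finset (by simp [Q0]), hku ▸ Finset.smul_mem_smul_finset (by simp [Q0])⟩]

/-! ### The stabiliser of the standard quartet -/

/-- The listed stabiliser of the standard quartet. -/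
def qAll : List (List ℕ) := qReps.flatMap fun r => qPair.map (compL r)

theorem toObj_qList : toObj [4672, 16396, 33152, 8388611] = Q0 := by decide +kernel

theorem qgen_ok0 : ∀ L ∈ qReps, genOK L = true ∧ same L [8442831] [8442831] = true ∧
    same L [4672, 16396, 33152, 8388611] [4672, 16396, 33152, 8388611] = true := by decide +kernel

theorem qgen_ok1 : ∀ L ∈ qPair, genOK L = true ∧ same L [8442831] [8442831] = true ∧
    same L [4672, 16396, 33152, 8388611] [4672, 16396, 33152, 8388611] = true := by decide +kernel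

theorem qreps_ok : ∀ a ∈ [qT, qU, qA, qB], ∀ b ∈ [qT, qU, qA, qB], a ≠ b →
    ∃ L ∈ qReps, permF L qT = a ∧ permF L qU = b := by decide +kernel

set_option synthInstance.maxSize 2000 in
theorem qpair_ok : ∀ a ∈ [23, 0, 1], ∀ b ∈ [23, 0, 1], ∀ c ∈ [2, 3, qSix], ∀ d ∈ [2, 3, qSix], a ≠ b → c ≠ d →
    ∃ L ∈ qPair, L.getD 23 0 = a ∧ L.getD 0 0 = b ∧ L.getD 2 0 = c ∧ L.getD 3 0 = d ∧
      L.getD 1 0 ∈ [23, 0, 1] ∧ L.getD 1 0 ≠ a ∧ L.getD 1 0 ≠ b := by decide +kernel

theorem mem_dq_of_list {g : M24} {L : List ℕ} (hg : toList g.1 = L) (h1 : same L [8442831] [8442831] = true)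
    (h2 : same L [4672, 16396, 33152, 8388611] [4672, 16396, 33152, 8388611] = true) : g ∈ dq refDodecad Q0 := by
  refine ⟨?_, ?_⟩
  · have := same_spec hg (by decide +kernel) h1
    rwa [toObj_one, smul_one', one'_inj, ← refDod_eq] at this
  · have := same_spec hg (by decide +kernel) h2
    rwa [toObj_qList] at this

/-- Everything in the stabiliser of the standard quartet is a listed product. -/
theorem dq_factor {g : M24} (hg : g ∈ dq refDodecad Q0) :
    ∃ r p : M24, toList r.1 ∈ qReps ∧ toList p.1 ∈ qPair ∧ g = r * p := by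
  obtain ⟨hd, hQ⟩ := hg
  obtain ⟨h1, -, h3⟩ := qGood_ok
  have hmem : ∀ t, t ∈ Q0 ↔ ∃ a ∈ [qT, qU, qA, qB], pts a = t := by
    intro t; simp [Q0, eq_comm]
  have himg : ∀ t, t ∈ Q0 → g • t ∈ Q0 := fun t ht => by
    have h := Finset.smul_mem_smul_finset (a := g) ht
    rwa [mem_stabilizer_iff.mp hQ] at h
  obtain ⟨a, ha, hae⟩ := (hmem _).mp (himg (pts qT) (by simp [Q0]))
  obtain ⟨b, hb, hbe⟩ := (hmem _).mp (himg (pts qU) (by simp [Q0]))
  have hab : a ≠ b := fun e => by
    subst e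
    have := MulAction.injective g (hae.symm.trans hbe)
    exact absurd (pts_inj (h1 qT (by simp)).2.1 (h1 qU (by simp)).2.1 this) (by decide +kernel)
  obtain ⟨L, hL, hLa, hLb⟩ := qreps_ok a ha b hb hab
  obtain ⟨r, hr⟩ := genOK_spec (qgen_ok0 L hL).1
  have hrmem := mem_dq_of_list hr (qgen_ok0 L hL).2.1 (qgen_ok0 L hL).2.2
  have hrT : r • pts qT = g • pts qT := by
    rw [← hae, ← hLa, ← hr, pts_permF, smul_finset_eq_image]
  have hrU : r • pts qU = g • pts qU := by
    rw [← hbe, ← hLb, ← hr, pts_permF, smul_finset_eq_image]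
  set p := r⁻¹ * g with hp
  have hpT : p • pts qT = pts qT := by rw [hp, mul_smul, ← hrT, inv_smul_smul]
  have hpU : p • pts qU = pts qU := by rw [hp, mul_smul, ← hrU, inv_smul_smul]
  have hpd : p ∈ stabilizer M24 refDodecad := mul_mem (inv_mem hrmem.1) hd
  have hTl : ∀ i < 24, qT.testBit i = true ↔ i ∈ [23, 0, 1] := by decide +kernel
  have hUl : ∀ i < 24, qU.testBit i = true ↔ i ∈ [2, 3, qSix] := by decide +kernel
  have him : ∀ (m : ℕ) (hm : p • pts m = pts m) (i : ℕ), i < 24 → m.testBit i = true →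
      m.testBit ((toList p.1).getD i 0) = true := by
    intro m hm i hi h
    rw [toList_getD _ hi, ← mem_pts, ← hm]
    exact (smul_mem_iff' p).mpr (by rw [mem_pts, idx_pt i hi]; exact h)
  have hne : ∀ i j, i < 24 → j < 24 → i ≠ j → (toList p.1).getD i 0 ≠ (toList p.1).getD j 0 := fun i j hi hj hij e => by
    rw [toList_getD _ hi, toList_getD _ hj] at e
    have := congrArg idx (p.1.injective (idx_injective e))
    rw [idx_pt i hi, idx_pt j hj] at this
    exact hij this
  have lt : ∀ i, i < 24 → (toList p.1).getD i 0 < 24 := fun i hi => by rw [toList_getD _ hi]; exact idx_lt _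
  have inT : ∀ i, i < 24 → i ∈ [23, 0, 1] → (toList p.1).getD i 0 ∈ [23, 0, 1] := fun i hi h =>
    (hTl _ (lt i hi)).mp (him qT hpT i hi ((hTl i hi).mpr h))
  have inU : ∀ i, i < 24 → i ∈ [2, 3, qSix] → (toList p.1).getD i 0 ∈ [2, 3, qSix] := fun i hi h =>
    (hUl _ (lt i hi)).mp (him qU hpU i hi ((hUl i hi).mpr h))
  obtain ⟨M, hM, e23, e0, e2, e3, m1, m1a, m1b⟩ := qpair_ok _ (inT 23 (by norm_num) (by simp)) _ (inT 0 (by norm_num) (by simp))
    _ (inU 2 (by norm_num) (by simp)) _ (inU 3 (by norm_num) (by simp))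
    (hne 23 0 (by norm_num) (by norm_num) (by norm_num)) (hne 2 3 (by norm_num) (by norm_num) (by norm_num))
  have e1 : M.getD 1 0 = (toList p.1).getD 1 0 := by
    have k := inT 1 (by norm_num) (by simp)
    have k1 := hne 1 23 (by norm_num) (by norm_num) (by norm_num)
    have k2 := hne 1 0 (by norm_num) (by norm_num) (by norm_num)
    have k3 := hne 23 0 (by norm_num) (by norm_num) (by norm_num)
    have k4 := inT 23 (by norm_num) (by simp)
    have k5 := inT 0 (by norm_num) (by simp)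
    simp only [List.mem_cons, List.not_mem_nil, or_false] at m1 k k4 k5
    omega
  obtain ⟨c, hc⟩ := genOK_spec (qgen_ok1 M hM).1
  have hcmem := mem_dq_of_list hc (qgen_ok1 M hM).2.1 (qgen_ok1 M hM).2.2
  have hcp : c⁻¹ * p = 1 := by
    refine eq_one_of_fix_five (fun j hj => ?_) (mem_stabilizer_iff.mp (mul_mem (inv_mem hcmem.1) hpd))
    have hag : ∀ i < 24, M.getD i 0 = (toList p.1).getD i 0 → (c⁻¹ * p).1 (pt i) = pt i := by
      intro i hi e
      rw [← hc, toList_getD _ hi, toList_getD _ hi] at e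
      rw [Subgroup.coe_mul, Equiv.Perm.mul_apply, ← idx_injective e, Subgroup.coe_inv, Equiv.Perm.inv_def, Equiv.symm_apply_apply]
    interval_cases j
    exacts [hag 23 (by norm_num) e23, hag 0 (by norm_num) e0, hag 1 (by norm_num) e1, hag 2 (by norm_num) e2, hag 3 (by norm_num) e3]
  refine ⟨r, c, hr ▸ hL, hc ▸ hM, ?_⟩
  rw [inv_mul_eq_one.mp hcp, hp, mul_inv_cancel_left]

theorem list_of_mem_dq {g : M24} (hg : g ∈ dq refDodecad Q0) : toList g.1 ∈ qAll := by
  obtain ⟨r, p, hr, hp, rfl⟩ := dq_factor hg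
  rw [qAll, List.mem_flatMap]
  exact ⟨_, hr, List.mem_map.mpr ⟨_, hp, by rw [Subgroup.coe_mul, toList_mul]⟩⟩

theorem mem_dq_of_mem_list {L : List ℕ} (hL : L ∈ qAll) : ∃ g : dq refDodecad Q0, toList g.1.1 = L := by
  rw [qAll, List.mem_flatMap] at hL
  obtain ⟨a, ha, hb⟩ := hL
  obtain ⟨b, hb', rfl⟩ := List.mem_map.mp hb
  obtain ⟨r, hr⟩ := genOK_spec (qgen_ok0 a ha).1
  obtain ⟨p, hp⟩ := genOK_spec (qgen_ok1 b hb').1
  exact ⟨⟨r * p, mul_mem (mem_dq_of_list hr (qgen_ok0 a ha).2.1 (qgen_ok0 a ha).2.2)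
    (mem_dq_of_list hp (qgen_ok1 b hb').2.1 (qgen_ok1 b hb').2.2)⟩, by rw [Subgroup.coe_mul, toList_mul, hr, hp]⟩

theorem qAll_ok : qAll.Nodup ∧ qAll.length = 432 := by decide +kernel

/-- The stabiliser of the standard quartet is the list. -/
noncomputable def dqEquiv : dq refDodecad Q0 ≃ {L // L ∈ qAll} :=
  Equiv.ofBijective (fun g => ⟨toList g.1.1, list_of_mem_dq g.2⟩)
    ⟨fun a b h => Subtype.ext (toList_coe_injective (congrArg Subtype.val h)), fun L => by
      obtain ⟨g, hg⟩ := mem_dq_of_mem_list L.2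
      exact ⟨g, Subtype.ext hg⟩⟩

theorem card_dq0 : Nat.card (dq refDodecad Q0) = 432 := by
  rw [Nat.card_congr (dqEquiv.trans (Equiv.subtypeEquivRight fun L => (List.mem_toFinset (l := qAll)).symm)),
    Nat.card_eq_fintype_card, Fintype.card_coe, List.toFinset_card_of_nodup qAll_ok.1, qAll_ok.2]

theorem orbit_card_mul (K : Subgroup M24) (X : Obj) :
    (orbit K X).ncard * Nat.card ↥(K ⊓ stabilizer M24 X) = Nat.card K := by
  have h := (stabilizer K X).card_mul_index
  rw [index_stabilizer] at h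
  rw [mul_comm, ← h]
  congr 1
  exact Nat.card_congr
    { toFun := fun g => ⟨⟨g.1, g.2.1⟩, g.2.2⟩
      invFun := fun g => ⟨g.1.1, g.1.2, g.2⟩
      left_inv := fun _ => rfl
      right_inv := fun _ => rfl }

theorem std_orbit {X : List ℕ} (hX : canonL X = true) {n m : ℕ}
    (hm : (qAll.filter fun L => same L X X).length = m) (hnm : n * m = 432) :
    (orbit (dq refDodecad Q0) (toObj X)).ncard = n := by
  have h := orbit_card_mul (dq refDodecad Q0) (toObj X)
  have hc : Nat.card ↥(dq refDodecad Q0 ⊓ stabilizer M24 (toObj X)) = m := by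
    let e : ↥(dq refDodecad Q0 ⊓ stabilizer M24 (toObj X)) ≃ {g : dq refDodecad Q0 // g.1 • toObj X = toObj X} :=
      { toFun := fun g => ⟨⟨g.1, g.2.1⟩, g.2.2⟩
        invFun := fun g => ⟨g.1.1, g.1.2, g.2⟩
        left_inv := fun _ => rfl
        right_inv := fun _ => rfl }
    rw [Nat.card_congr (e.trans ((Equiv.subtypeEquiv (q := fun L => same L.1 X X = true) dqEquiv fun g => smul_toObj_eq_iff hX).trans
      ((Equiv.subtypeSubtypeEquivSubtypeInter (fun L => L ∈ qAll) fun L => same L X X = true).trans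
        (Equiv.subtypeEquivRight (q := fun L => L ∈ (qAll.filter fun L => same L X X).toFinset) fun L => by simp)))),
      Nat.card_eq_fintype_card, Fintype.card_coe, List.toFinset_card_of_nodup (qAll_ok.1.filter _), hm]
  rw [hc, card_dq0, ← hnm] at h
  exact Nat.eq_of_mul_eq_mul_right (Nat.pos_of_ne_zero fun e => by simp [e] at hnm) h

/-- Conjugation between stabilisers. -/
def dqConj (k : M24) {d : Finset GolayPt} {Q : Obj} (hd : k • refDodecad = d) (hQ : k • Q0 = Q) :
    dq refDodecad Q0 ≃* dq d Q where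
  toFun g := ⟨k * g.1 * k⁻¹, by
    refine ⟨mem_stabilizer_iff.mpr ?_, mem_stabilizer_iff.mpr ?_⟩
    · rw [← hd, mul_smul, mul_smul, inv_smul_smul, mem_stabilizer_iff.mp g.2.1]
    · rw [← hQ, mul_smul, mul_smul, inv_smul_smul, mem_stabilizer_iff.mp g.2.2]⟩
  invFun g := ⟨k⁻¹ * g.1 * k, by
    refine ⟨mem_stabilizer_iff.mpr ?_, mem_stabilizer_iff.mpr ?_⟩
    · rw [mul_smul, mul_smul, hd, mem_stabilizer_iff.mp g.2.1, inv_smul_eq_iff, hd]
    · rw [mul_smul, mul_smul, hQ, mem_stabilizer_iff.mp g.2.2, inv_smul_eq_iff, hQ]⟩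
  left_inv g := Subtype.ext (by simp [mul_assoc])
  right_inv g := Subtype.ext (by simp [mul_assoc])
  map_mul' g h := Subtype.ext (by simp [mul_assoc])

theorem quartets_count_trans {d : Finset GolayPt} (hd : d ∈ dodecads) :
    (quartets d).ncard = 220 ∧ ∀ Q ∈ quartets d, ∀ Q' ∈ quartets d, ∃ g : Equiv.Perm GolayPt,
      g ∈ M24 ∧ g • d = d ∧ g • Q = Q' := by
  have htr : ∀ Q ∈ quartets d, ∀ Q' ∈ quartets d, ∃ g : M24, g • d = d ∧ g • Q = Q' := by
    intro Q hQ Q' hQ'
    obtain ⟨a, had, haQ⟩ := exists_std_quartet hd hQ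
    obtain ⟨b, hbd, hbQ⟩ := exists_std_quartet hd hQ'
    exact ⟨b * a⁻¹, by rw [mul_smul, inv_smul_eq_iff.mpr had.symm, hbd], by rw [mul_smul, inv_smul_eq_iff.mpr haQ.symm, hbQ]⟩
  refine ⟨?_, fun Q hQ Q' hQ' => ?_⟩
  · obtain ⟨k, hkd⟩ := exists_smul_refDodecad hd
    have hQ := hkd ▸ smul_quartets k Q0_mem
    have horb : orbit (stabilizer M24 d) (k • Q0) = quartets d := by
      ext X
      constructor
      · rintro ⟨g, rfl⟩
        have := smul_quartets g.1 hQ
        rwa [mem_stabilizer_iff.mp g.2] at this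
      · intro hX
        obtain ⟨g, hgd, hgX⟩ := htr _ hQ X hX
        exact ⟨⟨g, hgd⟩, hgX⟩
    have h := orbit_card_mul (stabilizer M24 d) (k • Q0)
    rw [horb, card_dodecad_stabilizer hd, ← Nat.card_congr (dqConj k hkd rfl).toEquiv, card_dq0] at h
    omega
  · obtain ⟨g, hgd, hgQ⟩ := htr Q hQ Q' hQ'
    exact ⟨g.1, g.2, hgd, hgQ⟩

theorem orbit_ok0 : canonL qX12 = true ∧ canonL qX27 = true ∧ canonL qX72 = true ∧ canonL qX108 = true ∧
    canonL [4672, 16396, 33152, 8388611] = true := by decide +kernel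

theorem orbit_ok1 : (qAll.filter fun L => same L qX12 qX12).length = 36 := by decide +kernel
theorem orbit_ok2 : (qAll.filter fun L => same L qX27 qX27).length = 16 := by decide +kernel
theorem orbit_ok3 : (qAll.filter fun L => same L qX72 qX72).length = 6 := by decide +kernel
theorem orbit_ok4 : (qAll.filter fun L => same L qX108 qX108).length = 4 := by decide +kernel

/-- The listed quartets are quartets. -/
def quartetOK (X : List ℕ) : Bool :=
  X.length == 4 && (X.all fun a => wt 24 a == 3 && a &&& 8442831 == a) &&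
    X.all fun a => X.all fun b => a == b || (List.range 4096).any fun c =>
      wt 24 (word c) == 8 && (word c &&& 8442831 == a ||| b && wt 24 (a ||| b) == 6)

theorem quartetOK_spec {X : List ℕ} (hc : canonL X = true) (h : quartetOK X = true) : toObj X ∈ quartets refDodecad := by
  simp only [quartetOK, Bool.and_eq_true, beq_iff_eq, List.all_eq_true, List.any_eq_true, List.mem_range,
    Bool.or_eq_true] at h
  obtain ⟨⟨hlen, h3⟩, h6⟩ := h
  refine ⟨?_, fun t ht => ?_, fun t ht u hu htu => ?_⟩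
  · rw [toObj, List.toFinset_card_of_nodup (nodup_pts hc), List.length_map, hlen]
  · obtain ⟨a, ha, rfl⟩ := mem_toObj.mp ht
    exact ⟨(card_pts a).trans (h3 a ha).1, by rw [refDod_eq]; exact pts_sub_of_and (h3 a ha).2⟩
  · obtain ⟨a, ha, rfl⟩ := mem_toObj.mp ht
    obtain ⟨b, hb, rfl⟩ := mem_toObj.mp hu
    rcases h6 a ha b hb with e | ⟨c, hc', h8, hcd, hw⟩
    · exact absurd (by rw [e]) htu
    · refine ⟨by rw [← pts_lor, card_pts, hw], pts (word c), octad_word hc' h8, ?_⟩
      rw [refDod_eq, mask_inter, hcd, pts_lor]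

theorem quartet_orbits {d : Finset GolayPt} (hd : d ∈ dodecads) {Q : Obj} (hQ : Q ∈ quartets d) :
    ∃ X₁ ∈ quartets d, ∃ X₂ ∈ quartets d, ∃ X₃ ∈ quartets d, ∃ X₄ ∈ quartets d,
      (orbit (dq d Q) X₁).ncard = 12 ∧ (orbit (dq d Q) X₂).ncard = 27 ∧ (orbit (dq d Q) X₃).ncard = 72 ∧
      (orbit (dq d Q) X₄).ncard = 108 ∧
      quartets d = {Q} ∪ orbit (dq d Q) X₁ ∪ orbit (dq d Q) X₂ ∪ orbit (dq d Q) X₃ ∪ orbit (dq d Q) X₄ := by
  obtain ⟨k, hkd, hkQ⟩ := exists_std_quartet hd hQ
  have hq : quartetOK qX12 = true ∧ quartetOK qX27 = true ∧ quartetOK qX72 = true ∧ quartetOK qX108 = true := by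
    decide +kernel
  obtain ⟨c1, c2, c3, c4, -⟩ := orbit_ok0
  have hin : ∀ X : Obj, X ∈ quartets refDodecad → k • X ∈ quartets d := fun X hX => hkd ▸ smul_quartets k hX
  have horb : ∀ X : Obj, (orbit (dq d Q) (k • X)).ncard = (orbit (dq refDodecad Q0) X).ncard := fun X => by
    rw [← Set.ncard_image_of_injective (orbit (dq refDodecad Q0) X) (MulAction.injective k : Function.Injective (k • · : Obj → Obj))]
    congr 1
    ext Y
    constructor
    · rintro ⟨g, rfl⟩
      refine ⟨((dqConj k hkd hkQ).symm g).1 • X, ⟨(dqConj k hkd hkQ).symm g, rfl⟩, ?_⟩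
      show k • ((k⁻¹ * g.1 * k) • X) = g.1 • (k • X)
      rw [mul_smul, mul_smul, smul_inv_smul]
    · rintro ⟨Z, ⟨g, rfl⟩, rfl⟩
      refine ⟨dqConj k hkd hkQ g, ?_⟩
      show (k * g.1 * k⁻¹) • (k • X) = k • (g.1 • X)
      rw [mul_smul, mul_smul, inv_smul_smul]
  set A := k • toObj qX12
  set B := k • toObj qX27
  set C := k • toObj qX72
  set D := k • toObj qX108
  have hA : (orbit (dq d Q) A).ncard = 12 := (horb _).trans (std_orbit c1 orbit_ok1 (by norm_num))
  have hB : (orbit (dq d Q) B).ncard = 27 := (horb _).trans (std_orbit c2 orbit_ok2 (by norm_num))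
  have hC : (orbit (dq d Q) C).ncard = 72 := (horb _).trans (std_orbit c3 orbit_ok3 (by norm_num))
  have hD : (orbit (dq d Q) D).ncard = 108 := (horb _).trans (std_orbit c4 orbit_ok4 (by norm_num))
  have mA := hin _ (quartetOK_spec c1 hq.1)
  have mB := hin _ (quartetOK_spec c2 hq.2.1)
  have mC := hin _ (quartetOK_spec c3 hq.2.2.1)
  have mD := hin _ (quartetOK_spec c4 hq.2.2.2)
  refine ⟨A, mA, B, mB, C, mC, D, mD, hA, hB, hC, hD, ?_⟩
  have hQo : (orbit (dq d Q) Q) = {Q} := by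
    ext X
    constructor
    · rintro ⟨g, rfl⟩; exact mem_stabilizer_iff.mp g.2.2
    · rintro rfl; exact mem_orbit_self _
  have hsub : ∀ X ∈ quartets d, orbit (dq d Q) X ⊆ quartets d := by
    rintro X hX _ ⟨g, rfl⟩
    have := smul_quartets g.1 hX
    rwa [mem_stabilizer_iff.mp g.2.1] at this
  have hdis : ∀ X Y : Obj, (orbit (dq d Q) X).ncard ≠ (orbit (dq d Q) Y).ncard →
      Disjoint (orbit (dq d Q) X) (orbit (dq d Q) Y) := fun X Y h => by
    rw [Set.disjoint_left]
    intro Z hX hY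
    exact h (by rw [← orbit_eq_iff.mpr hX, orbit_eq_iff.mpr hY])
  have hne : ∀ X, (orbit (dq d Q) X).ncard ≠ 1 → Disjoint ({Q} : Set Obj) (orbit (dq d Q) X) := fun X h =>
    hQo ▸ hdis Q X (by rw [hQo, Set.ncard_singleton]; exact Ne.symm h)
  refine (Set.eq_of_subset_of_ncard_le ?_ ?_ (Set.toFinite _)).symm
  · simp only [Set.union_subset_iff, Set.singleton_subset_iff]
    exact ⟨⟨⟨⟨hQ, hsub A mA⟩, hsub B mB⟩, hsub C mC⟩, hsub D mD⟩
  · have d1 : Disjoint ({Q} : Set Obj) (orbit (dq d Q) A) := hne A (by rw [hA]; norm_num)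
    have d2 : Disjoint (({Q} : Set Obj) ∪ orbit (dq d Q) A) (orbit (dq d Q) B) :=
      Set.disjoint_union_left.mpr ⟨hne B (by rw [hB]; norm_num), hdis _ _ (by rw [hA, hB]; norm_num)⟩
    have d3 : Disjoint (({Q} : Set Obj) ∪ orbit (dq d Q) A ∪ orbit (dq d Q) B) (orbit (dq d Q) C) := by
      simp only [Set.disjoint_union_left]
      exact ⟨⟨hne C (by rw [hC]; norm_num), hdis _ _ (by rw [hA, hC]; norm_num)⟩, hdis _ _ (by rw [hB, hC]; norm_num)⟩
    have d4 : Disjoint (({Q} : Set Obj) ∪ orbit (dq d Q) A ∪ orbit (dq d Q) B ∪ orbit (dq d Q) C) (orbit (dq d Q) D) := by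
      simp only [Set.disjoint_union_left]
      exact ⟨⟨⟨hne D (by rw [hD]; norm_num), hdis _ _ (by rw [hA, hD]; norm_num)⟩, hdis _ _ (by rw [hB, hD]; norm_num)⟩,
        hdis _ _ (by rw [hC, hD]; norm_num)⟩
    rw [(quartets_count_trans hd).1, Set.ncard_union_eq d4, Set.ncard_union_eq d3, Set.ncard_union_eq d2,
      Set.ncard_union_eq d1, Set.ncard_singleton, hA, hB, hC, hD]

theorem dq_transitive {d : Finset GolayPt} (hd : d ∈ dodecads) {Q : Obj} (hQ : Q ∈ quartets d) {p q : GolayPt}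
    (hp : p ∈ d) (hq : q ∈ d) : ∃ g ∈ dq d Q, g.1 p = q := by
  obtain ⟨k, hkd, hkQ⟩ := exists_std_quartet hd hQ
  have hok : ∀ i < 24, ∀ j < 24, (8442831 : ℕ).testBit i = true → (8442831 : ℕ).testBit j = true →
      (qAll.any fun L => L.getD i 0 == j) = true := by decide +kernel
  have hb : ∀ x ∈ d, (8442831 : ℕ).testBit (idx (k.1.symm x)) = true := fun x hx => by
    rw [← mem_pts, ← refDod_eq]
    exact (smul_mem_iff' k).mp (by rw [hkd, show k • k.1.symm x = x from k.1.apply_symm_apply x]; exact hx)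
  obtain ⟨L, hL, hLpq⟩ := List.any_eq_true.mp (hok _ (idx_lt _) _ (idx_lt _) (hb p hp) (hb q hq))
  obtain ⟨g, hg⟩ := mem_dq_of_mem_list hL
  refine ⟨_, (dqConj k hkd hkQ g).2, ?_⟩
  show (k * g.1 * k⁻¹).1 p = q
  rw [beq_iff_eq, ← hg, toList_getD_idx] at hLpq
  simp [Equiv.Perm.mul_apply, idx_injective hLpq]

/-! ### The quotient by the normal subgroup of order nine -/

/-- The element of a vector. -/
def qVec (v : Fin 2 → ZMod 3) : List ℕ := compL (powL qN1 (v 0).val) (powL qN2 (v 1).val)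

theorem qVec_ok0 : Function.Injective qVec := by decide +kernel
theorem qVec_ok1 : ∀ v w, qVec (v + w) = compL (qVec v) (qVec w) := by decide +kernel
theorem qVec_ok2 : ∀ v, qVec v ∈ qAll := by decide +kernel
theorem qVec_ok3 : ∀ k ∈ qReps ++ qPair, ∀ v, ∃ w, compL k (qVec v) = compL (qVec w) k := by decide +kernel
theorem qVec_ok4 : ∀ L ∈ qAll, compL L qN1 = compL qN1 L → compL L qN2 = compL qN2 L → ∃ v, L = qVec v := by
  decide +kernel
theorem qVec_ok5 : qVec ![1, 0] = qN1 ∧ qVec ![0, 1] = qN2 := by decide +kernel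

/-- The normal subgroup of order nine as a homomorphic image. -/
noncomputable def qNHom : Multiplicative (Fin 2 → ZMod 3) →* dq refDodecad Q0 :=
  MonoidHom.mk' (fun v => (mem_dq_of_mem_list (qVec_ok2 v.toAdd)).choose) fun v w => by
    apply Subtype.ext
    apply toList_coe_injective
    show toList _ = toList (((mem_dq_of_mem_list (qVec_ok2 v.toAdd)).choose *
      (mem_dq_of_mem_list (qVec_ok2 w.toAdd)).choose : dq refDodecad Q0).1.1)
    rw [(mem_dq_of_mem_list (qVec_ok2 (v * w).toAdd)).choose_spec, Subgroup.coe_mul, Subgroup.coe_mul, toList_mul,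
      (mem_dq_of_mem_list (qVec_ok2 v.toAdd)).choose_spec, (mem_dq_of_mem_list (qVec_ok2 w.toAdd)).choose_spec]
    exact qVec_ok1 _ _

theorem toList_qNHom (v : Multiplicative (Fin 2 → ZMod 3)) : toList (qNHom v).1.1 = qVec v.toAdd :=
  (mem_dq_of_mem_list (qVec_ok2 v.toAdd)).choose_spec

theorem qNHom_injective : Function.Injective qNHom := fun v w h => by
  have := congrArg (fun g : dq refDodecad Q0 => toList g.1.1) h
  simp only [toList_qNHom] at this
  exact Multiplicative.toAdd.injective (qVec_ok0 this)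

theorem toList_dq_injective : Function.Injective fun g : dq refDodecad Q0 => toList g.1.1 :=
  toList_coe_injective.comp Subtype.val_injective

theorem qN_normal : qNHom.range.Normal := by
  refine ⟨?_⟩
  rintro _ ⟨v, rfl⟩ g
  have hstep : ∀ k : M24, ∀ (hk : k ∈ dq refDodecad Q0), toList k.1 ∈ qReps ++ qPair →
      ∀ v, ∃ w, (⟨k, hk⟩ : dq refDodecad Q0) * qNHom v * (⟨k, hk⟩ : dq refDodecad Q0)⁻¹ = qNHom w := by
    intro k hk hL v
    obtain ⟨w, hw⟩ := qVec_ok3 _ hL v.toAdd
    refine ⟨Multiplicative.ofAdd w, ?_⟩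
    rw [mul_inv_eq_iff_eq_mul]
    refine toList_dq_injective ?_
    simp only [Subgroup.coe_mul, toList_mul, toList_qNHom]
    exact hw
  obtain ⟨r, p, hr, hp, hrp⟩ := dq_factor g.2
  obtain ⟨hr1, hr2, hr3⟩ := qgen_ok0 _ hr
  obtain ⟨hp1, hp2, hp3⟩ := qgen_ok1 _ hp
  have hrm := mem_dq_of_list (g := r) rfl hr2 hr3
  have hpm := mem_dq_of_list (g := p) rfl hp2 hp3
  obtain ⟨w, hw⟩ := hstep p hpm (List.mem_append_right _ hp) v
  obtain ⟨u, hu⟩ := hstep r hrm (List.mem_append_left _ hr) w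
  refine ⟨u, ?_⟩
  rw [← hu, ← hw, show g = (⟨r, hrm⟩ : dq refDodecad Q0) * ⟨p, hpm⟩ from Subtype.ext hrp]
  group

/-- The automorphisms of the group of order nine as linear maps. -/
def autToLin : MulAut (Multiplicative (Fin 2 → ZMod 3)) →*
    ((Fin 2 → ZMod 3) ≃ₗ[ZMod 3] (Fin 2 → ZMod 3)) where
  toFun f := (AddEquiv.toMultiplicative.symm f).toLinearEquiv fun c x =>
    ZMod.map_smul (AddEquiv.toMultiplicative.symm f).toAddMonoidHom c x
  map_one' := LinearEquiv.ext fun _ => rfl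
  map_mul' _ _ := LinearEquiv.ext fun _ => rfl

theorem autToLin_injective : Function.Injective autToLin := fun f g h =>
  MulEquiv.ext fun x => congrArg Multiplicative.ofAdd (LinearEquiv.congr_fun h x.toAdd)

theorem quotient_gl : ∃ (N : Subgroup (dq refDodecad Q0)) (_ : N.Normal), Nat.card N = 9 ∧
    Nonempty (dq refDodecad Q0 ⧸ N ≃* GL (Fin 2) (ZMod 3)) := by
  haveI := qN_normal
  haveI : Fact (Nat.Prime 3) := ⟨Nat.prime_three⟩
  set N := qNHom.range with hN
  have hN9 : Nat.card N = 9 := by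
    rw [← Nat.card_congr (MonoidHom.ofInjective qNHom_injective).toEquiv, Nat.card_congr Multiplicative.toAdd,
      Nat.card_fun, Nat.card_fin, Nat.card_zmod]
    rfl
  let e : N ≃* Multiplicative (Fin 2 → ZMod 3) := (MonoidHom.ofInjective qNHom_injective).symm
  let ψ : dq refDodecad Q0 →* GL (Fin 2) (ZMod 3) :=
    ((Matrix.GeneralLinearGroup.toLin.trans
      (LinearMap.GeneralLinearGroup.generalLinearEquiv (ZMod 3) (Fin 2 → ZMod 3))).symm.toMonoidHom).comp
      (autToLin.comp ((MulAut.congr e).toMonoidHom.comp MulAut.conjNormal))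
  have hker : ψ.ker = N := by
    refine le_antisymm (fun g hg => ?_) ?_
    · have h1 : MulAut.conjNormal (H := N) g = 1 := by
        have h := MonoidHom.mem_ker.mp hg
        simp only [ψ, MonoidHom.coe_comp, MulEquiv.coe_toMonoidHom, Function.comp_apply] at h
        rw [map_eq_one_iff _ (MulEquiv.injective _), map_eq_one_iff _ autToLin_injective,
          map_eq_one_iff _ (MulEquiv.injective _)] at h
        exact h
      have hcomm : ∀ v, g * qNHom v = qNHom v * g := fun v => by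
        have := congrArg (fun f : MulAut N => ((f ⟨qNHom v, v, rfl⟩ : N) : dq refDodecad Q0)) h1
        simp only [MulAut.conjNormal_apply, MulAut.one_apply] at this
        exact mul_inv_eq_iff_eq_mul.mp this
      have hL : ∀ v, compL (toList g.1.1) (qVec v) = compL (qVec v) (toList g.1.1) := fun v => by
        have := congrArg (fun x : dq refDodecad Q0 => toList x.1.1) (hcomm (Multiplicative.ofAdd v))
        simpa only [Subgroup.coe_mul, toList_mul, toList_qNHom, toAdd_ofAdd] using this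
      obtain ⟨v, hv⟩ := qVec_ok4 _ (list_of_mem_dq g.2) (qVec_ok5.1 ▸ hL _) (qVec_ok5.2 ▸ hL _)
      exact ⟨Multiplicative.ofAdd v, toList_dq_injective ((toList_qNHom _).trans hv.symm)⟩
    · rintro _ ⟨v, rfl⟩
      have h1 : MulAut.conjNormal (H := N) (qNHom v) = 1 := by
        refine MulEquiv.ext fun x => Subtype.ext ?_
        obtain ⟨_, w, rfl⟩ := x
        rw [MulAut.conjNormal_apply, MulAut.one_apply]
        show qNHom v * qNHom w * (qNHom v)⁻¹ = qNHom w
        rw [mul_inv_eq_iff_eq_mul, ← map_mul, ← map_mul, mul_comm]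
      rw [MonoidHom.mem_ker]
      simp only [ψ, MonoidHom.coe_comp, Function.comp_apply, h1, map_one]
  have hGL : Nat.card (GL (Fin 2) (ZMod 3)) = 48 := by
    rw [Matrix.card_GL_field]
    simp [Fin.prod_univ_two, ZMod.card]
  have hsurj : Function.Surjective ψ := by
    rw [← MonoidHom.range_eq_top]
    refine Subgroup.eq_top_of_card_eq _ ?_
    have h := Subgroup.card_eq_card_quotient_mul_card_subgroup ψ.ker
    rw [Nat.card_congr (QuotientGroup.quotientKerEquivRange ψ).toEquiv, hker, hN9, card_dq0] at h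
    omega
  exact ⟨N, qN_normal, hN9, ⟨(QuotientGroup.quotientMulEquivOfEq hker.symm).trans
    (QuotientGroup.quotientKerEquivOfSurjective ψ hsurj)⟩⟩

theorem quartet_structure {d : Finset GolayPt} (hd : d ∈ dodecads) {Q : Obj} (hQ : Q ∈ quartets d) :
    Nat.card ↥(dq d Q) = 432 ∧
      (∃ (N : Subgroup ↥(dq d Q)) (_ : N.Normal), Nat.card N = 9 ∧
        Nonempty (↥(dq d Q) ⧸ N ≃* GL (Fin 2) (ZMod 3))) ∧
      ∀ p ∈ d, ∀ q ∈ d, ∃ g ∈ dq d Q, g.1 p = q := by
  obtain ⟨k, hkd, hkQ⟩ := exists_std_quartet hd hQ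
  set e := dqConj k hkd hkQ
  obtain ⟨N, hN, hN9, ⟨f⟩⟩ := quotient_gl
  refine ⟨(Nat.card_congr e.toEquiv).symm.trans card_dq0, ?_, fun p hp q hq => dq_transitive hd hQ hp hq⟩
  haveI := hN
  have hN' : (N.map e.toMonoidHom).Normal := hN.map _ e.surjective
  refine ⟨N.map e.toMonoidHom, hN', (Subgroup.card_map_of_injective e.injective).trans hN9, ⟨?_⟩⟩
  haveI := hN'
  exact (QuotientGroup.congr N (N.map e.toMonoidHom) e rfl).symm.trans f

end CfsgLib.Golay.Cert
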