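/-
Subgroups containing the pointwise stabiliser of an octad: their large orbit and the small rest.
-/
import Cfsg.Agent.Golay.OctadStab
import Cfsg.Agent.Golay.IndexPoint

set_option autoImplicit false

namespace CfsgLib.Golay.Cert

open Cfsg CfsgLib.Golay MulAction
open scoped Pointwise

/-- The elements fixing each point of a set. -/
abbrev fixG (o : Finset GolayPt) : Subgroup M24 := fixingSubgroup M24 (o : Set GolayPt)

theorem mem_fixG {o : Finset GolayPt} {g : M24} : g ∈ fixG o ↔ ∀ x ∈ o, g • x = x :=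
  mem_fixingSubgroup_iff M24

theorem card_fixG {o : Finset GolayPt} (ho : o ∈ octads) : Nat.card (fixG o) = 16 := by
  rw [← (octad_fixing ho).1]
  exact Nat.card_congr
    { toFun := fun g => ⟨g.1.1, g.1.2,
        (mem_fixingSubgroup_iff (Equiv.Perm GolayPt)).mpr fun x hx => mem_fixG.mp g.2 x hx⟩
      invFun := fun g => ⟨⟨g.1, g.2.1⟩,
        mem_fixG.mpr fun x hx => (mem_fixingSubgroup_iff (Equiv.Perm GolayPt)).mp g.2.2 x hx⟩
      left_inv := fun _ => rfl
      right_inv := fun _ => rfl }

theorem card_stab_obj {C : Cat} {n : ℕ} (hC : C.Inv) (h : IsTrans C [] [] n) {X : Obj} (hX : C.Mem X) :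
    Nat.card ↥(stabilizer M24 X) * n = 244823040 := by
  have h' := h.card_mul hC (K := ⊤) (fun g => by simp [Fix]) hX rfl
  rw [top_inf_eq, Nat.card_congr Subgroup.topEquiv.toEquiv, card_M24] at h'
  exact h'

theorem fixG_trans {o : Finset GolayPt} (ho : o ∈ octads) {q r : GolayPt} (hq : q ∉ o) (hr : r ∉ o) :
    ∃ g ∈ fixG o, g • q = r := by
  obtain ⟨g, hg, hgq⟩ := exists_fix_map ho hq hr
  exact ⟨g, mem_fixG.mpr hg, hgq⟩

theorem card_stab_pts (s : Finset GolayPt) (hs : s.card ≤ 5) :
    Nat.card (stabilizer M24 s) * Nat.choose 24 s.card = 244823040 := by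
  have horb : orbit M24 s = ↑(Finset.univ.powersetCard s.card : Finset (Finset GolayPt)) := by
    ext t
    simp only [Finset.mem_coe, Finset.mem_powersetCard, Finset.subset_univ, true_and]
    constructor
    · rintro ⟨g, rfl⟩; exact Finset.card_smul_finset g s
    · intro ht
      obtain ⟨g, hg⟩ := exists_map_card ht.symm hs
      exact ⟨g, hg⟩
  have h := (stabilizer M24 s).card_mul_index
  rw [index_stabilizer, horb, Set.ncard_coe_finset, Finset.card_powersetCard, Finset.card_univ,
    card_golayPt, card_M24] at h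
  exact h

/-- A subgroup keeping a set, elementwise. -/
theorem le_stabilizer_of_forall {J : Subgroup M24} {R : Finset GolayPt}
    (h : ∀ g ∈ J, ∀ x ∈ R, g • x ∈ R) : J ≤ stabilizer M24 R := fun g hg =>
  mem_stabilizer_iff.mpr (Finset.eq_of_subset_of_card_le
    (fun y hy => by
      obtain ⟨x, hx, rfl⟩ := Finset.mem_smul_finset.mp hy
      exact h g hg x hx)
    (by rw [Finset.card_smul_finset]))

theorem octad_stab_of_five {o R : Finset GolayPt} (ho : o ∈ octads) (hR : R ⊆ o) (h5 : 5 ≤ R.card) :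
    stabilizer M24 R ≤ stabilizer M24 o := by
  intro g hg
  refine mem_stabilizer_iff.mpr (octad_unique (smul_mem_octads' g ho) ho h5 ?_ hR)
  conv_lhs => rw [← mem_stabilizer_iff.mp hg]
  exact Finset.smul_finset_subset_smul_finset hR

/-- The points outside the large orbit. -/
noncomputable def smallPart (J : Subgroup M24) (q : GolayPt) : Finset GolayPt := (orbF J q)ᶜ

theorem card_smallPart (J : Subgroup M24) (q : GolayPt) :
    (smallPart J q).card + (orbF J q).card = 24 := by
  rw [smallPart, Finset.card_compl_add_card, card_golayPt]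

theorem smallPart_inv (J : Subgroup M24) (q : GolayPt) : J ≤ stabilizer M24 (smallPart J q) := by
  have h : J ≤ stabilizer M24 (orbF J q) := le_stabilizer_of_forall fun g hg x hx => orbF_inv hg hx
  intro g hg
  exact mem_stabilizer_iff.mpr (by rw [smallPart, compl_smul, mem_stabilizer_iff.mp (h hg)])

theorem dvd_orbF (J : Subgroup M24) (q : GolayPt) : (orbF J q).card ∣ Nat.card J :=
  Dvd.intro _ (card_orbF J q)

theorem smallPart_subset {o : Finset GolayPt} (ho : o ∈ octads) {J : Subgroup M24} (hK : fixG o ≤ J)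
    {q : GolayPt} (hq : q ∉ o) : smallPart J q ⊆ o := by
  intro r hr
  by_contra h
  obtain ⟨g, hg, rfl⟩ := fixG_trans ho hq h
  exact Finset.mem_compl.mp hr (mem_orbF.mpr ⟨⟨g, hK hg⟩, rfl⟩)

/-- A rest of five or more points is the whole octad. -/
theorem smallPart_eq_of_five {o : Finset GolayPt} (ho : o ∈ octads) {J : Subgroup M24} (hK : fixG o ≤ J)
    {q : GolayPt} (hq : q ∉ o) (h5 : 5 ≤ (smallPart J q).card) :
    smallPart J q = o ∧ J ≤ stabilizer M24 o := by
  have hJo : J ≤ stabilizer M24 o :=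
    (smallPart_inv J q).trans (octad_stab_of_five ho (smallPart_subset ho hK hq) h5)
  refine ⟨Finset.Subset.antisymm (smallPart_subset ho hK hq) fun r hr => ?_, hJo⟩
  refine Finset.mem_compl.mpr fun hro => hq ?_
  obtain ⟨k, hk⟩ := mem_orbF.mp hro
  have := (smul_mem_iff' (k : M24) (p := q) (s := o))
  rw [mem_stabilizer_iff.mp (hJo k.2)] at this
  exact this.mp (by rw [show (k : M24) • q = r from hk]; exact hr)

/-- A subgroup of odd index contains a conjugate of the pointwise stabiliser of an octad. -/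
theorem exists_fixG_le {A H : Subgroup M24} (hHA : H ≤ A) {o : Finset GolayPt} (ho : o ∈ octads)
    (hKA : fixG o ≤ A) (hodd : Odd (Nat.card A / Nat.card H)) :
    ∃ a ∈ A, fixG (a • o) ≤ H := by
  haveI : Fact (Nat.Prime 2) := ⟨Nat.prime_two⟩
  set H' := H.subgroupOf A
  have hH' : Nat.card H' = Nat.card H := Nat.card_congr (Subgroup.subgroupOfEquivOfLe hHA).toEquiv
  have hidx : Nat.card A / Nat.card H = H'.index := by
    rw [← H'.card_mul_index, hH', Nat.mul_div_cancel_left _ Nat.card_pos]
  let Q : Sylow 2 H' := default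
  let S : Sylow 2 A := Sylow.ofCard ((Q : Subgroup H').map H'.subtype) (by
    rw [Subgroup.card_subtype, Q.card_eq_multiplicity, ← H'.card_mul_index,
      Nat.factorization_mul Nat.card_pos.ne' H'.index_ne_zero_of_finite, Finsupp.add_apply,
      Nat.factorization_eq_zero_of_not_dvd (n := H'.index)
        (Nat.two_dvd_ne_zero.mpr (Nat.odd_iff.mp (by rw [← hidx]; exact hodd))), add_zero])
  have hK : IsPGroup 2 ((fixG o).subgroupOf A) :=
    IsPGroup.of_card (n := 4) (by
      rw [Nat.card_congr (Subgroup.subgroupOfEquivOfLe hKA).toEquiv, card_fixG ho]; rfl)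
  obtain ⟨T, hT⟩ := hK.exists_le_sylow
  obtain ⟨a, ha⟩ := MulAction.exists_smul_eq A T S
  refine ⟨a, a.2, fun g hg => ?_⟩
  have hg' : (a : M24)⁻¹ * g * a ∈ fixG o := mem_fixG.mpr fun x hx => by
    rw [mul_smul, mul_smul, mem_fixG.mp hg _ (Finset.smul_mem_smul_finset hx), inv_smul_smul]
  have hmem : (⟨(a : M24)⁻¹ * g * a, hKA hg'⟩ : A) ∈ (T : Subgroup A) := hT hg'
  have h2 : (MulAut.conj a) ⟨(a : M24)⁻¹ * g * a, hKA hg'⟩ ∈ (S : Subgroup A) := by
    rw [← ha, Sylow.coe_subgroup_smul]
    exact Subgroup.smul_mem_pointwise_smul _ _ _ hmem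
  obtain ⟨z, -, hz⟩ := h2
  have e : ((z : A) : M24) = g := by
    rw [show (z : A) = _ from hz]
    show (a : M24) * ((a : M24)⁻¹ * g * a) * (a : M24)⁻¹ = g
    group
  exact e ▸ z.2

set_option maxHeartbeats 400000 in
/-- The sextet or trio situation of a transitive subgroup. -/
theorem transitive_blocks {H : Subgroup M24} (htrans : ∀ x y : GolayPt, ∃ g ∈ H, g • x = y)
    {o : Finset GolayPt} (ho : o ∈ octads) (hK : fixG o ≤ H)
    (hdiv : ∀ L, L ∣ Nat.card H → L ≠ 22 ∧ L ≠ 23) (hbig : 138240 ≤ Nat.card H) :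
    (∃ T ∈ trios, H ≤ stabilizer M24 T) ∨
      ∃ S ∈ sextets, H ≤ stabilizer M24 S ∧ Nat.card H ≤ 138240 := by
  classical
  obtain ⟨p, hp⟩ : o.Nonempty := Finset.card_pos.mp (by rw [octad_card ho]; norm_num)
  obtain ⟨q, -, hq⟩ : ∃ q ∈ (Finset.univ : Finset GolayPt), q ∉ o :=
    Finset.exists_mem_notMem_of_card_lt_card (by rw [Finset.card_univ, card_golayPt, octad_card ho]; norm_num)
  set J : GolayPt → Subgroup M24 := fun r => H ⊓ stabilizer M24 r with hJ
  have hKJ : ∀ {o' : Finset GolayPt} {r : GolayPt}, fixG o' ≤ H → r ∈ o' → fixG o' ≤ J r :=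
    fun hle hr g hg => ⟨hle hg, mem_stabilizer_iff.mpr (mem_fixG.mp hg _ hr)⟩
  set B := smallPart (J p) q with hB
  have hBo : B ⊆ o := smallPart_subset ho (hKJ hK hp) hq
  have hpB : p ∈ B := Finset.mem_compl.mpr fun h => hq (by
    obtain ⟨k, hk⟩ := mem_orbF.mp h
    have : q = p := smul_left_cancel (k : M24) (hk.trans (mem_stabilizer_iff.mp k.2.2).symm)
    exact this ▸ hp)
  have hJB : ∀ g ∈ J p, g • B = B := fun g hg => mem_stabilizer_iff.mp (smallPart_inv (J p) q hg)
  have hsum := card_smallPart (J p) q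
  set L := (orbF (J p) q).card with hL
  have hLdvd : L ∣ Nat.card (J p) := dvd_orbF _ _
  have hLH : L ∣ Nat.card H :=
    hLdvd.trans (Subgroup.card_dvd_of_le inf_le_left)
  have hL16 : 16 ≤ L := by
    have := Finset.card_le_card hBo
    rw [octad_card ho] at this
    rw [← hB] at hsum
    omega
  have hb3 : 3 ≤ B.card := by
    have := hdiv L hLH
    have : 1 ≤ B.card := Finset.card_pos.mpr ⟨p, hpB⟩
    rw [← hB] at hsum
    omega
  choose h hhH hhp using htrans p
  -- the block of a point
  set Bk : GolayPt → Finset GolayPt := fun r => h r • B with hBk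
  have well : ∀ g ∈ H, g • B = Bk (g • p) := by
    intro g hg
    have : (h (g • p))⁻¹ * g ∈ J p := ⟨H.mul_mem (H.inv_mem (hhH _)) hg, mem_stabilizer_iff.mpr (by
      rw [mul_smul, inv_smul_eq_iff, hhp])⟩
    have := hJB _ this
    rw [mul_smul, inv_smul_eq_iff] at this
    exact this
  have hBp : Bk p = B := by simpa using (well 1 H.one_mem).symm
  have equi : ∀ g ∈ H, ∀ r, g • Bk r = Bk (g • r) := fun g hg r => by
    rw [hBk]; dsimp only
    rw [← mul_smul, well _ (H.mul_mem hg (hhH r)), mul_smul, hhp]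
  have self : ∀ r, r ∈ Bk r := fun r => by
    have := (smul_mem_iff' (h r) (p := p) (s := B)).mpr hpB
    rwa [hhp] at this
  have cardBk : ∀ r, (Bk r).card = B.card := fun r => Finset.card_smul_finset _ _
  -- the block of a point of an octad lies in the octad
  have key : ∀ {o' : Finset GolayPt}, o' ∈ octads → fixG o' ≤ H → ∀ r ∈ o', Bk r ⊆ o' := by
    intro o' ho' hK' r hr z hz
    by_contra hzo
    have hsub : (o'ᶜ : Finset GolayPt) ⊆ Bk r := by
      intro y hy
      obtain ⟨g, hg, rfl⟩ := fixG_trans ho' hzo (Finset.mem_compl.mp hy)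
      have := equi g (hK' hg) r
      rw [mem_fixG.mp hg r hr] at this
      rw [← this]
      exact Finset.smul_mem_smul_finset hz
    have := Finset.card_le_card hsub
    rw [Finset.card_compl, card_golayPt, octad_card ho', cardBk] at this
    have := Finset.card_le_card hBo
    rw [octad_card ho] at this
    omega
  have part : (B.card = 8 ∨ B.card ≤ 4) → ∀ r, ∀ z ∈ Bk r, Bk z = Bk r := by
    intro hb
    suffices hsuff : ∀ z ∈ B, Bk z = B by
      intro r z hz
      obtain ⟨y, hy, rfl⟩ := Finset.mem_smul_finset.mp (show z ∈ h r • B from hz)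
      rw [← equi _ (hhH r), hsuff y hy]
    intro z hz
    rcases hb with hb | hb
    · have hBeq : B = o := Finset.eq_of_subset_of_card_le hBo (by rw [octad_card ho, hb])
      exact Finset.eq_of_subset_of_card_le ((key ho hK z (hBo hz)).trans hBeq.symm.subset) (by rw [cardBk])
    refine Finset.eq_of_subset_of_card_le (fun r hr => ?_) (by rw [cardBk])
    by_contra hrB
    have hrO : r ∈ orbF (J p) q := by simpa [hB, smallPart] using hrB
    set J' := J p ⊓ stabilizer M24 z with hJ'
    have h1 := card_orbF (J p) z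
    have h2 := card_orbF (J p) r
    have h3 := card_orbF J' r
    have hi : (orbF (J p) z).card ≤ B.card := Finset.card_le_card fun x hx => by
      obtain ⟨k, rfl⟩ := mem_orbF.mp hx
      have := hJB k k.2
      rw [← this]
      exact Finset.smul_mem_smul_finset hz
    have hs : (orbF J' r).card ≤ B.card := by
      rw [← cardBk z]
      refine Finset.card_le_card fun x hx => ?_
      obtain ⟨k, rfl⟩ := mem_orbF.mp hx
      have := equi k.1 k.2.1.1 z
      rw [mem_stabilizer_iff.mp k.2.2] at this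
      rw [← this]
      exact Finset.smul_mem_smul_finset hr
    have hLr : (orbF (J p) r).card = L := by
      rw [hL]
      congr 1
      obtain ⟨k, hk⟩ := mem_orbF.mp hrO
      ext x
      rw [mem_orbF, mem_orbF, ← hk, MulAction.orbit_smul]
    have hle : Nat.card ↥(J' ⊓ stabilizer M24 r) ≤ Nat.card ↥(J p ⊓ stabilizer M24 r) :=
      Nat.le_of_dvd Nat.card_pos (Subgroup.card_dvd_of_le (inf_le_inf_right _ inf_le_left))
    rw [hLr] at h2
    have hpos : 0 < Nat.card ↥(J p ⊓ stabilizer M24 r) := Nat.card_pos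
    have : L * Nat.card ↥(J p ⊓ stabilizer M24 r) ≤ (B.card * B.card) * Nat.card ↥(J p ⊓ stabilizer M24 r) := by
      rw [h2, ← h1, ← hJ', ← h3, mul_assoc]
      exact Nat.mul_le_mul hi (Nat.mul_le_mul hs hle)
    have := Nat.le_of_mul_le_mul_right this hpos
    have : B.card * B.card ≤ 4 * 4 := Nat.mul_le_mul hb hb
    rw [← hB] at hsum
    omega
  have hb : B.card = 8 ∨ B.card ≤ 4 := by
    by_cases h5 : 5 ≤ B.card
    · exact Or.inl (by rw [show B = o from (smallPart_eq_of_five ho (hKJ hK hp) hq h5).1, octad_card ho])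
    · exact Or.inr (by omega)
  have hpart := part hb
  clear_value B L
  set S : Finset (Finset GolayPt) := Finset.univ.image Bk with hS
  have hmemS : ∀ {t}, t ∈ S → ∀ r ∈ t, Bk r = t := by
    intro t ht r hr
    obtain ⟨z, -, rfl⟩ := Finset.mem_image.mp ht
    exact hpart z r hr
  have hdisj : ∀ t ∈ S, ∀ u ∈ S, t ≠ u → Disjoint t u := fun t ht u hu hne =>
    Finset.disjoint_left.mpr fun r h1 h2 => hne ((hmemS ht r h1).symm.trans (hmemS hu r h2))
  have hScard : S.card * B.card = 24 := by
    have h := Finset.card_eq_sum_card_image Bk (Finset.univ : Finset GolayPt)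
    rw [Finset.card_univ, card_golayPt, ← hS] at h
    have e : ∀ t ∈ S, (Finset.univ.filter fun r => Bk r = t).card = B.card := by
      intro t ht
      obtain ⟨z, -, rfl⟩ := Finset.mem_image.mp ht
      refine Eq.trans (congrArg Finset.card ?_) (cardBk z)
      ext r
      simp only [Finset.mem_filter, Finset.mem_univ, true_and]
      exact ⟨fun e => e ▸ self r, fun hr => hpart z r hr⟩
    exact (h.trans ((Finset.sum_congr rfl e).trans (Finset.sum_const_nat fun _ _ => rfl))).symm
  have hHS : H ≤ stabilizer M24 S := fun g hg => by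
    refine mem_stabilizer_iff.mpr (Finset.eq_of_subset_of_card_le (fun t ht => ?_) (by rw [Finset.card_smul_finset]))
    obtain ⟨u, hu, rfl⟩ := Finset.mem_smul_finset.mp ht
    obtain ⟨z, -, rfl⟩ := Finset.mem_image.mp hu
    rw [equi g hg z]
    exact Finset.mem_image_of_mem _ (Finset.mem_univ _)
  rcases hb with hb | hb
  · refine Or.inl ⟨S, ⟨by rw [hb] at hScard; omega, fun t ht => ?_, hdisj⟩, hHS⟩
    obtain ⟨z, -, rfl⟩ := Finset.mem_image.mp ht
    have hBeq : B = o := Finset.eq_of_subset_of_card_le hBo (by rw [octad_card ho, hb])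
    exact smul_mem_octads' _ (hBeq ▸ ho)
  -- inside the octad the blocks fill up
  have hfill : (o.image Bk).card * B.card = 8 := by
    have h := Finset.card_eq_sum_card_image Bk o
    rw [octad_card ho] at h
    have e : ∀ t ∈ o.image Bk, (o.filter fun r => Bk r = t).card = B.card := by
      intro t ht
      obtain ⟨z, hz, rfl⟩ := Finset.mem_image.mp ht
      refine Eq.trans (congrArg Finset.card ?_) (cardBk z)
      ext r
      simp only [Finset.mem_filter]
      exact ⟨fun e => e.2 ▸ self r, fun hr => ⟨key ho hK z hz hr, hpart z r hr⟩⟩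
    exact (h.trans ((Finset.sum_congr rfl e).trans (Finset.sum_const_nat fun _ _ => rfl))).symm
  have hb4 : B.card = 4 := by
    have hd : B.card ∣ 8 := Dvd.intro_left _ hfill
    have : B.card = 3 ∨ B.card = 4 := by omega
    rcases this with h | h
    · rw [h] at hd; norm_num at hd
    · exact h
  have hJstab : stabilizer M24 B ≤ H ∧ Nat.card H ≤ 138240 := by
    have h1 := card_orbF (H ⊓ stabilizer M24 B) p
    have hoB : orbF (H ⊓ stabilizer M24 B) p = B := by
      refine Finset.Subset.antisymm (fun x hx => ?_) fun x hx => ?_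
      · obtain ⟨k, rfl⟩ := mem_orbF.mp hx
        have h2 : (k : M24) • p ∈ (k : M24) • B := Finset.smul_mem_smul_finset hpB
        rw [mem_stabilizer_iff.mp k.2.2] at h2
        exact h2
      · refine mem_orbF.mpr ⟨⟨h x, hhH x, mem_stabilizer_iff.mpr ?_⟩, hhp x⟩
        have := hpart p x (by rw [hBp]; exact hx)
        rw [hBp] at this
        exact this
    have hJeq : H ⊓ stabilizer M24 B ⊓ stabilizer M24 p = J p := by
      refine le_antisymm (fun g hg => ⟨hg.1.1, hg.2⟩) fun g hg => ⟨⟨hg.1, ?_⟩, hg.2⟩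
      exact mem_stabilizer_iff.mpr (hJB g hg)
    have h2 := card_orbF H p
    have hall : orbF H p = Finset.univ := Finset.eq_univ_iff_forall.mpr fun x =>
      mem_orbF.mpr ⟨⟨h x, hhH x⟩, hhp x⟩
    rw [hall, Finset.card_univ, card_golayPt] at h2
    rw [hoB, hJeq, hb4] at h1
    have h3 := card_stab_pts B (by omega)
    rw [hb4, show Nat.choose 24 4 = 10626 by decide] at h3
    have hle : Nat.card ↥(H ⊓ stabilizer M24 B) ≤ Nat.card (stabilizer M24 B) :=
      Nat.le_of_dvd Nat.card_pos (Subgroup.card_dvd_of_le inf_le_right)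
    change 24 * Nat.card (J p) = Nat.card H at h2
    refine ⟨?_, by omega⟩
    exact (Subgroup.eq_of_le_of_card_ge inf_le_right (by omega)).symm.le.trans inf_le_left
  refine Or.inr ⟨S, ⟨by rw [hb4] at hScard; omega, fun t ht => ?_, ?_⟩, hHS, hJstab.2⟩
  · obtain ⟨z, -, rfl⟩ := Finset.mem_image.mp ht
    rw [cardBk, hb4]
  intro t ht u hu hne
  obtain ⟨r, hr⟩ : t.Nonempty := by
    obtain ⟨z, -, rfl⟩ := Finset.mem_image.mp ht
    exact ⟨z, self z⟩
  obtain ⟨a, ha⟩ : u.Nonempty := by
    obtain ⟨z, -, rfl⟩ := Finset.mem_image.mp hu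
    exact ⟨z, self z⟩
  rw [← hmemS ht r hr, ← hmemS hu a ha]
  set a' := (h r)⁻¹ • a with ha'
  have hua : Bk a = h r • Bk a' := by rw [equi _ (hhH r), ha', smul_inv_smul]
  have hBa : a' ∉ B := fun hin => hne (by
    rw [← hmemS ht r hr, ← hmemS hu a ha, hua]
    have := hpart p a' (by rw [hBp]; exact hin)
    rw [hBp] at this
    rw [this])
  obtain ⟨o', ho', hBo'⟩ : ∃ o' ∈ octads, insert a' B ⊆ o' := by
    obtain ⟨o', ⟨ho', hsub⟩, -⟩ := octads_steiner.2 (insert a' B) (by rw [Finset.card_insert_of_notMem hBa, hb4])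
    exact ⟨o', ho', hsub⟩
  have hK' : fixG o' ≤ H := by
    refine fun g hg => hJstab.1 (le_stabilizer_of_forall (J := fixG o') (fun k hk x hx => ?_) hg)
    rw [mem_fixG.mp hk x (hBo' (Finset.mem_insert_of_mem hx))]; exact hx
  have hsub : Bk a' ⊆ o' := key ho' hK' a' (hBo' (Finset.mem_insert_self _ _))
  have hd : Disjoint B (Bk a') := by
    refine Finset.disjoint_left.mpr fun x h1 h2 => hBa ?_
    have e1 := hpart p x (by rw [hBp]; exact h1)
    have e2 := hpart a' x h2
    rw [hBp] at e1
    rw [← e1, e2]; exact self a'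
  have hu' : B ∪ Bk a' = o' := by
    refine Finset.eq_of_subset_of_card_le
      (Finset.union_subset (fun x hx => hBo' (Finset.mem_insert_of_mem hx)) hsub) ?_
    rw [Finset.card_union_of_disjoint hd, cardBk, hb4, octad_card ho']
  rw [hua, show Bk r = h r • B from rfl, ← Finset.smul_finset_union, hu']
  exact smul_mem_octads' _ ho'

end CfsgLib.Golay.Cert
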