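/-
The group of degree 12 has two classes of automorphisms.
-/
import Cfsg.Agent.Golay.OutTwo
import Cfsg.Agent.Golay.M11Fusion

set_option autoImplicit false

namespace CfsgLib.Golay.Cert

open Cfsg CfsgLib.Golay MulAction
open scoped Pointwise

theorem stab_compl (d : Finset GolayPt) : stabilizer M24 dᶜ = stabilizer M24 d := by
  ext g
  rw [mem_stabilizer_iff, mem_stabilizer_iff, compl_smul, compl_inj_iff]

/-- The side of a point with respect to a dodecad. -/
def side (d : Finset GolayPt) (y : GolayPt) : Finset GolayPt := if y ∈ d then d else dᶜ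

theorem side_spec {d : Finset GolayPt} (hd : d ∈ dodecads) (y : GolayPt) :
    y ∈ side d y ∧ side d y ∈ dodecads ∧ stabilizer M24 (side d y) = stabilizer M24 d := by
  by_cases h : y ∈ d
  · simp [side, h, hd]
  · rw [side, if_neg h]
    exact ⟨Finset.mem_compl.mpr h, compl_mem_dodecads hd, stab_compl d⟩

theorem card_stab_dPt {d : Finset GolayPt} (hd : d ∈ dodecads) (y : GolayPt) :
    Nat.card ↥(stabilizer M24 d ⊓ stabilizer M24 y) = 7920 := by
  obtain ⟨h1, h2, h3⟩ := side_spec hd y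
  rw [← h3]
  exact m11_card h2 h1

/-- A listed element fixing the reference dodecad and listed positions. -/
def fixesD (L ps : List ℕ) : Bool := genOK L && (same L [8442831] [8442831] && ps.all fun i => L.getD i 0 == i)

theorem fixesD_spec {L ps : List ℕ} (h : fixesD L ps = true) :
    ∃ g : M24, toList g.1 = L ∧ g • refDodecad = refDodecad ∧ ∀ i ∈ ps, i < 24 → g.1 (pt i) = pt i := by
  simp only [fixesD, Bool.and_eq_true, List.all_eq_true, beq_iff_eq] at h
  obtain ⟨g, hg⟩ := genOK_spec h.1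
  refine ⟨g, hg, ?_, fun i hi hlt => idx_injective ?_⟩
  · have := same_spec hg (by decide +kernel) h.2.1
    rwa [toObj_one, smul_one', one'_inj, ← refDod_eq] at this
  · rw [idx_pt i hlt, ← toList_getD _ hlt, hg]
    exact h.2.2 i hi

theorem out_ok :
    (∀ L ∈ transOut, fixesD L [0] = true) ∧
    (∀ i < 24, (8442831 : ℕ).testBit i = false → ∃ L ∈ transOut, L.getD outPos 0 = i) ∧
    fixesD moveIn [0, outPos] = true ∧ moveIn.getD inPos 0 ≠ inPos ∧
    (∀ L ∈ moveOut, fixesD L [0, outPos, inPos] = true) ∧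
    (∀ i < 24, (8442831 : ℕ).testBit i = false → i ≠ outPos → ∃ L ∈ moveOut, L.getD i 0 ≠ i) ∧
    (8442831 : ℕ).testBit outPos = false ∧ (8442831 : ℕ).testBit inPos = true ∧ inPos ≠ 0 ∧ outPos < 24 ∧
    inPos < 24 := by decide +kernel

theorem exists_std {d : Finset GolayPt} (hd : d ∈ dodecads) {y : GolayPt} (hy : y ∈ d) :
    ∃ k : M24, k.1 (pt 0) = y ∧ k • refDodecad = d := by
  obtain ⟨k, hk⟩ := map_dodecad_pt hd hy
  simp only [List.map_cons, List.map_nil, smul_ptO, smul_one', List.cons.injEq, ptO_inj, one'_inj, and_true] at hk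
  exact ⟨k, hk.1, hk.2⟩

theorem not_mem_ref {d : Finset GolayPt} {k : M24} (hk : k • refDodecad = d) {p : GolayPt} (hp : p ∉ d) :
    (8442831 : ℕ).testBit (idx (k.1⁻¹ p)) = false := by
  rw [Bool.eq_false_iff]
  intro h
  apply hp
  rw [← hk, ← show k • (k.1⁻¹ p) = p from k.1.apply_symm_apply p]
  exact (smul_mem_iff' k).mpr (by rw [refDod_eq, mem_pts]; exact h)

theorem conj_fix {d : Finset GolayPt} {k g : M24} (hk : k • refDodecad = d) (hg : g • refDodecad = refDodecad) :
    k * g * k⁻¹ ∈ stabilizer M24 d := by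
  rw [mem_stabilizer_iff, ← hk, mul_smul, mul_smul, inv_smul_smul, hg]

theorem conj_apply_std (k g : M24) (x : GolayPt) : (k * g * k⁻¹).1 (k.1 x) = k.1 (g.1 x) := by
  simp [Equiv.Perm.mul_apply]

/-- The stabiliser of a point of a dodecad is transitive on the other side. -/
theorem stab_dPt_trans {d : Finset GolayPt} (hd : d ∈ dodecads) {y : GolayPt} (hy : y ∈ d) {p q : GolayPt}
    (hp : p ∉ d) (hq : q ∉ d) :
    ∃ g : M24, g ∈ stabilizer M24 d ⊓ stabilizer M24 y ∧ g.1 p = q := by
  obtain ⟨k, hk0, hkd⟩ := exists_std hd hy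
  have key : ∀ r, r ∉ d → ∃ g : M24, g ∈ stabilizer M24 d ⊓ stabilizer M24 y ∧ g.1 (k.1 (pt outPos)) = r := by
    intro r hr
    obtain ⟨L, hL, hLo⟩ := out_ok.2.1 _ (idx_lt _) (not_mem_ref hkd hr)
    obtain ⟨g, hgL, hgd, hgfix⟩ := fixesD_spec (out_ok.1 L hL)
    refine ⟨k * g * k⁻¹, ⟨conj_fix hkd hgd, ?_⟩, ?_⟩
    · show (k * g * k⁻¹).1 y = y
      rw [← hk0, conj_apply_std, hgfix 0 (by simp) (by norm_num)]
    · rw [conj_apply_std]
      have : g.1 (pt outPos) = k.1⁻¹ r := idx_injective (by rw [← toList_getD _ out_ok.2.2.2.2.2.2.2.2.2.1, hgL, hLo])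
      rw [this]
      exact k.1.apply_symm_apply r
  obtain ⟨a, ha, hap⟩ := key p hp
  obtain ⟨b, hb, hbq⟩ := key q hq
  refine ⟨b * a⁻¹, mul_mem hb (inv_mem ha), ?_⟩
  rw [← hap, ← hbq]
  simp [Equiv.Perm.mul_apply]

/-- The stabiliser of two points on different sides. -/
abbrev stab2 (d : Finset GolayPt) (y y' : GolayPt) : Subgroup M24 :=
  stabilizer M24 d ⊓ stabilizer M24 y ⊓ stabilizer M24 y'

theorem orbF_sub_side {d : Finset GolayPt} {H : Subgroup M24} (hH : H ≤ stabilizer M24 d) (y : GolayPt) :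
    orbF H y ⊆ side d y := by
  intro p hp
  obtain ⟨k, rfl⟩ := mem_orbF.mp hp
  have h := apply_mem_iff (hH k.2) y
  simp only [side]
  split_ifs with hy
  · exact h.mpr hy
  · exact Finset.mem_compl.mpr fun e => hy (h.mp e)

theorem card_stab2 {d : Finset GolayPt} (hd : d ∈ dodecads) {y y' : GolayPt} (hy : y ∈ d) (hy' : y' ∉ d) :
    Nat.card (stab2 d y y') = 660 := by
  have h := card_orbF (stabilizer M24 d ⊓ stabilizer M24 y) y'
  have horb : orbF (stabilizer M24 d ⊓ stabilizer M24 y) y' = dᶜ := by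
    refine Finset.Subset.antisymm ?_ fun q hq => ?_
    · have := orbF_sub_side (inf_le_left : stabilizer M24 d ⊓ stabilizer M24 y ≤ _) y'
      rwa [side, if_neg hy'] at this
    · obtain ⟨g, hg, hgq⟩ := stab_dPt_trans hd hy hy' (Finset.mem_compl.mp hq)
      exact mem_orbF.mpr ⟨⟨g, hg⟩, hgq⟩
  rw [horb, m11_card hd hy, dodecad_card (compl_mem_dodecads hd)] at h
  have h' : 12 * Nat.card (stab2 d y y') = 7920 := h
  omega

/-- Fixed points of an element of order 11 on the two sides. -/
theorem eleven_sides {d : Finset GolayPt} (hd : d ∈ dodecads) {u : M24} (hu : orderOf u = 11)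
    (hud : u ∈ stabilizer M24 d) :
    ∃ a b, a ∈ d ∧ b ∉ d ∧ fixedPts u.1 = {a, b} := by
  set U := fixedPts u.1 with hU
  have hU2 : U.card = 2 := fixed_eleven hu
  have h1 := card_inv_mod (by norm_num : Nat.Prime 11) (pow_coe_eq_one (hu ▸ pow_orderOf_eq_one u)) d
    (fun p hp => (apply_mem_iff hud p).mpr hp)
  have h2 := card_inv_mod (by norm_num : Nat.Prime 11) (pow_coe_eq_one (hu ▸ pow_orderOf_eq_one u)) dᶜ
    (fun p hp => Finset.mem_compl.mpr fun e => Finset.mem_compl.mp hp ((apply_mem_iff hud p).mp e))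
  rw [dodecad_card hd] at h1
  rw [dodecad_card (compl_mem_dodecads hd)] at h2
  have hle : ∀ S : Finset GolayPt, (S.filter fun p => u.1 p = p).card ≤ 2 := fun S => by
    rw [← hU2]
    exact Finset.card_le_card fun p hp => by simp only [Finset.mem_filter] at hp; simp [hU, fixedPts, hp.2]
  have := hle d
  have := hle dᶜ
  obtain ⟨a, ha⟩ := Finset.card_eq_one.mp (by omega : (d.filter fun p => u.1 p = p).card = 1)
  obtain ⟨b, hb⟩ := Finset.card_eq_one.mp (by omega : (dᶜ.filter fun p => u.1 p = p).card = 1)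
  have ha' : a ∈ d ∧ u.1 a = a := (Finset.mem_filter (p := fun p => u.1 p = p)).mp (show a ∈ d.filter fun p => u.1 p = p by rw [ha]; exact Finset.mem_singleton_self a)
  have hb' : b ∈ dᶜ ∧ u.1 b = b := (Finset.mem_filter (p := fun p => u.1 p = p)).mp (show b ∈ dᶜ.filter fun p => u.1 p = p by rw [hb]; exact Finset.mem_singleton_self b)
  have hab : a ≠ b := fun e => Finset.mem_compl.mp hb'.1 (e ▸ ha'.1)
  refine ⟨a, b, ha'.1, Finset.mem_compl.mp hb'.1, (Finset.eq_of_subset_of_card_le ?_ ?_).symm⟩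
  · simp [Finset.insert_subset_iff, hU, fixedPts, ha'.2, hb'.2]
  · rw [hU2, Finset.card_pair hab]

theorem orbF_one_or_twelve {d : Finset GolayPt} (hd : d ∈ dodecads) {H : Subgroup M24} (hH : H ≤ stabilizer M24 d)
    {u : M24} (huH : u ∈ H) (hu : orderOf u = 11) {y : GolayPt} (hy : u.1 y = y) :
    (orbF H y).card = 1 ∨ orbF H y = side d y := by
  obtain ⟨h1, h2, h3⟩ := side_spec hd y
  have hsub := orbF_sub_side hH y
  obtain ⟨a, b, ha, hb, hab⟩ := eleven_sides hd hu (hH huH)
  have hmod := card_inv_mod (by norm_num : Nat.Prime 11) (pow_coe_eq_one (hu ▸ pow_orderOf_eq_one u)) (orbF H y)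
    (fun p hp => orbF_inv huH hp)
  have hfilt : ((orbF H y).filter fun p => u.1 p = p) = {y} := by
    ext p
    simp only [Finset.mem_filter, Finset.mem_singleton]
    refine ⟨fun hp => ?_, fun e => by subst e; exact ⟨self_mem_orbF H p, hy⟩⟩
    have hp' : p ∈ fixedPts u.1 := by simp [fixedPts, hp.2]
    have hy' : y ∈ fixedPts u.1 := by simp [fixedPts, hy]
    rw [hab, Finset.mem_insert, Finset.mem_singleton] at hp' hy'
    have hps := hsub hp.1
    simp only [side] at hps
    rcases hp' with rfl | rfl <;> rcases hy' with rfl | rfl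
    · rfl
    · rw [if_neg hb, Finset.mem_compl] at hps; exact absurd ha hps
    · rw [if_pos ha] at hps; exact absurd hps hb
    · rfl
  rw [hfilt, Finset.card_singleton] at hmod
  have hle := Finset.card_le_card hsub
  rw [dodecad_card h2] at hle
  rcases (by omega : (orbF H y).card = 1 ∨ (orbF H y).card = 12) with h | h
  · exact Or.inl h
  · exact Or.inr (Finset.eq_of_subset_of_card_le hsub (by rw [dodecad_card h2, h]))

/-- Subgroups of the order of a point stabiliser inside a dodecad stabiliser. -/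
theorem eq_dPt_of_card {d : Finset GolayPt} (hd : d ∈ dodecads) {H : Subgroup M24} (hH : H ≤ stabilizer M24 d)
    (hcard : Nat.card H = 7920) : ∃ y : GolayPt, H = stabilizer M24 d ⊓ stabilizer M24 y := by
  haveI : Fact (Nat.Prime 11) := ⟨by norm_num⟩
  haveI : Fact (Nat.Prime 2) := ⟨Nat.prime_two⟩
  have hone : ∀ p, (orbF H p).card = 1 → H = stabilizer M24 d ⊓ stabilizer M24 p := fun p h =>
    Subgroup.eq_of_le_of_card_ge (le_inf hH (le_stab_of_orbF h)) (by rw [card_stab_dPt hd, hcard])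
  obtain ⟨u, hu⟩ := exists_prime_orderOf_dvd_card' (G := H) 11 (by rw [hcard]; norm_num)
  have huo : orderOf u.1 = 11 := by rw [Subgroup.orderOf_coe, hu]
  obtain ⟨y, y', hy, hy', hU⟩ := eleven_sides hd huo (hH u.2)
  have hufix : u.1.1 y = y ∧ u.1.1 y' = y' := by
    constructor
    · have : y ∈ fixedPts u.1.1 := by rw [hU]; simp
      simpa [fixedPts] using this
    · have : y' ∈ fixedPts u.1.1 := by rw [hU]; simp
      simpa [fixedPts] using this
  rcases orbF_one_or_twelve hd hH u.2 huo hufix.1 with h | hO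
  · exact ⟨y, hone y h⟩
  rcases orbF_one_or_twelve hd hH u.2 huo hufix.2 with h | hO'
  · exact ⟨y', hone y' h⟩
  exfalso
  rw [side, if_pos hy] at hO
  rw [side, if_neg hy'] at hO'
  -- each point stabiliser in `H` fixes a point on the other side
  have hpair : ∀ p ∈ d, ∃ p', p' ∉ d ∧ H ⊓ stabilizer M24 p = stab2 d p p' := by
    intro p hp
    have hOp : orbF H p = d := by
      rw [← hO]
      ext q
      rw [mem_orbF, mem_orbF, MulAction.orbit_eq_iff.mpr (mem_orbF.mp (hO ▸ hp : p ∈ orbF H y))]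
    have hc := card_orbF H p
    rw [hOp, dodecad_card hd, hcard] at hc
    have hJ : Nat.card ↥(H ⊓ stabilizer M24 p) = 660 := by omega
    have hJd : H ⊓ stabilizer M24 p ≤ stabilizer M24 d := inf_le_left.trans hH
    obtain ⟨v, hv⟩ := exists_prime_orderOf_dvd_card' (G := ↥(H ⊓ stabilizer M24 p)) 11 (by rw [hJ]; norm_num)
    have hvo : orderOf v.1 = 11 := by rw [Subgroup.orderOf_coe, hv]
    obtain ⟨a, p', ha, hp', hV⟩ := eleven_sides hd hvo (hJd v.2)
    have hvp' : v.1.1 p' = p' := by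
      have : p' ∈ fixedPts v.1.1 := by rw [hV]; simp
      simpa [fixedPts] using this
    refine ⟨p', hp', ?_⟩
    rcases orbF_one_or_twelve hd hJd v.2 hvo hvp' with h | h
    · refine Subgroup.eq_of_le_of_card_ge (le_inf (le_inf hJd inf_le_right) (le_stab_of_orbF h)) ?_
      rw [hJ, card_stab2 hd hp hp']
    · exfalso
      rw [side, if_neg hp'] at h
      obtain ⟨t, ht⟩ := exists_prime_orderOf_dvd_card' (G := ↥(H ⊓ stabilizer M24 p)) 2 (by rw [hJ]; norm_num)
      have hto : orderOf t.1 = 2 := by rw [Subgroup.orderOf_coe, ht]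
      have htp : p ∈ fixedPts t.1.1 := by simp only [fixedPts, Finset.mem_filter, Finset.mem_univ, true_and]; exact t.2.2
      obtain ⟨_, ⟨-, ho, h8⟩ | ⟨-, h0⟩⟩ := two_cases hto
      · obtain ⟨z, hz, hzd⟩ : ∃ z ∈ fixedPts t.1.1, z ∉ d := by
          by_contra hn; push Not at hn
          have h' := card_inter_octad_dodecad ho hd
          rw [Finset.inter_eq_left.mpr hn, h8] at h'
          omega
        have hzO : z ∈ orbF (H ⊓ stabilizer M24 p) p' := by rw [h]; exact Finset.mem_compl.mpr hzd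
        have hOz : orbF (H ⊓ stabilizer M24 p) z = dᶜ := by
          rw [← h]
          ext q
          rw [mem_orbF, mem_orbF, MulAction.orbit_eq_iff.mpr (mem_orbF.mp hzO)]
        have hcz := card_orbF (H ⊓ stabilizer M24 p) z
        rw [hOz, dodecad_card (compl_mem_dodecads hd), hJ] at hcz
        have htz : t.1 ∈ H ⊓ stabilizer M24 p ⊓ stabilizer M24 z :=
          ⟨t.2, by simp only [fixedPts, Finset.mem_filter] at hz; exact hz.2⟩
        have hdvd := Subgroup.orderOf_dvd_natCard _ htz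
        rw [hto] at hdvd
        omega
      · rw [Finset.card_eq_zero] at h0
        rw [h0] at htp
        simp at htp
  obtain ⟨q, hq, hJy⟩ := hpair y hy
  obtain ⟨k, hk0, hkd⟩ := exists_std hd hy
  have hout : k.1 (pt outPos) ∉ d := by
    rw [← hkd]
    intro e
    have := (smul_mem_iff' k).mp (show k • pt outPos ∈ k • refDodecad from e)
    rw [refDod_eq, mem_pts, idx_pt _ out_ok.2.2.2.2.2.2.2.2.2.1, out_ok.2.2.2.2.2.2.1] at this
    cases this
  obtain ⟨a, ha, haq⟩ := stab_dPt_trans hd hy hout hq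
  set k' := a * k with hk'
  have hk'0 : k'.1 (pt 0) = y := by
    rw [hk', Subgroup.coe_mul, Equiv.Perm.mul_apply, hk0]; exact ha.2
  have hk'd : k' • refDodecad = d := by rw [hk', mul_smul, hkd]; exact ha.1
  have hk'q : k'.1 (pt outPos) = q := by rw [hk', Subgroup.coe_mul, Equiv.Perm.mul_apply, haq]
  have hin : inPos < 24 := out_ok.2.2.2.2.2.2.2.2.2.2
  set z := k'.1 (pt inPos) with hzdef
  have hz : z ∈ d := by
    rw [← hk'd]
    exact (smul_mem_iff' k').mpr (by rw [refDod_eq, mem_pts, idx_pt _ hin]; exact out_ok.2.2.2.2.2.2.2.1)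
  obtain ⟨g, hgL, hgd, hgfix⟩ := fixesD_spec out_ok.2.2.1
  have hg : k' * g * k'⁻¹ ∈ stab2 d y q := by
    refine ⟨⟨conj_fix hk'd hgd, ?_⟩, ?_⟩
    · show (k' * g * k'⁻¹).1 y = y
      rw [← hk'0, conj_apply_std, hgfix 0 (by simp) (by norm_num)]
    · show (k' * g * k'⁻¹).1 q = q
      rw [← hk'q, conj_apply_std, hgfix outPos (by simp) out_ok.2.2.2.2.2.2.2.2.2.1]
  have hgz : (k' * g * k'⁻¹).1 z ≠ z := by
    rw [hzdef, conj_apply_std]
    intro e
    have := congrArg idx (k'.1.injective e)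
    rw [← toList_getD _ hin, hgL, idx_pt _ hin] at this
    exact out_ok.2.2.2.1 this
  obtain ⟨z', hz', hJz⟩ := hpair z hz
  by_cases hzq : z' = q
  · subst hzq
    have hc := card_orbF H z'
    have hOz : orbF H z' = dᶜ := by
      rw [← hO']
      ext r
      have hm : z' ∈ orbF H y' := by rw [hO']; exact Finset.mem_compl.mpr hq
      rw [mem_orbF, mem_orbF, MulAction.orbit_eq_iff.mpr (mem_orbF.mp hm)]
    rw [hOz, dodecad_card (compl_mem_dodecads hd), hcard] at hc
    have h1 : stab2 d y z' ≤ H ⊓ stabilizer M24 z' := le_inf (hJy ▸ inf_le_left) inf_le_right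
    have h2 : stab2 d z z' ≤ H ⊓ stabilizer M24 z' := le_inf (hJz ▸ inf_le_left) inf_le_right
    have e1 := Subgroup.eq_of_le_of_card_ge h1 (by rw [card_stab2 hd hy hq]; omega)
    have e2 := Subgroup.eq_of_le_of_card_ge h2 (by rw [card_stab2 hd hz hq]; omega)
    rw [e1, ← e2] at hg
    exact hgz hg.1.2
  · obtain ⟨L, hL, hLz⟩ := out_ok.2.2.2.2.2.1 (idx (k'.1⁻¹ z')) (idx_lt _) (not_mem_ref hk'd hz') (fun e => hzq (by
      rw [← hk'q, ← e, pt_idx, Equiv.Perm.inv_def, Equiv.apply_symm_apply]))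
    obtain ⟨m, hmL, hmd, hmfix⟩ := fixesD_spec (out_ok.2.2.2.2.1 L hL)
    have hm : k' * m * k'⁻¹ ∈ stab2 d y q := by
      refine ⟨⟨conj_fix hk'd hmd, ?_⟩, ?_⟩
      · show (k' * m * k'⁻¹).1 y = y
        rw [← hk'0, conj_apply_std, hmfix 0 (by simp) (by norm_num)]
      · show (k' * m * k'⁻¹).1 q = q
        rw [← hk'q, conj_apply_std, hmfix outPos (by simp) out_ok.2.2.2.2.2.2.2.2.2.1]
    have hmz : (k' * m * k'⁻¹).1 z = z := by
      rw [hzdef, conj_apply_std, hmfix inPos (by simp) hin]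
    rw [← hJy] at hm
    have hm2 : k' * m * k'⁻¹ ∈ stab2 d z z' := hJz ▸ (⟨hm.1, hmz⟩ : k' * m * k'⁻¹ ∈ H ⊓ stabilizer M24 z)
    have hzz : k'.1 (k'.1⁻¹ z') = z' := k'.1.apply_symm_apply z'
    have h2 : (k' * m * k'⁻¹).1 (k'.1 (k'.1⁻¹ z')) = k'.1 (k'.1⁻¹ z') := by rw [hzz]; exact hm2.2
    rw [conj_apply_std] at h2
    have h3 := congrArg idx (k'.1.injective h2)
    rw [← toList_getD_idx, hmL] at h3
    exact hLz h3

/-- The inclusion. -/
def m12Incl : Spor.M12 →* M24 := Subgroup.inclusion inf_le_left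

theorem m12Incl_injective : Function.Injective m12Incl := Subgroup.inclusion_injective _

theorem mem_m12 {x : Equiv.Perm GolayPt} : x ∈ Spor.M12 ↔ x ∈ M24 ∧ x • Spor.squareDodecad = Spor.squareDodecad :=
  Iff.rfl

theorem m12_stab (g : Spor.M12) : m12Incl g ∈ stabilizer M24 Spor.squareDodecad := g.2.2

theorem m12_sep {y z : GolayPt} (h : ∀ g : Spor.M12, g.1 y = y → g.1 z = z) : y = z := by
  by_contra hne
  obtain ⟨h1, h2, h3⟩ := side_spec squareDodecad_mem y
  set S := side Spor.squareDodecad y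
  have mk' : ∀ g : M24, g ∈ stabilizer M24 S → g.1 ∈ Spor.M12 := fun g hg => by
    rw [h3] at hg
    exact ⟨g.2, hg⟩
  by_cases hz : z ∈ S
  · obtain ⟨w, hw, hwn⟩ := Finset.exists_mem_notMem_of_card_lt_card
      (show ({y, z} : Finset GolayPt).card < S.card by rw [dodecad_card h2]; exact lt_of_le_of_lt Finset.card_le_two (by norm_num))
    simp only [Finset.mem_insert, Finset.mem_singleton, not_or] at hwn
    obtain ⟨g, hg1, hg2⟩ := exists_dodecad_two h2 h1 hz h1 hw hne (Ne.symm hwn.1)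
    exact hwn.2 (hg2.symm.trans (h ⟨g.1.1, mk' g.1 g.2⟩ hg1))
  · obtain ⟨w, hw, hwz⟩ := Finset.exists_mem_ne (s := Sᶜ) (by rw [dodecad_card (compl_mem_dodecads h2)]; norm_num) z
    obtain ⟨g, hg, hgz⟩ := stab_dPt_trans h2 h1 hz (Finset.mem_compl.mp hw)
    exact hwz (hgz.symm.trans (h ⟨g.1, mk' g hg.1⟩ hg.2))

theorem ok12 : fixOK (fun L => same L [squareMask] [squareMask]) fix12Masks fix12Elts = true ∧
    canonL [squareMask] = true ∧
    ∀ i < 12, comb fix12Masks (coords12.getD i 0) = rows.getD i 0 := by decide +kernel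

theorem out_m12 : Nat.card (Out Spor.M12) = 2 := by
  set d := Spor.squareDodecad with hddef
  have hd : d ∈ dodecads := squareDodecad_mem
  set D : Obj := {d, dᶜ} with hD
  set P := M24 ⊓ stabilizer (Equiv.Perm GolayPt) D with hP
  have hne : d ≠ dᶜ := fun e => by
    obtain ⟨x, hx⟩ : d.Nonempty := Finset.card_pos.mp (by rw [dodecad_card hd]; norm_num)
    exact Finset.mem_compl.mp (e ▸ hx) hx
  have hmemP : ∀ g : M24, g.1 ∈ P ↔ g • d = d ∨ g • d = dᶜ := by
    intro g
    rw [hP, Subgroup.mem_inf, and_iff_right g.2, mem_stabilizer_iff, ← coe_smul_obj, hD, smul_dPair]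
    constructor
    · intro h
      have : g • d ∈ ({d, dᶜ} : Obj) := by rw [← h]; simp
      simpa using this
    · rintro (h | h) <;> rw [h]
      rw [compl_compl, Finset.pair_comm]
  have hle : Spor.M12 ≤ P := fun x hx => (hmemP ⟨x, hx.1⟩).mpr (Or.inl hx.2)
  have hidx : (Spor.M12.subgroupOf P).index = 2 := by
    obtain ⟨s, hs⟩ := dodecad_transitive hd (compl_mem_dodecads hd)
    rw [Subgroup.index_eq_two_iff]
    refine ⟨⟨s.1, (hmemP s).mpr (Or.inr hs)⟩, fun b => ?_⟩
    set c : M24 := ⟨b.1, b.2.1⟩ with hc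
    have hbP : c.1 ∈ P := b.2
    have key : ∀ c : M24, c.1 ∈ Spor.M12 ↔ c • d = d := fun c => and_iff_right c.2
    simp only [Subgroup.mem_subgroupOf, Subgroup.coe_mul]
    change Xor ((c * s).1 ∈ Spor.M12) (c.1 ∈ Spor.M12)
    rw [key, key, mul_smul, hs]
    rcases (hmemP _).mp hbP with h | h
    · refine Or.inr ⟨h, fun e => hne ?_⟩
      rw [compl_smul, h] at e
      exact e.symm
    · refine Or.inl ⟨?_, fun e => hne (e.symm.trans h)⟩
      rw [compl_smul, h, compl_compl]
  have hc12 : Nat.card Spor.M12 = 95040 := by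
    rw [← card_dodecad_stabilizer hd]
    exact Nat.card_congr
      { toFun := fun g => ⟨m12Incl g, m12_stab g⟩
        invFun := fun g => ⟨g.1.1, g.1.2, g.2⟩
        left_inv := fun _ => rfl
        right_inv := fun _ => rfl }
  have hcard : Nat.card P = 2 * 95040 := by
    have h := (Spor.M12.subgroupOf P).card_mul_index
    rw [Nat.card_congr (Subgroup.subgroupOfEquivOfLe hle).toEquiv, hc12, hidx] at h
    omega
  have h := out_card (G := Spor.M12) (P := P) hle
    (fun π hπ g hg => by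
      have h' := (hmemP ⟨π, hπ.1⟩).mp hπ
      have hπM : π ∈ M24 := hπ.1
      have hgM : g ∈ M24 := hg.1
      refine mem_m12.mpr ⟨mul_mem (mul_mem hπM hgM) (inv_mem hπM), ?_⟩
      show ((⟨π, hπ.1⟩ : M24) * ⟨g, hg.1⟩ * (⟨π, hπ.1⟩ : M24)⁻¹) • d = d
      have hg' : (⟨g, hg.1⟩ : M24) • d = d := hg.2
      rw [mul_smul, mul_smul]
      rcases h' with h' | h'
      · rw [inv_smul_eq_iff.mpr h'.symm, hg', h']
      · rw [show ((⟨π, hπ.1⟩ : M24))⁻¹ • d = dᶜ by
          rw [inv_smul_eq_iff, compl_smul, h', compl_compl], compl_smul, hg', compl_smul, h', compl_compl])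
    (fun α => by
      obtain ⟨π, -, key⟩ := exists_point_perm α (fun _ => True) (fun _ h => absurd trivial h)
        (fun y z _ _ => m12_sep)
        (fun y _ => by
          let K : Subgroup Spor.M12 := (stabilizer M24 y).comap m12Incl
          have hK : Nat.card K = 7920 := by
            rw [← card_stab_dPt hd y]
            exact Nat.card_congr
              { toFun := fun g => ⟨m12Incl g.1, m12_stab g.1, g.2⟩
                invFun := fun g => ⟨⟨g.1.1, g.1.2, g.2.1⟩, g.2.2⟩
                left_inv := fun _ => rfl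
                right_inv := fun _ => rfl }
          obtain ⟨z, he⟩ := eq_dPt_of_card hd (H := (K.map α.toMonoidHom).map m12Incl)
            (by rintro _ ⟨k, -, rfl⟩; exact m12_stab k)
            (by rw [Subgroup.card_map_of_injective m12Incl_injective, Subgroup.card_map_of_injective α.injective, hK])
          refine ⟨z, trivial, fun g => ?_⟩
          show m12Incl (α g) ∈ stabilizer M24 z ↔ g ∈ K
          rw [← Subgroup.mem_map_iff_mem (f := α.toMonoidHom) α.injective,
            ← Subgroup.mem_map_iff_mem (K := K.map α.toMonoidHom) (f := m12Incl) m12Incl_injective, he]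
          exact (and_iff_right (m12_stab (α g))).symm)
      obtain ⟨hok, hcan, hco⟩ := ok12
      have hM : π ∈ M24 := mem_M24_of_span hco fun m hm => image_vec_mem
        (fixOK_octad hok (G := Spor.M12) inf_le_left (fun g hg => by
          have h1 := same_spec (rfl : toList g.1 = toList g.1) hcan hg
          rw [toObj_one, smul_one', one'_inj, ← squareDodecad_eq] at h1
          exact ⟨g.2, h1⟩) key hm)
      refine ⟨π, ?_, fun g => Equiv.ext fun p => by
        rw [Equiv.Perm.mul_apply, Equiv.Perm.mul_apply, ← key, Equiv.Perm.inv_def, Equiv.apply_symm_apply]⟩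
      refine (hmemP ⟨π, hM⟩).mpr ?_
      obtain ⟨x, hx⟩ : d.Nonempty := Finset.card_pos.mp (by rw [dodecad_card hd]; norm_num)
      have hsub : (⟨π, hM⟩ : M24) • d ⊆ side d (π x) := by
        intro q hq
        obtain ⟨p, hp, rfl⟩ := Finset.mem_smul_finset.mp hq
        obtain ⟨w, hw, hwx⟩ : ∃ g : M24, g ∈ stabilizer M24 d ∧ g.1 x = p := by
          by_cases hxp : x = p
          · exact ⟨1, one_mem _, hxp⟩
          · obtain ⟨g, hg, -⟩ := exists_dodecad_two hd hx hp hp hx hxp (Ne.symm hxp)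
            exact ⟨g.1, g.2, hg⟩
        have := key ⟨w.1, w.2, hw⟩ x
        show π p ∈ side d (π x)
        rw [← hwx, ← this]
        exact orbF_sub_side (le_refl (stabilizer M24 d)) (π x) (mem_orbF.mpr ⟨⟨_, m12_stab (α ⟨w.1, w.2, hw⟩)⟩, rfl⟩)
      have heq := Finset.eq_of_subset_of_card_le hsub (by
        rw [Finset.card_smul_finset, dodecad_card (side_spec hd _).2.1, dodecad_card hd])
      rw [heq]
      simp only [side]
      split_ifs <;> simp)
    (fun π hπ h => by
      refine Equiv.ext fun y => (m12_sep fun g hg => ?_).symm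
      have hc := congrArg (fun σ : Equiv.Perm GolayPt => σ (π y)) (h g.1 g.2)
      simp only [Equiv.Perm.mul_apply, Equiv.Perm.inv_def, Equiv.symm_apply_apply] at hc
      exact hc.symm.trans (congrArg π hg))
  have h' : Nat.card (Out Spor.M12) * 95040 = 2 * 95040 :=
    (congrArg (Nat.card (Out Spor.M12) * ·) hc12.symm).trans (h.trans hcard)
  exact Nat.eq_of_mul_eq_mul_right (by norm_num) h'

end CfsgLib.Golay.Cert
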