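/-
Small subgroups of the group of degree 11 on a dodecad: PSL(2, 11), Sym 5 and GL(2, 3).
-/
import Cfsg.Agent.Golay.TableHom
import Cfsg.Agent.Golay.SmallStabData
import Cfsg.Agent.Golay.DodecadFive
import Cfsg.Agent.Golay.OutTwo12
import Cfsg.Agent.Golay.DodecadPos
import Mathlib.LinearAlgebra.Matrix.GeneralLinearGroup.Card
import Mathlib.GroupTheory.Perm.Closure

set_option autoImplicit false

namespace CfsgLib.Golay.Cert

open Cfsg CfsgLib.Golay MulAction Matrix
open scoped Pointwise MatrixGroups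

/-! ### Conjugation of stabilisers -/

theorem mem_map_conj_iff {H : Type*} [Group H] (K : Subgroup H) (k g : H) :
    g ∈ K.map (MulAut.conj k).toMonoidHom ↔ k⁻¹ * g * k ∈ K := by
  rw [Subgroup.mem_map_equiv]
  simp [MulAut.conj_symm_apply]

theorem mem_stab_conj_iff {β : Type*} [MulAction M24 β] (k g : M24) (a : β) :
    k⁻¹ * g * k ∈ stabilizer M24 a ↔ g ∈ stabilizer M24 (k • a) := by
  rw [mem_stabilizer_iff, mem_stabilizer_iff, mul_smul, mul_smul, inv_smul_eq_iff]

theorem mem_cent_conj_iff {H : Type*} [Group H] (k g x : H) :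
    k⁻¹ * g * k ∈ Subgroup.centralizer {x} ↔ g ∈ Subgroup.centralizer {k * x * k⁻¹} := by
  rw [Subgroup.mem_centralizer_singleton_iff, Subgroup.mem_centralizer_singleton_iff]
  constructor
  · intro h
    calc g * (k * x * k⁻¹) = k * ((k⁻¹ * g * k) * x) * k⁻¹ := by group
      _ = k * (x * (k⁻¹ * g * k)) * k⁻¹ := by rw [h]
      _ = k * x * k⁻¹ * g := by group
  · intro h
    calc k⁻¹ * g * k * x = k⁻¹ * (g * (k * x * k⁻¹)) * k := by group
      _ = k⁻¹ * (k * x * k⁻¹ * g) * k := by rw [h]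
      _ = x * (k⁻¹ * g * k) := by group

theorem refD_stab_of_same {L : List ℕ} (hg : genOK L = true) (h : same L [8442831] [8442831] = true) :
    ofList L ∈ stabilizer M24 refDodecad := by
  have := same_spec (toList_ofList hg) (by decide +kernel) h
  rwa [toObj_one, smul_one', one'_inj, ← refDod_eq] at this

theorem ofList_fix {L : List ℕ} (hg : genOK L = true) {i : ℕ} (hi : i < 24) (h : L.getD i 0 = i) :
    ofList L ∈ stabilizer M24 (pt i) := by
  rw [mem_stabilizer_iff]
  exact idx_injective (by rw [idx_pt i hi, coe_smul, ← toList_getD _ hi, toList_ofList hg, h])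

/-! ### PSL(2, 11) -/

/-- A transvection. -/
def upper {p : ℕ} (x : ZMod p) : SL(2, ZMod p) := ⟨!![1, x; 0, 1], by simp [Matrix.det_fin_two]⟩

/-- A lower transvection. -/
def lower {p : ℕ} (x : ZMod p) : SL(2, ZMod p) := ⟨!![1, 0; x, 1], by simp [Matrix.det_fin_two]⟩

theorem upper_val {p : ℕ} (x : ZMod p) : (upper x).1 = !![1, x; 0, 1] := rfl

theorem lower_val {p : ℕ} (x : ZMod p) : (lower x).1 = !![1, 0; x, 1] := rfl

theorem upper_mul {p : ℕ} (x y : ZMod p) : upper x * upper y = upper (x + y) := by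
  ext i j
  fin_cases i <;> fin_cases j <;> simp [upper_val, Matrix.SpecialLinearGroup.coe_mul, Matrix.mul_apply, Fin.sum_univ_two, add_comm]

theorem lower_mul {p : ℕ} (x y : ZMod p) : lower x * lower y = lower (x + y) := by
  ext i j
  fin_cases i <;> fin_cases j <;> simp [lower_val, Matrix.SpecialLinearGroup.coe_mul, Matrix.mul_apply, Fin.sum_univ_two, add_comm]

theorem upper_mem {p : ℕ} [NeZero p] (M : Submonoid SL(2, ZMod p)) (h : upper 1 ∈ M) (x : ZMod p) : upper x ∈ M := by
  rw [← ZMod.natCast_zmod_val x]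
  induction x.val with
  | zero =>
    have : upper ((0 : ℕ) : ZMod p) = 1 := by ext i j; fin_cases i <;> fin_cases j <;> simp [upper_val]
    rw [this]
    exact M.one_mem
  | succ n ih => rw [Nat.cast_succ, ← upper_mul]; exact M.mul_mem ih h

theorem lower_mem {p : ℕ} [NeZero p] (M : Submonoid SL(2, ZMod p)) (h : lower 1 ∈ M) (x : ZMod p) : lower x ∈ M := by
  rw [← ZMod.natCast_zmod_val x]
  induction x.val with
  | zero =>
    have : lower ((0 : ℕ) : ZMod p) = 1 := by ext i j; fin_cases i <;> fin_cases j <;> simp [lower_val]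
    rw [this]
    exact M.one_mem
  | succ n ih => rw [Nat.cast_succ, ← lower_mul]; exact M.mul_mem ih h

theorem sl_two_top {p : ℕ} [Fact p.Prime] :
    Submonoid.closure ({upper 1, lower 1} : Set SL(2, ZMod p)) = ⊤ := by
  set M := Submonoid.closure ({upper 1, lower 1} : Set SL(2, ZMod p))
  have hu := upper_mem M (Submonoid.subset_closure (by simp))
  have hl := lower_mem M (Submonoid.subset_closure (by simp))
  have key : ∀ g : SL(2, ZMod p), g.1 1 0 ≠ 0 → g ∈ M := by
    intro g hc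
    have hdet : g.1 0 0 * g.1 1 1 - g.1 0 1 * g.1 1 0 = 1 := by rw [← Matrix.det_fin_two]; exact g.2
    have : g = upper ((g.1 0 0 - 1) / g.1 1 0) * lower (g.1 1 0) * upper ((g.1 1 1 - 1) / g.1 1 0) := by
      ext i j
      fin_cases i <;> fin_cases j <;> simp [upper_val, lower_val, Matrix.SpecialLinearGroup.coe_mul, Matrix.mul_apply, Fin.sum_univ_two] <;> field_simp <;>
        (first | ring1 | linear_combination (-1 : ZMod p) * hdet | linear_combination hdet)
    rw [this]
    exact M.mul_mem (M.mul_mem (hu _) (hl _)) (hu _)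
  rw [eq_top_iff]
  intro g _
  by_cases hc : g.1 1 0 = 0
  · have hdet : g.1 0 0 * g.1 1 1 - g.1 0 1 * g.1 1 0 = 1 := by rw [← Matrix.det_fin_two]; exact g.2
    have h : g * lower 1 ∈ M := key _ (by
      simp [lower_val, Matrix.SpecialLinearGroup.coe_mul, Matrix.mul_apply, Fin.sum_univ_two, hc]
      intro hd
      rw [hd, hc] at hdet
      simp at hdet)
    have e : g = g * lower 1 * lower (-1) := by
      rw [mul_assoc, lower_mul, add_neg_cancel]
      have : lower (0 : ZMod p) = 1 := by ext i j; fin_cases i <;> fin_cases j <;> simp [lower_val]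
      rw [this, mul_one]
    rw [e]
    exact M.mul_mem h (hl _)
  · exact key g hc

/-- The Bruhat word of a matrix with nonzero lower left entry. -/
def slCore (a c d : ℕ) : List ℕ :=
  let ci := c ^ 9 % 11
  compL (slUp.getD ((a + 10) * ci % 11) []) (compL (slVp.getD (c % 11) []) (slUp.getD ((d + 10) * ci % 11) []))

/-- The image of a matrix modulo 11. -/
def slImg (a b c d : ℕ) : List ℕ :=
  if c % 11 = 0 then compL (slCore (a + b) (c + d) d) (slVp.getD 10 []) else slCore a c d

set_option synthInstance.maxSize 4000 in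
theorem sl_mul_ok : ∀ a < 11, ∀ b < 11, ∀ c < 11, ∀ d < 11, (a * d + (11 - b) * c) % 11 = 1 →
    slImg a ((a + b) % 11) c ((c + d) % 11) = compL (slImg a b c d) slU ∧
      slImg ((a + b) % 11) b ((c + d) % 11) d = compL (slImg a b c d) slV := by decide +kernel

set_option synthInstance.maxSize 4000 in
theorem sl_ker_ok : ∀ a < 11, ∀ b < 11, ∀ c < 11, ∀ d < 11, (a * d + (11 - b) * c) % 11 = 1 →
    slImg a b c d = List.range 24 → b = 0 ∧ c = 0 ∧ a = d := by decide +kernel

theorem sl_gen_ok : slImg 1 0 0 1 = List.range 24 ∧ slImg 10 0 0 10 = List.range 24 ∧ slImg 1 1 0 1 = slU ∧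
    slImg 1 0 1 1 = slV ∧
    ∀ L ∈ [slU, slV], genOK L = true ∧ same L [8442831] [8442831] = true ∧ L.getD 0 0 = 0 ∧
      L.getD outPos 0 = outPos := by decide +kernel

/-- Representatives modulo sign. -/
def slHalf : List (ℕ × ℕ × ℕ × ℕ) :=
  (List.range 11).flatMap fun a => (List.range 11).flatMap fun b => (List.range 11).flatMap fun c =>
    ((List.range 11).filter fun d => (a * d + (11 - b) * c) % 11 == 1 &&
      (decide (1 ≤ a ∧ a ≤ 5) || (decide (a = 0) && decide (b ≤ 5)))).map fun d => (a, b, c, d)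

theorem sl_half_ok : (slHalf.map fun x => slImg x.1 x.2.1 x.2.2.1 x.2.2.2).Nodup ∧ slHalf.length = 660 ∧
    ∀ x ∈ slHalf, x.1 < 11 ∧ x.2.1 < 11 ∧ x.2.2.1 < 11 ∧ x.2.2.2 < 11 ∧
      (x.1 * x.2.2.2 + (11 - x.2.1) * x.2.2.1) % 11 = 1 := by decide +kernel

/-- The standard two-point stabiliser. -/
abbrev lStd : Subgroup M24 := stab2 refDodecad (pt 0) (pt outPos)

theorem pt_sides : pt 0 ∈ refDodecad ∧ pt outPos ∉ refDodecad ∧ pt outTwo ∉ refDodecad ∧ outTwo ≠ outPos := by
  decide +kernel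

theorem card_lStd : Nat.card lStd = 660 := card_stab2 refDodecad_mem pt_sides.1 pt_sides.2.1

theorem psl_std : Nonempty (lStd ≃* Matrix.ProjectiveSpecialLinearGroup (Fin 2) (ZMod 11)) := by
  haveI : Fact (Nat.Prime 11) := ⟨by norm_num⟩
  obtain ⟨hone, hneg, hU, hV, hgens⟩ := sl_gen_ok
  let f : SL(2, ZMod 11) → List ℕ := fun g => slImg (g.1 0 0).val (g.1 0 1).val (g.1 1 0).val (g.1 1 1).val
  have hdet : ∀ g : SL(2, ZMod 11),
      ((g.1 0 0).val * (g.1 1 1).val + (11 - (g.1 0 1).val) * (g.1 1 0).val) % 11 = 1 := fun g => by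
    have h : g.1 0 0 * g.1 1 1 - g.1 0 1 * g.1 1 0 = 1 := by rw [← Matrix.det_fin_two]; exact g.2
    have e : (((g.1 0 0).val * (g.1 1 1).val + (11 - (g.1 0 1).val) * (g.1 1 0).val : ℕ) : ZMod 11) = 1 := by
      rw [Nat.cast_add, Nat.cast_mul, Nat.cast_mul, Nat.cast_sub (ZMod.val_lt _).le, ZMod.natCast_zmod_val,
        ZMod.natCast_zmod_val, ZMod.natCast_zmod_val, ZMod.natCast_zmod_val, ZMod.natCast_self]
      linear_combination h
    have := congrArg ZMod.val e
    rwa [ZMod.val_natCast, ZMod.val_one] at this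
  obtain ⟨φ, hφK, hφ⟩ := table_hom f (K := lStd) (sl_two_top (p := 11)) (by simpa [f, ZMod.val_one] using hone)
    (fun s hs => by
      have hL : f s ∈ [slU, slV] := by
        rcases hs with rfl | rfl
        · refine List.mem_cons.mpr (Or.inl ?_)
          simpa [f, upper_val, ZMod.val_one] using hU
        · refine List.mem_cons.mpr (Or.inr (List.mem_singleton.mpr ?_))
          simpa [f, lower_val, ZMod.val_one] using hV
      obtain ⟨h1, h2, h3, h4⟩ := hgens _ hL
      exact ⟨ofList (f s), ⟨⟨refD_stab_of_same h1 h2, ofList_fix h1 (by norm_num) h3⟩,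
        ofList_fix h1 (by decide +kernel) h4⟩, toList_ofList h1⟩)
    (fun g s hs => by
      have h := sl_mul_ok _ (ZMod.val_lt (g.1 0 0)) _ (ZMod.val_lt (g.1 0 1)) _ (ZMod.val_lt (g.1 1 0)) _
        (ZMod.val_lt (g.1 1 1)) (hdet g)
      rcases hs with rfl | rfl
      · have e : f (upper 1) = slU := by simpa [f, upper_val, ZMod.val_one] using hU
        rw [e, ← h.1]
        simp [f, upper_val, Matrix.SpecialLinearGroup.coe_mul, Matrix.mul_apply, Fin.sum_univ_two, ZMod.val_add, add_comm]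
      · have e : f (lower 1) = slV := by simpa [f, lower_val, ZMod.val_one] using hV
        rw [e, ← h.2]
        simp [f, lower_val, Matrix.SpecialLinearGroup.coe_mul, Matrix.mul_apply, Fin.sum_univ_two, ZMod.val_add])
  have hker : φ.ker = Subgroup.center SL(2, ZMod 11) := by
    refine le_antisymm (fun g hg => ?_) fun g hg => ?_
    · have hf : f g = List.range 24 := by
        rw [← hφ g, MonoidHom.mem_ker.mp hg]; exact toList_one
      obtain ⟨hb, hc, had⟩ := sl_ker_ok _ (ZMod.val_lt (g.1 0 0)) _ (ZMod.val_lt (g.1 0 1)) _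
        (ZMod.val_lt (g.1 1 0)) _ (ZMod.val_lt (g.1 1 1)) (hdet g) hf
      rw [ZMod.val_eq_zero] at hb hc
      have had' := ZMod.val_injective 11 had
      have h : g.1 0 0 * g.1 1 1 - g.1 0 1 * g.1 1 0 = 1 := by rw [← Matrix.det_fin_two]; exact g.2
      rw [hb, hc, ← had', mul_zero, sub_zero] at h
      refine Matrix.SpecialLinearGroup.mem_center_iff.mpr ⟨g.1 0 0, by rw [Fintype.card_fin, sq, h], ?_⟩
      ext i j
      fin_cases i <;> fin_cases j <;> simp [hb, hc, had']
    · obtain ⟨r, hr, hrg⟩ := Matrix.SpecialLinearGroup.mem_center_iff.mp hg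
      rw [Fintype.card_fin, sq] at hr
      rw [MonoidHom.mem_ker]
      refine toList_coe_injective ?_
      show toList (φ g).1 = toList (1 : Equiv.Perm GolayPt)
      rw [hφ, toList_one]
      have hv : r = 1 ∨ r = -1 := mul_self_eq_one_iff.mp hr
      simp only [f, ← hrg, Matrix.scalar_apply]
      rcases hv with rfl | rfl
      · simpa [ZMod.val_one] using hone
      · simpa [show ((-1 : ZMod 11)).val = 10 from rfl] using hneg
  have hrange : φ.range = lStd := by
    refine Subgroup.eq_of_le_of_card_ge (fun _ ⟨g, hg⟩ => hg ▸ hφK g) ?_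
    rw [card_lStd]
    obtain ⟨hnd, hlen, hin⟩ := sl_half_ok
    have hsub : ∀ L ∈ slHalf.map (fun x => slImg x.1 x.2.1 x.2.2.1 x.2.2.2), ∃ m : φ.range, toList m.1.1 = L := by
      intro L hL
      obtain ⟨⟨a, b, c, d⟩, hx, rfl⟩ := List.mem_map.mp hL
      obtain ⟨ha, hb, hc, hd, he⟩ := hin _ hx
      dsimp only at ha hb hc hd he ⊢
      have hdet1 : (!![(a : ZMod 11), b; c, d]).det = 1 := by
        have h := congrArg (fun n : ℕ => (n : ZMod 11)) he
        simp only [ZMod.natCast_mod, Nat.cast_add, Nat.cast_mul, Nat.cast_sub hb.le, Nat.cast_one, ZMod.natCast_self,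
          zero_sub] at h
        rw [Matrix.det_fin_two_of]
        linear_combination h
      refine ⟨⟨φ ⟨_, hdet1⟩, _, rfl⟩, ?_⟩
      refine (hφ _).trans ?_
      simp [f, ZMod.val_natCast, Nat.mod_eq_of_lt ha, Nat.mod_eq_of_lt hb, Nat.mod_eq_of_lt hc, Nat.mod_eq_of_lt hd]
    choose g hg using hsub
    have hinj : Function.Injective fun L : {L // L ∈ slHalf.map fun x => slImg x.1 x.2.1 x.2.2.1 x.2.2.2} => g L.1 L.2 :=
      fun L L' h => Subtype.ext (by rw [← hg L.1 L.2, ← hg L'.1 L'.2]; exact congrArg (fun m : φ.range => toList m.1.1) h)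
    refine le_trans (le_of_eq ?_) (Nat.card_le_card_of_injective _ hinj)
    rw [Nat.card_congr (Equiv.subtypeEquivRight fun L => (List.mem_toFinset).symm), Nat.card_eq_fintype_card,
      Fintype.card_coe, List.toFinset_card_of_nodup hnd, List.length_map, hlen]
  exact ⟨((MulEquiv.subgroupCongr hrange.symm).trans (QuotientGroup.quotientKerEquivRange φ).symm).trans
    (QuotientGroup.quotientMulEquivOfEq hker)⟩

theorem exists_map_one_out {d : Finset GolayPt} (hd : d ∈ dodecads) {p q : GolayPt} (hp : p ∈ d) (hq : q ∉ d) :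
    ∃ k : M24, k • refDodecad = d ∧ k • pt 0 = p ∧ k • pt outPos = q := by
  obtain ⟨k, hk0, hkd⟩ := exists_std hd hp
  have hout : k.1 (pt outPos) ∉ d := fun h => pt_sides.2.1 ((smul_mem_iff' k).mp (hkd ▸ h))
  obtain ⟨g, hg, hgq⟩ := stab_dPt_trans hd hp hout hq
  refine ⟨g * k, by rw [mul_smul, hkd]; exact mem_stabilizer_iff.mp hg.1, ?_, hgq⟩
  rw [mul_smul, show k • pt 0 = p from hk0]
  exact mem_stabilizer_iff.mp hg.2

theorem stab2_psl {d : Finset GolayPt} (hd : d ∈ dodecads) {p q : GolayPt} (hp : p ∈ d) (hq : q ∉ d) :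
    Nonempty (↥(stab2 d p q) ≃* Matrix.ProjectiveSpecialLinearGroup (Fin 2) (ZMod 11)) := by
  obtain ⟨k, hkd, hkp, hkq⟩ := exists_map_one_out hd hp hq
  obtain ⟨e⟩ := psl_std
  have h : stab2 d p q = lStd.map (MulAut.conj k).toMonoidHom := by
    ext g
    simp only [mem_map_conj_iff, stab2, Subgroup.mem_inf, mem_stab_conj_iff, hkd, hkp, hkq]
  exact ⟨((MulEquiv.subgroupCongr h).trans
    (Subgroup.equivMapOfInjective lStd _ (MulAut.conj k).injective).symm).trans e⟩

/-! ### The symmetric group of degree five -/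

theorem transTwo_ok :
    (∀ L ∈ transTwo, genOK L = true ∧ same L [8442831] [8442831] = true ∧ L.getD 0 0 = 0 ∧
      L.getD outPos 0 = outPos) ∧
    ∀ i < 24, (8442831 : ℕ).testBit i = false → i ≠ outPos → ∃ L ∈ transTwo, L.getD outTwo 0 = i := by
  decide +kernel

/-- The standard pair stabiliser. -/
abbrev sStdStab : Subgroup M24 :=
  stabilizer M24 refDodecad ⊓ stabilizer M24 (pt 0) ⊓ stabilizer M24 ({pt outPos, pt outTwo} : Finset GolayPt)

theorem exists_map_two_out {d : Finset GolayPt} (hd : d ∈ dodecads) {p q q' : GolayPt} (hp : p ∈ d) (hq : q ∉ d)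
    (hq' : q' ∉ d) (hne : q ≠ q') :
    ∃ k : M24, k • refDodecad = d ∧ k • pt 0 = p ∧ k • pt outPos = q ∧ k • pt outTwo = q' := by
  obtain ⟨k, hkd, hkp, hkq⟩ := exists_map_one_out hd hp hq
  obtain ⟨L, hL, hLe⟩ := transTwo_ok.2 _ (idx_lt _) (not_mem_ref hkd hq') (fun e => hne (by
    rw [← hkq, ← e, pt_idx]
    exact k.1.apply_symm_apply q'))
  obtain ⟨h1, h2, h3, h4⟩ := transTwo_ok.1 L hL
  refine ⟨k * ofList L, ?_, ?_, ?_, ?_⟩
  · rw [mul_smul, mem_stabilizer_iff.mp (refD_stab_of_same h1 h2), hkd]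
  · rw [mul_smul, mem_stabilizer_iff.mp (ofList_fix h1 (by norm_num) h3), hkp]
  · rw [mul_smul, mem_stabilizer_iff.mp (ofList_fix h1 (by decide +kernel) h4), hkq]
  · rw [mul_smul]
    have : ofList L • pt outTwo = k.1⁻¹ q' := idx_injective (by
      rw [coe_smul, ← toList_getD _ (by decide +kernel : outTwo < 24), toList_ofList h1, hLe])
    rw [this]
    exact k.1.apply_symm_apply q'

theorem card_sStd_le : Nat.card sStdStab ≤ 120 := by
  have h := card_orbF sStdStab (pt outPos)
  have horb : (orbF sStdStab (pt outPos)).card ≤ 2 := by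
    refine le_trans (Finset.card_le_card (t := {pt outPos, pt outTwo}) fun x hx => ?_) Finset.card_le_two
    obtain ⟨g, rfl⟩ := mem_orbF.mp hx
    have := (smul_mem_iff' g.1).mpr (Finset.mem_insert_self (pt outPos) {pt outTwo})
    rwa [mem_stabilizer_iff.mp g.2.2] at this
  have h3 : Nat.card ↥(lStd ⊓ stabilizer M24 (pt outTwo)) = 60 := by
    have h' := card_orbF lStd (pt outTwo)
    have horb' : orbF lStd (pt outTwo) = refDodecadᶜ.erase (pt outPos) := by
      ext x
      rw [mem_orbF, Finset.mem_erase, Finset.mem_compl]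
      constructor
      · rintro ⟨g, rfl⟩
        refine ⟨fun e => pt_sides.2.2.2 ?_, fun e => pt_sides.2.2.1 ((apply_mem_iff g.2.1.1 _).mp e)⟩
        have hfix : g.1.1 (pt outPos) = pt outPos := g.2.2
        have e' := congrArg idx (g.1.1.injective ((show g.1.1 (pt outTwo) = pt outPos from e).trans hfix.symm))
        rwa [idx_pt _ (by decide +kernel), idx_pt _ (by decide +kernel)] at e'
      · rintro ⟨hne, hx⟩
        obtain ⟨L, hL, hLe⟩ := transTwo_ok.2 (idx x) (idx_lt x) (by
          rw [Bool.eq_false_iff]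
          exact fun e => hx (by rw [refDod_eq, mem_pts]; exact e)) (fun e => hne (by rw [← e, pt_idx]))
        obtain ⟨h1, h2, h3, h4⟩ := transTwo_ok.1 L hL
        refine ⟨⟨ofList L, ⟨⟨refD_stab_of_same h1 h2, ofList_fix h1 (by norm_num) h3⟩,
          ofList_fix h1 (by decide +kernel) h4⟩⟩, ?_⟩
        exact idx_injective (by
          show idx ((ofList L).1 (pt outTwo)) = idx x
          rw [← toList_getD _ (by decide +kernel : outTwo < 24), toList_ofList h1, hLe])
    rw [horb', Finset.card_erase_of_mem (Finset.mem_compl.mpr pt_sides.2.1),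
      dodecad_card (compl_mem_dodecads refDodecad_mem), card_lStd] at h'
    omega
  have hle : Nat.card ↥(sStdStab ⊓ stabilizer M24 (pt outPos)) ≤ 60 := by
    rw [← h3]
    refine Subgroup.card_le_of_le fun g hg => ⟨⟨⟨hg.1.1.1, hg.1.1.2⟩, hg.2⟩, ?_⟩
    have h2 := (smul_mem_iff' g).mpr
      (Finset.mem_insert_of_mem (Finset.mem_singleton_self (pt outTwo)) : pt outTwo ∈ ({pt outPos, pt outTwo} : Finset GolayPt))
    rw [mem_stabilizer_iff.mp hg.1.2, Finset.mem_insert, Finset.mem_singleton] at h2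
    refine mem_stabilizer_iff.mpr (h2.resolve_left fun e => pt_sides.2.2.2 ?_)
    have hfix : g.1 (pt outPos) = pt outPos := hg.2
    have e' := congrArg idx (g.1.injective ((show g.1 (pt outTwo) = pt outPos from e).trans hfix.symm))
    rwa [idx_pt _ (by decide +kernel), idx_pt _ (by decide +kernel)] at e'
  rw [← h]
  exact Nat.mul_le_mul horb hle |>.trans (by norm_num)

/-- The image of a permutation of five letters. -/
def permImg (σ : List ℕ) : List ℕ := (permTab.lookup σ).getD []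

/-- The five-cycle and a transposition. -/
def five5 : List (List ℕ) := [[1, 2, 3, 4, 0], [1, 0, 2, 3, 4]]

theorem permTab_ok :
    (∀ e ∈ permTab, ∀ s ∈ five5, permImg (s.map fun i => e.1.getD i 0) = compL e.2 (permImg s)) ∧
    (permTab.map Prod.snd).Nodup ∧ permImg [0, 1, 2, 3, 4] = List.range 24 ∧
    (∀ s ∈ five5, genOK (permImg s) = true ∧ same (permImg s) [8442831] [8442831] = true ∧
      (permImg s).getD 0 0 = 0 ∧
      ((permImg s).getD outPos 0 = outPos ∧ (permImg s).getD outTwo 0 = outTwo ∨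
        (permImg s).getD outPos 0 = outTwo ∧ (permImg s).getD outTwo 0 = outPos)) ∧
    permTab.length = 120 ∧ (permTab.map Prod.fst).Nodup ∧
    (∀ e ∈ permTab, permImg e.1 = e.2) := by decide +kernel

set_option synthInstance.maxSize 4000 in
theorem permTab_all : ∀ a < 5, ∀ b < 5, ∀ c < 5, ∀ d < 5, ∀ e < 5, [a, b, c, d, e].Nodup →
    ([a, b, c, d, e], permImg [a, b, c, d, e]) ∈ permTab := by decide +kernel

theorem sym_five_std : Nonempty (sStdStab ≃* Equiv.Perm (Fin 5)) := by
  obtain ⟨hmul, hnd, hone, hgen, hlen, hnd', himg⟩ := permTab_ok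
  let key : Equiv.Perm (Fin 5) → List ℕ := fun σ => [(σ 0).val, (σ 1).val, (σ 2).val, (σ 3).val, (σ 4).val]
  have hmem : ∀ σ, (key σ, permImg (key σ)) ∈ permTab := fun σ =>
    permTab_all _ (σ 0).2 _ (σ 1).2 _ (σ 2).2 _ (σ 3).2 _ (σ 4).2 (by
      simp [Fin.val_inj, σ.injective.eq_iff])
  let S : Set (Equiv.Perm (Fin 5)) := {finRotate 5, Equiv.swap 0 1}
  have hS : Submonoid.closure S = ⊤ := submonoid_closure_top (by
    have := Equiv.Perm.closure_prime_cycle_swap (σ := finRotate 5) (τ := Equiv.swap (0 : Fin 5) 1)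
      (by rw [Fintype.card_fin]; norm_num) isCycle_finRotate support_finRotate ⟨0, 1, by decide, rfl⟩
    exact this)
  have hkey : key (finRotate 5) = [1, 2, 3, 4, 0] ∧ key (Equiv.swap 0 1) = [1, 0, 2, 3, 4] := by decide +kernel
  have hs5 : ∀ s ∈ S, key s ∈ five5 := by
    rintro s (rfl | rfl) <;> simp [five5, hkey.1, hkey.2]
  obtain ⟨φ, hφK, hφ⟩ := table_hom (fun σ => permImg (key σ)) (K := sStdStab) hS
    (by simpa [key] using hone)
    (fun s hs => by
      obtain ⟨h1, h2, h3, h4⟩ := hgen _ (hs5 s hs)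
      refine ⟨ofList (permImg (key s)), ⟨⟨refD_stab_of_same h1 h2, ofList_fix h1 (by norm_num) h3⟩, ?_⟩,
        toList_ofList h1⟩
      refine mem_stabilizer_iff.mpr ?_
      have hval : ∀ i j, i < 24 → j < 24 → (permImg (key s)).getD i 0 = j →
          ofList (permImg (key s)) • pt i = pt j := fun i j hi hj e => idx_injective (by
        rw [coe_smul, ← toList_getD _ hi, toList_ofList h1, e, idx_pt j hj])
      rw [Finset.smul_finset_insert, Finset.smul_finset_singleton]
      rcases h4 with ⟨e1, e2⟩ | ⟨e1, e2⟩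
      · rw [hval _ _ (by decide +kernel) (by decide +kernel) e1, hval _ _ (by decide +kernel) (by decide +kernel) e2]
      · rw [hval _ _ (by decide +kernel) (by decide +kernel) e1, hval _ _ (by decide +kernel) (by decide +kernel) e2,
          Finset.pair_comm])
    (fun σ s hs => by
      have h := hmul _ (hmem σ) _ (hs5 s hs)
      dsimp only at h ⊢
      rw [← h]
      congr 1
      have hg : ∀ i : Fin 5, (key σ).getD i.val 0 = (σ i).val := fun i => by fin_cases i <;> rfl
      simp only [key, List.map_cons, List.map_nil, Equiv.Perm.mul_apply]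
      simp only [key] at hg
      simp only [hg])
  refine iso_of_hom φ hφK (fun σ τ h => ?_) ?_
  · have h' : permImg (key σ) = permImg (key τ) := by rw [← hφ, ← hφ, h]
    have e : key σ = key τ := by
      have := (List.inj_on_of_nodup_map hnd) (hmem σ) (hmem τ) h'
      exact congrArg Prod.fst this
    simp only [key, List.cons.injEq, Fin.val_inj, and_true] at e
    ext i
    fin_cases i <;> simp [e]
  · rw [Nat.card_perm, Nat.card_fin]
    exact card_sStd_le.trans (by decide)

theorem stab_pair_sym {d : Finset GolayPt} (hd : d ∈ dodecads) {p q q' : GolayPt} (hp : p ∈ d) (hq : q ∉ d)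
    (hq' : q' ∉ d) (hne : q ≠ q') :
    Nonempty (↥(stabilizer M24 d ⊓ stabilizer M24 p ⊓ stabilizer M24 ({q, q'} : Finset GolayPt)) ≃*
      Equiv.Perm (Fin 5)) := by
  obtain ⟨k, hkd, hkp, hkq, hkq'⟩ := exists_map_two_out hd hp hq hq' hne
  obtain ⟨e⟩ := sym_five_std
  have h : stabilizer M24 d ⊓ stabilizer M24 p ⊓ stabilizer M24 ({q, q'} : Finset GolayPt) =
      sStdStab.map (MulAut.conj k).toMonoidHom := by
    ext g
    simp only [mem_map_conj_iff, sStdStab, Subgroup.mem_inf, mem_stab_conj_iff, hkd, hkp,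
      Finset.smul_finset_insert, Finset.smul_finset_singleton, hkq, hkq']
  exact ⟨((MulEquiv.subgroupCongr h).trans
    (Subgroup.equivMapOfInjective sStdStab _ (MulAut.conj k).injective).symm).trans e⟩

/-! ### Involution centralisers -/

set_option synthInstance.maxSize 4000 in
theorem glTab_ok :
    (∀ a < 3, ∀ b < 3, ∀ c < 3, ∀ d < 3, (a * d + (3 - b) * c) % 3 ≠ 0 →
      glTab.getD (27 * a + 9 * ((a + b) % 3) + 3 * c + (c + d) % 3) [] =
          compL (glTab.getD (27 * a + 9 * b + 3 * c + d) []) (glTab.getD 37 []) ∧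
        glTab.getD (27 * ((a + b) % 3) + 9 * b + 3 * ((c + d) % 3) + d) [] =
          compL (glTab.getD (27 * a + 9 * b + 3 * c + d) []) (glTab.getD 31 []) ∧
        glTab.getD (27 * (2 * a % 3) + 9 * b + 3 * (2 * c % 3) + d) [] =
          compL (glTab.getD (27 * a + 9 * b + 3 * c + d) []) (glTab.getD 55 [])) ∧
    glTab.getD 28 [] = List.range 24 ∧
    (∀ i ∈ [37, 31, 55], genOK (glTab.getD i []) = true ∧ same (glTab.getD i []) [8442831] [8442831] = true ∧
      (glTab.getD i []).getD 23 0 = 23 ∧ compL (glTab.getD i []) invStd = compL invStd (glTab.getD i [])) ∧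
    (∀ a < 3, ∀ b < 3, ∀ c < 3, ∀ d < 3, (a * d + (3 - b) * c) % 3 ≠ 0 →
      glTab.getD (27 * a + 9 * b + 3 * c + d) [] = List.range 24 → a = 1 ∧ b = 0 ∧ c = 0 ∧ d = 1) := by
  decide +kernel

theorem invStd_ok : genOK invStd = true ∧ same invStd [8442831] [8442831] = true ∧ invStd.getD 23 0 = 23 ∧
    invStd.getD 0 0 = 1 ∧ invStd.getD 1 0 = 0 ∧ invStd.getD 2 0 = 3 ∧ invStd.getD 3 0 = 2 ∧
    (((Finset.range 24) ×ˢ (Finset.range 24)).filter fun x => (8442831 : ℕ).testBit x.1 = true ∧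
      (8442831 : ℕ).testBit x.2 = true ∧ invStd.getD x.1 0 ≠ x.1 ∧ invStd.getD x.2 0 ≠ x.2 ∧ x.1 ≠ x.2 ∧
      invStd.getD x.1 0 ≠ x.2).card = 48 := by
  decide +kernel

/-- The standard involution centraliser. -/
abbrev cStd : Subgroup M24 :=
  stabilizer M24 refDodecad ⊓ stabilizer M24 (pt 23) ⊓ Subgroup.centralizer {ofList invStd}

theorem card_cStd_le : Nat.card cStd ≤ 48 := by
  obtain ⟨hok, hsame, h23, h0, h1, h2, h3, h48⟩ := invStd_ok
  set T := ((Finset.range 24) ×ˢ (Finset.range 24)).filter fun x => (8442831 : ℕ).testBit x.1 = true ∧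
    (8442831 : ℕ).testBit x.2 = true ∧ invStd.getD x.1 0 ≠ x.1 ∧ invStd.getD x.2 0 ≠ x.2 ∧ x.1 ≠ x.2 ∧
    invStd.getD x.1 0 ≠ x.2
  set z := ofList invStd
  have hz : ∀ i, i < 24 → z.1 (pt i) = pt (invStd.getD i 0) := fun i hi => by
    conv_lhs => rw [← pt_idx (z.1 (pt i))]
    rw [← toList_getD _ hi, toList_ofList hok]
  have hcomm : ∀ g ∈ cStd, ∀ x, g.1 (z.1 x) = z.1 (g.1 x) := fun g hg x => by
    have := congrArg (fun y : M24 => y.1 x) (Subgroup.mem_centralizer_singleton_iff.mp hg.2)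
    simpa [Equiv.Perm.mul_apply] using this
  have hin : ∀ g ∈ cStd, (idx (g.1 (pt 0)), idx (g.1 (pt 2))) ∈ T := by
    intro g hg
    have hD : ∀ i, i < 24 → (8442831 : ℕ).testBit i = true → (8442831 : ℕ).testBit (idx (g.1 (pt i))) = true := by
      intro i hi h
      rw [← mem_pts, ← refDod_eq]
      exact (apply_mem_iff hg.1.1 _).mpr (by rw [refDod_eq, mem_pts, idx_pt i hi]; exact h)
    have hmv : ∀ i j, i < 24 → j < 24 → invStd.getD i 0 ≠ j → invStd.getD (idx (g.1 (pt i))) 0 ≠ idx (g.1 (pt j)) := by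
      intro i j hi hj hij e
      have e' : z.1 (g.1 (pt i)) = g.1 (pt j) := by
        rw [← pt_idx (g.1 (pt i)), hz _ (idx_lt _), e, pt_idx]
      rw [← hcomm g hg, g.1.injective.eq_iff, hz i hi] at e'
      have hlt : invStd.getD i 0 < 24 := by rw [← toList_ofList hok, toList_getD _ hi]; exact idx_lt _
      have := congrArg idx e'
      rw [idx_pt _ hlt, idx_pt j hj] at this
      exact hij this
    refine Finset.mem_filter.mpr ⟨Finset.mem_product.mpr ⟨Finset.mem_range.mpr (idx_lt _),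
      Finset.mem_range.mpr (idx_lt _)⟩, hD 0 (by norm_num) (by decide +kernel), hD 2 (by norm_num) (by decide +kernel),
      hmv 0 0 (by norm_num) (by norm_num) (by rw [h0]; norm_num),
      hmv 2 2 (by norm_num) (by norm_num) (by rw [h2]; norm_num), ?_,
      hmv 0 2 (by norm_num) (by norm_num) (by rw [h0]; norm_num)⟩
    intro e
    have := congrArg idx (g.1.injective (idx_injective e))
    rw [idx_pt _ (by norm_num), idx_pt _ (by norm_num)] at this
    omega
  let f : cStd → T := fun g => ⟨_, hin g.1 g.2⟩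
  have hf : Function.Injective f := fun g h e => by
    have e0 : g.1.1 (pt 0) = h.1.1 (pt 0) := idx_injective (congrArg (fun x : T => x.1.1) e)
    have e2 : g.1.1 (pt 2) = h.1.1 (pt 2) := idx_injective (congrArg (fun x : T => x.1.2) e)
    have e1 : g.1.1 (pt 1) = h.1.1 (pt 1) := by
      have hz0 := hz 0 (by norm_num)
      rw [h0] at hz0
      rw [← hz0, hcomm _ g.2, hcomm _ h.2, e0]
    have e3 : g.1.1 (pt 3) = h.1.1 (pt 3) := by
      have hz2 := hz 2 (by norm_num)
      rw [h2] at hz2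
      rw [← hz2, hcomm _ g.2, hcomm _ h.2, e2]
    have e23 : g.1.1 (pt 23) = h.1.1 (pt 23) :=
      (show g.1.1 (pt 23) = pt 23 from g.2.1.2).trans (show h.1.1 (pt 23) = pt 23 from h.2.1.2).symm
    have hone : g.1⁻¹ * h.1 = 1 := by
      refine eq_one_of_fix_five (fun j hj => ?_)
        (mem_stabilizer_iff.mp (mul_mem (inv_mem g.2.1.1) h.2.1.1))
      have hfx : ∀ x, g.1.1 x = h.1.1 x → (g.1⁻¹ * h.1).1 x = x := fun x e => by
        rw [Subgroup.coe_mul, Equiv.Perm.mul_apply, Subgroup.coe_inv, ← e]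
        exact g.1.1.symm_apply_apply x
      rw [← pt_q5 j hj]
      interval_cases j
      exacts [hfx _ e23, hfx _ e0, hfx _ e1, hfx _ e2, hfx _ e3]
    exact Subtype.ext (inv_mul_eq_one.mp hone)
  refine (Nat.card_le_card_of_injective f hf).trans ?_
  rw [Nat.card_eq_fintype_card, Fintype.card_coe]
  exact h48.le

theorem glD_ok : (!![2, 0; 0, 1] : Matrix (Fin 2) (Fin 2) (ZMod 3)).det ≠ 0 ∧
    (!![2, 0; 0, 1] : Matrix (Fin 2) (Fin 2) (ZMod 3)) * !![2, 0; 0, 1] = 1 ∧
    (!![2, 0; 0, 1] : Matrix (Fin 2) (Fin 2) (ZMod 3)).det = 2 ∧ (2 : ZMod 3) * 2 = 1 ∧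
    ∀ r : ZMod 3, r ≠ 0 → r = 1 ∨ r = 2 := by decide +kernel

theorem gl_two_std : Nonempty (cStd ≃* GL (Fin 2) (ZMod 3)) := by
  haveI : Fact (Nat.Prime 3) := ⟨Nat.prime_three⟩
  obtain ⟨hmul, hone, hgen, hker⟩ := glTab_ok
  let f : GL (Fin 2) (ZMod 3) → List ℕ := fun g =>
    glTab.getD (27 * (g.1 0 0).val + 9 * (g.1 0 1).val + 3 * (g.1 1 0).val + (g.1 1 1).val) []
  have hdet : ∀ g : GL (Fin 2) (ZMod 3),
      ((g.1 0 0).val * (g.1 1 1).val + (3 - (g.1 0 1).val) * (g.1 1 0).val) % 3 ≠ 0 := fun g e => by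
    have hu : g.1.det ≠ 0 := ((Matrix.isUnit_iff_isUnit_det _).mp g.isUnit).ne_zero
    apply hu
    have h := congrArg (fun n : ℕ => (n : ZMod 3)) e
    simp only [ZMod.natCast_mod, Nat.cast_add, Nat.cast_mul, Nat.cast_sub (ZMod.val_lt (g.1 0 1)).le,
      ZMod.natCast_zmod_val, ZMod.natCast_self, Nat.cast_zero] at h
    rw [Matrix.det_fin_two]
    linear_combination h
  let D : GL (Fin 2) (ZMod 3) := Matrix.GeneralLinearGroup.mkOfDetNeZero !![2, 0; 0, 1] glD_ok.1
  let U := Matrix.SpecialLinearGroup.toGL (upper (1 : ZMod 3))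
  let V := Matrix.SpecialLinearGroup.toGL (lower (1 : ZMod 3))
  have hS : Submonoid.closure ({U, V, D} : Set (GL (Fin 2) (ZMod 3))) = ⊤ := by
    set M := Submonoid.closure ({U, V, D} : Set (GL (Fin 2) (ZMod 3)))
    have hsl : ∀ x, Matrix.SpecialLinearGroup.toGL x ∈ M := fun x => by
      have : x ∈ M.comap (Matrix.SpecialLinearGroup.toGL : SL(2, ZMod 3) →* _) := by
        have h := sl_two_top (p := 3)
        refine (h ▸ Submonoid.closure_le.mpr ?_ : (⊤ : Submonoid _) ≤ _) (Submonoid.mem_top x)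
        rintro y (rfl | rfl) <;> exact Submonoid.subset_closure (by simp [U, V])
      exact this
    rw [eq_top_iff]
    intro g _
    have hd : g.1.det = 1 ∨ g.1.det = 2 := by
      have := ((Matrix.isUnit_iff_isUnit_det _).mp g.isUnit).ne_zero
      exact glD_ok.2.2.2.2 _ this
    rcases hd with h | h
    · have : g = Matrix.SpecialLinearGroup.toGL ⟨g.1, h⟩ := Units.ext rfl
      rw [this]; exact hsl _
    · have hgd : (g * D).1.det = 1 := by
        rw [Units.val_mul, Matrix.det_mul, h, show D.1.det = 2 from glD_ok.2.2.1]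
        exact glD_ok.2.2.2.1
      have hD2 : D * D = 1 := Units.ext glD_ok.2.1
      have : g = Matrix.SpecialLinearGroup.toGL ⟨(g * D).1, hgd⟩ * D := by
        rw [show Matrix.SpecialLinearGroup.toGL ⟨(g * D).1, hgd⟩ = g * D from Units.ext rfl, mul_assoc, hD2, mul_one]
      rw [this]
      exact M.mul_mem (hsl _) (Submonoid.subset_closure (by simp))
  have hfU : f U = glTab.getD 37 [] ∧ f V = glTab.getD 31 [] ∧ f D = glTab.getD 55 [] ∧ f 1 = glTab.getD 28 [] := by
    refine ⟨?_, ?_, ?_, ?_⟩ <;> simp [f, U, V, D, upper_val, lower_val, ZMod.val_one, show ((2 : ZMod 3)).val = 2 from rfl]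
  obtain ⟨φ, hφK, hφ⟩ := table_hom f (K := cStd) hS (hfU.2.2.2.trans hone)
    (fun s hs => by
      obtain ⟨i, hi, hfi⟩ : ∃ i ∈ [37, 31, 55], f s = glTab.getD i [] := by
        rcases hs with rfl | rfl | rfl
        exacts [⟨37, by simp, hfU.1⟩, ⟨31, by simp, hfU.2.1⟩, ⟨55, by simp, hfU.2.2.1⟩]
      obtain ⟨h1, h2, h3, h4⟩ := hgen i hi
      rw [hfi]
      refine ⟨ofList _, ⟨⟨refD_stab_of_same h1 h2, ofList_fix h1 (by norm_num) h3⟩, ?_⟩, toList_ofList h1⟩
      refine Subgroup.mem_centralizer_singleton_iff.mpr ?_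
      refine toList_coe_injective ?_
      show toList (ofList _ * ofList invStd).1 = toList (ofList invStd * ofList _).1
      rw [Subgroup.coe_mul, Subgroup.coe_mul, toList_mul, toList_mul, toList_ofList h1, toList_ofList invStd_ok.1]
      exact h4)
    (fun g s hs => by
      obtain ⟨k1, k2, k3⟩ := hmul _ (ZMod.val_lt (g.1 0 0)) _ (ZMod.val_lt (g.1 0 1)) _ (ZMod.val_lt (g.1 1 0)) _
        (ZMod.val_lt (g.1 1 1)) (hdet g)
      rcases hs with rfl | rfl | rfl
      · rw [hfU.1, ← k1]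
        simp [f, U, upper_val, Matrix.SpecialLinearGroup.coe_mul, Matrix.mul_apply, Fin.sum_univ_two, ZMod.val_add, add_comm]
      · rw [hfU.2.1, ← k2]
        simp [f, V, lower_val, Matrix.SpecialLinearGroup.coe_mul, Matrix.mul_apply, Fin.sum_univ_two, ZMod.val_add]
      · rw [hfU.2.2.1, ← k3]
        simp [f, D, Matrix.mul_apply, Fin.sum_univ_two, ZMod.val_mul, Nat.mul_comm, show ((2 : ZMod 3)).val = 2 from rfl])
  refine iso_of_hom φ hφK ((injective_iff_map_eq_one φ).mpr fun g hg => ?_) ?_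
  · have hf : f g = List.range 24 := by rw [← hφ g, hg]; exact toList_one
    obtain ⟨ha, hb, hc, hd⟩ := hker _ (ZMod.val_lt (g.1 0 0)) _ (ZMod.val_lt (g.1 0 1)) _ (ZMod.val_lt (g.1 1 0)) _
      (ZMod.val_lt (g.1 1 1)) (hdet g) hf
    apply Units.ext
    ext i j
    have v1 : (1 : ZMod 3).val = 1 := rfl
    fin_cases i <;> fin_cases j <;> simp only [Units.val_one]
    · exact ZMod.val_injective 3 (by simpa [v1] using ha)
    · exact ZMod.val_injective 3 (by simpa using hb)
    · exact ZMod.val_injective 3 (by simpa using hc)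
    · exact ZMod.val_injective 3 (by simpa [v1] using hd)
  · rw [Matrix.card_GL_field]
    simpa [Fin.prod_univ_two, ZMod.card] using card_cStd_le

theorem involution_centralizer_gl {d : Finset GolayPt} (hd : d ∈ dodecads) {p : GolayPt} (hp : p ∈ d)
    (x : ↥(stabilizer M24 d ⊓ stabilizer M24 p)) (hx : orderOf x = 2) :
    Nonempty (↥(Subgroup.centralizer ({x} : Set ↥(stabilizer M24 d ⊓ stabilizer M24 p))) ≃*
      GL (Fin 2) (ZMod 3)) := by
  classical
  set σ : M24 := x.1
  have hσd : σ ∈ stabilizer M24 d := x.2.1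
  have hσp : σ.1 p = p := x.2.2
  have hσ2 : ∀ y, σ.1 (σ.1 y) = y := fun y => by
    have h := congrArg (fun g : ↥(stabilizer M24 d ⊓ stabilizer M24 p) => g.1.1 y) (hx ▸ pow_orderOf_eq_one x)
    simpa [sq, Equiv.Perm.mul_apply] using h
  have hne : σ ≠ 1 := fun e => by
    rw [show x = 1 from Subtype.ext e, orderOf_one] at hx
    omega
  have hpick : ∀ t : Finset GolayPt, t ⊆ d → t.card + 5 ≤ 12 → ∃ a ∈ d, a ∉ t ∧ σ.1 a ≠ a := fun t ht hc => by
    by_contra hno
    push Not at hno
    refine hne (eq_one_of_five hd hσd Finset.sdiff_subset ?_ fun y hy =>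
      hno y (Finset.mem_sdiff.mp hy).1 (Finset.mem_sdiff.mp hy).2)
    rw [Finset.card_sdiff_of_subset ht, dodecad_card hd]
    omega
  obtain ⟨a, had, -, hma⟩ := hpick ∅ (by simp) (by simp)
  have hσad := (apply_mem_iff hσd a).mpr had
  obtain ⟨b, hbd, hbt, hmb⟩ := hpick {a, σ.1 a} (by simp [Finset.insert_subset_iff, had, hσad])
    (by have := Finset.card_le_two (a := a) (b := σ.1 a); omega)
  simp only [Finset.mem_insert, Finset.mem_singleton, not_or] at hbt
  have hσbd := (apply_mem_iff hσd b).mpr hbd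
  have hnd : [p, a, σ.1 a, b, σ.1 b].Nodup := by
    have n1 : p ≠ a := fun e => hma (e ▸ hσp)
    have n2 : p ≠ σ.1 a := fun e => hma (by rw [← e]; exact (σ.1.injective (hσp.trans e)))
    have n3 : p ≠ b := fun e => hmb (e ▸ hσp)
    have n4 : p ≠ σ.1 b := fun e => hmb (by rw [← e]; exact (σ.1.injective (hσp.trans e)))
    have n5 : a ≠ σ.1 b := fun e => hbt.2 (by rw [e, hσ2])
    have n6 : σ.1 a ≠ σ.1 b := fun e => hbt.1 (σ.1.injective e).symm
    simp [n1, n2, n3, n4, n5, n6, Ne.symm hma, Ne.symm hmb, Ne.symm hbt.1, Ne.symm hbt.2]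
  obtain ⟨k, hkd, hk⟩ := exists_std_five hd (l := [p, a, σ.1 a, b, σ.1 b]) rfl hnd (by
    simp [hp, had, hσad, hbd, hσbd])
  have k0 : k.1 (pt 23) = p := hk 0 (by norm_num)
  have k1 : k.1 (pt 0) = a := hk 1 (by norm_num)
  have k2 : k.1 (pt 1) = σ.1 a := hk 2 (by norm_num)
  have k3 : k.1 (pt 2) = b := hk 3 (by norm_num)
  have k4 : k.1 (pt 3) = σ.1 b := hk 4 (by norm_num)
  obtain ⟨hok, hsame, h23, h0, h1, h2, h3, -⟩ := invStd_ok
  set z := ofList invStd
  have hz : ∀ i j, i < 24 → j < 24 → invStd.getD i 0 = j → z.1 (pt i) = pt j := fun i j hi hj e => idx_injective (by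
    rw [← toList_getD _ hi, toList_ofList hok, e, idx_pt j hj])
  have hconj : k * z * k⁻¹ = σ := by
    have hagree : ∀ i, (k * z).1 (pt i) = (σ * k).1 (pt i) → (z⁻¹ * (k⁻¹ * σ * k)).1 (pt i) = pt i := fun i e => by
      simp only [Subgroup.coe_mul, Equiv.Perm.mul_apply, Subgroup.coe_inv] at e ⊢
      rw [← e]
      simp
    have h5 : z⁻¹ * (k⁻¹ * σ * k) = 1 := by
      refine eq_one_of_fix_five (fun j hj => ?_) ?_
      · rw [← pt_q5 j hj]
        refine hagree _ ?_
        simp only [Subgroup.coe_mul, Equiv.Perm.mul_apply]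
        interval_cases j <;> simp only [q5, List.getD_cons_zero, List.getD_cons_succ]
        · rw [hz 23 23 (by norm_num) (by norm_num) h23, k0, hσp]
        · rw [hz 0 1 (by norm_num) (by norm_num) h0, k1, k2]
        · rw [hz 1 0 (by norm_num) (by norm_num) h1, k2, k1, hσ2]
        · rw [hz 2 3 (by norm_num) (by norm_num) h2, k3, k4]
        · rw [hz 3 2 (by norm_num) (by norm_num) h3, k4, k3, hσ2]
      · rw [mul_smul, mul_smul, mul_smul, hkd, mem_stabilizer_iff.mp hσd, ← hkd, inv_smul_smul, inv_smul_eq_iff]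
        exact (mem_stabilizer_iff.mp (refD_stab_of_same hok hsame)).symm
    rw [inv_mul_eq_one.mp h5]
    group
  obtain ⟨e⟩ := gl_two_std
  have hK : stabilizer M24 d ⊓ stabilizer M24 p ⊓ Subgroup.centralizer {σ} = cStd.map (MulAut.conj k).toMonoidHom := by
    ext g
    simp only [mem_map_conj_iff, cStd, Subgroup.mem_inf, mem_stab_conj_iff, mem_cent_conj_iff, hkd,
      show k • pt 23 = p from k0, show k * ofList invStd * k⁻¹ = σ from hconj]
  exact ⟨((centInfEquiv _ x).trans ((MulEquiv.subgroupCongr hK).trans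
    (Subgroup.equivMapOfInjective cStd _ (MulAut.conj k).injective).symm)).trans e⟩

end CfsgLib.Golay.Cert
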