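/-
The normaliser of a subgroup of order 7 and the centraliser of a fixed-point-free involution.
-/
import Cfsg.Agent.Golay.ExactList
import Cfsg.Agent.Golay.CentralisersData
import Cfsg.Agent.Golay.IndexPoint
import Cfsg.Agent.Golay.SmallStab
import Cfsg.Agent.Golay.FamTrio
import Cfsg.Agent.Golay.FamSextet
import Cfsg.Agent.Golay.InvCount

set_option autoImplicit false

namespace CfsgLib.Golay.Cert

open Cfsg CfsgLib.Golay MulAction
open scoped Pointwise

/-! ### Order seven -/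

/-- The candidate elements with the attached exponents. -/
def sevHK : List (List ℕ × ℕ) := sevH.zip ((List.range 21).flatMap fun _ => [1, 2, 3, 4, 5, 6])

theorem sev_ok :
    genOK sevR = true ∧ genOK sevGi = true ∧ genOK sevC2 = true ∧ (∀ e ∈ sevHK, genOK e.1 = true) ∧
    sevR != List.range 24 ∧ powL sevR 7 = List.range 24 ∧ sevR.getD 0 0 ≠ 0 ∧
    (∀ j < 5, sevGi.getD ((powL sevR j).getD 0 0) 0 = q5.getD j 0) ∧
    reps7.length = 2 ∧ reps7.getD 0 [] = sevR ∧ compL sevC2 (reps7.getD 1 []) = compL (powL sevR 3) sevC2 ∧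
    canonL sevT = true ∧
    trioCat.obj 3329 = sevT ∧ trioCat.size = 3795 := by decide +kernel

set_option synthInstance.maxSize 4000 in
theorem sev_images : ∀ q < 24, sevR.getD q 0 ≠ q → ∀ k < 7, k ≠ 0 →
    ∃ e ∈ sevHK, e.2 = k ∧ ∀ j < 5, (sevPow.getD (k * j % 7) []).getD q 0 = e.1.getD (q5.getD j 0) 0 := by
  decide +kernel

theorem sevPow_ok : ∀ k < 7, powL sevR k = sevPow.getD k [] := by decide +kernel

theorem sev_cands : (sevHK.all fun e => fiveList.all fun f =>
    !(conjB sevR (sevPow.getD e.2 []) (compL (compL e.1 f) sevGi)) ||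
      sevN.contains (compL (compL e.1 f) sevGi)) = true := by decide +kernel

theorem sev_list : sevN.Nodup ∧ sevN.length = 126 ∧
    (sevN.filter fun c => conjB sevR sevR c).length = 42 ∧
    (sevN.any fun c => conjB sevR sevR c && sevN.any fun c' => conjB sevR sevR c' && compL c c' != compL c' c) = true ∧
    (∀ c ∈ sevN, genOK c = true ∧ same c sevT sevT = true ∧
      ((List.range 7).any fun k => k != 0 && conjB sevR (powL sevR k) c) = true) := by decide +kernel

/-- The standard element of order seven. -/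
noncomputable def rho : M24 := ofList sevR

theorem toList_rho : toList rho.1 = sevR := toList_ofList sev_ok.1

theorem toList_rho_pow (k : ℕ) : toList (rho ^ k).1 = powL sevR k := by
  rw [SubgroupClass.coe_pow, toList_pow, toList_rho]

theorem orderOf_rho : orderOf rho = 7 := by
  haveI : Fact (Nat.Prime 7) := ⟨by norm_num⟩
  refine orderOf_eq_prime ?_ fun e => ?_
  · exact toList_coe_injective ((toList_rho_pow 7).trans (sev_ok.2.2.2.2.2.1.trans toList_one.symm))
  · have h := sev_ok.2.2.2.2.1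
    rw [← toList_rho, e] at h
    exact absurd h (by simp [toList_one])

theorem zpowers_pow {k : ℕ} (hk : k < 7) (h0 : k ≠ 0) : Subgroup.zpowers (rho ^ k) = Subgroup.zpowers rho := by
  refine Subgroup.eq_of_le_of_card_ge (Subgroup.zpowers_le.mpr (pow_mem (Subgroup.mem_zpowers rho) k)) ?_
  rw [Nat.card_zpowers, Nat.card_zpowers, orderOf_pow' _ h0, orderOf_rho,
    Nat.Coprime.gcd_eq_one ((Nat.Prime.coprime_iff_not_dvd (by norm_num)).mpr fun h =>
      absurd (Nat.le_of_dvd (by omega) h) (by omega)), Nat.div_one]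

theorem sev_norm_list {n : M24} (hn : n ∈ Subgroup.normalizer (Subgroup.zpowers rho : Set M24)) :
    toList n.1 ∈ sevN := by
  haveI : Fact (Nat.Prime 7) := ⟨by norm_num⟩
  have hmem : n * rho * n⁻¹ ∈ Subgroup.zpowers rho :=
    (Subgroup.mem_normalizer_iff.mp hn rho).mp (Subgroup.mem_zpowers rho)
  obtain ⟨k, hk⟩ := mem_powers_iff_mem_zpowers.mpr hmem
  dsimp only at hk
  obtain ⟨k, hk7, hk⟩ : ∃ k < 7, n * rho * n⁻¹ = rho ^ k :=
    ⟨k % 7, Nat.mod_lt _ (by norm_num), by rw [← orderOf_rho, pow_mod_orderOf, hk]⟩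
  have hk0 : k ≠ 0 := by
    rintro rfl
    rw [pow_zero] at hk
    have h1 : rho = 1 := by
      calc rho = n⁻¹ * (n * rho * n⁻¹) * n := by group
        _ = 1 := by rw [hk]; group
    have := orderOf_rho
    rw [h1, orderOf_one] at this
    omega
  have hc : n * rho = rho ^ k * n := by rw [← hk]; group
  obtain ⟨hR, hG, -, hH, -, -, hmove, hGimg, -⟩ := sev_ok
  set q := idx (n.1 (pt 0))
  have hq : sevR.getD q 0 ≠ q := by
    intro e
    rw [← toList_rho, toList_getD_idx] at e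
    have hfix := idx_injective e
    have hpow : (rho ^ k).1 (n.1 (pt 0)) = n.1 (pt 0) := by
      rw [SubgroupClass.coe_pow]
      exact Equiv.Perm.pow_apply_eq_self_of_apply_eq_self hfix k
    have h' := congrArg (fun z : M24 => z.1 (pt 0)) hc
    simp only [Subgroup.coe_mul, Equiv.Perm.mul_apply, hpow] at h'
    apply hmove
    rw [← toList_rho, toList_getD _ (by norm_num), n.1.injective h', idx_pt 0 (by norm_num)]
  obtain ⟨e, he', hek, he⟩ := sev_images q (idx_lt _) hq k hk7 hk0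
  have hmemc : toList n.1 ∈ candList [e.1] sevGi := by
    refine mem_candList (g := (ofList sevGi)⁻¹) (by rw [inv_inv]; exact toList_ofList hG)
      ⟨e.1, List.mem_singleton_self _, hH e he', agree_five fun j hj => ?_⟩
    rw [← he j hj]
    have hgp : ((ofList sevGi)⁻¹ : M24).1 (pt (q5.getD j 0)) = (rho ^ j).1 (pt 0) := by
      rw [Subgroup.coe_inv, Equiv.Perm.inv_def, Equiv.symm_apply_eq]
      refine idx_injective ?_
      rw [idx_pt _ (by interval_cases j <;> decide), ← toList_getD_idx, toList_ofList hG,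
        ← toList_getD _ (by norm_num : 0 < 24), toList_rho_pow, hGimg j hj]
    have hcomm : n * rho ^ j = (rho ^ k) ^ j * n := SemiconjBy.pow_right (x := rho) (y := rho ^ k) hc j
    have h' := congrArg (fun z : M24 => z.1 (pt 0)) hcomm
    simp only [Subgroup.coe_mul, Equiv.Perm.mul_apply] at h' ⊢
    rw [hgp, h', ← sevPow_ok _ (Nat.mod_lt _ (by norm_num)), ← toList_rho_pow, toList_getD_idx, ← pow_mul]
    congr 3
    conv_lhs => rw [← pow_mod_orderOf, orderOf_rho]
  simp only [candList, List.flatMap_cons, List.flatMap_nil, List.append_nil] at hmemc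
  obtain ⟨f, hf, hfe⟩ := List.mem_map.mp hmemc
  have hall := List.all_eq_true.mp (List.all_eq_true.mp sev_cands e he') f hf
  have hcj : conjB sevR (sevPow.getD k []) (toList n.1) = true := by
    rw [← sevPow_ok k hk7, ← toList_rho_pow, ← toList_rho]
    exact conjB_iff.mpr hc
  rw [hfe, hek, hcj] at hall
  simpa using hall

theorem sev_list_norm {c : List ℕ} (hc : c ∈ sevN) :
    ∃ n : M24, n ∈ Subgroup.normalizer (Subgroup.zpowers rho : Set M24) ∧ toList n.1 = c ∧
      n • toObj sevT = toObj sevT := by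
  obtain ⟨h1, h2, h3⟩ := sev_list.2.2.2.2 c hc
  obtain ⟨k, hk, hk'⟩ := List.any_eq_true.mp h3
  rw [Bool.and_eq_true, bne_iff_ne] at hk'
  refine ⟨ofList c, ?_, toList_ofList h1, same_spec (toList_ofList h1) sev_ok.2.2.2.2.2.2.2.2.2.2.2.1 h2⟩
  have he : ofList c * rho = rho ^ k * ofList c := conjB_iff.mp (by
    rw [toList_rho, toList_rho_pow, toList_ofList h1]; exact hk'.2)
  rw [Subgroup.mem_normalizer_iff_map_conj_eq, MonoidHom.map_zpowers]
  show Subgroup.zpowers (ofList c * rho * (ofList c)⁻¹) = _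
  rw [he, mul_inv_cancel_right, zpowers_pow (List.mem_range.mp hk) hk'.1]

theorem card_norm_rho : Nat.card ↥(Subgroup.normalizer (Subgroup.zpowers rho : Set M24)) = 126 := by
  rw [card_of_list (fun g hg => sev_norm_list hg) (fun L hL => ?_) sev_list.1, sev_list.2.1]
  obtain ⟨n, hn, hnL, -⟩ := sev_list_norm hL
  exact ⟨n, hn, hnL⟩

theorem mem_cent_rho {g : M24} :
    g ∈ Subgroup.centralizer (Subgroup.zpowers rho : Set M24) ↔
      toList g.1 ∈ sevN.filter fun c => conjB sevR sevR c := by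
  rw [List.mem_filter, ← toList_rho]
  constructor
  · intro h
    exact ⟨sev_norm_list (Subgroup.centralizer_le_normalizer _ h),
      conjB_iff.mpr ((Subgroup.mem_centralizer_iff.mp h rho (Subgroup.mem_zpowers rho)).symm)⟩
  · rintro ⟨-, hj⟩
    rw [Subgroup.mem_centralizer_iff]
    rintro x ⟨i, rfl⟩
    exact ((Commute.zpow_right (conjB_iff.mp hj : Commute g rho) i).eq).symm

theorem card_cent_rho : Nat.card ↥(Subgroup.centralizer (Subgroup.zpowers rho : Set M24)) = 42 := by
  rw [card_of_list (fun g hg => mem_cent_rho.mp hg) (fun L hL => ?_) (sev_list.1.filter _), sev_list.2.2.1]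
  obtain ⟨n, -, hnL, -⟩ := sev_list_norm (List.mem_filter.mp hL).1
  exact ⟨n, mem_cent_rho.mpr (hnL ▸ hL), hnL⟩

theorem cent_rho_nonabelian : ∃ x ∈ Subgroup.centralizer (Subgroup.zpowers rho : Set M24),
    ∃ y ∈ Subgroup.centralizer (Subgroup.zpowers rho : Set M24), x * y ≠ y * x := by
  obtain ⟨c, hc, h⟩ := List.any_eq_true.mp sev_list.2.2.2.1
  rw [Bool.and_eq_true] at h
  obtain ⟨c', hc', h'⟩ := List.any_eq_true.mp h.2
  rw [Bool.and_eq_true, bne_iff_ne] at h'
  obtain ⟨x, -, hx, -⟩ := sev_list_norm hc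
  obtain ⟨y, -, hy, -⟩ := sev_list_norm hc'
  refine ⟨x, mem_cent_rho.mpr (hx ▸ List.mem_filter.mpr ⟨hc, h.1⟩),
    y, mem_cent_rho.mpr (hy ▸ List.mem_filter.mpr ⟨hc', h'.1⟩), fun e => h'.2 ?_⟩
  rw [← hx, ← hy, ← toList_mul, ← toList_mul, ← Subgroup.coe_mul, ← Subgroup.coe_mul, e]

theorem conj_rho {S : Subgroup M24} (hS : Nat.card S = 7) :
    ∃ k : M24, S = (Subgroup.zpowers rho).map (MulAut.conj k).toMonoidHom := by
  haveI : Fact (Nat.Prime 7) := ⟨by norm_num⟩
  obtain ⟨σ, hσ, hσ1⟩ := S.ne_bot_iff_exists_ne_one.mp (fun e => by rw [e, Subgroup.card_bot] at hS; omega) |>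
    fun ⟨a, ha⟩ => (⟨a.1, a.2, fun e => ha (Subtype.ext e)⟩ : ∃ σ, σ ∈ S ∧ σ ≠ 1)
  have hord : orderOf σ = 7 := by
    have h := hS ▸ Subgroup.orderOf_dvd_natCard S hσ
    rcases (Nat.dvd_prime (by norm_num)).mp h with h | h
    · exact absurd (orderOf_eq_one_iff.mp h) hσ1
    · exact h
  have hSz : S = Subgroup.zpowers σ :=
    (Subgroup.eq_of_le_of_card_ge (Subgroup.zpowers_le.mpr hσ) (by rw [Nat.card_zpowers, hord, hS])).symm
  obtain ⟨k, hk⟩ := conjTo_big (by norm_num) le_rfl ok_big.1 ok_big.2.1 hord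
  obtain ⟨-, -, hC, -, -, -, -, -, hlen, h0, h1, -⟩ := sev_ok
  obtain ⟨j, ⟨hj, hj0⟩, e, he⟩ : ∃ j, (j < 7 ∧ j ≠ 0) ∧ ∃ e : M24, e * σ * e⁻¹ = rho ^ j := by
    obtain ⟨i, hi, hir⟩ := List.mem_iff_getElem.mp hk
    rw [hlen] at hi
    rw [← List.getD_eq_getElem _ [] (hlen.symm ▸ hi)] at hir
    interval_cases i
    · exact ⟨1, by norm_num, k, toList_coe_injective (by show toList _ = toList _; rw [pow_one, toList_rho, ← hir, h0])⟩
    · refine ⟨3, by norm_num, ofList sevC2 * k, ?_⟩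
      have hkey : ofList sevC2 * (k * σ * k⁻¹) = rho ^ 3 * ofList sevC2 := toList_coe_injective (by
        show toList _ = toList _
        rw [Subgroup.coe_mul, toList_mul, ← hir, toList_ofList hC, h1, Subgroup.coe_mul _ (rho ^ 3), toList_mul,
          toList_rho_pow, toList_ofList hC])
      calc ofList sevC2 * k * σ * (ofList sevC2 * k)⁻¹ = ofList sevC2 * (k * σ * k⁻¹) * (ofList sevC2)⁻¹ := by group
        _ = rho ^ 3 := by rw [hkey]; group
  refine ⟨e⁻¹, ?_⟩
  rw [hSz, ← zpowers_pow hj hj0, MonoidHom.map_zpowers]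
  congr 1
  rw [← he]
  simp [MulAut.conj_apply, mul_assoc]

theorem seven_normalizer {S : Subgroup M24} (hS : Nat.card S = 7) :
    Nat.card ↥(Subgroup.normalizer (S : Set M24)) = 126 ∧ Nat.card ↥(Subgroup.centralizer (S : Set M24)) = 42 ∧
      (∃ x ∈ Subgroup.centralizer (S : Set M24), ∃ y ∈ Subgroup.centralizer (S : Set M24), x * y ≠ y * x) ∧
      ∃ T ∈ trios, ∀ n ∈ Subgroup.normalizer (S : Set M24), n • T = T := by
  obtain ⟨k, rfl⟩ := conj_rho hS
  set φ := MulAut.conj k
  have hN : Subgroup.normalizer (((Subgroup.zpowers rho).map φ.toMonoidHom : Subgroup M24) : Set M24) =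
      (Subgroup.normalizer (Subgroup.zpowers rho : Set M24)).map φ.toMonoidHom :=
    (Subgroup.map_equiv_normalizer_eq (Subgroup.zpowers rho) φ).symm
  have hC : Subgroup.centralizer (((Subgroup.zpowers rho).map φ.toMonoidHom : Subgroup M24) : Set M24) =
      (Subgroup.centralizer (Subgroup.zpowers rho : Set M24)).map φ.toMonoidHom := by
    ext g
    rw [mem_map_conj_iff, Subgroup.mem_centralizer_iff, Subgroup.mem_centralizer_iff]
    constructor
    · intro h x hx
      have h' := h (k * x * k⁻¹) ⟨x, hx, rfl⟩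
      calc x * (k⁻¹ * g * k) = k⁻¹ * (k * x * k⁻¹ * g) * k := by group
        _ = k⁻¹ * (g * (k * x * k⁻¹)) * k := by rw [h']
        _ = k⁻¹ * g * k * x := by group
    · rintro h _ ⟨x, hx, rfl⟩
      have h' := h x hx
      show k * x * k⁻¹ * g = g * (k * x * k⁻¹)
      calc k * x * k⁻¹ * g = k * (x * (k⁻¹ * g * k)) * k⁻¹ := by group
        _ = k * (k⁻¹ * g * k * x) * k⁻¹ := by rw [h']
        _ = g * (k * x * k⁻¹) := by group
  refine ⟨?_, ?_, ?_, ?_⟩
  · rw [hN, Subgroup.card_map_of_injective φ.injective, card_norm_rho]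
  · rw [hC, Subgroup.card_map_of_injective φ.injective, card_cent_rho]
  · obtain ⟨x, hx, y, hy, hxy⟩ := cent_rho_nonabelian
    rw [hC]
    refine ⟨φ x, ⟨x, hx, rfl⟩, φ y, ⟨y, hy, rfl⟩, fun e => hxy ?_⟩
    rw [← map_mul, ← map_mul] at e
    exact φ.injective e
  · have hie := sev_ok.2.2.2.2.2.2.2.2.2.2.2.2.1
    have hT : toObj sevT ∈ trios := trios_cat.1 ▸
      (⟨3329, by rw [sev_ok.2.2.2.2.2.2.2.2.2.2.2.2.2]; norm_num, congrArg toObj hie⟩ : trioCat.Mem (toObj sevT))
    refine ⟨k • toObj sevT, smul_mem_trios k _ hT, fun n hn => ?_⟩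
    rw [hN, mem_map_conj_iff] at hn
    obtain ⟨m, -, hmL, hmT⟩ := sev_list_norm (sev_norm_list hn)
    rw [toList_coe_injective hmL, mul_smul, mul_smul, inv_smul_eq_iff] at hmT
    exact hmT

/-! ### Fixed-point-free involutions -/

theorem fpf_ok :
    genOK fpfS = true ∧ (∀ h ∈ fpfH, genOK h = true) ∧
    powL fpfS 2 = List.range 24 ∧ fpfS.getD 23 0 = 0 ∧ fpfS.getD 0 0 = 23 ∧
    fpfS.getD 1 0 = 2 ∧ fpfS.getD 2 0 = 1 ∧ fpfS = rep2B ∧
    canonL fpfSext = true ∧ sextCat.obj 1660 = fpfSext ∧ sextCat.size = 1771 ∧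
    same fpfS fpfSext fpfSext = true := by decide +kernel

set_option synthInstance.maxSize 4000 in
theorem fpf_images : ∀ q ∈ [3, 1, 2], ∀ w < 24, w ∉ [23, 0, q, fpfS.getD q 0] →
    ∃ h ∈ fpfH, genOK h = true ∧ ∀ j < 5, [23, 0, q, fpfS.getD q 0, w].getD j 0 = h.getD (q5.getD j 0) 0 := by
  decide +kernel

theorem fpf_src : genOK fpfGi = true ∧ fpfGi.getD 23 0 = 23 ∧ fpfGi.getD 0 0 = 0 ∧ fpfGi.getD 3 0 = 1 ∧
    fpfGi.getD 5 0 = 2 ∧ fpfGi.getD 1 0 = 3 ∧ fpfS.getD 3 0 = 5 := by decide +kernel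

theorem fpf_cands : ((candList fpfH fpfGi).all fun c =>
    !(conjB fpfS fpfS c) || fpfCab.contains c) = true := by decide +kernel

theorem fpf_list : fpfCab.Nodup ∧ fpfCab.length = 16 ∧
    (∀ c ∈ fpfCab, genOK c = true ∧ c.getD 23 0 = 23 ∧ c.getD 3 0 = 3 ∧ conjB fpfS fpfS c = true ∧
      same c fpfSext fpfSext = true) := by decide +kernel

theorem fpf_trans_two : ∀ q < 24, q ∉ [23, 0, 1, 2] → ∃ c ∈ fpfTrTwo, c.getD 3 0 = q ∧ c.getD 23 0 = 23 ∧
    genOK c = true ∧ conjB fpfS fpfS c = true ∧ same c fpfSext fpfSext = true := by decide +kernel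

theorem fpf_trans : ∀ q < 24, ∃ c ∈ fpfTr, c.getD 23 0 = q ∧ genOK c = true ∧ conjB fpfS fpfS c = true ∧
    same c fpfSext fpfSext = true := by decide +kernel

/-- The standard fixed-point-free involution. -/
noncomputable def tau : M24 := ofList fpfS

theorem toList_tau : toList tau.1 = fpfS := toList_ofList fpf_ok.1

theorem fpf_pair_list {n : M24} (hn : n ∈ Subgroup.centralizer {tau} ⊓ stabilizer M24 (pt 23))
    (hq3 : idx (n.1 (pt 3)) ∈ [3, 1, 2]) : toList n.1 ∈ fpfCab := by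
  obtain ⟨hS, hH, h2, s23, s0, s1, s2, -⟩ := fpf_ok
  obtain ⟨hG, g23, g0, g3, g5, g1, s3⟩ := fpf_src
  have hc : n * tau = tau * n := Subgroup.mem_centralizer_singleton_iff.mp hn.1
  have hfix : n.1 (pt 23) = pt 23 := hn.2
  have happ : ∀ x, n.1 (tau.1 x) = tau.1 (n.1 x) := fun x => congrArg (fun z : M24 => z.1 x) hc
  have htau : ∀ i j, i < 24 → j < 24 → fpfS.getD i 0 = j → tau.1 (pt i) = pt j := fun i j hi hj e =>
    idx_injective (by rw [← toList_getD _ hi, toList_tau, e, idx_pt j hj])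
  have h0 : n.1 (pt 0) = pt 0 := by
    rw [← htau 23 0 (by norm_num) (by norm_num) s23, happ, hfix]
  have hneq : ∀ i j, i < 24 → j < 24 → i ≠ j → idx (n.1 (pt i)) ≠ idx (n.1 (pt j)) := fun i j hi hj hij e => by
    have := congrArg idx (n.1.injective (idx_injective e))
    rw [idx_pt i hi, idx_pt j hj] at this
    exact hij this
  set q := idx (n.1 (pt 3))
  set w := idx (n.1 (pt 1))
  have hq2 : fpfS.getD q 0 = idx (n.1 (pt 5)) := by
    rw [← toList_tau, toList_getD_idx, ← happ, htau 3 5 (by norm_num) (by norm_num) s3]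
  have e23 : idx (n.1 (pt 23)) = 23 := by rw [hfix, idx_pt _ (by norm_num)]
  have e0 : idx (n.1 (pt 0)) = 0 := by rw [h0, idx_pt _ (by norm_num)]
  obtain ⟨h, hh, hok, he⟩ := fpf_images q hq3 w (idx_lt _) (by
      simp only [List.mem_cons, List.not_mem_nil, or_false, not_or, hq2]
      exact ⟨fun e => hneq 1 23 (by norm_num) (by norm_num) (by norm_num) (e.trans e23.symm),
        fun e => hneq 1 0 (by norm_num) (by norm_num) (by norm_num) (e.trans e0.symm),
        hneq 1 3 (by norm_num) (by norm_num) (by norm_num), hneq 1 5 (by norm_num) (by norm_num) (by norm_num)⟩)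
  have hg : ∀ i j, i < 24 → j < 24 → fpfGi.getD i 0 = j → ((ofList fpfGi)⁻¹ : M24).1 (pt j) = pt i := fun i j hi hj e => by
    rw [Subgroup.coe_inv, Equiv.Perm.inv_def, Equiv.symm_apply_eq]
    exact idx_injective (by rw [idx_pt j hj, ← toList_getD _ hi, toList_ofList hG, e])
  have hmemc : toList n.1 ∈ candList fpfH fpfGi := by
    refine mem_candList (g := (ofList fpfGi)⁻¹) (by rw [inv_inv]; exact toList_ofList hG)
      ⟨h, hh, hok, agree_five fun j hj => ?_⟩
    rw [← he j hj, Subgroup.coe_mul, Equiv.Perm.mul_apply]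
    interval_cases j <;> simp only [q5, List.getD_cons_zero, List.getD_cons_succ]
    · rw [hg 23 23 (by norm_num) (by norm_num) g23]; exact e23
    · rw [hg 0 0 (by norm_num) (by norm_num) g0]; exact e0
    · rw [hg 3 1 (by norm_num) (by norm_num) g3]
    · rw [hg 5 2 (by norm_num) (by norm_num) g5, hq2]
    · rw [hg 1 3 (by norm_num) (by norm_num) g1]
  have hall := List.all_eq_true.mp fpf_cands _ hmemc
  have hcj : conjB fpfS fpfS (toList n.1) = true := by rw [← toList_tau]; exact conjB_iff.mpr hc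
  simpa only [hcj, Bool.not_true, Bool.false_or, List.contains_iff_mem] using hall

theorem fpf_mem {c : List ℕ} (h1 : genOK c = true) (h2 : conjB fpfS fpfS c = true) :
    ofList c ∈ Subgroup.centralizer {tau} := by
  refine Subgroup.mem_centralizer_singleton_iff.mpr (conjB_iff.mp ?_)
  rw [toList_tau, toList_ofList h1]
  exact h2

/-- Every element of the point stabiliser is a listed mover times a listed fixer. -/
theorem fpf_point_factor {n : M24} (hn : n ∈ Subgroup.centralizer {tau} ⊓ stabilizer M24 (pt 23)) :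
    idx (n.1 (pt 3)) ∉ [23, 0, 1, 2] ∧ n • toObj fpfSext = toObj fpfSext := by
  have hnot : idx (n.1 (pt 3)) ∉ [23, 0, 1, 2] := by
    intro h
    have hfix : n.1 (pt 23) = pt 23 := hn.2
    have h3 : ∀ j, j < 24 → n.1 (pt j) = pt j → j ≠ 3 → idx (n.1 (pt 3)) ≠ j := fun j hj hf hne e => by
      have h' : n.1 (pt 3) = n.1 (pt j) := idx_injective (by rw [e, hf, idx_pt j hj])
      exact hne (by simpa [idx_pt j hj, idx_pt 3 (by norm_num)] using (congrArg idx (n.1.injective h')).symm)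
    have htau : tau.1 (pt 23) = pt 0 := idx_injective (by
      rw [← toList_getD _ (by norm_num), toList_tau, fpf_ok.2.2.2.1, idx_pt 0 (by norm_num)])
    have h0 : n.1 (pt 0) = pt 0 := by
      rw [← htau]
      exact (congrArg (fun z : M24 => z.1 (pt 23)) (Subgroup.mem_centralizer_singleton_iff.mp hn.1)).trans
        (congrArg tau.1 hfix)
    simp only [List.mem_cons, List.not_mem_nil, or_false] at h
    rcases h with h | h | h | h
    · exact h3 23 (by norm_num) hfix (by norm_num) h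
    · exact h3 0 (by norm_num) h0 (by norm_num) h
    all_goals
      have hl := fpf_pair_list hn (by simp [h])
      obtain ⟨-, -, h33, -, -⟩ := fpf_list.2.2 _ hl
      rw [toList_getD _ (by norm_num), h] at h33
      exact absurd h33 (by norm_num)
  refine ⟨hnot, ?_⟩
  obtain ⟨c, -, hc3, hc23, hok, hcj, hcS⟩ := fpf_trans_two _ (idx_lt _) hnot
  set a := ofList c
  have hmem : a⁻¹ * n ∈ Subgroup.centralizer {tau} ⊓ stabilizer M24 (pt 23) :=
    mul_mem (inv_mem ⟨fpf_mem hok hcj, ofList_fix hok (by norm_num) hc23⟩) hn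
  have h3 : idx ((a⁻¹ * n).1 (pt 3)) = 3 := by
    have ha : a.1 (pt 3) = n.1 (pt 3) := idx_injective (by
      rw [← toList_getD _ (by norm_num), toList_ofList hok, hc3])
    rw [Subgroup.coe_mul, Equiv.Perm.mul_apply, ← ha, Subgroup.coe_inv, Equiv.Perm.inv_def,
      Equiv.symm_apply_apply, idx_pt 3 (by norm_num)]
  obtain ⟨h1, -, -, -, hS⟩ := fpf_list.2.2 _ (fpf_pair_list hmem (by rw [h3]; simp))
  have h4 := same_spec (g := a⁻¹ * n) rfl fpf_ok.2.2.2.2.2.2.2.2.1 hS
  rw [mul_smul, inv_smul_eq_iff] at h4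
  rw [h4]
  exact same_spec (toList_ofList hok) fpf_ok.2.2.2.2.2.2.2.2.1 hcS

theorem card_cent_tau_point :
    Nat.card ↥(Subgroup.centralizer {tau} ⊓ stabilizer M24 (pt 23)) = 320 := by
  set K := Subgroup.centralizer {tau} ⊓ stabilizer M24 (pt 23) with hK
  have horb : orbF K (pt 3) = Finset.univ.filter fun p => idx p ∉ [23, 0, 1, 2] := by
    ext p
    rw [Finset.mem_filter, mem_orbF]
    constructor
    · rintro ⟨g, rfl⟩
      exact ⟨Finset.mem_univ _, (fpf_point_factor g.2).1⟩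
    · rintro ⟨-, hp⟩
      obtain ⟨c, -, hc3, hc23, hok, hcj, -⟩ := fpf_trans_two _ (idx_lt p) hp
      exact ⟨⟨ofList c, fpf_mem hok hcj, ofList_fix hok (by norm_num) hc23⟩, idx_injective (by
        show idx ((ofList c).1 (pt 3)) = idx p
        rw [← toList_getD _ (by norm_num), toList_ofList hok, hc3])⟩
  have h16 : Nat.card ↥(K ⊓ stabilizer M24 (pt 3)) = 16 := by
    rw [card_of_list (fun g hg => fpf_pair_list (Subgroup.mem_inf.mp hg).1 ?_) (fun L hL => ?_) fpf_list.1, fpf_list.2.1]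
    · have : g.1 (pt 3) = pt 3 := hg.2
      rw [this, idx_pt 3 (by norm_num)]; simp
    · obtain ⟨h1, h23, h3, hcj, -⟩ := fpf_list.2.2 L hL
      exact ⟨ofList L, ⟨⟨fpf_mem h1 hcj, ofList_fix h1 (by norm_num) h23⟩, ofList_fix h1 (by norm_num) h3⟩,
        toList_ofList h1⟩
  have h20 : (Finset.univ.filter fun p : GolayPt => idx p ∉ [23, 0, 1, 2]).card = 20 := by decide +kernel
  have h := card_orbF K (pt 3)
  rw [horb, h16, h20] at h
  omega

theorem fpf_moves (q : GolayPt) : ∃ g ∈ Subgroup.centralizer {tau}, g.1 (pt 23) = q ∧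
    g • toObj fpfSext = toObj fpfSext := by
  obtain ⟨c, -, hcq, h1, h2, h3⟩ := fpf_trans (idx q) (idx_lt q)
  exact ⟨ofList c, fpf_mem h1 h2, idx_injective (by rw [← toList_getD _ (by norm_num : 23 < 24), toList_ofList h1, hcq]),
    same_spec (toList_ofList h1) fpf_ok.2.2.2.2.2.2.2.2.1 h3⟩

theorem card_cent_tau : Nat.card ↥(Subgroup.centralizer {tau}) = 7680 := by
  have h := card_orbF (Subgroup.centralizer {tau}) (pt 23)
  have horb : orbF (Subgroup.centralizer {tau}) (pt 23) = Finset.univ := Finset.eq_univ_of_forall fun q => by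
    obtain ⟨g, hg, hgq, -⟩ := fpf_moves q
    exact mem_orbF.mpr ⟨⟨g, hg⟩, hgq⟩
  rw [horb, Finset.card_univ, card_golayPt, card_cent_tau_point] at h
  omega

theorem cent_tau_sextet {g : M24} (hg : g ∈ Subgroup.centralizer {tau}) :
    g • toObj fpfSext = toObj fpfSext := by
  obtain ⟨a, ha, haq, haS⟩ := fpf_moves (g.1 (pt 23))
  have hmem : a⁻¹ * g ∈ Subgroup.centralizer {tau} ⊓ stabilizer M24 (pt 23) := by
    have hm : a⁻¹ * g ∈ Subgroup.centralizer {tau} := mul_mem (inv_mem ha) hg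
    refine ⟨hm, mem_stabilizer_iff.mpr ?_⟩
    rw [mul_smul, inv_smul_eq_iff]
    exact haq.symm
  have := (fpf_point_factor hmem).2
  rw [mul_smul, inv_smul_eq_iff, haS] at this
  exact this

theorem fpf_centralizer {t : M24} (ht : orderOf t = 2) (h0 : ∀ p, t.1 p ≠ p) :
    Nat.card ↥(Subgroup.centralizer ({t} : Set M24)) = 7680 ∧
      (∀ p q : GolayPt, ∃ c ∈ Subgroup.centralizer ({t} : Set M24), c.1 p = q) ∧
      ∃ S ∈ sextets, t • S = S ∧ ∀ c ∈ Subgroup.centralizer ({t} : Set M24), c • S = S := by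
  obtain ⟨k, hk⟩ : ∃ k : M24, k * tau * k⁻¹ = t := by
    obtain ⟨k, hk | hk⟩ := two_cases ht
    · have h8 := hk.2.2
      rw [show fixedPts t.1 = ∅ by simp [fixedPts, Finset.filter_eq_empty_iff, h0]] at h8
      simp at h8
    · refine ⟨k⁻¹, ?_⟩
      have e : k * t * k⁻¹ = tau := toList_coe_injective (by show toList _ = toList _; rw [hk.1, toList_tau, fpf_ok.2.2.2.2.2.2.2.1])
      rw [← e]; group
  have hC : Subgroup.centralizer ({t} : Set M24) = (Subgroup.centralizer {tau}).map (MulAut.conj k).toMonoidHom := by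
    ext g
    rw [mem_map_conj_iff, mem_cent_conj_iff, hk]
  refine ⟨by rw [hC, Subgroup.card_map_of_injective (MulAut.conj k).injective, card_cent_tau], fun p q => ?_, ?_⟩
  · obtain ⟨a, ha, hap, -⟩ := fpf_moves (k.1⁻¹ p)
    obtain ⟨b, hb, hbq, -⟩ := fpf_moves (k.1⁻¹ q)
    refine ⟨k * (b * a⁻¹) * k⁻¹, hC ▸ ⟨_, mul_mem hb (inv_mem ha), rfl⟩, ?_⟩
    simp only [Subgroup.coe_mul, Subgroup.coe_inv, Equiv.Perm.mul_apply]
    rw [← hap]
    simp [hbq]
  · have hie := fpf_ok.2.2.2.2.2.2.2.2.2.1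
    have hS : toObj fpfSext ∈ sextets := sextets_cat.1 ▸
      (⟨1660, by rw [fpf_ok.2.2.2.2.2.2.2.2.2.2.1]; norm_num, congrArg toObj hie⟩ : sextCat.Mem (toObj fpfSext))
    refine ⟨k • toObj fpfSext, smul_mem_sextets k _ hS, ?_, fun c hc => ?_⟩
    · rw [← hk, mul_smul, mul_smul, inv_smul_smul,
        same_spec toList_tau fpf_ok.2.2.2.2.2.2.2.2.1 fpf_ok.2.2.2.2.2.2.2.2.2.2.2]
    · rw [hC, mem_map_conj_iff] at hc
      have := cent_tau_sextet hc
      rwa [mul_smul, mul_smul, inv_smul_eq_iff] at this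

end CfsgLib.Golay.Cert
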