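/-
Numbers of elements of large prime order in M₂₄ and M₂₂, and the resulting degree restrictions for
characters of defect zero at two.
-/
import Cfsg.Agent.Golay.PrimeCentralizer
import Cfsg.Agent.Golay.MathieuFusion
import Cfsg.Agent.Blocks.Regular

set_option autoImplicit false

namespace CfsgLib.Golay.Cert

open Cfsg CfsgLib.Golay CfsgLib.Golay.BlockData CfsgLib.PrimeNorm
open scoped Pointwise

set_option linter.style.haveILetI false

/-- Data at a prime: the centralizer divisor and the number of elements. -/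
def PrimeData (G : Type*) [Group G] (p q n : ℕ) : Prop :=
  ∃ x : G, orderOf x = p ∧ PowClosed x ∧ q ∣ Nat.card (Subgroup.centralizer ({x} : Set G)) ∧
    n ≤ Nat.card {g : G // orderOf g = p}

theorem exists_mul_of_dvd {n p : ℕ} {A : List ℕ} (h : p ∣ n) (hA : ∀ a, p * a ∣ n → p * a = n → a ∈ A) :
    ∃ a ∈ A, n = p * a := by
  obtain ⟨a, rfl⟩ := h
  exact ⟨a, hA a dvd_rfl rfl, rfl⟩

theorem m24_five : PrimeData M24 5 4 4080384 := by
  haveI : Fact (Nat.Prime 5) := ⟨by norm_num⟩
  haveI : Fact (Nat.Prime 2) := ⟨Nat.prime_two⟩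
  obtain ⟨x, y, hx, -, ho, hy⟩ := pairOK_spec pairs_ok.1
  obtain ⟨a, ha, hao, hac⟩ := centOK_spec hx cents_ok.1
  obtain ⟨b, hb, hbo, hbc⟩ := centOK_spec hx cents_ok.2.1
  have hab : a * b = b * a := toList_coe_injective (by
    show toList ((a * b : M24) : Equiv.Perm GolayPt) = toList ((b * a : M24) : Equiv.Perm GolayPt)
    rw [Subgroup.coe_mul, Subgroup.coe_mul, toList_mul, toList_mul, ha, hb]
    exact cents_ok.2.2.2.2.1)
  have h4 := four_dvd_centralizer hao hbo hab (fun e => cents_ok.2.2.2.2.2 (by rw [← ha, ← hb, e])) hac hbc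
  have h5 : 5 ∣ Nat.card (Subgroup.centralizer ({x} : Set M24)) := by
    have := dvd_centralizer_of_mem (x := x) (z := x) (Subgroup.mem_centralizer_singleton_iff.2 rfl)
    rwa [ho] at this
  have hle := card_centralizer_le hx bounds_ok.1
  have hpos := Nat.card_pos (α := Subgroup.centralizer ({x} : Set M24))
  refine ⟨x, ho, powClosed_of_conj (by norm_num) ho hy (by decide +kernel), h4, le_trans ?_
    (count_prime (m := 48964608) (by rw [card_M24]) (by norm_num) ho [4, 8, 12]
      (exists_mul_of_dvd h5 fun a _ e => by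
        simp only [List.mem_cons, List.not_mem_nil, or_false]; omega) 48 (by decide +kernel))⟩
  norm_num

theorem m24_seven_card {x : M24} {X : List ℕ} (hX : toList (x : Equiv.Perm GolayPt) = X) (ho : orderOf x = 7)
    (hb : centBound X 21 2 = true) (hi : centOK X i7 2 = true) (ht : centOK X t7 3 = true) :
    Nat.card (Subgroup.centralizer ({x} : Set M24)) = 42 := by
  haveI : Fact (Nat.Prime 2) := ⟨Nat.prime_two⟩
  haveI : Fact (Nat.Prime 3) := ⟨Nat.prime_three⟩
  obtain ⟨i, -, hio, hic⟩ := centOK_spec hX hi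
  obtain ⟨t, -, hto, htc⟩ := centOK_spec hX ht
  have h7 : 7 ∣ Nat.card (Subgroup.centralizer ({x} : Set M24)) := by
    have := dvd_centralizer_of_mem (x := x) (z := x) (Subgroup.mem_centralizer_singleton_iff.2 rfl)
    rwa [ho] at this
  have h2 := dvd_centralizer_of_mem hic
  have h3 := dvd_centralizer_of_mem htc
  rw [hio] at h2; rw [hto] at h3
  have hle := card_centralizer_le hX hb
  have hpos := Nat.card_pos (α := Subgroup.centralizer ({x} : Set M24))
  omega

theorem m24_seven_centralizer {u : M24} (hu : orderOf u = 7) :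
    Nat.card (Subgroup.centralizer ({u} : Set M24)) = 42 := by
  haveI : Fact (Nat.Prime 7) := ⟨by norm_num⟩
  obtain ⟨x, -, hx, -, ho, -⟩ := pairOK_spec pairs_ok.2.1
  rw [card_centralizer_eq (by rw [card_M24]; norm_num) ho hu,
    m24_seven_card hx ho bounds_ok.2.1 cents_ok.2.2.1 cents_ok.2.2.2.1]

theorem m24_eleven_centralizer {u : M24} (hu : orderOf u = 11) :
    Nat.card (Subgroup.centralizer ({u} : Set M24)) ≤ 22 := by
  haveI : Fact (Nat.Prime 11) := ⟨by norm_num⟩
  obtain ⟨x, -, hx, -, ho, -⟩ := pairOK_spec pairs_ok.2.2.1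
  rw [card_centralizer_eq (by rw [card_M24]; norm_num) ho hu]
  exact card_centralizer_le hx bounds_ok.2.2.1

theorem m24_seven : PrimeData M24 7 2 11658240 := by
  haveI : Fact (Nat.Prime 7) := ⟨by norm_num⟩
  obtain ⟨x, y, hx, -, ho, hy⟩ := pairOK_spec pairs_ok.2.1
  have hC := m24_seven_centralizer ho
  refine ⟨x, ho, powClosed_of_conj (by norm_num) ho hy (by decide +kernel), by rw [hC]; norm_num, le_trans ?_
    (count_prime (m := 34974720) (by rw [card_M24]) (by norm_num) ho [6] ⟨6, by simp, hC⟩ 18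
      (by decide +kernel))⟩
  norm_num

theorem m24_eleven : PrimeData M24 11 1 22256640 := by
  haveI : Fact (Nat.Prime 11) := ⟨by norm_num⟩
  obtain ⟨x, y, hx, -, ho, hy⟩ := pairOK_spec pairs_ok.2.2.1
  have h11 : 11 ∣ Nat.card (Subgroup.centralizer ({x} : Set M24)) := by
    have := dvd_centralizer_of_mem (x := x) (z := x) (Subgroup.mem_centralizer_singleton_iff.2 rfl)
    rwa [ho] at this
  have hle := m24_eleven_centralizer ho
  have hpos := Nat.card_pos (α := Subgroup.centralizer ({x} : Set M24))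
  refine ⟨x, ho, powClosed_of_conj (by norm_num) ho hy (by decide +kernel), one_dvd _, le_trans ?_
    (count_prime (m := 22256640) (by rw [card_M24]) (by norm_num) ho [1, 2]
      (exists_mul_of_dvd h11 fun a _ e => by
        simp only [List.mem_cons, List.not_mem_nil, or_false]; omega) 10 (by decide +kernel))⟩
  norm_num

theorem m24_twentythree : PrimeData M24 23 1 21288960 := by
  haveI : Fact (Nat.Prime 23) := ⟨by norm_num⟩
  obtain ⟨x, y, hx, -, ho, hy⟩ := pairOK_spec pairs_ok.2.2.2.1
  have h23 : 23 ∣ Nat.card (Subgroup.centralizer ({x} : Set M24)) := by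
    have := dvd_centralizer_of_mem (x := x) (z := x) (Subgroup.mem_centralizer_singleton_iff.2 rfl)
    rwa [ho] at this
  have hle := card_centralizer_le hx bounds_ok.2.2.2
  have hpos := Nat.card_pos (α := Subgroup.centralizer ({x} : Set M24))
  refine ⟨x, ho, powClosed_of_conj (by norm_num) ho hy (by decide +kernel), one_dvd _, le_trans ?_
    (count_prime (m := 10644480) (by rw [card_M24]) (by norm_num) ho [1]
      (exists_mul_of_dvd h23 fun a _ e => by
        simp only [List.mem_cons, List.not_mem_nil, or_false]; omega) 11 (by decide +kernel))⟩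
  norm_num

theorem m22_le : Spor.M22 ≤ M24 := fun _ h => h.1.1

/-- The inclusion of M₂₂ in M₂₄. -/
noncomputable def incl22 : ↥Spor.M22 →* M24 := Subgroup.inclusion m22_le

theorem incl22_injective : Function.Injective incl22 := Subgroup.inclusion_injective m22_le

/-- Lift of a pair to M₂₂. -/
theorem exists_pair22 {X Y : List ℕ} {p a : ℕ} [Fact p.Prime] (h : pairOK X Y p a = true)
    (hX : X.getD 23 0 = 23 ∧ X.getD 0 0 = 0) (hY : Y.getD 23 0 = 23 ∧ Y.getD 0 0 = 0) :
    ∃ x y : ↥Spor.M22, orderOf x = p ∧ y * x * y⁻¹ = x ^ a := by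
  obtain ⟨x, y, hx, hy, ho, hc⟩ := pairOK_spec h
  have hmem : ∀ (g : M24) (L : List ℕ), toList (g : Equiv.Perm GolayPt) = L →
      (L.getD 23 0 = 23 ∧ L.getD 0 0 = 0) → (g : Equiv.Perm GolayPt) ∈ Spor.M22 := by
    intro g L hL hfix
    have e : ∀ p : GolayPt, L.getD (idx p) 0 = idx p → (g : Equiv.Perm GolayPt) p = p := fun p hp =>
      idx_injective (by rw [← toList_getD_idx, hL, hp])
    exact ⟨⟨g.2, e none hfix.1⟩, e (some 0) hfix.2⟩
  refine ⟨⟨_, hmem x X hx hX⟩, ⟨_, hmem y Y hy hY⟩, ?_, incl22_injective ?_⟩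
  · rw [← orderOf_injective incl22 incl22_injective]
    exact ho
  · rw [map_mul, map_mul, map_inv, map_pow]
    exact hc

theorem card_centralizer22_dvd (x : ↥Spor.M22) :
    Nat.card (Subgroup.centralizer ({x} : Set ↥Spor.M22)) ∣
      Nat.card (Subgroup.centralizer ({incl22 x} : Set M24)) := by
  rw [← Subgroup.card_map_of_injective (K := Subgroup.centralizer ({x} : Set ↥Spor.M22)) incl22_injective]
  refine Subgroup.card_dvd_of_le ?_
  rintro _ ⟨c, hc, rfl⟩
  rw [Subgroup.mem_centralizer_singleton_iff, ← map_mul, ← map_mul,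
    Subgroup.mem_centralizer_singleton_iff.1 hc]

theorem m22_seven : PrimeData ↥Spor.M22 7 1 126720 := by
  haveI : Fact (Nat.Prime 7) := ⟨by norm_num⟩
  obtain ⟨x, y, ho, hy⟩ := exists_pair22 pairs_ok.2.2.2.2.1 (by decide) (by decide)
  have h7 : 7 ∣ Nat.card (Subgroup.centralizer ({x} : Set ↥Spor.M22)) := by
    have := dvd_centralizer_of_mem (x := x) (z := x) (Subgroup.mem_centralizer_singleton_iff.2 rfl)
    rwa [ho] at this
  have h42 := card_centralizer22_dvd x
  rw [m24_seven_centralizer (by rw [orderOf_injective incl22 incl22_injective, ho])] at h42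
  refine ⟨x, ho, powClosed_of_conj (by norm_num) ho hy (by decide +kernel), one_dvd _, le_trans ?_
    (count_prime (m := 63360) (by rw [SylowCert.card_M22]) (by norm_num) ho [1, 2, 3, 6]
      (exists_mul_of_dvd h7 fun a _ e => ?_) 3 (by decide +kernel))⟩
  · norm_num
  · rw [← e] at h42
    have ha : a ∣ 6 := Nat.dvd_of_mul_dvd_mul_left (by norm_num) (h42 : 7 * a ∣ 7 * 6)
    have := Nat.le_of_dvd (by norm_num) ha
    simp only [List.mem_cons, List.not_mem_nil, or_false]
    interval_cases a <;> omega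

theorem m22_eleven : PrimeData ↥Spor.M22 11 1 80640 := by
  haveI : Fact (Nat.Prime 11) := ⟨by norm_num⟩
  obtain ⟨x, y, ho, hy⟩ := exists_pair22 pairs_ok.2.2.2.2.2 (by decide) (by decide)
  have h11 : 11 ∣ Nat.card (Subgroup.centralizer ({x} : Set ↥Spor.M22)) := by
    have := dvd_centralizer_of_mem (x := x) (z := x) (Subgroup.mem_centralizer_singleton_iff.2 rfl)
    rwa [ho] at this
  have hd := Nat.le_of_dvd Nat.card_pos (card_centralizer22_dvd x)
  have hle := m24_eleven_centralizer (u := incl22 x) (by rw [orderOf_injective incl22 incl22_injective, ho])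
  have hpos := Nat.card_pos (α := Subgroup.centralizer ({x} : Set ↥Spor.M22))
  refine ⟨x, ho, powClosed_of_conj (by norm_num) ho hy (by decide +kernel), one_dvd _, le_trans ?_
    (count_prime (m := 40320) (by rw [SylowCert.card_M22]) (by norm_num) ho [1, 2]
      (exists_mul_of_dvd h11 fun a _ e => by
        simp only [List.mem_cons, List.not_mem_nil, or_false]; omega) 5 (by decide +kernel))⟩
  norm_num

/-- A lower bound for the squared absolute values at all elements of prime order. -/
theorem norm_bound {G : Type*} [Group G] [Finite G] {p q n : ℕ} [Fact p.Prime] (hdata : PrimeData G p q n)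
    (hq : 0 < q) (hG : ¬ p ^ 2 ∣ Nat.card G) {φ : G → ℂ} (hφ : IsGeneralizedCharacter G φ) {d : ℤ}
    (hd : φ 1 = d) (hint : ∀ u, q ∣ Nat.card (Subgroup.centralizer ({u} : Set G)) → IsIntegral ℤ (φ u / q))
    {b : ℕ} (hb : ∀ N : ℕ, (p : ℤ) ∣ ((q ^ 2 * N : ℕ) : ℤ) - d ^ 2 → b ≤ q ^ 2 * N) :
    n ≤ Nat.card {g : G // orderOf g = p} ∧ ∀ g, orderOf g = p → (b : ℝ) ≤ ‖φ g‖ ^ 2 := by
  obtain ⟨x, ho, hx, hdvd, hn⟩ := hdata
  refine ⟨hn, fun g hg => ?_⟩
  obtain ⟨k, hk, hc⟩ := exists_isConj_pow hG ho hg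
  rw [← norm_sq_conj_eq (Char.IsGeneralized.isClassFunction hφ) hc, norm_sq_pow hφ hx (ho.symm ▸ hk)]
  obtain ⟨N, hN, hmod⟩ := exists_norm_sq hφ hd Fact.out ho hx hq (hint x hdvd)
  rw [hN]
  exact_mod_cast hb N hmod

end CfsgLib.Golay.Cert
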