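/-
M₂₂ and M₂₄ have no irreducible character of defect zero at two.
-/
import Cfsg.Agent.Golay.PrimeCounts
import Cfsg.Agent.Char.PrimeCodegree

set_option autoImplicit false

namespace CfsgLib.Golay.Cert

open Cfsg CfsgLib.Golay CfsgLib.PrimeNorm CfsgLib.Char CfsgLib.Block.Chr CfsgLib.Block
open scoped Pointwise

set_option linter.style.haveILetI false

/-- The bound at a prime for a character plus a constant. -/
theorem shift_bound {G : Type*} [Group G] [Finite G] {p n : ℕ} [Fact p.Prime]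
    (hdata : PrimeData G p 1 n) (hG : ¬ p ^ 2 ∣ Nat.card G) (χ : IrrCharacter G) (c : ℤ) :
    n ≤ Nat.card {g : G // orderOf g = p} ∧ ∀ g, orderOf g = p →
      (((((charDegree (χ : G → ℂ) : ℤ) + c) ^ 2 % (p : ℤ)).toNat : ℕ) : ℝ) ≤ ‖(χ : G → ℂ) g + c‖ ^ 2 := by
  have hφ : IsGeneralizedCharacter G (fun g => (χ : G → ℂ) g + (c : ℂ)) := by
    have := IsGeneralized.add (IsIrrCharacter.isGeneralized χ.2)
      (IsGeneralized.intCast_smul (isGeneralized_one (G := G)) c)
    simpa [funext_iff, Pi.add_def] using this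
  refine norm_bound hdata Nat.one_pos hG hφ (d := (charDegree (χ : G → ℂ) : ℤ) + c) ?_
    (fun u _ => by rw [Nat.cast_one, div_one]; exact IsGeneralized.isIntegral hφ u) fun N hN => ?_
  · show (χ : G → ℂ) 1 + (c : ℂ) = _
    rw [(irr_one χ).1]
    push_cast
    rfl
  · rw [one_pow, one_mul] at hN ⊢
    have hp0 : (0 : ℤ) < p := by exact_mod_cast (Fact.out : p.Prime).pos
    have h1 : (((charDegree (χ : G → ℂ) : ℤ) + c) ^ 2) % (p : ℤ) = (N : ℤ) % p :=
      Int.modEq_iff_dvd.2 hN
    rw [h1, ← Int.natCast_mod, Int.toNat_natCast]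
    exact Nat.mod_le _ _

theorem degree_facts {G : Type*} [Group G] [Finite G] (χ : IrrCharacter G) {q : ℕ}
    (h : q ∣ charDegree (χ : G → ℂ)) :
    ∃ k, charDegree (χ : G → ℂ) = q * k ∧ (q * k) * (q * k) ≤ Nat.card G ∧ q * k ∣ Nat.card G ∧ 0 < q * k := by
  letI := Fintype.ofFinite G
  obtain ⟨k, hk⟩ := h
  exact ⟨k, hk, hk ▸ CfsgLib.Char.PrimeCodegree.degree_sq_le χ.2, hk ▸ charDegree_dvd_card χ, hk ▸ (irr_one χ).2⟩

theorem irr_ne_one_of_degree {G : Type*} [Group G] (χ : IrrCharacter G) (h : charDegree (χ : G → ℂ) ≠ 1) :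
    (χ : G → ℂ) ≠ fun _ => 1 := by
  intro e
  refine h ?_
  rw [e, charDegree]
  simp

/-- M₂₂ has no irreducible character of degree divisible by 128. -/
theorem no_defectZero22 (χ : IrrCharacter ↥Spor.M22) : ¬ 128 ∣ charDegree (χ : ↥Spor.M22 → ℂ) := by
  classical
  intro hdiv
  letI := Fintype.ofFinite ↥Spor.M22
  haveI : Fact (Nat.Prime 7) := ⟨by norm_num⟩
  haveI : Fact (Nat.Prime 11) := ⟨by norm_num⟩
  obtain ⟨k, hk, hsq, hd, hpos⟩ := degree_facts χ hdiv
  rw [SylowCert.card_M22] at hsq hd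
  have hne := irr_ne_one_of_degree χ (by rw [hk]; omega)
  have key : ∀ c : ℤ, (((128 * k : ℕ) : ℤ) + c) ^ 2 +
      126720 * (((((128 * k : ℕ) : ℤ) + c) ^ 2 % 7).toNat : ℤ) +
      80640 * (((((128 * k : ℕ) : ℤ) + c) ^ 2 % 11).toNat : ℤ) ≤ 443520 * (1 + c ^ 2) := by
    intro c
    have hG : ∀ p ∈ [7, 11], ¬ p ^ 2 ∣ Nat.card ↥Spor.M22 := by
      rw [SylowCert.card_M22]; decide +kernel
    obtain ⟨n7, b7⟩ := shift_bound m22_seven (hG 7 (by simp)) χ c
    obtain ⟨n11, b11⟩ := shift_bound m22_eleven (hG 11 (by simp)) χ c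
    rw [hk] at b7 b11
    have h := sum_bound (fun g => ‖(χ : ↥Spor.M22 → ℂ) g + c‖ ^ 2) (fun g => sq_nonneg _) {7, 11}
      (by decide) (fun p => if p = 7 then 126720 else 80640)
      (fun p => ((((((128 * k : ℕ) : ℤ) + c) ^ 2 % (p : ℤ)).toNat : ℕ) : ℝ))
      (fun p _ => Nat.cast_nonneg _)
      (fun p hp => by
        simp only [Finset.mem_insert, Finset.mem_singleton] at hp
        rcases hp with rfl | rfl
        exacts [n7, n11])
      (fun p hp g hg => by
        simp only [Finset.mem_insert, Finset.mem_singleton] at hp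
        rcases hp with rfl | rfl
        exacts [b7 g hg, b11 g hg])
    rw [Finset.sum_pair (by norm_num), sum_norm_sq_add_const χ.2 hne c, SylowCert.card_M22, (irr_one χ).1, hk] at h
    rw [← Int.cast_natCast, ← Int.cast_add, Complex.norm_intCast, sq_abs] at h
    simp only [if_neg (by norm_num : ¬ (11 = 7))] at h
    exact_mod_cast (by push_cast at h ⊢; linarith :
      (((((128 * k : ℕ) : ℤ) + c) ^ 2 + 126720 * (((((128 * k : ℕ) : ℤ) + c) ^ 2 % 7).toNat : ℤ) +
      80640 * (((((128 * k : ℕ) : ℤ) + c) ^ 2 % 11).toNat : ℤ) : ℤ) : ℝ) ≤ ((443520 * (1 + c ^ 2) : ℤ) : ℝ))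
  have hk5 : k ≤ 5 := by
    by_contra hlt
    have : 128 * 6 ≤ 128 * k := Nat.mul_le_mul_left _ (by omega)
    have := Nat.mul_le_mul this this
    omega
  interval_cases k
  · omega
  · exact absurd (key 1) (by decide)
  · exact absurd hd (by decide)
  · exact absurd (key (-1)) (by decide)
  · exact absurd hd (by decide)
  · exact absurd (key 0) (by decide)

/-- The bound at a prime using the centralizer of the element. -/
theorem central_bound {G : Type*} [Group G] [Finite G] {p q n t : ℕ} [Fact p.Prime]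
    (hdata : PrimeData G p q n) (hG : ¬ p ^ 2 ∣ Nat.card G) (hq : 0 < q) (χ : IrrCharacter G)
    (ht : charDegree (χ : G → ℂ) * t = Nat.card G) (hco : Nat.Coprime t q) :
    n ≤ Nat.card {g : G // orderOf g = p} ∧ ∀ g, orderOf g = p →
      (((if p ∣ charDegree (χ : G → ℂ) then 0 else q ^ 2 : ℕ)) : ℝ) ≤ ‖(χ : G → ℂ) g‖ ^ 2 := by
  refine norm_bound hdata hq hG (IsIrrCharacter.isGeneralized χ.2) (d := (charDegree (χ : G → ℂ) : ℤ))
    (by rw [(irr_one χ).1]; rfl)
    (fun u hu => isIntegral_div_of_dvd χ.2 (irr_one χ).1 ht u hu hco) fun N hN => ?_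
  split_ifs with hp
  · exact Nat.zero_le _
  · refine Nat.le_mul_of_pos_right _ (Nat.pos_of_ne_zero fun h0 => hp ?_)
    rw [h0, mul_zero, Nat.cast_zero, zero_sub, dvd_neg] at hN
    exact Int.natCast_dvd_natCast.1 ((Nat.prime_iff_prime_int.1 Fact.out).dvd_of_dvd_pow hN)

/-- M₂₄ has no irreducible character of degree divisible by 1024. -/
theorem no_defectZero24 (χ : IrrCharacter M24) : ¬ 1024 ∣ charDegree (χ : M24 → ℂ) := by
  classical
  intro hdiv
  letI := Fintype.ofFinite M24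
  haveI : Fact (Nat.Prime 5) := ⟨by norm_num⟩
  haveI : Fact (Nat.Prime 7) := ⟨by norm_num⟩
  haveI : Fact (Nat.Prime 11) := ⟨by norm_num⟩
  haveI : Fact (Nat.Prime 23) := ⟨by norm_num⟩
  obtain ⟨k, hk, hsq, hd, hpos⟩ := degree_facts χ hdiv
  rw [card_M24] at hsq hd
  have hne := irr_ne_one_of_degree χ (by rw [hk]; omega)
  obtain ⟨t, ht⟩ := hd
  have hodd : ¬ 2 ∣ t := by
    rintro ⟨s, rfl⟩
    have : 1024 * 239085 = 1024 * (k * (2 * s)) := by rw [← mul_assoc, ← ht]
    rw [Nat.mul_left_comm k 2 s] at this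
    omega
  have hG : ∀ p ∈ [5, 7, 11, 23], ¬ p ^ 2 ∣ Nat.card M24 := by
    rw [card_M24]; decide +kernel
  have ht' : charDegree (χ : M24 → ℂ) * t = Nat.card M24 := by rw [hk, card_M24, ← ht]
  obtain ⟨n5, b5⟩ := central_bound m24_five (hG 5 (by simp)) (by norm_num) χ ht'
    (by rw [Nat.coprime_comm, show (4 : ℕ) = 2 ^ 2 by norm_num]
        exact (Nat.prime_two.coprime_iff_not_dvd.2 hodd).pow_left 2)
  obtain ⟨n7, b7⟩ := central_bound m24_seven (hG 7 (by simp)) (by norm_num) χ ht'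
    (by rw [Nat.coprime_comm]; exact Nat.prime_two.coprime_iff_not_dvd.2 hodd)
  obtain ⟨n11, b11⟩ := shift_bound m24_eleven (hG 11 (by simp)) χ 0
  obtain ⟨n23, b23⟩ := shift_bound m24_twentythree (hG 23 (by simp)) χ 0
  simp only [Int.cast_zero, add_zero, hk] at b5 b7 b11 b23
  have h := sum_bound (fun g => ‖(χ : M24 → ℂ) g‖ ^ 2) (fun g => sq_nonneg _) {5, 7, 11, 23}
    (by decide)
    (fun p => if p = 5 then 4080384 else if p = 7 then 11658240 else if p = 11 then 22256640 else 21288960)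
    (fun p => ((if p = 5 then (if 5 ∣ 1024 * k then 0 else 16) else if p = 7 then
      (if 7 ∣ 1024 * k then 0 else 4) else (((1024 * k : ℕ) : ℤ) ^ 2 % (p : ℤ)).toNat : ℕ) : ℝ))
    (fun p _ => Nat.cast_nonneg _)
    (fun p hp => by
      simp only [Finset.mem_insert, Finset.mem_singleton] at hp
      rcases hp with rfl | rfl | rfl | rfl
      exacts [n5, n7, n11, n23])
    (fun p hp g hg => by
      simp only [Finset.mem_insert, Finset.mem_singleton] at hp
      rcases hp with rfl | rfl | rfl | rfl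
      exacts [b5 g hg, b7 g hg, b11 g hg, b23 g hg])
  have htot : ∑ g : M24, ‖(χ : M24 → ℂ) g‖ ^ 2 = 244823040 := by
    have := sum_norm_sq_add_const χ.2 hne 0
    rw [card_M24] at this
    simpa using this
  rw [Finset.sum_insert (by decide), Finset.sum_insert (by decide), Finset.sum_insert (by decide),
    Finset.sum_singleton, htot, (irr_one χ).1, hk, Complex.norm_natCast] at h
  simp (config := { decide := true }) only [if_true, if_false] at h
  have key : (1024 * k) * (1024 * k) + (4080384 * (if 5 ∣ 1024 * k then 0 else 16) +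
      (11658240 * (if 7 ∣ 1024 * k then 0 else 4) +
        (22256640 * (((1024 * k : ℕ) : ℤ) ^ 2 % 11).toNat +
          21288960 * (((1024 * k : ℕ) : ℤ) ^ 2 % 23).toNat))) ≤ 244823040 := by
    rw [← sq]
    exact_mod_cast h
  have hk15 : k ≤ 15 := by
    by_contra hlt
    have : 1024 * 16 ≤ 1024 * k := Nat.mul_le_mul_left _ (by omega)
    have := Nat.mul_le_mul this this
    omega
  interval_cases k <;> first | omega | exact absurd key (by decide) |
    exact absurd (Dvd.intro t ht.symm) (by decide)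

end CfsgLib.Golay.Cert
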