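/-
Subgroups of the group of the code of index 759, 1771, 276 and 253.
-/
import Cfsg.Agent.Golay.BigOrbit

set_option autoImplicit false

namespace CfsgLib.Golay.Cert

open Cfsg CfsgLib.Golay MulAction
open scoped Pointwise

theorem card_of_index {H : Subgroup M24} {i : ℕ} (h : H.index = i) : Nat.card H * i = 244823040 := by
  have := H.card_mul_index
  rwa [h, card_M24] at this

/-- A subgroup of odd index of large order is the stabiliser of an octad or of a sextet. -/
theorem large_odd_index {H : Subgroup M24}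
    (hc : Nat.card H = 322560 ∨ Nat.card H = 138240 ∨ Nat.card H = 967680) :
    (∃ o ∈ octads, H ≤ stabilizer M24 o ∧ Nat.card H = 322560) ∨
      ∃ S ∈ sextets, H ≤ stabilizer M24 S ∧ Nat.card H = 138240 := by
  classical
  have hbase := pts_baseOctad_mem
  obtain ⟨a, -, ha⟩ := exists_fixG_le (A := ⊤) (H := H) le_top hbase le_top (by
    rw [Subgroup.card_top, card_M24]
    rcases hc with h | h | h <;> rw [h] <;> decide)
  set o := a • pts baseOctad with hoDef
  have ho : o ∈ octads := smul_mem_octads' a hbase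
  obtain ⟨q, -, hq⟩ : ∃ q ∈ (Finset.univ : Finset GolayPt), q ∉ o :=
    Finset.exists_mem_notMem_of_card_lt_card (by rw [Finset.card_univ, card_golayPt, octad_card ho]; norm_num)
  have hdiv : ∀ L, L ∣ Nat.card H → L ≠ 22 ∧ L ≠ 23 := fun L hL => by
    constructor <;> rintro rfl <;> rcases hc with h | h | h <;> rw [h] at hL <;> norm_num at hL
  set R := smallPart H q with hR
  have hsum := card_smallPart H q
  have hLdvd := dvd_orbF H q
  by_cases h0 : R.card = 0
  · have huniv : orbF H q = Finset.univ :=
      Finset.eq_univ_of_card _ (by rw [← hR] at hsum; rw [card_golayPt]; omega)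
    have htrans : ∀ x y : GolayPt, ∃ g ∈ H, g • x = y := by
      intro x y
      obtain ⟨k, hk⟩ := mem_orbF.mp (huniv ▸ Finset.mem_univ x : x ∈ orbF H q)
      obtain ⟨l, hl⟩ := mem_orbF.mp (huniv ▸ Finset.mem_univ y : y ∈ orbF H q)
      refine ⟨(l : M24) * (k : M24)⁻¹, H.mul_mem l.2 (H.inv_mem k.2), ?_⟩
      rw [mul_smul, ← show (k : M24) • q = x from hk, inv_smul_smul]
      exact hl
    rcases transitive_blocks htrans ho ha hdiv (by omega) with ⟨T, hT, hle⟩ | ⟨S, hS, hle, hle'⟩
    · exfalso
      have h1 := card_stab_obj trios_cat.2 trioCat_trans (show trioCat.Mem T from trios_cat.1.le hT)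
      have h2 : Nat.card H ≤ Nat.card (stabilizer M24 T) :=
        Nat.le_of_dvd Nat.card_pos (Subgroup.card_dvd_of_le hle)
      omega
    · exact Or.inr ⟨S, hS, hle, by omega⟩
  · by_cases h5 : 5 ≤ R.card
    · obtain ⟨-, hle⟩ := smallPart_eq_of_five ho ha hq h5
      refine Or.inl ⟨o, ho, hle, ?_⟩
      have h2 := Subgroup.card_dvd_of_le hle
      rw [card_stab_octad ho] at h2
      rcases hc with h | h | h <;> rw [h] at h2 ⊢ <;> norm_num at h2
    · exfalso
      have h2 : Nat.card H ≤ Nat.card (stabilizer M24 R) :=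
        Nat.le_of_dvd Nat.card_pos (Subgroup.card_dvd_of_le (smallPart_inv H q))
      have h3 := card_stab_pts R (by omega)
      have h22 := hdiv _ hLdvd
      rw [← hR] at hsum
      have hR' : R.card = 3 ∨ R.card = 4 := by omega
      rcases hR' with h | h <;> rw [h] at h3
      · rw [show Nat.choose 24 3 = 2024 by decide] at h3
        have : (orbF H q).card = 21 := by omega
        rw [this] at hLdvd
        rcases hc with h | h | h <;> rw [h] at hLdvd h2 <;> first | omega | norm_num at hLdvd
      · rw [show Nat.choose 24 4 = 10626 by decide] at h3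
        omega

theorem index_759 {H : Subgroup M24} (h : H.index = 759) : ∃ o ∈ octads, H = stabilizer M24 o := by
  have hc := card_of_index h
  rcases large_odd_index (H := H) (Or.inl (by omega)) with ⟨o, ho, hle, -⟩ | ⟨S, -, -, h'⟩
  · exact ⟨o, ho, Subgroup.eq_of_le_of_card_ge hle (by rw [card_stab_octad ho]; omega)⟩
  · omega

theorem index_1771 {H : Subgroup M24} (h : H.index = 1771) : ∃ S ∈ sextets, H = stabilizer M24 S := by
  have hc := card_of_index h
  rcases large_odd_index (H := H) (Or.inr (Or.inl (by omega))) with ⟨o, -, -, h'⟩ | ⟨S, hS, hle, -⟩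
  · omega
  · refine ⟨S, hS, Subgroup.eq_of_le_of_card_ge hle ?_⟩
    have h1 := card_stab_obj sextets_cat.2 sextCat_trans (show sextCat.Mem S from sextets_cat.1.le hS)
    omega

theorem index_ne_253 (H : Subgroup M24) : H.index ≠ 253 := by
  intro h
  have hc := card_of_index h
  rcases large_odd_index (H := H) (Or.inr (Or.inr (by omega))) with ⟨o, -, -, h'⟩ | ⟨S, -, -, h'⟩ <;> omega

/-- No subgroup of order 36960 fixes two points. -/
theorem no_36960 {J : Subgroup M24} {a b : GolayPt} (hab : a ≠ b)
    (hJ : J ≤ stabilizer M24 a ⊓ stabilizer M24 b) : Nat.card J ≠ 36960 := by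
  classical
  intro hcard
  haveI : Fact (Nat.Prime 7) := ⟨by norm_num⟩
  haveI : Fact (Nat.Prime 2) := ⟨Nat.prime_two⟩
  obtain ⟨v, hv⟩ := exists_prime_orderOf_dvd_card' (G := J) 7 (by rw [hcard]; norm_num)
  have hvo : orderOf (v : M24) = 7 := by rw [Subgroup.orderOf_coe, hv]
  set W := fixedPts ((v : M24) : Equiv.Perm GolayPt)
  have hW : W.card = 3 := fixed_seven hvo
  have hmW : ∀ {x}, x ∈ W ↔ (v : M24) • x = x := fun {x} => by simp [W, fixedPts, coe_smul]
  have hJa : ∀ g : J, (g : M24) • a = a := fun g => mem_stabilizer_iff.mp (hJ g.2).1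
  have hJb : ∀ g : J, (g : M24) • b = b := fun g => mem_stabilizer_iff.mp (hJ g.2).2
  set V := Subgroup.zpowers v with hV
  set N := Subgroup.normalizer (V : Set J)
  set C := Subgroup.centralizer (V : Set J) with hC
  -- a member of the normaliser fixes the fixed points
  have hfix : ∀ g ∈ N, ∀ x ∈ W, (g : M24) • x = x := by
    intro g hg x hx
    have hin : ∀ y ∈ W, (g : M24) • y ∈ W := by
      intro y hy
      have hm : g⁻¹ * v * g⁻¹⁻¹ ∈ V :=
        (Subgroup.mem_normalizer_iff.mp (Subgroup.inv_mem _ hg) v).mp (Subgroup.mem_zpowers v)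
      rw [inv_inv] at hm
      obtain ⟨i, hi⟩ := Subgroup.mem_zpowers_iff.mp hm
      have hvy : (v : M24) ∈ stabilizer M24 y := mem_stabilizer_iff.mpr (hmW.mp hy)
      have h1 := Subgroup.zpow_mem _ hvy i
      rw [← Subgroup.coe_zpow, hi] at h1
      refine hmW.mpr ?_
      have h2 := congrArg ((g : M24) • ·) (mem_stabilizer_iff.mp h1)
      simpa [mul_smul] using h2
    obtain ⟨haW, hbW⟩ : a ∈ W ∧ b ∈ W := ⟨hmW.mpr (hJa v), hmW.mpr (hJb v)⟩
    rcases eq_or_ne x a with rfl | hxa
    · exact hJa g
    rcases eq_or_ne x b with rfl | hxb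
    · exact hJb g
    have hWeq : ({a, b, x} : Finset GolayPt) = W := by
      refine Finset.eq_of_subset_of_card_le ?_ ?_
      · simp [Finset.insert_subset_iff, hx, haW, hbW]
      · rw [hW, Finset.card_insert_of_notMem (by simp [hab, hxa.symm]), Finset.card_pair hxb.symm]
    have hgx := hin x hx
    rw [← hWeq, Finset.mem_insert, Finset.mem_insert, Finset.mem_singleton] at hgx
    rcases hgx with h | h | h
    · exact absurd (smul_left_cancel _ (h.trans (hJa g).symm)) hxa
    · exact absurd (smul_left_cancel _ (h.trans (hJb g).symm)) hxb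
    · exact h
  have hWsub : ∀ g ∈ N, W ⊆ fixedPts ((g : M24) : Equiv.Perm GolayPt) := fun g hg x hx => by
    simpa [fixedPts, coe_smul] using hfix g hg x hx
  have hCN : C ≤ N := Subgroup.centralizer_le_normalizer _
  -- the centraliser
  have hprime : ∀ q, q.Prime → q ∣ Nat.card C → q = 7 := by
    intro q hq hd
    haveI := Fact.mk hq
    obtain ⟨c, hc⟩ := exists_prime_orderOf_dvd_card' (G := C) q hd
    have hco : orderOf ((c : J) : M24) = q := by rw [Subgroup.orderOf_coe, Subgroup.orderOf_coe, hc]
    have hcomm : (v : M24) * ((c : J) : M24) = ((c : J) : M24) * v :=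
      congrArg Subtype.val (Subgroup.mem_centralizer_iff.mp c.2 v (Subgroup.mem_zpowers v))
    set F := fixedPts (((c : J) : M24) : Equiv.Perm GolayPt) with hF
    have hmF : ∀ {x}, x ∈ F ↔ ((c : J) : M24) • x = x := fun {x} => by simp [F, fixedPts, coe_smul]
    have h7 := card_inv_mod (by norm_num : Nat.Prime 7) (pow_coe_eq_one (hvo ▸ pow_orderOf_eq_one (v : M24))) F
      (fun x hx => hmF.mpr (by
        show ((c : J) : M24) • ((v : M24) • x) = (v : M24) • x
        rw [← mul_smul, ← hcomm, mul_smul, hmF.mp hx]))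
    have hfilt : (F.filter fun x => ((v : M24) : Equiv.Perm GolayPt) x = x) = W := by
      ext x
      simp only [Finset.mem_filter]
      exact ⟨fun h => hmW.mpr h.2, fun h => ⟨hWsub c.1 (hCN c.2) h, hmW.mp h⟩⟩
    rw [hfilt, hW] at h7
    have hq' := card_inv_mod hq (pow_coe_eq_one (hco ▸ pow_orderOf_eq_one ((c : J) : M24))) Finset.univ
      (fun p _ => Finset.mem_univ _)
    rw [Finset.card_univ, card_golayPt] at hq'
    change 24 % q = F.card % q at hq'
    have hle : F.card ≤ 24 := by rw [← card_golayPt]; exact Finset.card_le_univ _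
    have hne : F.card ≠ 24 := fun h => by
      have hall : F = Finset.univ := Finset.eq_univ_of_card _ (by rw [h, card_golayPt])
      have : ((c : J) : M24) = 1 := eq_one_of_small (S := ∅) (by simp) fun p _ => by
        have := Finset.mem_univ p
        rw [← hall] at this
        simpa [hF, fixedPts] using this
      rw [this, orderOf_one] at hco
      exact hq.one_lt.ne hco
    have hd : q ∣ 24 - F.card := (Nat.modEq_iff_dvd' hle).mp (show F.card % q = 24 % q from hq'.symm)
    have hql : q ≤ 24 := (Nat.le_of_dvd (by omega) hd).trans (Nat.sub_le _ _)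
    rcases eq_or_ne q 2 with rfl | h2
    · obtain ⟨k, ⟨-, -, h8⟩ | ⟨-, h0⟩⟩ := two_cases hco <;> (simp only [hF] at h7; omega)
    rcases eq_or_ne q 3 with rfl | h3
    · obtain ⟨k, ⟨-, h6⟩ | ⟨-, h0⟩⟩ := three_cases hco <;> (simp only [hF] at h7; omega)
    have hF' : F.card = 3 ∨ F.card = 10 ∨ F.card = 17 := by omega
    rcases hF' with h | h | h <;> rw [h] at hd <;> interval_cases q <;>
      first | rfl | omega | exact absurd hq (by norm_num) | norm_num at hd
  have hC7 : Nat.card C = 7 := by
    have hpow := Nat.eq_prime_pow_of_unique_prime_dvd Nat.card_pos.ne' fun {d} hd hd' => hprime d hd hd'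
    have h1 : 7 ∣ Nat.card C := by
      have := Subgroup.card_dvd_of_le (Subgroup.le_centralizer_iff_isMulCommutative.mpr inferInstance : V ≤ C)
      rwa [hV, Nat.card_zpowers, hv] at this
    have h2 : Nat.card C ∣ 36960 := hcard ▸ Subgroup.card_subgroup_dvd_card C
    generalize (Nat.card C).primeFactorsList.length = k at hpow
    match k, hpow with
    | 0, hpow => rw [hpow] at h1; norm_num at h1
    | 1, hpow => rw [hpow]; rfl
    | k + 2, hpow =>
      rw [hpow] at h2
      exact absurd ((Nat.pow_dvd_pow 7 (by omega : 2 ≤ k + 2)).trans h2) (by norm_num)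
  have hNC := Subgroup.card_eq_card_quotient_mul_card_subgroup V.normalizerMonoidHom.ker
  rw [Nat.card_congr (QuotientGroup.quotientKerEquivRange V.normalizerMonoidHom).toEquiv,
    Subgroup.normalizerMonoidHom_ker, Nat.card_congr (Subgroup.subgroupOfEquivOfLe hCN).toEquiv, hC7] at hNC
  have hr : Nat.card V.normalizerMonoidHom.range ∣ 6 := by
    refine (Subgroup.card_subgroup_dvd_card _).trans ?_
    haveI : IsCyclic V := by rw [hV]; infer_instance
    rw [IsCyclic.card_mulAut, hV, Nat.card_zpowers, hv, Nat.totient_prime (by norm_num)]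
  have hfac : (36960 : ℕ).factorization 7 = 1 := by
    rw [show (36960 : ℕ) = 7 ^ 1 * 5280 by norm_num, Nat.factorization_mul (by norm_num) (by norm_num),
      Finsupp.add_apply, Nat.Prime.factorization_pow (by norm_num), Finsupp.single_eq_same,
      Nat.factorization_eq_zero_of_not_dvd (by norm_num : ¬ 7 ∣ 5280)]
  let P : Sylow 7 J := Sylow.ofCard V (by rw [hV, Nat.card_zpowers, hv, hcard, hfac]; rfl)
  have hn := card_sylow_modEq_one 7 J
  rw [Sylow.card_eq_index_normalizer P] at hn
  change N.index % 7 = 1 % 7 at hn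
  have hi := N.card_mul_index
  rw [hcard, hNC] at hi
  have hm2 : Nat.card V.normalizerMonoidHom.range = 2 := by
    have hle6 := Nat.le_of_dvd (by norm_num) hr
    generalize Nat.card V.normalizerMonoidHom.range = m at hr hi hle6
    interval_cases m <;> omega
  -- an inverting involution
  obtain ⟨t, ht⟩ := exists_prime_orderOf_dvd_card' (G := N) 2 (by rw [hNC, hm2]; norm_num)
  have hto : orderOf ((t : J) : M24) = 2 := by rw [Subgroup.orderOf_coe, Subgroup.orderOf_coe, ht]
  have htC : (t : J) ∉ C := fun h => by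
    have h2 : orderOf (⟨t, h⟩ : C) = 2 := by rw [← Subgroup.orderOf_coe]; exact (Subgroup.orderOf_coe t).trans ht
    have h3 := orderOf_dvd_natCard (⟨t, h⟩ : C)
    rw [h2, hC7] at h3
    norm_num at h3
  have ht1 : (t : J) * t = 1 := by
    have h := congrArg Subtype.val (ht ▸ pow_orderOf_eq_one t : t ^ 2 = 1)
    simpa [pow_two] using h
  obtain ⟨i, hi'⟩ := Subgroup.mem_zpowers_iff.mp
    ((Subgroup.mem_normalizer_iff.mp t.2 v).mp (Subgroup.mem_zpowers v))
  -- the conjugate of a power
  have hconj : ∀ j : ℤ, (t : J) * v ^ j * (t : J)⁻¹ = v ^ (i * j) := fun j => by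
    rw [← conj_zpow, ← hi', ← zpow_mul]
  have hii : (7 : ℤ) ∣ i * i - 1 := by
    have h : v ^ (i * i) = v ^ (1 : ℤ) := by
      rw [← hconj i, hi', inv_eq_of_mul_eq_one_right ht1, zpow_one]
      rw [show (t : J) * (t * v * t) * t = (t * t) * v * (t * t) by group, ht1, one_mul, mul_one]
    have h2 := orderOf_dvd_iff_zpow_eq_one.mpr (show v ^ (i * i - 1) = 1 by rw [zpow_sub, h, mul_inv_cancel])
    rwa [hv] at h2
  have hi1 : ¬ (7 : ℤ) ∣ i - 1 := fun h => htC <| Subgroup.mem_centralizer_iff.mpr fun x hx => by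
    obtain ⟨j, rfl⟩ := Subgroup.mem_zpowers_iff.mp hx
    have e : v ^ (i * j) = v ^ j := by
      refine (orderOf_dvd_sub_iff_zpow_eq_zpow).mp ?_
      rw [hv, show i * j - j = (i - 1) * j by ring]
      exact Dvd.dvd.mul_right h j
    have := hconj j
    rw [e, mul_inv_eq_iff_eq_mul] at this
    exact this.symm
  have hneg : (7 : ℤ) ∣ i + 1 := by
    have hp : Prime (7 : ℤ) := by norm_num
    rcases hp.dvd_mul.mp (show (7 : ℤ) ∣ (i - 1) * (i + 1) by rwa [show (i - 1) * (i + 1) = i * i - 1 by ring]) with h | h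
    · exact absurd h hi1
    · exact h
  set F := fixedPts (((t : J) : M24) : Equiv.Perm GolayPt) with hF
  have hmF : ∀ {x}, x ∈ F ↔ ((t : J) : M24) • x = x := fun {x} => by simp [F, fixedPts, coe_smul]
  set F' := F \ W
  set f : GolayPt × Fin 7 → GolayPt := fun z => ((v ^ (z.2 : ℕ) : J) : M24) • z.1 with hf
  have hne7 : ∀ {x}, x ∉ W → ∀ k : ℤ, ((v ^ k : J) : M24) • x = x → (7 : ℤ) ∣ k := by
    intro x hx k hk
    by_contra hnd
    obtain ⟨s, r, hsr⟩ : IsCoprime (7 : ℤ) k := (Prime.coprime_iff_not_dvd (by norm_num)).mpr hnd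
    refine hx (hmW.mpr ?_)
    have hmem : ((v ^ k : J) : M24) ∈ stabilizer M24 x := hk
    have e : v = (v ^ k) ^ r := by
      rw [← zpow_mul]
      conv_lhs => rw [← zpow_one v]
      refine (orderOf_dvd_sub_iff_zpow_eq_zpow).mp ?_
      rw [hv]
      exact ⟨s, by push_cast; linarith⟩
    rw [e, Subgroup.coe_zpow]
    exact Subgroup.zpow_mem _ hmem r
  have hmap : Set.InjOn f ↑(F' ×ˢ (Finset.univ : Finset (Fin 7))) := by
    rintro ⟨x, j⟩ hx ⟨y, l⟩ hy he
    simp only [Finset.coe_product, Set.mem_prod, Finset.mem_coe, F', Finset.mem_sdiff] at hx hy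
    have hxy : ((v ^ ((j : ℤ) - l) : J) : M24) • x = y := by
      rw [zpow_sub, zpow_natCast, zpow_natCast, (Commute.pow_pow (Commute.refl v) _ _).inv_right.eq,
        Subgroup.coe_mul, mul_smul, Subgroup.coe_inv, inv_smul_eq_iff]
      exact he
    have hback : ((v ^ (i * ((j : ℤ) - l)) : J) : M24) • x = y := by
      rw [← hconj, Subgroup.coe_mul, Subgroup.coe_mul, Subgroup.coe_inv, mul_smul, mul_smul,
        inv_smul_eq_iff.mpr (hmF.mp hx.1.1).symm, hxy, hmF.mp hy.1.1]
    have hd : (7 : ℤ) ∣ (i - 1) * ((j : ℤ) - l) := by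
      refine hne7 hx.1.2 _ ?_
      rw [show (i - 1) * ((j : ℤ) - l) = -((j : ℤ) - l) + i * ((j : ℤ) - l) by ring, zpow_add,
        Subgroup.coe_mul, mul_smul, hback, zpow_neg, Subgroup.coe_inv, inv_smul_eq_iff]
      exact hxy.symm
    have hjl : (j : ℤ) - l = 0 := by
      have hd2 := ((show Prime (7 : ℤ) by norm_num).dvd_mul.mp hd).resolve_left hi1
      obtain ⟨c, hc⟩ := hd2
      omega
    have hjl' : j = l := Fin.ext (by omega)
    subst hjl'
    rw [sub_self, zpow_zero, Subgroup.coe_one, one_smul] at hxy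
    rw [hxy]
  have hcount : F'.card * 7 ≤ 21 := by
    have h1 := Finset.card_le_card_of_injOn f (t := Wᶜ) (fun z hz => ?_) hmap
    · rw [Finset.card_product, Finset.card_univ, Fintype.card_fin, Finset.card_compl, card_golayPt, hW] at h1
      exact h1
    · simp only [Finset.coe_product, Set.mem_prod, Finset.mem_coe, F', Finset.mem_sdiff] at hz
      refine Finset.mem_compl.mpr fun hw => hz.1.2 ?_
      have hg : v ^ (z.2 : ℕ) ∈ N := Subgroup.le_normalizer (Subgroup.pow_mem _ (Subgroup.mem_zpowers v) _)
      have h3 : ((v ^ (z.2 : ℕ) : J) : M24) • f z = f z := hfix _ hg _ hw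
      have h4 : f z = z.1 := smul_left_cancel _ h3
      rw [← h4]
      exact hw
  have hFsum : F.card ≤ F'.card + 3 := by
    refine (Finset.card_le_card (show F ⊆ F' ∪ W from fun x hx => ?_)).trans
      ((Finset.card_union_le _ _).trans (by rw [hW]))
    by_cases h : x ∈ W <;> simp [F', hx, h]
  have hge : 3 ≤ F.card := by rw [← hW]; exact Finset.card_le_card (hWsub _ t.2)
  obtain ⟨k, ⟨-, -, h8⟩ | ⟨-, h0⟩⟩ := two_cases hto
  · change F.card = 8 at h8; omega
  · change F.card = 0 at h0; omega

theorem index_276 {H : Subgroup M24} (h : H.index = 276) :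
    ∃ s : Finset GolayPt, s.card = 2 ∧ H = stabilizer M24 s := by
  classical
  have hH : Nat.card H = 887040 := by have := card_of_index h; omega
  haveI : Fact (Nat.Prime 11) := ⟨by norm_num⟩
  haveI : Fact (Nat.Prime 7) := ⟨by norm_num⟩
  obtain ⟨u, hu⟩ := exists_prime_orderOf_dvd_card' (G := H) 11 (by rw [hH]; norm_num)
  have huo : orderOf u.1 = 11 := by rw [Subgroup.orderOf_coe, hu]
  set U := fixedPts (u.1 : Equiv.Perm GolayPt) with hU
  obtain ⟨a, b, hab, hUeq⟩ := Finset.card_eq_two.mp (fixed_eleven huo : U.card = 2)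
  have hmU : ∀ {x}, u.1 • x = x ↔ x = a ∨ x = b := fun {x} => by
    rw [← show x ∈ U ↔ u.1 • x = x by simp [hU, fixedPts, coe_smul], hU, hUeq]; simp
  have hua := hmU.mpr (Or.inl rfl : a = a ∨ a = b)
  set O := orbF H a with hO
  have h11 := card_inv_mod (by norm_num : Nat.Prime 11) (pow_coe_eq_one (huo ▸ pow_orderOf_eq_one u.1)) O
    (fun p hp => orbF_inv u.2 hp)
  have hfilt : (O.filter fun p => (u.1 : Equiv.Perm GolayPt) p = p) = if b ∈ O then {a, b} else {a} := by
    ext p
    simp only [Finset.mem_filter, ← coe_smul, hmU]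
    by_cases hb : b ∈ O
    · simp only [if_pos hb, Finset.mem_insert, Finset.mem_singleton]
      exact ⟨fun h => h.2, fun h => ⟨by rcases h with rfl | rfl; exacts [self_mem_orbF H p, hb], h⟩⟩
    · simp only [if_neg hb, Finset.mem_singleton]
      exact ⟨fun h => h.2.resolve_right fun e => hb (e ▸ h.1), fun h => ⟨h ▸ self_mem_orbF H a, Or.inl h⟩⟩
  have hle : O.card ≤ 24 := by rw [← card_golayPt]; exact Finset.card_le_univ _
  have hd : O.card ∣ 887040 := hH ▸ dvd_orbF H a
  have hpos : 0 < O.card := Finset.card_pos.mpr ⟨a, self_mem_orbF H a⟩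
  -- the element of order 7 in a group containing it
  have seven : ∀ {J : Subgroup M24}, 7 ∣ Nat.card J → ∀ x : GolayPt, (orbF J x).card % 7 ≤ 3 := by
    intro J hJ x
    obtain ⟨v, hv⟩ := exists_prime_orderOf_dvd_card' (G := J) 7 hJ
    have hvo : orderOf v.1 = 7 := by rw [Subgroup.orderOf_coe, hv]
    rw [card_inv_mod (by norm_num : Nat.Prime 7) (pow_coe_eq_one (hvo ▸ pow_orderOf_eq_one v.1)) _
      (fun p hp => orbF_inv v.2 hp)]
    refine (Nat.mod_le _ _).trans ?_
    rw [← fixed_seven hvo]
    exact Finset.card_le_card fun p hp => by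
      simp only [Finset.mem_filter] at hp
      simp [fixedPts, hp.2]
  rw [hfilt] at h11
  by_cases hb : b ∈ O
  · rw [if_pos hb, Finset.card_pair hab] at h11
    have hcases : O.card = 2 ∨ O.card = 24 := by
      have : O.card = 2 ∨ O.card = 13 ∨ O.card = 24 := by omega
      rcases this with h | h | h
      · exact Or.inl h
      · rw [h] at hd; norm_num at hd
      · exact Or.inr h
    rcases hcases with h2 | h24
    · refine ⟨O, h2, Subgroup.eq_of_le_of_card_ge (le_stabilizer_of_forall fun g hg x hx => orbF_inv hg hx) ?_⟩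
      have h3 := card_stab_pts O (by omega)
      rw [h2, show Nat.choose 24 2 = 276 by decide] at h3
      omega
    · exfalso
      have h2 := card_orbF H a
      rw [← hO, h24, hH] at h2
      set J := H ⊓ stabilizer M24 a with hJ
      have hJc : Nat.card J = 36960 := by omega
      have hbb : orbF J b = {b} := by
        have huJ : u.1 ∈ J := ⟨u.2, mem_stabilizer_iff.mpr hua⟩
        have hm := card_inv_mod (by norm_num : Nat.Prime 11) (pow_coe_eq_one (huo ▸ pow_orderOf_eq_one u.1))
          (orbF J b) (fun p hp => orbF_inv huJ hp)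
        have hnota : a ∉ orbF J b := fun hm' => by
          obtain ⟨k, hk⟩ := mem_orbF.mp hm'
          exact hab (smul_left_cancel (k : M24) (hk.trans (mem_stabilizer_iff.mp k.2.2).symm)).symm
        have hf : ((orbF J b).filter fun p => (u.1 : Equiv.Perm GolayPt) p = p) = {b} := by
          ext p
          simp only [Finset.mem_filter, ← coe_smul, hmU, Finset.mem_singleton]
          exact ⟨fun h => h.2.resolve_left fun e => hnota (e ▸ h.1),
            fun h => ⟨h ▸ self_mem_orbF J b, Or.inr h⟩⟩
        rw [hf, Finset.card_singleton] at hm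
        have hl : (orbF J b).card ≤ 23 := by
          have := Finset.card_le_card (fun x hx => Finset.mem_erase.mpr
            ⟨fun e => hnota (e ▸ hx), Finset.mem_univ x⟩ : orbF J b ⊆ Finset.univ.erase a)
          rwa [Finset.card_erase_of_mem (Finset.mem_univ _), Finset.card_univ, card_golayPt] at this
        have hd' := dvd_orbF J b
        rw [hJc] at hd'
        have h7 := seven (J := J) (by rw [hJc]; norm_num) b
        have : (orbF J b).card = 1 ∨ (orbF J b).card = 12 ∨ (orbF J b).card = 23 := by omega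
        rcases this with h | h | h
        · exact (Finset.eq_of_subset_of_card_le (Finset.singleton_subset_iff.mpr (self_mem_orbF J b))
            (by rw [h, Finset.card_singleton])).symm
        · omega
        · rw [h] at hd'; norm_num at hd'
      have hJb : J ≤ stabilizer M24 b := le_stab_of_orbF (by rw [hbb, Finset.card_singleton])
      exact no_36960 hab (le_inf inf_le_right hJb) hJc
  · exfalso
    rw [if_neg hb, Finset.card_singleton] at h11
    have : O.card = 1 ∨ O.card = 12 ∨ O.card = 23 := by omega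
    rcases this with h | h | h
    · have h2 := Subgroup.card_dvd_of_le (le_stab_of_orbF (H := H) (x := a) h)
      rw [hH, card_stab_point] at h2
      norm_num at h2
    · have := seven (J := H) (by rw [hH]; norm_num) a
      rw [← hO, h] at this
      omega
    · rw [h] at hd; norm_num at hd

/-- The stabiliser of a point is transitive on the octads' members: a point of an octad. -/
theorem exists_octad_mem (x : GolayPt) : ∃ o ∈ octads, x ∈ o := by
  obtain ⟨g, hg⟩ := (exists_map_two (p := bp 0) (q := bp 1) (p' := x) (q' := if x = bp 0 then bp 1 else bp 0)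
    (bp_ne 1 (by norm_num) 0 (by norm_num)) (by split_ifs with h <;> [rw [h]; skip] <;>
      first | exact bp_ne 1 (by norm_num) 0 (by norm_num) | exact h))
  exact ⟨g • pts baseOctad, smul_mem_octads' g pts_baseOctad_mem, by
    rw [← hg.1]; exact Finset.smul_mem_smul_finset (bp_mem_baseOctad 0 (by norm_num))⟩

theorem card_stab_mem_octad {o : Finset GolayPt} (ho : o ∈ octads) {x : GolayPt} (hx : x ∈ o) :
    Nat.card ↥(stabilizer M24 o ⊓ stabilizer M24 x) = 40320 := by
  have h := card_orbF (stabilizer M24 o) x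
  have horb : orbF (stabilizer M24 o) x = o := by
    refine Finset.Subset.antisymm (fun y hy => ?_) fun y hy => ?_
    · obtain ⟨k, rfl⟩ := mem_orbF.mp hy
      have h2 : (k : M24) • x ∈ (k : M24) • o := Finset.smul_mem_smul_finset hx
      rw [mem_stabilizer_iff.mp k.2] at h2
      exact h2
    · obtain ⟨g, hg1, hg2⟩ := exists_map_octad_one ho ho (p := x) (p' := y) (iff_of_true hx hy)
      exact mem_orbF.mpr ⟨⟨g, mem_stabilizer_iff.mpr hg2⟩, hg1⟩
  rw [horb, octad_card ho, card_stab_octad ho] at h
  omega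

theorem card_stab_mem_three {R : Finset GolayPt} (hR : R.card = 3) {x : GolayPt} (hx : x ∈ R) :
    Nat.card ↥(stabilizer M24 R ⊓ stabilizer M24 x) = 40320 := by
  classical
  have h := card_orbF (stabilizer M24 R) x
  have horb : orbF (stabilizer M24 R) x = R := by
    refine Finset.Subset.antisymm (fun y hy => ?_) fun y hy => ?_
    · obtain ⟨k, rfl⟩ := mem_orbF.mp hy
      have h2 : (k : M24) • x ∈ (k : M24) • R := Finset.smul_mem_smul_finset hx
      rw [mem_stabilizer_iff.mp k.2] at h2
      exact h2
    · rcases eq_or_ne x y with rfl | hne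
      · exact self_mem_orbF _ x
      obtain ⟨z, hz⟩ := Finset.card_eq_one.mp (show ((R.erase x).erase y).card = 1 by
        rw [Finset.card_erase_of_mem (Finset.mem_erase.mpr ⟨hne.symm, hy⟩), Finset.card_erase_of_mem hx, hR])
      obtain ⟨hzy, hzx, hzR⟩ : z ≠ y ∧ z ≠ x ∧ z ∈ R := by
        have hm : z ∈ (R.erase x).erase y := by rw [hz]; exact Finset.mem_singleton_self z
        simpa using hm
      have hRe : R = {x, y, z} := (Finset.eq_of_subset_of_card_le
        (by simp [Finset.insert_subset_iff, hx, hy, hzR])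
        (by rw [hR, Finset.card_insert_of_notMem (by simp [hne, hzx.symm]), Finset.card_pair hzy.symm])).symm
      have inj : ∀ (f : ℕ → GolayPt), f 0 ≠ f 1 → f 0 ≠ f 2 → f 1 ≠ f 2 → ∀ i < 3, ∀ j < 3, f i = f j → i = j :=
        fun f h01 h02 h12 i hi j hj e => by
          interval_cases i <;> interval_cases j <;>
            first | rfl | exact absurd e h01 | exact absurd e h01.symm | exact absurd e h02 |
              exact absurd e h02.symm | exact absurd e h12 | exact absurd e h12.symm
      obtain ⟨a, ha, hax⟩ := exists_mem_map_base 3 (by norm_num) (fun i => [x, y, z].getD i none)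
        (inj _ hne hzx.symm hzy.symm)
      obtain ⟨b, hb, hbx⟩ := exists_mem_map_base 3 (by norm_num) (fun i => [y, x, z].getD i none)
        (inj _ hne.symm hzy.symm hzx.symm)
      set g : M24 := ⟨b, hb⟩ * (⟨a, ha⟩ : M24)⁻¹ with hg
      have hgi : ∀ i < 3, g • [x, y, z].getD i none = [y, x, z].getD i none := by
        intro i hi
        show b (a⁻¹ _) = _
        rw [← hax i hi, Equiv.Perm.inv_def, Equiv.symm_apply_apply, hbx i hi]
      refine mem_orbF.mpr ⟨⟨g, mem_stabilizer_iff.mpr ?_⟩, hgi 0 (by norm_num)⟩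
      refine Finset.eq_of_subset_of_card_le (fun w hw => ?_) (by rw [Finset.card_smul_finset])
      obtain ⟨w', hw', rfl⟩ := Finset.mem_smul_finset.mp hw
      rw [hRe] at hw' ⊢
      simp only [Finset.mem_insert, Finset.mem_singleton] at hw' ⊢
      rcases hw' with rfl | rfl | rfl
      · exact Or.inr (Or.inl (hgi 0 (by norm_num)))
      · exact Or.inl (hgi 1 (by norm_num))
      · exact Or.inr (Or.inr (hgi 2 (by norm_num)))
  have h2 := card_stab_pts R (by omega)
  rw [hR, show Nat.choose 24 3 = 2024 by decide] at h2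
  rw [horb, hR] at h
  omega

/-- Subgroups of index 253 in a point stabiliser. -/
theorem point_index_253 {x : GolayPt} {H : Subgroup M24} (hle : H ≤ stabilizer M24 x)
    (hH : Nat.card H = 40320) :
    (∃ s : Finset GolayPt, s.card = 2 ∧ x ∉ s ∧ H = stabilizer M24 s ⊓ stabilizer M24 x) ∨
      ∃ o ∈ octads, x ∈ o ∧ H = stabilizer M24 o ⊓ stabilizer M24 x := by
  classical
  obtain ⟨o₀, ho₀, hx₀⟩ := exists_octad_mem x
  obtain ⟨a, ha, hK⟩ := exists_fixG_le hle ho₀
    (fun g hg => mem_stabilizer_iff.mpr (mem_fixG.mp hg x hx₀))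
    (by rw [card_stab_point, hH]; decide)
  set o := a • o₀ with hoDef
  have ho : o ∈ octads := smul_mem_octads' a ho₀
  have hxo : x ∈ o := by
    have h2 : a • x ∈ a • o₀ := Finset.smul_mem_smul_finset hx₀
    rwa [mem_stabilizer_iff.mp ha] at h2
  obtain ⟨q, -, hq⟩ : ∃ q ∈ (Finset.univ : Finset GolayPt), q ∉ o :=
    Finset.exists_mem_notMem_of_card_lt_card (by rw [Finset.card_univ, card_golayPt, octad_card ho]; norm_num)
  set R := smallPart H q with hR
  have hsum := card_smallPart H q
  have hd := dvd_orbF H q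
  rw [← hR] at hsum
  rw [hH] at hd
  have hxR : x ∈ R := Finset.mem_compl.mpr fun hm => hq (by
    obtain ⟨k, hk⟩ := mem_orbF.mp hm
    have : q = x := smul_left_cancel (k : M24) (hk.trans (mem_stabilizer_iff.mp (hle k.2)).symm)
    exact this ▸ hxo)
  by_cases h5 : 5 ≤ R.card
  · refine Or.inr ⟨o, ho, hxo, ?_⟩
    exact Subgroup.eq_of_le_of_card_ge (le_inf (smallPart_eq_of_five ho hK hq h5).2 hle)
      (by rw [card_stab_mem_octad ho hxo, hH])
  · have hle2 : H ≤ stabilizer M24 R := smallPart_inv H q
    have hR' : R.card = 3 ∨ R.card = 4 := by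
      have : 1 ≤ R.card := Finset.card_pos.mpr ⟨x, hxR⟩
      have : R.card ≠ 1 := fun h => by
        rw [show (orbF H q).card = 23 by omega] at hd; norm_num at hd
      have : R.card ≠ 2 := fun h => by
        rw [show (orbF H q).card = 22 by omega] at hd; norm_num at hd
      omega
    rcases hR' with h | h
    · have heq := Subgroup.eq_of_le_of_card_ge (le_inf hle2 hle) (by rw [card_stab_mem_three h hxR, hH])
      refine Or.inl ⟨R.erase x, by rw [Finset.card_erase_of_mem hxR, h], Finset.notMem_erase x R,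
        heq.trans (le_antisymm ?_ ?_)⟩ <;> intro g hg <;> refine ⟨?_, hg.2⟩
      · refine mem_stabilizer_iff.mpr (Finset.eq_of_subset_of_card_le (fun w hw => ?_) (by rw [Finset.card_smul_finset]))
        obtain ⟨w', hw', rfl⟩ := Finset.mem_smul_finset.mp hw
        obtain ⟨hne, hwR⟩ := Finset.mem_erase.mp hw'
        have h2 : g • w' ∈ g • R := Finset.smul_mem_smul_finset hwR
        rw [mem_stabilizer_iff.mp hg.1] at h2
        exact Finset.mem_erase.mpr ⟨fun e => hne (smul_left_cancel g
          (e.trans (mem_stabilizer_iff.mp hg.2).symm)), h2⟩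
      · show g ∈ stabilizer M24 R
        rw [mem_stabilizer_iff, ← Finset.insert_erase hxR, Finset.smul_finset_insert,
          mem_stabilizer_iff.mp hg.1, mem_stabilizer_iff.mp hg.2]
    · exfalso
      have h2 := card_stab_pts R (by omega)
      rw [h, show Nat.choose 24 4 = 10626 by decide] at h2
      have h3 : Nat.card H ≤ Nat.card (stabilizer M24 R) :=
        Nat.le_of_dvd Nat.card_pos (Subgroup.card_dvd_of_le hle2)
      omega

end CfsgLib.Golay.Cert
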