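/-
The hexacode over a field with four elements: enumeration and weights.
-/
import Mathlib
import Cfsg.Prelude.Def_SporadicCombinatorics

set_option autoImplicit false

namespace CfsgLib.Hexa

open Cfsg Finset

/-- Addition of field codes `0, 1, ω, ω²` numbered `0, 1, 2, 3`. -/
def add4 (a b : Fin 4) : Fin 4 := ![![0, 1, 2, 3], ![1, 0, 3, 2], ![2, 3, 0, 1], ![3, 2, 1, 0]] a b

/-- Multiplication of field codes. -/
def mul4 (a b : Fin 4) : Fin 4 :=
  ![![0, 0, 0, 0], ![0, 1, 2, 3], ![0, 2, 3, 1], ![0, 3, 1, 2]] a b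

variable {F : Type*} [Field F]

/-- The value of a field code. -/
def val4 (ω : F) : Fin 4 → F := ![0, 1, ω, ω ^ 2]

/-- The three spanning words, as codes. -/
def gens : Fin 3 → Fin 6 → Fin 4 := ![![2, 3, 3, 2, 3, 2], ![3, 2, 2, 3, 3, 2], ![3, 2, 3, 2, 2, 3]]

/-- The word with given coefficient codes. -/
def word4 (a : Fin 3 → Fin 4) (i : Fin 6) : Fin 4 :=
  add4 (add4 (mul4 (a 0) (gens 0 i)) (mul4 (a 1) (gens 1 i))) (mul4 (a 2) (gens 2 i))

variable [Fintype F] {ω : F} (hF : Fintype.card F = 4) (hω : ω ^ 2 + ω + 1 = 0)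

include hF

theorem two_zero : (2 : F) = 0 := by
  have h := Nat.cast_card_eq_zero F
  rw [hF] at h
  have h2 : (2 : F) * 2 = 0 := by
    push_cast at h
    norm_num
    exact h
  exact mul_self_eq_zero.mp h2

include hω

theorem val4_injective : Function.Injective (val4 ω) := by
  have h2 := two_zero hF
  have h0 : ω ≠ 0 := fun h => one_ne_zero (α := F) (by simpa [h] using hω)
  have h1 : ω ≠ 1 := fun h => one_ne_zero (α := F) (by rw [h] at hω; linear_combination hω - h2)
  have hsq : ω ^ 2 ≠ 0 := pow_ne_zero 2 h0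
  have h21 : ω ^ 2 ≠ 1 := fun h => h0 (by linear_combination hω - h - h2)
  have h22 : ω ^ 2 ≠ ω := fun h => one_ne_zero (α := F) (by linear_combination hω - h - ω * h2)
  have hneg : (-1 : F) = 1 := by linear_combination -h2
  intro a b h
  fin_cases a <;> fin_cases b <;> simp [val4] at h ⊢ <;>
    first
    | exact h0 h
    | exact h0 h.symm
    | exact h1 h
    | exact h1 h.symm
    | exact h21 h
    | exact h21 h.symm
    | exact h22 h
    | exact h22 h.symm
    | exact hsq h
    | exact hsq h.symm
    | exact h.elim h1 fun h => h1 (h.trans hneg)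
    | exact h.symm.elim h1 fun h => h1 (h.trans hneg)

theorem val4_add (a b : Fin 4) : val4 ω (add4 a b) = val4 ω a + val4 ω b := by
  have h2 := two_zero hF
  fin_cases a <;> fin_cases b <;> simp [val4, add4] <;>
    first
    | linear_combination h2
    | linear_combination -h2
    | linear_combination hω - h2
    | linear_combination -hω + h2
    | linear_combination hω - (ω + 1) * h2
    | linear_combination hω - (ω ^ 2 + 1) * h2
    | linear_combination hω - (ω ^ 2 + ω) * h2
    | linear_combination -ω * h2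
    | linear_combination -ω ^ 2 * h2
    | linear_combination -hω
    | linear_combination hω
    | linear_combination hω - (1 + ω) * h2
    | linear_combination hω - (ω + ω ^ 2) * h2
    | linear_combination hω - (1 + ω ^ 2) * h2

theorem val4_mul (a b : Fin 4) : val4 ω (mul4 a b) = val4 ω a * val4 ω b := by
  fin_cases a <;> fin_cases b <;> simp [val4, mul4] <;>
    first
    | ring1
    | linear_combination (ω - 1) * hω
    | linear_combination (ω * (ω - 1)) * hω
    | linear_combination (-(ω - 1)) * hω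
    | linear_combination (-(ω * (ω - 1))) * hω

theorem val4_surjective : Function.Surjective (val4 ω) :=
  ((Fintype.bijective_iff_injective_and_card _).mpr
    ⟨val4_injective hF hω, by rw [hF, Fintype.card_fin]⟩).2

omit hF hω in
/-- The word of the code with given coefficient codes. -/
def hw (ω : F) (a : Fin 3 → Fin 4) : Fin 6 → F := fun i => val4 ω (word4 a i)

theorem hw_eq (a : Fin 3 → Fin 4) : hw ω a = val4 ω (a 0) • ![ω, ω ^ 2, ω ^ 2, ω, ω ^ 2, ω] +
    val4 ω (a 1) • ![ω ^ 2, ω, ω, ω ^ 2, ω ^ 2, ω] + val4 ω (a 2) • ![ω ^ 2, ω, ω ^ 2, ω, ω, ω ^ 2] := by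
  funext i
  simp only [hw, word4, val4_add hF hω, val4_mul hF hω, Pi.add_apply, Pi.smul_apply, smul_eq_mul]
  fin_cases i <;> rfl

theorem mem_iff (x : Fin 6 → F) : x ∈ hexacode F ω ↔ ∃ a, hw ω a = x := by
  rw [hexacode, Submodule.mem_span_triple]
  constructor
  · rintro ⟨p, q, r, rfl⟩
    obtain ⟨a, rfl⟩ := val4_surjective hF hω p
    obtain ⟨b, rfl⟩ := val4_surjective hF hω q
    obtain ⟨c, rfl⟩ := val4_surjective hF hω r
    exact ⟨![a, b, c], hw_eq hF hω _⟩
  · rintro ⟨a, rfl⟩
    exact ⟨_, _, _, (hw_eq hF hω a).symm⟩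

theorem hw_injective : Function.Injective (hw ω) := by
  intro a b h
  have key : ∀ a b : Fin 3 → Fin 4, (∀ i, word4 a i = word4 b i) → a = b := by decide +kernel
  exact key a b fun i => val4_injective hF hω (congrFun h i)

theorem support_hw [DecidableEq F] (a : Fin 3 → Fin 4) :
    (univ.filter fun i => hw ω a i ≠ 0) = univ.filter fun i => word4 a i ≠ 0 := by
  refine filter_congr fun i _ => ?_
  have h0 : val4 ω 0 = 0 := rfl
  exact not_congr ⟨fun h => val4_injective hF hω (h.trans h0.symm), fun h => (congrArg (val4 ω) h).trans h0⟩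

omit hF hω in
theorem weights : ∀ a : Fin 3 → Fin 4, a = 0 ∨ (univ.filter fun i => word4 a i ≠ 0).card = 4 ∨
    (univ.filter fun i => word4 a i ≠ 0).card = 6 := by decide +kernel

omit hF hω in
theorem counts : (univ.filter fun a => (univ.filter fun i => word4 a i ≠ 0).card = 4).card = 45 ∧
    (univ.filter fun a => (univ.filter fun i => word4 a i ≠ 0).card = 6).card = 18 := by decide +kernel

theorem ncard_weight [DecidableEq F] (n : ℕ) :
    {x : Fin 6 → F | x ∈ hexacode F ω ∧ (univ.filter fun i => x i ≠ 0).card = n}.ncard =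
      (univ.filter fun a => (univ.filter fun i => word4 a i ≠ 0).card = n).card := by
  rw [← Set.ncard_coe_finset, ← Set.ncard_image_of_injective _ (hw_injective hF hω)]
  congr 1
  ext x
  simp only [Set.mem_image, Finset.coe_filter, Set.mem_ofPred_eq, mem_iff hF hω]
  constructor
  · rintro ⟨⟨a, rfl⟩, h⟩
    rw [support_hw hF hω] at h
    exact ⟨a, ⟨mem_univ _, h⟩, rfl⟩
  · rintro ⟨a, ⟨-, h⟩, rfl⟩
    exact ⟨⟨a, rfl⟩, by rw [support_hw hF hω]; exact h⟩

end CfsgLib.Hexa
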