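/-
Monomial symmetries of a code.
-/
import Mathlib
import Cfsg.Prelude.Def_SporadicCombinatorics

set_option autoImplicit false

namespace CfsgLib.Mono

open Cfsg

variable {α F : Type*} [Field F]

/-- The pair `(σ, c)` maps the code into itself. -/
def Keeps (C : Submodule F (α → F)) (σ : Equiv.Perm α) (c : α → Fˣ) : Prop :=
  ∀ x ∈ C, monomialMap σ c x ∈ C

/-- The coordinate permutations occurring. -/
def perms (C : Submodule F (α → F)) : Set (Equiv.Perm α) := {σ | ∃ c, Keeps C σ c}

theorem monomialMap_comp (σ τ : Equiv.Perm α) (c d : α → Fˣ) (x : α → F) :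
    monomialMap σ c (monomialMap τ d x) = monomialMap (σ * τ) (fun i => c i * d (σ.symm i)) x := by
  funext i
  simp [monomialMap, Equiv.Perm.mul_def, mul_assoc]

theorem monomialMap_injective (σ : Equiv.Perm α) (c : α → Fˣ) :
    Function.Injective (monomialMap (F := F) σ c) := by
  intro x y h
  funext i
  have h1 := congrFun h (σ i)
  simpa [monomialMap] using h1

theorem perms_mul {C : Submodule F (α → F)} {σ τ : Equiv.Perm α} (h : σ ∈ perms C) (h' : τ ∈ perms C) :
    σ * τ ∈ perms C := by
  obtain ⟨c, hc⟩ := h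
  obtain ⟨d, hd⟩ := h'
  exact ⟨_, fun x hx => monomialMap_comp σ τ c d x ▸ hc _ (hd x hx)⟩

theorem perms_one (C : Submodule F (α → F)) : (1 : Equiv.Perm α) ∈ perms C := by
  refine ⟨fun _ => 1, fun x hx => ?_⟩
  have : monomialMap (1 : Equiv.Perm α) (fun _ => (1 : Fˣ)) x = x := by
    funext i; simp [monomialMap, Equiv.Perm.one_def]
  rwa [this]

theorem keeps_scale {C : Submodule F (α → F)} {σ : Equiv.Perm α} {c : α → Fˣ} (h : Keeps C σ c) (u : Fˣ) :
    Keeps C σ fun i => u * c i := fun x hx => by
  have : monomialMap σ (fun i => u * c i) x = (u : F) • monomialMap σ c x := by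
    funext i; simp [monomialMap, mul_assoc]
  rw [this]
  exact C.smul_mem _ (h x hx)

theorem keeps_div [Finite α] [Finite F] {C : Submodule F (α → F)} {σ : Equiv.Perm α} {c d : α → Fˣ}
    (hc : Keeps C σ c) (hd : Keeps C σ d) : Keeps C 1 fun i => d i * (c i)⁻¹ := by
  intro y hy
  let f : C → C := fun x => ⟨monomialMap σ c x.1, hc _ x.2⟩
  have hf : Function.Injective f := fun a b h =>
    Subtype.ext (monomialMap_injective σ c (congrArg Subtype.val h))
  obtain ⟨x, hx⟩ := Finite.surjective_of_injective hf ⟨y, hy⟩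
  have hxy : monomialMap σ c x.1 = y := congrArg Subtype.val hx
  rw [← hxy, monomialMap_comp]
  have : (fun i => d i * (c i)⁻¹ * c ((1 : Equiv.Perm α).symm i)) = d := by
    funext i; simp [Equiv.Perm.one_def]
  rw [this, one_mul]
  exact hd _ x.2

/-- The number of symmetries, given that only scalars are diagonal symmetries. -/
theorem natCard_keeps [Finite α] [Finite F] (C : Submodule F (α → F)) (i0 : α)
    (hdiag : ∀ c, Keeps C 1 c → ∀ i, c i = c i0) :
    Nat.card {f : Equiv.Perm α × (α → Fˣ) // Keeps C f.1 f.2} = Nat.card (perms C) * Nat.card Fˣ := by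
  rw [← Nat.card_prod]
  refine Nat.card_eq_of_bijective (fun f => (⟨f.1.1, f.1.2, f.2⟩, f.1.2 i0)) ⟨?_, ?_⟩
  · rintro ⟨⟨σ, c⟩, hc⟩ ⟨⟨τ, d⟩, hd⟩ h
    simp only [Prod.mk.injEq, Subtype.mk.injEq] at h
    obtain ⟨hst, h0⟩ := h
    obtain rfl : σ = τ := congrArg Subtype.val hst
    refine Subtype.ext (Prod.ext rfl (funext fun i => ?_))
    have h1 := hdiag _ (keeps_div hc hd) i
    simp only at h1
    rw [h0, mul_inv_cancel] at h1
    exact (mul_inv_eq_one.mp h1).symm
  · rintro ⟨⟨σ, c, hc⟩, u⟩
    exact ⟨⟨(σ, fun i => u * (c i0)⁻¹ * c i), keeps_scale hc _⟩, by simp⟩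

/-- Membership only needs checking on spanning words. -/
theorem keeps_of_gens {C : Submodule F (α → F)} {s : Set (α → F)} (hs : C = Submodule.span F s)
    {σ : Equiv.Perm α} {c : α → Fˣ} (h : ∀ x ∈ s, monomialMap σ c x ∈ C) : Keeps C σ c := by
  intro x hx
  rw [hs] at hx
  induction hx using Submodule.span_induction with
  | mem y hy => exact h y hy
  | zero =>
    have : monomialMap σ c (0 : α → F) = 0 := by funext i; simp [monomialMap]
    rw [this]; exact C.zero_mem
  | add a b _ _ ha hb =>
    have : monomialMap σ c (a + b) = monomialMap σ c a + monomialMap σ c b := by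
      funext i; simp [monomialMap, mul_add]
    rw [this]; exact C.add_mem ha hb
  | smul r a _ ha =>
    have : monomialMap σ c (r • a) = r • monomialMap σ c a := by
      funext i; simp [monomialMap, mul_left_comm]
    rw [this]; exact C.smul_mem r ha

end CfsgLib.Mono
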