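/-
The monomial symmetries of the hexacode.
-/
import Cfsg.Agent.Golay.Hexacode
import Cfsg.Agent.Golay.Monomial

set_option autoImplicit false

namespace CfsgLib.Hexa

open Cfsg Finset

/-- A systematic basis in codes. -/
def sys : Fin 3 → Fin 6 → Fin 4 := ![![1, 0, 0, 1, 3, 2], ![0, 1, 0, 1, 2, 3], ![0, 0, 1, 1, 1, 1]]

/-- The parity test for code words. -/
def GoodW (x : Fin 6 → Fin 4) : Prop :=
  ∀ i : Fin 6, x i = add4 (add4 (mul4 (x 0) (sys 0 i)) (mul4 (x 1) (sys 1 i))) (mul4 (x 2) (sys 2 i))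

instance (x : Fin 6 → Fin 4) : Decidable (GoodW x) := by unfold GoodW; infer_instance

/-- The image of a spanning word under a monomial map, in codes. -/
def img (σi : Fin 6 → Fin 6) (c : Fin 6 → Fin 3) (j : Fin 3) : Fin 6 → Fin 4 :=
  fun i => mul4 (c i).succ (gens j (σi i))

/-- All three spanning words stay in the code. -/
def Ok (σi : Fin 6 → Fin 6) (c : Fin 6 → Fin 3) : Prop := ∀ j, GoodW (img σi c j)

instance (σi : Fin 6 → Fin 6) (c : Fin 6 → Fin 3) : Decidable (Ok σi c) := by unfold Ok; infer_instance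

theorem word_good : ∀ a, GoodW (word4 a) := by decide +kernel

theorem sys_span : ∀ p q r : Fin 4, ∃ a, ∀ i,
    word4 a i = add4 (add4 (mul4 p (sys 0 i)) (mul4 q (sys 1 i))) (mul4 r (sys 2 i)) := by decide +kernel

theorem diag_check : ∀ c, Ok id c → ∀ i, c i = c 0 := by decide +kernel

theorem swap_check : ∀ c, ¬ Ok (Equiv.swap (0 : Fin 6) 1) c := by decide +kernel

theorem pair_check : ∀ a b : Fin 6, a ≠ b →
    (∃ c, Ok ((Equiv.swap (0 : Fin 6) 1) ∘ (Equiv.swap a b)) c) ∧
      ∃ c, Ok ((Equiv.swap a b) ∘ (Equiv.swap (0 : Fin 6) 1)) c := by decide +kernel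

variable {F : Type*} [Field F] [Fintype F] {ω : F} (hF : Fintype.card F = 4) (hω : ω ^ 2 + ω + 1 = 0)

include hF hω

theorem good_iff (x : Fin 6 → Fin 4) : (fun i => val4 ω (x i)) ∈ hexacode F ω ↔ GoodW x := by
  rw [mem_iff hF hω]
  constructor
  · rintro ⟨a, ha⟩
    have : word4 a = x := funext fun i => val4_injective hF hω (congrFun ha i)
    exact this ▸ word_good a
  · intro h
    obtain ⟨a, ha⟩ := sys_span (x 0) (x 1) (x 2)
    exact ⟨a, funext fun i => congrArg (val4 ω) ((ha i).trans (h i).symm)⟩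

theorem val4_succ_ne (k : Fin 3) : val4 ω k.succ ≠ 0 := fun h =>
  Fin.succ_ne_zero k (val4_injective hF hω (h.trans (show (0 : F) = val4 ω 0 from rfl)))

omit hF hω in
/-- The unit with a given code. -/
noncomputable def unit4 (h : ∀ k : Fin 3, val4 ω k.succ ≠ 0) (k : Fin 3) : Fˣ := Units.mk0 _ (h k)

theorem unit4_surjective : Function.Surjective (unit4 (val4_succ_ne hF hω)) := by
  intro u
  obtain ⟨a, ha⟩ := val4_surjective hF hω (u : F)
  have : a ≠ 0 := fun h => u.ne_zero (ha.symm.trans (by rw [h]; rfl))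
  obtain ⟨k, rfl⟩ := Fin.exists_succ_eq.mpr this
  exact ⟨k, Units.ext ha⟩

theorem keeps_iff (σ : Equiv.Perm (Fin 6)) (c : Fin 6 → Fin 3) :
    Mono.Keeps (hexacode F ω) σ (fun i => unit4 (val4_succ_ne hF hω) (c i)) ↔ Ok σ.symm c := by
  have himg : ∀ j, monomialMap σ (fun i => unit4 (val4_succ_ne hF hω) (c i)) (fun i => val4 ω (gens j i)) =
      fun i => val4 ω (img σ.symm c j i) := fun j => by
    funext i; simp [monomialMap, unit4, img, val4_mul hF hω]
  constructor
  · intro h j
    rw [← good_iff hF hω, ← himg]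
    refine h _ ((mem_iff hF hω _).mpr ?_)
    have key : ∀ j : Fin 3, ∃ a, ∀ i, word4 a i = gens j i := by decide +kernel
    obtain ⟨a, ha⟩ := key j
    exact ⟨a, funext fun i => congrArg (val4 ω) (ha i)⟩
  · intro h
    refine Mono.keeps_of_gens rfl ?_
    intro x hx
    simp only [Set.mem_insert_iff, Set.mem_singleton_iff] at hx
    have hh : ∀ j, monomialMap σ (fun i => unit4 (val4_succ_ne hF hω) (c i))
        (fun i => val4 ω (gens j i)) ∈ hexacode F ω := fun j => by
      rw [himg, good_iff hF hω]; exact h j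
    rcases hx with rfl | rfl | rfl
    · have h0 := hh 0
      rw [show (fun i => val4 ω (gens 0 i)) = ![ω, ω ^ 2, ω ^ 2, ω, ω ^ 2, ω] from by funext i; fin_cases i <;> rfl] at h0
      exact h0
    · have h0 := hh 1
      rw [show (fun i => val4 ω (gens 1 i)) = ![ω ^ 2, ω, ω, ω ^ 2, ω ^ 2, ω] from by funext i; fin_cases i <;> rfl] at h0
      exact h0
    · have h0 := hh 2
      rw [show (fun i => val4 ω (gens 2 i)) = ![ω ^ 2, ω, ω ^ 2, ω, ω, ω ^ 2] from by funext i; fin_cases i <;> rfl] at h0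
      exact h0

theorem mem_perms_iff (σ : Equiv.Perm (Fin 6)) :
    σ ∈ Mono.perms (hexacode F ω) ↔ ∃ c, Ok σ.symm c := by
  constructor
  · rintro ⟨c, hc⟩
    choose k hk using fun i => unit4_surjective hF hω (c i)
    exact ⟨k, (keeps_iff hF hω σ k).mp (by rwa [funext hk])⟩
  · rintro ⟨c, hc⟩
    exact ⟨_, (keeps_iff hF hω σ c).mpr hc⟩

theorem diag_scalar (c : Fin 6 → Fˣ) (hc : Mono.Keeps (hexacode F ω) 1 c) (i : Fin 6) : c i = c 0 := by
  choose k hk using fun i => unit4_surjective hF hω (c i)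
  have h := diag_check k ((keeps_iff hF hω 1 k).mp (by rwa [funext hk])) i
  rw [← hk i, ← hk 0, h]

theorem perms_eq : Mono.perms (hexacode F ω) = (alternatingGroup (Fin 6) : Set (Equiv.Perm (Fin 6))) := by
  set H := Mono.perms (hexacode F ω)
  set s : Equiv.Perm (Fin 6) := Equiv.swap 0 1
  have hpair : ∀ a b : Fin 6, a ≠ b → Equiv.swap a b * s ∈ H ∧ s * Equiv.swap a b ∈ H := by
    intro a b hab
    obtain ⟨h1, h2⟩ := pair_check a b hab
    exact ⟨(mem_perms_iff hF hω _).mpr h1, (mem_perms_iff hF hω _).mpr h2⟩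
  have hns : s ∉ H := fun h => by
    obtain ⟨c, hc⟩ := (mem_perms_iff hF hω _).mp h
    exact swap_check c hc
  have key : ∀ σ : Equiv.Perm (Fin 6), (Equiv.Perm.sign σ = 1 → σ ∈ H) ∧
      (Equiv.Perm.sign σ = -1 → σ * s ∈ H) := by
    intro σ
    induction σ using Equiv.Perm.swap_induction_on' with
    | one => exact ⟨fun _ => Mono.perms_one _, fun h => absurd h (by simp)⟩
    | mul_swap f x y hxy ih =>
      refine ⟨fun h => ?_, fun h => ?_⟩
      · rw [Equiv.Perm.sign_mul, Equiv.Perm.sign_swap hxy, mul_neg, mul_one, neg_eq_iff_eq_neg] at h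
        have := Mono.perms_mul (ih.2 h) (hpair x y hxy).2
        rwa [mul_assoc, ← mul_assoc s s, Equiv.swap_mul_self, one_mul] at this
      · rw [Equiv.Perm.sign_mul, Equiv.Perm.sign_swap hxy, mul_neg, mul_one, neg_inj] at h
        have := Mono.perms_mul (ih.1 h) (hpair x y hxy).1
        rwa [← mul_assoc] at this
  ext σ
  rw [SetLike.mem_coe, Equiv.Perm.mem_alternatingGroup]
  refine ⟨fun h => ?_, (key σ).1⟩
  rcases Int.units_eq_one_or (Equiv.Perm.sign σ) with h1 | h1
  · exact h1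
  · exfalso
    have hinv : σ⁻¹ ∈ H := by
      have hp : ∀ n, σ ^ n ∈ H := fun n => by
        induction n with
        | zero => exact Mono.perms_one _
        | succ n ihn => exact pow_succ σ n ▸ Mono.perms_mul ihn h
      have : σ⁻¹ = σ ^ (orderOf σ - 1) := by
        rw [inv_eq_iff_mul_eq_one, ← pow_succ', Nat.sub_add_cancel (orderOf_pos σ), pow_orderOf_eq_one]
      rw [this]; exact hp _
    have := Mono.perms_mul hinv ((key σ).2 h1)
    rw [inv_mul_cancel_left] at this
    exact hns this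

theorem natCard_aut : Nat.card {f : Equiv.Perm (Fin 6) × (Fin 6 → Fˣ) //
    Mono.Keeps (hexacode F ω) f.1 f.2} = 1080 := by
  classical
  rw [Mono.natCard_keeps _ 0 (diag_scalar hF hω), perms_eq hF hω, Nat.card_units,
    Nat.card_eq_fintype_card (α := F), hF]
  rw [SetLike.coe_sort_coe, nat_card_alternatingGroup]
  simp [Nat.factorial]

end CfsgLib.Hexa
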