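/-
The group of fractional linear maps of the projective line over 23 points is maximal in the group
of the code: Sylow counting at 23 and 11 inside a point stabiliser.
-/
import Cfsg.Agent.Golay.IndexPoint
import Cfsg.Agent.Golay.PrimeCounts
import Cfsg.Agent.Golay.M24Basics

set_option autoImplicit false

namespace CfsgLib.Golay.LineMax

open Cfsg CfsgLib.Golay CfsgLib.Golay.Cert MulAction
open scoped Pointwise

theorem fix_zpow {u : M24} {q : GolayPt} (h : (u : Equiv.Perm GolayPt) q = q) (k : ℤ) :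
    ((u ^ k : M24) : Equiv.Perm GolayPt) q = q := by
  have : u ∈ stabilizer M24 q := h
  exact zpow_mem this k

theorem fix_of_zpow {u : M24} {p : ℕ} (hp : p.Prime) (hu : orderOf u = p) {q : GolayPt} {s : ℤ}
    (hs : ¬ (p : ℤ) ∣ s) (h : ((u ^ s : M24) : Equiv.Perm GolayPt) q = q) :
    (u : Equiv.Perm GolayPt) q = q := by
  obtain ⟨a, b, hab⟩ := ((Nat.prime_iff_prime_int.mp hp).coprime_iff_not_dvd.mpr hs)
  have h2 : u ^ (p : ℤ) = 1 := by rw [zpow_natCast, ← hu, pow_orderOf_eq_one]
  have h3 := fix_zpow h b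
  rwa [← zpow_mul, show s * b = 1 + (p : ℤ) * (-a) by linarith, zpow_add, zpow_mul u (p : ℤ),
    h2, one_zpow, mul_one, zpow_one] at h3

/-- An involution of a point stabiliser normalises no subgroup of large prime order without
centralising it. -/
theorem no_inverting {u c : M24} {p : ℕ} (hp : p.Prime) (h11 : 11 ≤ p) (hu : orderOf u = p)
    (hU : (fixedPts (u : Equiv.Perm GolayPt)).card ≤ 2) (hc : orderOf c = 2) {e : GolayPt}
    (hce : (c : Equiv.Perm GolayPt) e = e) (hnorm : c * u * c⁻¹ ∈ Subgroup.zpowers u)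
    (hne : c * u ≠ u * c) : False := by
  classical
  obtain ⟨k, hk⟩ := Subgroup.mem_zpowers_iff.mp hnorm
  have hk1 : ¬ (p : ℤ) ∣ k - 1 := by
    rintro hd
    apply hne
    have : u ^ k = u ^ (1 : ℤ) := by
      rw [← orderOf_dvd_sub_iff_zpow_eq_zpow, hu]; exact hd
    rw [zpow_one] at this
    rw [this] at hk
    exact (eq_mul_inv_iff_mul_eq.mp hk).symm
  set F := fixedPts (c : Equiv.Perm GolayPt) with hF
  set U := fixedPts (u : Equiv.Perm GolayPt) with hUdef
  have hF8 : F.card = 8 := by
    obtain ⟨-, ⟨-, -, h8⟩ | ⟨-, h0⟩⟩ := two_cases hc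
    · exact h8
    · exfalso
      have he : e ∈ F := by simp [hF, fixedPts, hce]
      have h0' : F.card = 0 := h0
      rw [Finset.card_eq_zero] at h0'
      simp [h0'] at he
  -- translates of distinct points fixed by `c` and moved by `u` are distinct
  have hinj : Set.InjOn (fun x : GolayPt × Fin p => ((u ^ ((x.2 : ℕ) : ℤ) : M24) : Equiv.Perm GolayPt) x.1)
      (((F \ U) ×ˢ (Finset.univ : Finset (Fin p))) : Finset (GolayPt × Fin p)) := by
    rintro ⟨q, i⟩ hq ⟨q', j⟩ hq' heq
    simp only [Finset.coe_product, Set.mem_prod, Finset.mem_coe, Finset.mem_sdiff, Finset.mem_univ,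
      and_true] at hq hq'
    simp only at heq
    set l : ℤ := ((i : ℕ) : ℤ) - ((j : ℕ) : ℤ) with hl
    have hq'l : ((u ^ l : M24) : Equiv.Perm GolayPt) q = q' := by
      have h := congrArg (((u ^ (-((j : ℕ) : ℤ)) : M24)) : Equiv.Perm GolayPt) heq
      rw [← Equiv.Perm.mul_apply, ← Subgroup.coe_mul, ← zpow_add, ← Equiv.Perm.mul_apply,
        ← Subgroup.coe_mul, ← zpow_add, neg_add_cancel, zpow_zero] at h
      rw [hl, sub_eq_neg_add]
      exact h
    have hcq : (c : Equiv.Perm GolayPt) q = q := by simpa [hF, fixedPts] using hq.1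
    have hcq' : (c : Equiv.Perm GolayPt) q' = q' := by simpa [hF, fixedPts] using hq'.1
    have hconj : c * u ^ l = u ^ (k * l) * c := by
      rw [zpow_mul, hk, conj_zpow]
      simp [mul_assoc]
    have h1 : ((u ^ (k * l) : M24) : Equiv.Perm GolayPt) q = q' := by
      have := congrArg (fun z : M24 => (z : Equiv.Perm GolayPt) q) hconj
      simp only [Subgroup.coe_mul, Equiv.Perm.mul_apply, hcq, hq'l, hcq'] at this
      exact this.symm
    have h2 : ((u ^ ((k - 1) * l) : M24) : Equiv.Perm GolayPt) q = q := by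
      apply ((u ^ l : M24) : Equiv.Perm GolayPt).injective
      rw [← Equiv.Perm.mul_apply, ← Subgroup.coe_mul, ← zpow_add,
        show l + (k - 1) * l = k * l by ring, h1, hq'l]
    by_cases hpl : (p : ℤ) ∣ l
    · have hij : i = j := by
        have hi := i.2
        have hj := j.2
        have hz : l = 0 := Int.eq_zero_of_dvd_of_natAbs_lt_natAbs hpl (by omega)
        exact Fin.ext (by omega)
      subst hij
      rw [hl, sub_self, zpow_zero] at hq'l
      rw [show q = q' from hq'l]
    · exfalso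
      apply hq.2
      simp only [hUdef, fixedPts, Finset.mem_filter, Finset.mem_univ, true_and]
      refine fix_of_zpow hp hu ?_ h2
      intro hd
      rcases (Nat.prime_iff_prime_int.mp hp).dvd_mul.mp hd with h | h
      · exact hk1 h
      · exact hpl h
  have hcard := Finset.card_le_card_of_injOn _ (t := (Finset.univ : Finset GolayPt))
    (fun x _ => Finset.mem_coe.mpr (Finset.mem_univ _)) hinj
  rw [Finset.card_product, Finset.card_univ, Finset.card_univ, Fintype.card_fin, card_golayPt] at hcard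
  have hsd : F.card - U.card ≤ (F \ U).card := Finset.le_card_sdiff _ _
  have h6 : 6 ≤ (F \ U).card := by omega
  nlinarith [Nat.mul_le_mul h6 h11]

theorem fixed_twentythree {u : M24} (hu : orderOf u = 23) :
    (fixedPts (u : Equiv.Perm GolayPt)).card ≤ 2 := by
  have h := card_inv_mod (by norm_num : Nat.Prime 23) (pow_coe_eq_one (hu ▸ pow_orderOf_eq_one u))
    Finset.univ (fun p _ => Finset.mem_univ _)
  rw [Finset.card_univ, card_golayPt] at h
  set F := fixedPts (u : Equiv.Perm GolayPt) with hF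
  change 24 % 23 = F.card % 23 at h
  have hle : F.card ≤ 24 := by rw [← card_golayPt]; exact Finset.card_le_univ _
  have hne : F.card ≠ 24 := fun h' => by
    have hall : F = Finset.univ := Finset.eq_univ_of_card _ (by rw [h', card_golayPt])
    have : u = 1 := eq_one_of_small (S := ∅) (by simp) fun p _ => by
      have := Finset.mem_univ p
      rw [← hall] at this
      simpa [hF, fixedPts] using this
    rw [this, orderOf_one] at hu
    norm_num at hu
  omega

theorem twentythree_centralizer {u c : M24} (hu : orderOf u = 23) (hc : c * u = u * c) {q : ℕ}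
    (hq : q.Prime) (hcq : orderOf c = q) : q = 23 := by
  haveI : Fact (Nat.Prime 23) := ⟨by norm_num⟩
  obtain ⟨x, y, hx, -, ho, -⟩ := pairOK_spec pairs_ok.2.2.2.1
  have hle := card_centralizer_le hx bounds_ok.2.2.2
  rw [← card_centralizer_eq (by rw [card_M24]; norm_num) ho hu] at hle
  have h1 := dvd_centralizer_of_mem (x := u) (z := u) (Subgroup.mem_centralizer_singleton_iff.2 rfl)
  rw [hu] at h1
  have h2 := dvd_centralizer_of_mem (x := u) (z := c) (Subgroup.mem_centralizer_singleton_iff.2 hc)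
  rw [hcq] at h2
  have hpos := Nat.card_pos (α := Subgroup.centralizer ({u} : Set M24))
  have h := Nat.le_of_dvd hpos h1
  rw [show Nat.card (Subgroup.centralizer ({u} : Set M24)) = 23 by omega] at h2
  exact (Nat.prime_dvd_prime_iff_eq hq (by norm_num)).mp h2

/-- The Sylow numerics at a large prime in a point stabiliser. -/
theorem sylow_data {J : Subgroup M24} {e : GolayPt} (hJ : J ≤ stabilizer M24 e) {p : ℕ} [hp : Fact p.Prime]
    (h11 : 11 ≤ p) (hsq : ¬ p ^ 2 ∣ Nat.card J) (u : J) (hu : orderOf u = p)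
    (hfix : ∀ v : M24, orderOf v = p → (fixedPts (v : Equiv.Perm GolayPt)).card ≤ 2)
    (hcent : ∀ c : M24, (c : Equiv.Perm GolayPt) e = e → c * u.1 = u.1 * c → ∀ q : ℕ, q.Prime →
      orderOf c = q → q = p) :
    ∃ m i : ℕ, m ∣ p - 1 ∧ ¬ 2 ∣ m ∧ i % p = 1 ∧ p * m * i = Nat.card J ∧
      Nat.card (Subgroup.normalizer (Subgroup.zpowers u : Set J)) = p * m := by
  set P := Subgroup.zpowers u with hP
  have hPc : Nat.card P = p := (Nat.card_zpowers u).trans hu
  have hpd : p ∣ Nat.card J := hu ▸ orderOf_dvd_natCard u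
  have hfac : (Nat.card J).factorization p = 1 := by
    have h1 : 1 ≤ (Nat.card J).factorization p := hp.out.factorization_pos_of_dvd Nat.card_pos.ne' hpd
    have h2 : ¬ 2 ≤ (Nat.card J).factorization p := fun h =>
      hsq ((hp.out.pow_dvd_iff_le_factorization Nat.card_pos.ne').mpr h)
    omega
  let S : Sylow p J := Sylow.ofCard P (by rw [hPc, hfac, pow_one])
  have hn := card_sylow_modEq_one p J
  rw [Sylow.card_eq_index_normalizer S] at hn
  have hi := (Subgroup.normalizer (P : Set J)).card_mul_index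
  change (Subgroup.normalizer (P : Set J)).index % p = 1 % p at hn
  rw [Nat.one_mod_eq_one.mpr (by omega)] at hn
  have hC : Nat.card (Subgroup.centralizer (P : Set J)) = p := by
    set C := Subgroup.centralizer (P : Set J) with hCdef
    have hPC : P ≤ C := by
      intro x hx
      rw [hCdef, Subgroup.mem_centralizer_iff]
      intro y hy
      obtain ⟨m, rfl⟩ := Subgroup.mem_zpowers_iff.mp hx
      obtain ⟨n, rfl⟩ := Subgroup.mem_zpowers_iff.mp hy
      exact (zpow_mul_comm u n m)
    have hprime : ∀ q, q.Prime → q ∣ Nat.card C → q = p := by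
      intro q hq hd
      haveI := Fact.mk hq
      obtain ⟨c, hc⟩ := exists_prime_orderOf_dvd_card' (G := C) q hd
      refine hcent c.1.1 (hJ c.1.2) ?_ q hq ?_
      · exact congrArg Subtype.val (Subgroup.mem_centralizer_iff.mp c.2 u (Subgroup.mem_zpowers u)).symm
      · rw [Subgroup.orderOf_coe, Subgroup.orderOf_coe]; exact hc
    have hpow := Nat.eq_prime_pow_of_unique_prime_dvd Nat.card_pos.ne' fun {d} hd hd' => hprime d hd hd'
    have h1 : p ∣ Nat.card C := hPc ▸ Subgroup.card_dvd_of_le hPC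
    have h2 : Nat.card C ∣ Nat.card J := Subgroup.card_subgroup_dvd_card C
    generalize (Nat.card C).primeFactorsList.length = k at hpow
    match k, hpow with
    | 0, hpow => rw [hpow, pow_zero] at h1; exact absurd (Nat.dvd_one.mp h1) hp.out.one_lt.ne'
    | 1, hpow => rw [hpow, pow_one]
    | k + 2, hpow =>
      rw [hpow] at h2
      exact absurd ((Nat.pow_dvd_pow p (by omega : 2 ≤ k + 2)).trans h2) hsq
  have hN := Subgroup.card_eq_card_quotient_mul_card_subgroup P.normalizerMonoidHom.ker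
  rw [Nat.card_congr (QuotientGroup.quotientKerEquivRange P.normalizerMonoidHom).toEquiv,
    Subgroup.normalizerMonoidHom_ker,
    Nat.card_congr (Subgroup.subgroupOfEquivOfLe (Subgroup.centralizer_le_normalizer (P : Set J))).toEquiv, hC] at hN
  haveI : IsCyclic P := by rw [hP]; infer_instance
  have hr : Nat.card P.normalizerMonoidHom.range ∣ p - 1 := by
    refine (Subgroup.card_subgroup_dvd_card _).trans ?_
    rw [IsCyclic.card_mulAut, hPc, Nat.totient_prime hp.out]
  refine ⟨_, _, hr, ?_, hn, ?_, by rw [hN, mul_comm]⟩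
  · intro h2
    have h2N : 2 ∣ Nat.card (Subgroup.normalizer (P : Set J)) := hN ▸ h2.mul_right p
    obtain ⟨c, hc⟩ := exists_prime_orderOf_dvd_card' (G := Subgroup.normalizer (P : Set J)) 2 h2N
    have hco : orderOf c.1.1 = 2 := by rw [Subgroup.orderOf_coe, Subgroup.orderOf_coe, hc]
    have huo : orderOf u.1 = p := by rw [Subgroup.orderOf_coe, hu]
    refine no_inverting hp.out h11 huo (hfix _ huo) hco (hJ c.1.2) ?_ ?_
    · obtain ⟨k, hk⟩ := Subgroup.mem_zpowers_iff.mp
        ((Subgroup.mem_normalizer_iff.mp c.2 u).mp (Subgroup.mem_zpowers u))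
      exact Subgroup.mem_zpowers_iff.mpr ⟨k, congrArg Subtype.val hk⟩
    · intro hcomm
      have := hcent c.1.1 (hJ c.1.2) hcomm 2 Nat.prime_two hco
      omega
  · rw [← hi, hN]; ring

/-- The affine maps. -/
def aff (u : (ZMod 23)ˣ) (b : ZMod 23) : Equiv.Perm GolayPt :=
  Equiv.optionCongr (Equiv.addRight b) * Equiv.optionCongr (Units.mulLeft u)

theorem aff_some (u : (ZMod 23)ˣ) (b x : ZMod 23) : aff u b (some x) = some ((u : ZMod 23) * x + b) := rfl

theorem aff_none (u : (ZMod 23)ˣ) (b : ZMod 23) : aff u b none = none := rfl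

theorem aff_mul (u v : (ZMod 23)ˣ) (b c : ZMod 23) :
    aff u b * aff v c = aff (u * v) ((u : ZMod 23) * c + b) := by
  ext (_ | x)
  · rfl
  · simp only [Equiv.Perm.mul_apply, aff_some, Units.val_mul]
    rw [mul_add, mul_assoc, add_assoc]

theorem aff_one_zero : aff 1 0 = 1 := by
  ext (_ | x)
  · rfl
  · simp [aff_some]

theorem aff_inj {u v : (ZMod 23)ˣ} {b c : ZMod 23} (h : aff u b = aff v c) : u = v ∧ b = c := by
  have h0 := congrArg (fun g : Equiv.Perm GolayPt => g (some 0)) h
  have h1 := congrArg (fun g : Equiv.Perm GolayPt => g (some 1)) h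
  simp only [aff_some, mul_zero, zero_add, mul_one, Option.some.injEq] at h0 h1
  subst h0
  exact ⟨Units.ext (add_right_cancel h1), rfl⟩

/-- The generators of the Frobenius group. -/
def affGens : Set (Equiv.Perm GolayPt) :=
  {Equiv.optionCongr (Equiv.addRight (1 : ZMod 23))} ∪
    {g | ∃ u : (ZMod 23)ˣ, IsSquare u ∧ g = Equiv.optionCongr (Units.mulLeft u)}

theorem translation_eq : Equiv.optionCongr (Equiv.addRight (1 : ZMod 23)) = aff 1 1 := by
  ext (_ | x)
  · rfl
  · simp [aff_some]

theorem mulLeft_eq (u : (ZMod 23)ˣ) : Equiv.optionCongr (Units.mulLeft u) = aff u 0 := by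
  ext (_ | x)
  · rfl
  · simp [aff_some]

/-- The Frobenius group of order 253. -/
def affSq : Subgroup (Equiv.Perm GolayPt) := Subgroup.closure affGens

theorem aff_pow (n : ℕ) : (aff 1 1) ^ n = aff 1 (n : ZMod 23) := by
  induction n with
  | zero => rw [pow_zero, Nat.cast_zero, aff_one_zero]
  | succ n ih => rw [pow_succ, ih, aff_mul, one_mul, Units.val_one, one_mul, Nat.cast_succ, add_comm]

theorem mem_affSq {g : Equiv.Perm GolayPt} :
    g ∈ affSq ↔ ∃ u : (ZMod 23)ˣ, IsSquare u ∧ ∃ b : ZMod 23, g = aff u b := by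
  constructor
  · intro hg
    refine Subgroup.closure_induction (p := fun g _ => ∃ u : (ZMod 23)ˣ, IsSquare u ∧ ∃ b : ZMod 23, g = aff u b)
      ?_ ?_ ?_ ?_ hg
    · rintro g (rfl | ⟨u, hu, rfl⟩)
      · exact ⟨1, IsSquare.one, 1, translation_eq⟩
      · exact ⟨u, hu, 0, mulLeft_eq u⟩
    · exact ⟨1, IsSquare.one, 0, aff_one_zero.symm⟩
    · rintro g h - - ⟨u, hu, b, rfl⟩ ⟨v, hv, c, rfl⟩
      exact ⟨u * v, hu.mul hv, _, aff_mul u v b c⟩
    · rintro g - ⟨u, hu, b, rfl⟩
      refine ⟨u⁻¹, hu.inv, -(((u⁻¹ : (ZMod 23)ˣ) : ZMod 23) * b), inv_eq_of_mul_eq_one_right ?_⟩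
      rw [aff_mul, mul_inv_cancel, mul_neg, ← mul_assoc, ← Units.val_mul, mul_inv_cancel,
        Units.val_one, one_mul, neg_add_cancel, aff_one_zero]
  · rintro ⟨u, hu, b, rfl⟩
    have h : aff u b = aff 1 ((b.val : ℕ) : ZMod 23) * aff u 0 := by
      rw [aff_mul, one_mul, mul_zero, zero_add, ZMod.natCast_zmod_val]
    rw [h, ← aff_pow, ← translation_eq, ← mulLeft_eq]
    have h1 : Equiv.optionCongr (Equiv.addRight (1 : ZMod 23)) ∈ affSq := Subgroup.subset_closure (Or.inl rfl)
    have h2 : Equiv.optionCongr (Units.mulLeft u) ∈ affSq := Subgroup.subset_closure (Or.inr ⟨u, hu, rfl⟩)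
    exact mul_mem (pow_mem h1 _) h2

theorem card_squares : Nat.card {u : (ZMod 23)ˣ // IsSquare u} = 11 := by
  rw [Nat.card_eq_fintype_card]; decide +kernel

theorem card_affSq : Nat.card affSq = 253 := by
  let f : {u : (ZMod 23)ˣ // IsSquare u} × ZMod 23 → affSq :=
    fun x => ⟨aff x.1.1 x.2, mem_affSq.mpr ⟨x.1.1, x.1.2, x.2, rfl⟩⟩
  have hf : Function.Bijective f := by
    refine ⟨fun x y h => ?_, fun g => ?_⟩
    · obtain ⟨h1, h2⟩ := aff_inj (congrArg Subtype.val h)
      exact Prod.ext (Subtype.ext h1) h2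
    · obtain ⟨u, hu, b, h⟩ := mem_affSq.mp g.2
      exact ⟨(⟨u, hu⟩, b), Subtype.ext h.symm⟩
  rw [← Nat.card_eq_of_bijective f hf, Nat.card_prod, card_squares, Nat.card_zmod]

theorem affSq_le : affSq ≤ M24 := by
  rw [affSq, Subgroup.closure_le]
  rintro g (rfl | ⟨u, hu, rfl⟩)
  exacts [translation_mem, mul_square_mem u hu]

theorem affSq_fix {g : Equiv.Perm GolayPt} (hg : g ∈ affSq) : g none = none := by
  obtain ⟨u, -, b, rfl⟩ := mem_affSq.mp hg
  rfl

/-- A subgroup of the stabiliser of the extra point containing the Frobenius group is small or full. -/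
theorem point_overgroup {J : Subgroup M24} (hB : affSq.subgroupOf M24 ≤ J)
    (hJ : J ≤ stabilizer M24 (none : GolayPt)) : Nat.card J = 253 ∨ Nat.card J = 10200960 := by
  have hBc : Nat.card (affSq.subgroupOf M24) = 253 := by
    rw [Nat.card_congr (Subgroup.subgroupOfEquivOfLe affSq_le).toEquiv, card_affSq]
  obtain ⟨n, hn⟩ : 253 ∣ Nat.card J := hBc ▸ Subgroup.card_dvd_of_le hB
  have hdvd : Nat.card J ∣ 10200960 := card_stab_point none ▸ Subgroup.card_dvd_of_le hJ
  have hn' : n ∣ 40320 := by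
    rw [hn, show (10200960 : ℕ) = 253 * 40320 by norm_num] at hdvd
    exact Nat.dvd_of_mul_dvd_mul_left (by norm_num) hdvd
  haveI : Fact (Nat.Prime 23) := ⟨by norm_num⟩
  haveI : Fact (Nat.Prime 11) := ⟨by norm_num⟩
  have hsq23 : ¬ 23 ^ 2 ∣ Nat.card J := fun h => absurd (h.trans hdvd) (by norm_num)
  have hsq11 : ¬ 11 ^ 2 ∣ Nat.card J := fun h => absurd (h.trans hdvd) (by norm_num)
  have htB : aff 1 1 ∈ affSq := mem_affSq.mpr ⟨1, IsSquare.one, 1, rfl⟩
  let t : J := ⟨⟨aff 1 1, affSq_le htB⟩, hB htB⟩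
  have ht : orderOf t = 23 := by
    rw [← Subgroup.orderOf_coe, ← Subgroup.orderOf_coe]
    show orderOf (aff 1 1) = 23
    refine orderOf_eq_prime ?_ ?_
    · rw [aff_pow, ← aff_one_zero]; congr 1
    · intro h
      rw [← aff_one_zero] at h
      exact (one_ne_zero (α := ZMod 23)) (aff_inj h).2
  obtain ⟨m, i, hm, hm2, hi, hmi, hN⟩ := sylow_data hJ (by norm_num) hsq23 t ht
    (fun v hv => fixed_twentythree hv) (fun c _ hc q hq hcq => twentythree_centralizer
      (by rw [Subgroup.orderOf_coe, ht]) hc hq hcq)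
  have h11m : 11 ∣ m := by
    have hle : (affSq.subgroupOf M24).subgroupOf J ≤
        Subgroup.normalizer (Subgroup.zpowers t : Set J) := by
      intro g hg
      obtain ⟨u, hu, b, hgv⟩ := mem_affSq.mp (Subgroup.mem_subgroupOf.mp (Subgroup.mem_subgroupOf.mp hg))
      apply Subgroup.mem_normalizer_fintype
      intro z hz
      obtain ⟨k, rfl⟩ := Subgroup.mem_zpowers_iff.mp hz
      rw [← conj_zpow]
      refine zpow_mem ?_ k
      refine Subgroup.mem_zpowers_iff.mpr ⟨((u : ZMod 23).val : ℤ), ?_⟩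
      rw [zpow_natCast, eq_mul_inv_iff_mul_eq]
      apply Subtype.ext; apply Subtype.ext
      simp only [Subgroup.coe_mul, SubmonoidClass.coe_pow, t, hgv]
      rw [aff_pow, aff_mul, aff_mul, one_mul, mul_one, ZMod.natCast_zmod_val, Units.val_one, one_mul,
        mul_one, add_comm]
    have h := Subgroup.card_dvd_of_le hle
    rw [Nat.card_congr (Subgroup.subgroupOfEquivOfLe hB).toEquiv, hBc, hN,
      show (253 : ℕ) = 23 * 11 by norm_num] at h
    exact Nat.dvd_of_mul_dvd_mul_left (by norm_num) h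
  have hm11 : m = 11 := by
    obtain ⟨a, rfl⟩ := h11m
    have : 11 * a ≤ 22 := Nat.le_of_dvd (by norm_num) hm
    have : a ≤ 2 := by omega
    interval_cases a <;> simp_all
  subst hm11
  obtain ⟨w, hw⟩ := exists_prime_orderOf_dvd_card' (G := J) 11 (hn ▸ Dvd.dvd.mul_right (by norm_num) n)
  obtain ⟨m', i', hm', hm2', hi', hmi', -⟩ := sylow_data hJ (by norm_num) hsq11 w hw
    (fun v hv => (fixed_eleven hv).le) (fun c hc hcw q hq hcq => eleven_centralizer
      (by rw [Subgroup.orderOf_coe, hw]) (hJ w.2) hc hcw hq hcq)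
  have hm15 : m' = 1 ∨ m' = 5 := by
    have : m' ≤ 10 := Nat.le_of_dvd (by norm_num) hm'
    interval_cases m' <;> simp_all
  have hnpos : n ∈ (40320 : ℕ).divisors := Nat.mem_divisors.mpr ⟨hn', by norm_num⟩
  have key : ∀ d ∈ (40320 : ℕ).divisors, d % 23 = 1 →
      ((23 * d) % 11 = 1 ∨ (23 * d % 5 = 0 ∧ 23 * d / 5 % 11 = 1)) → d = 1 ∨ d = 40320 := by
    decide +kernel
  have hin : i = n := by omega
  rcases key n hnpos (hin ▸ hi) (by rcases hm15 with rfl | rfl <;> omega) with rfl | rfl
  · left; omega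
  · right; omega

/-- The generators of the projective group. -/
def lineGens : Set (Equiv.Perm GolayPt) :=
  {Equiv.optionCongr (Equiv.addRight (1 : ZMod 23)), projInv} ∪
    {g | ∃ u : (ZMod 23)ˣ, IsSquare u ∧ g = Equiv.optionCongr (Units.mulLeft u)}

/-- The projective special linear group of the line. -/
def lineGroup : Subgroup (Equiv.Perm GolayPt) := Subgroup.closure lineGens

theorem affSq_le_line : affSq ≤ lineGroup := by
  refine Subgroup.closure_mono ?_
  rintro g (rfl | h)
  · exact Or.inl (Or.inl rfl)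
  · exact Or.inr h

theorem projInv_mem_line : projInv ∈ lineGroup := Subgroup.subset_closure (Or.inl (Or.inr rfl))

theorem lineGroup_le : lineGroup ≤ M24 := by
  rw [lineGroup, Subgroup.closure_le]
  rintro g ((rfl | rfl) | ⟨u, hu, rfl⟩)
  exacts [translation_mem, projInv_mem, mul_square_mem u hu]

theorem projInv_sq : projInv * projInv = 1 := by
  refine Equiv.ext fun x => ?_
  revert x
  decide +kernel

theorem inv_affine_table : ∀ c : ZMod 23, c ≠ 0 → ∀ x : GolayPt,
    projInvFun ((projInvFun x).map (· + c)) =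
      ((projInvFun (x.map (· + -(c ^ 21)))).map ((c ^ 21 * c ^ 21) * ·)).map (· + -(c ^ 21)) := by
  decide +kernel

theorem inv_mul_table : ∀ v : ZMod 23, v ≠ 0 → ∀ x : GolayPt,
    projInvFun (x.map (v * ·)) = (projInvFun x).map (v ^ 21 * ·) := by
  decide +kernel

theorem aff_apply (u : (ZMod 23)ˣ) (b : ZMod 23) (x : GolayPt) :
    aff u b x = (x.map ((u : ZMod 23) * ·)).map (· + b) := by cases x <;> rfl

theorem aff_one_apply (b : ZMod 23) (x : GolayPt) : aff 1 b x = x.map (· + b) := by
  cases x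
  · rfl
  · rw [aff_some, Units.val_one, one_mul]; rfl

theorem aff_zero_apply (u : (ZMod 23)ˣ) (x : GolayPt) : aff u 0 x = x.map ((u : ZMod 23) * ·) := by
  cases x
  · rfl
  · rw [aff_some, add_zero]; rfl

theorem inv_translation {c : ZMod 23} (hc : c ≠ 0) :
    ∃ (u : (ZMod 23)ˣ) (_ : IsSquare u) (b b' : ZMod 23),
      projInv * aff 1 c * projInv = aff u b * projInv * aff 1 b' := by
  haveI : Fact (Nat.Prime 23) := ⟨by norm_num⟩
  refine ⟨Units.mk0 c hc ^ 21 * Units.mk0 c hc ^ 21, ⟨_, rfl⟩, -(c ^ 21), -(c ^ 21), Equiv.ext fun x => ?_⟩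
  simp only [Equiv.Perm.mul_apply, aff_one_apply]
  simp only [aff_apply, Units.val_mul, Units.val_pow_eq_pow_val, Units.val_mk0]
  exact inv_affine_table c hc x

theorem inv_square (v : (ZMod 23)ˣ) : projInv * aff v 0 = aff (v ^ 21) 0 * projInv := by
  haveI : Fact (1 < 23) := ⟨by norm_num⟩
  refine Equiv.ext fun x => ?_
  simp only [Equiv.Perm.mul_apply, aff_zero_apply, Units.val_pow_eq_pow_val]
  exact inv_mul_table v (Units.ne_zero v) x

/-- The two Bruhat cells. -/
def cells : Set (Equiv.Perm GolayPt) :=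
  (affSq : Set (Equiv.Perm GolayPt)) ∪ {g | ∃ a ∈ affSq, ∃ c : ZMod 23, g = a * projInv * aff 1 c}

theorem cells_mul {g h : Equiv.Perm GolayPt} (hg : g ∈ cells) (hh : h ∈ lineGens) : g * h ∈ cells := by
  have hT : aff 1 1 ∈ affSq := mem_affSq.mpr ⟨1, IsSquare.one, 1, rfl⟩
  rcases hg with hg | ⟨a, ha, c, rfl⟩
  · rcases hh with (rfl | rfl) | ⟨v, hv, rfl⟩
    · exact Or.inl (mul_mem hg (translation_eq ▸ hT))
    · exact Or.inr ⟨g, hg, 0, by rw [aff_one_zero, mul_one]⟩
    · exact Or.inl (mul_mem hg (Subgroup.subset_closure (Or.inr ⟨v, hv, rfl⟩)))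
  · rcases hh with (rfl | rfl) | ⟨v, hv, rfl⟩
    · refine Or.inr ⟨a, ha, c + 1, ?_⟩
      rw [translation_eq, mul_assoc _ (aff 1 c), aff_mul, one_mul, Units.val_one, one_mul, add_comm]
    · by_cases hc : c = 0
      · subst hc
        left
        rw [aff_one_zero, mul_one, mul_assoc, projInv_sq, mul_one]
        exact ha
      · obtain ⟨u, hu, b, b', h⟩ := inv_translation hc
        refine Or.inr ⟨a * aff u b, mul_mem ha (mem_affSq.mpr ⟨u, hu, b, rfl⟩), b', ?_⟩
        rw [mul_assoc (a * projInv) _ projInv, mul_assoc a projInv, ← mul_assoc projInv, h]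
        simp only [mul_assoc]
    · refine Or.inr ⟨a * aff (v ^ 21) 0, mul_mem ha (mem_affSq.mpr ⟨_, hv.pow 21, 0, rfl⟩),
        ((v⁻¹ : (ZMod 23)ˣ) : ZMod 23) * c, ?_⟩
      have hswap : aff 1 c * aff v 0 = aff v 0 * aff 1 (((v⁻¹ : (ZMod 23)ˣ) : ZMod 23) * c) := by
        rw [aff_mul, aff_mul, one_mul, mul_one, mul_zero, zero_add, add_zero, ← mul_assoc,
          ← Units.val_mul, mul_inv_cancel, Units.val_one, one_mul]
      rw [mulLeft_eq, mul_assoc _ (aff 1 c), hswap, ← mul_assoc, mul_assoc a projInv, inv_square,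
        ← mul_assoc a]

theorem lineGroup_subset : (lineGroup : Set (Equiv.Perm GolayPt)) ⊆ cells := by
  intro g hg
  have key : ∀ x ∈ lineGroup, ∀ y ∈ cells, y * x ∈ cells := by
    intro x hx
    rw [lineGroup, ← Subgroup.mem_toSubmonoid, Subgroup.closure_toSubmonoid_of_finite] at hx
    refine Submonoid.closure_induction (motive := fun x _ => ∀ y ∈ cells, y * x ∈ cells)
      (fun h hh y hy => cells_mul hy hh) (fun y hy => by rwa [mul_one]) ?_ hx
    intro x z _ _ hx hz y hy
    rw [← mul_assoc]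
    exact hz _ (hx y hy)
  simpa using key g hg 1 (Or.inl (one_mem affSq))

theorem card_lineGroup_le : Nat.card lineGroup ≤ 6072 := by
  classical
  have h1 := Nat.card_mono (Set.toFinite cells) lineGroup_subset
  have h2 : Nat.card cells ≤ Nat.card (affSq ⊕ affSq × ZMod 23) := by
    let f : affSq ⊕ affSq × ZMod 23 → cells := fun x =>
      match x with
      | Sum.inl a => ⟨a.1, Or.inl a.2⟩
      | Sum.inr p => ⟨p.1.1 * projInv * aff 1 p.2, Or.inr ⟨_, p.1.2, _, rfl⟩⟩
    refine Nat.card_le_card_of_surjective f ?_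
    rintro ⟨g, hg | ⟨a, ha, c, rfl⟩⟩
    · exact ⟨Sum.inl ⟨g, hg⟩, rfl⟩
    · exact ⟨Sum.inr (⟨a, ha⟩, c), rfl⟩
  rw [Nat.card_sum, Nat.card_prod, card_affSq, Nat.card_zmod] at h2
  exact h1.trans h2

/-- Every subgroup containing the projective group has the order of the projective group or of the
whole group. -/
theorem line_overgroup {H : Subgroup M24} (hH : lineGroup.subgroupOf M24 ≤ H) :
    Nat.card H = 6072 ∨ Nat.card H = 244823040 := by
  have horb : ∀ x : GolayPt, x ∈ orbit H (none : GolayPt) := by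
    intro x
    match x with
    | none => exact mem_orbit_self _
    | some a =>
      have hmem : aff 1 a * projInv ∈ lineGroup :=
        mul_mem (affSq_le_line (mem_affSq.mpr ⟨1, IsSquare.one, a, rfl⟩)) projInv_mem_line
      refine ⟨⟨⟨_, lineGroup_le hmem⟩, hH hmem⟩, ?_⟩
      show aff 1 a (projInv none) = some a
      rw [show projInv none = some 0 from rfl, aff_some, mul_zero, zero_add]
  have hc := card_orbF H none
  have horbF : orbF H (none : GolayPt) = Finset.univ := Finset.eq_univ_of_forall fun q => mem_orbF.mpr (horb q)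
  rw [horbF, Finset.card_univ, card_golayPt] at hc
  have hB : affSq.subgroupOf M24 ≤ H ⊓ stabilizer M24 (none : GolayPt) := fun g hg =>
    ⟨hH (affSq_le_line hg), affSq_fix hg⟩
  rcases point_overgroup hB inf_le_right with h | h <;> omega

theorem card_lineGroup : Nat.card lineGroup = 6072 := by
  have h := line_overgroup (H := lineGroup.subgroupOf M24) le_rfl
  rw [Nat.card_congr (Subgroup.subgroupOfEquivOfLe lineGroup_le).toEquiv] at h
  have := card_lineGroup_le
  omega

theorem lineGroup_maximal : IsCoatom (lineGroup.subgroupOf M24) := by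
  have hcl : Nat.card (lineGroup.subgroupOf M24) = 6072 := by
    rw [Nat.card_congr (Subgroup.subgroupOfEquivOfLe lineGroup_le).toEquiv, card_lineGroup]
  refine ⟨fun htop => ?_, fun H hH => ?_⟩
  · rw [htop, Subgroup.card_top, card_M24] at hcl
    norm_num at hcl
  · rcases line_overgroup hH.le with h | h
    · exact absurd (Subgroup.eq_of_le_of_card_ge hH.le (by omega)) hH.ne
    · exact Subgroup.eq_top_of_card_eq _ (by rw [h, card_M24])

theorem affSq_maximal :
    IsCoatom ((affSq.subgroupOf M24).subgroupOf (stabilizer M24 (none : GolayPt))) := by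
  set S := stabilizer M24 (none : GolayPt) with hS
  have hle : affSq.subgroupOf M24 ≤ S := fun g hg => affSq_fix hg
  have hcl : Nat.card ((affSq.subgroupOf M24).subgroupOf S) = 253 := by
    rw [Nat.card_congr (Subgroup.subgroupOfEquivOfLe hle).toEquiv,
      Nat.card_congr (Subgroup.subgroupOfEquivOfLe affSq_le).toEquiv, card_affSq]
  refine ⟨fun htop => ?_, fun K hK => ?_⟩
  · rw [htop, Subgroup.card_top, card_stab_point] at hcl
    norm_num at hcl
  · have hB : affSq.subgroupOf M24 ≤ K.map S.subtype := fun g hg => ⟨⟨g, hle hg⟩, hK.le hg, rfl⟩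
    have hKc : Nat.card (K.map S.subtype) = Nat.card K :=
      (Nat.card_congr (K.equivMapOfInjective _ (Subgroup.subtype_injective S)).toEquiv).symm
    have hKS : K.map S.subtype ≤ S := Subgroup.map_subtype_le _
    rcases point_overgroup hB hKS with h | h
    · exact absurd (Subgroup.eq_of_le_of_card_ge hK.le (by omega)) hK.ne
    · exact Subgroup.eq_top_of_card_eq _ (by rw [← hKc, h, card_stab_point])

end CfsgLib.Golay.LineMax
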