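/-
The group of degree 22 has no subgroup of order 7920 or 2112.
-/
import Cfsg.Agent.Golay.IndexPoint
import Cfsg.Agent.Golay.OutTwo12
import Cfsg.Agent.Golay.M22IndexData

set_option autoImplicit false

namespace CfsgLib.Golay.M22Idx

open Cfsg CfsgLib.Golay CfsgLib.Golay.Cert MulAction
open scoped Pointwise

/-- A product of the factors `t * u ^ e`. -/
def wordG {M : Type*} [Monoid M] (u t : M) (es : List ℕ) : M :=
  es.foldl (fun x e => x * (t * u ^ e)) 1

/-- The same on position lists. -/
def wordL (R L : List ℕ) (es : List ℕ) : List ℕ :=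
  es.foldl (fun x e => compL x (compL L (powL R e))) (List.range 24)

theorem foldl_toList (σ τ : Equiv.Perm GolayPt) : ∀ (es : List ℕ) (x : Equiv.Perm GolayPt),
    toList (es.foldl (fun x e => x * (τ * σ ^ e)) x) =
      es.foldl (fun x e => compL x (compL (toList τ) (powL (toList σ) e))) (toList x)
  | [], _ => rfl
  | e :: es, x => by
    rw [List.foldl_cons, List.foldl_cons, foldl_toList σ τ es, toList_mul, toList_mul, toList_pow]

theorem toList_word (σ τ : Equiv.Perm GolayPt) (es : List ℕ) :
    toList (wordG σ τ es) = wordL (toList σ) (toList τ) es := by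
  rw [wordG, foldl_toList, toList_one]; rfl

theorem coe_foldl (σ τ : M24) : ∀ (es : List ℕ) (x : M24),
    ((es.foldl (fun x e => x * (τ * σ ^ e)) x : M24) : Equiv.Perm GolayPt) =
      es.foldl (fun x e => x * ((τ : Equiv.Perm GolayPt) * (σ : Equiv.Perm GolayPt) ^ e)) (x : Equiv.Perm GolayPt)
  | [], _ => rfl
  | e :: es, x => by rw [List.foldl_cons, List.foldl_cons, coe_foldl σ τ es]; rfl

theorem word_mem {G : Type*} [Group G] {H : Subgroup G} {u t : G} (hu : u ∈ H) (ht : t ∈ H) :
    ∀ (es : List ℕ) (x : G), x ∈ H → es.foldl (fun x e => x * (t * u ^ e)) x ∈ H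
  | [], _, hx => hx
  | e :: es, x, hx => word_mem hu ht es _ (H.mul_mem hx (H.mul_mem ht (H.pow_mem hu e)))

/-- The standard element of order 11. -/
def rStd : List ℕ := reps11.getD 0 []

/-- One row of the table. -/
def rowOK (e : ℕ × ℕ × List (List ℕ × List ℕ)) : Bool :=
  decide (e.2.1 < 24) && !e.1.testBit e.2.1 &&
  ((List.range 24).all fun j => e.1.testBit j || j == e.2.1 || e.2.2.any fun x => x.1.getD e.2.1 0 == j) &&
  e.2.2.all fun x => genOK x.1 && ((List.range 24).all fun i => !e.1.testBit i || x.1.getD i 0 == i) &&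
    (if x.2 = [] then permF x.1 cycleMask == cycleMask else ordB 7 (wordL rStd x.1 x.2))

theorem table_ok : invTable.all rowOK = true := by decide +kernel

/-- The octads through the fixed points lie in the listed orbits. -/
theorem cover_ok : ∀ c < 4096,
    (wt 24 (word c) == 8 && (word c).testBit 20 && (word c).testBit 22) = true →
      (List.range 11).any (fun n => invTable.any fun e => permF (powL rStd n) e.1 == word c) = true :=
  forall_lt_4096 (by decide +kernel)

theorem cycle_ok : ∀ i < 24, cycleMask.testBit i = true →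
    ∃ n < 11, (powL rStd n).getD 0 0 = i := by decide +kernel

theorem std_facts :
    rStd.getD 20 0 = 20 ∧ rStd.getD 22 0 = 22 ∧ (∀ i < 24, rStd.getD i 0 = i → i = 20 ∨ i = 22) ∧
    permF rStd cycleMask = cycleMask ∧ cycleMask.testBit 0 = true ∧ cycleMask.testBit 20 = false ∧
    cycleMask.testBit 22 = false ∧ wt 24 cycleMask = 11 ∧
    word ((cycleMask + 4194304) % 4096) = cycleMask + 4194304 ∧ wt 24 (cycleMask + 4194304) = 12 ∧
    (∀ i < 24, (cycleMask + 4194304).testBit i = (cycleMask.testBit i || i == 22)) ∧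
    reps11 = [rStd] := by
  decide +kernel

/-- The first cycle. -/
def cyc : Finset GolayPt := pts cycleMask

theorem inv_stab {H : Subgroup M24} (hle : H ≤ stabilizer M24 (pt 20) ⊓ stabilizer M24 (pt 22))
    {u : M24} (hu : toList (u : Equiv.Perm GolayPt) = rStd) (huH : u ∈ H) (h7 : ¬ 7 ∣ Nat.card H)
    {t : M24} (htH : t ∈ H) (ht : orderOf t = 2) : t • cyc = cyc := by
  classical
  set F := fixedPts (t : Equiv.Perm GolayPt) with hFdef
  have h20 : pt 20 ∈ F := by
    simpa [F, fixedPts, coe_smul] using mem_stabilizer_iff.mp (hle htH).1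
  have h22 : pt 22 ∈ F := by
    simpa [F, fixedPts, coe_smul] using mem_stabilizer_iff.mp (hle htH).2
  have hF : F ∈ octads := by
    obtain ⟨k, ⟨-, h, -⟩ | ⟨-, h0⟩⟩ := two_cases ht
    · exact h
    · rw [← hFdef] at h0; exact absurd (Finset.card_pos.mpr ⟨_, h20⟩) (by omega)
  obtain ⟨c, hc, hwt, hFc⟩ := (mem_octads_iff F).mp hF
  have hb : ∀ i, i < 24 → pt i ∈ F → (word c).testBit i = true := fun i hi h => by
    rw [hFc, mem_pts, idx_pt i hi] at h; exact h
  obtain ⟨n, -, hn⟩ := List.any_eq_true.mp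
    (cover_ok c hc (by simp [hwt, hb 20 (by norm_num) h20, hb 22 (by norm_num) h22]))
  obtain ⟨e, he, hen⟩ := List.any_eq_true.mp hn
  rw [beq_iff_eq] at hen
  have hrow := List.all_eq_true.mp table_ok e he
  simp only [rowOK, Bool.and_eq_true, List.all_eq_true, decide_eq_true_eq, Bool.not_eq_true',
    Bool.or_eq_true, List.any_eq_true, List.mem_range, beq_iff_eq] at hrow
  obtain ⟨⟨⟨hplt, hpbit⟩, hcov⟩, hents⟩ := hrow
  set t' : M24 := (u ^ n)⁻¹ * t * u ^ n with ht'
  have ht'H : t' ∈ H := H.mul_mem (H.mul_mem (H.inv_mem (H.pow_mem huH n)) htH) (H.pow_mem huH n)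
  have hFe : (u ^ n) • pts e.1 = F := by
    rw [smul_finset_eq_image, ← pts_permF, Subgroup.coe_pow, toList_pow, hu, hen, hFc]
  have hFmem : ∀ x, x ∈ pts e.1 ↔ t' • x = x := by
    intro x
    rw [ht', mul_smul, mul_smul, inv_smul_eq_iff, ← smul_mem_iff' (u ^ n), hFe]
    simp [F, fixedPts, coe_smul]
  set p := pt e.2.1 with hp
  set j := idx (t' • p) with hj
  have hpnot : p ∉ pts e.1 := by rw [mem_pts, hp, idx_pt _ hplt, hpbit]; simp
  have htp : t' • p ≠ p := fun h => hpnot ((hFmem p).mpr h)
  have hj' : e.1.testBit j ≠ true := fun h => hpnot ((hFmem p).mpr (smul_left_cancel t'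
    ((hFmem (t' • p)).mp (mem_pts.mpr h))))
  rcases hcov j (idx_lt _) with (h | h) | ⟨x, hx, hxj⟩
  · exact absurd h hj'
  · exact absurd (idx_injective (show idx (t' • p) = idx p by rw [← hj, h, hp, idx_pt _ hplt])) htp
  obtain ⟨⟨hgen, hfixL⟩, hcond⟩ := hents x hx
  obtain ⟨g, hg⟩ := genOK_spec hgen
  have hgt : g = t' := by
    have hg1 : g⁻¹ * t' = 1 := by
      have happ : ∀ i < 24, idx (g • pt i) = x.1.getD i 0 := fun i hi => by
        rw [← hg, toList_getD _ hi]; rfl
      have hofix : ∀ y ∈ pts e.1, (g⁻¹ * t') • y = y := by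
        intro y hy
        rw [mul_smul, (hFmem y).mp hy, inv_smul_eq_iff]
        have := mem_pts.mp hy
        refine idx_injective ?_
        rcases hfixL (idx y) (idx_lt y) with h | h
        · rw [this] at h; exact absurd h (by simp)
        · conv_rhs => rw [← pt_idx y]
          rw [happ _ (idx_lt y), h]
      have hpfix : (g⁻¹ * t') • p = p := by
        rw [mul_smul, inv_smul_eq_iff]
        refine idx_injective ?_
        rw [← hj, hp, happ _ hplt, hxj]
      have hoct : pts e.1 ∈ octads := by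
        rw [show pts e.1 = (u ^ n)⁻¹ • F by rw [← hFe, inv_smul_smul]]
        exact smul_mem_octads' _ hF
      exact eq_one_of_fix hoct hpnot (fun y hy => hofix y hy) hpfix
    exact inv_mul_eq_one.mp hg1
  have hucyc : u • cyc = cyc := by
    rw [cyc, smul_finset_eq_image, ← pts_permF, hu, std_facts.2.2.2.1]
  have hun : ∀ m : ℕ, (u ^ m) • cyc = cyc := fun m => by
    induction m with
    | zero => rw [pow_zero, one_smul]
    | succ m ih => rw [pow_succ, mul_smul, hucyc, ih]
  by_cases hes : x.2 = []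
  · rw [if_pos hes, beq_iff_eq] at hcond
    have h1 : t' • cyc = cyc := by
      rw [← hgt, cyc, smul_finset_eq_image, ← pts_permF, hg, hcond]
    rw [ht', mul_smul, mul_smul, hun, inv_smul_eq_iff, hun] at h1
    exact h1
  · exfalso
    rw [if_neg hes] at hcond
    simp only [ordB, Bool.and_eq_true, bne_iff_ne, beq_iff_eq] at hcond
    set w : M24 := x.2.foldl (fun x e => x * (t' * u ^ e)) 1 with hw
    have hwL : toList (w : Equiv.Perm GolayPt) = wordL rStd x.1 x.2 := by
      rw [hw, coe_foldl, ← hu, ← hg, hgt]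
      exact toList_word _ _ _
    have h1 : w ≠ 1 := fun e1 => hcond.1 (by rw [← hwL, e1, Subgroup.coe_one, toList_one])
    have h2 : w ^ 7 = 1 := toList_coe_injective (by
      show toList ((w ^ 7 : M24) : Equiv.Perm GolayPt) = toList ((1 : M24) : Equiv.Perm GolayPt)
      rw [Subgroup.coe_pow, toList_pow, hwL, hcond.2, Subgroup.coe_one, toList_one])
    haveI : Fact (Nat.Prime 7) := ⟨by norm_num⟩
    have ho := orderOf_eq_prime h2 h1
    refine h7 (ho ▸ ?_)
    have hmem : w ∈ H := word_mem huH ht'H x.2 1 H.one_mem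
    exact (Subgroup.orderOf_coe (⟨w, hmem⟩ : H)).symm ▸ orderOf_dvd_natCard (⟨w, hmem⟩ : H)

/-- The case of the standard element of order 11. -/
theorem no_7920_std {H : Subgroup M24} (hle : H ≤ stabilizer M24 (pt 20) ⊓ stabilizer M24 (pt 22))
    {u : M24} (hu : toList (u : Equiv.Perm GolayPt) = rStd) (huH : u ∈ H) : Nat.card H ≠ 7920 := by
  classical
  intro hH
  haveI : Fact (Nat.Prime 2) := ⟨Nat.prime_two⟩
  obtain ⟨-, -, -, -, hc0, hc20, hc22, hcw, hdw, hdwt, hdbits, -⟩ := std_facts
  have hinv : ∀ t ∈ H, orderOf t = 2 → t • cyc = cyc := fun t ht ho =>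
    inv_stab hle hu huH (by rw [hH]; norm_num) ht ho
  have hcard : cyc.card = 11 := by rw [cyc, card_pts, hcw]
  set E : Finset GolayPt := ({pt 20, pt 22} : Finset GolayPt)ᶜ with hE
  have hE22 : E.card = 22 := by
    rw [hE, Finset.card_compl, card_golayPt, Finset.card_pair (by decide +kernel)]
  have hfixed : ∀ g ∈ H, g • pt 20 = pt 20 ∧ g • pt 22 = pt 22 := fun g hg =>
    ⟨mem_stabilizer_iff.mp (hle hg).1, mem_stabilizer_iff.mp (hle hg).2⟩
  have hEinv : ∀ g ∈ H, ∀ x ∈ E, g • x ∈ E := by
    intro g hg x hx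
    simp only [hE, Finset.mem_compl, Finset.mem_insert, Finset.mem_singleton, not_or] at hx ⊢
    exact ⟨fun e => hx.1 (smul_left_cancel g (e.trans (hfixed g hg).1.symm)),
      fun e => hx.2 (smul_left_cancel g (e.trans (hfixed g hg).2.symm))⟩
  set c := pt 0 with hcdef
  have hcc : c ∈ cyc := mem_pts.mpr (by rw [idx_pt 0 (by norm_num), hc0])
  have hcycE : cyc ⊆ E := by
    intro x hx
    simp only [hE, Finset.mem_compl, Finset.mem_insert, Finset.mem_singleton, not_or]
    have hm := mem_pts.mp hx
    refine ⟨?_, ?_⟩ <;> rintro rfl <;> rw [idx_pt _ (by norm_num)] at hm <;> simp [hc20, hc22] at hm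
  -- the orbit of the reference point
  set O := orbF H c with hO
  have hpw : ∀ n, (u ^ n) ∈ H := H.pow_mem huH
  have hcycO : cyc ⊆ O := by
    intro x hx
    obtain ⟨n, -, hn⟩ := cycle_ok _ (idx_lt x) (mem_pts.mp hx)
    refine mem_orbF.mpr ⟨⟨u ^ n, hpw n⟩, idx_injective ?_⟩
    show idx ((u ^ n : M24).1 (pt 0)) = idx x
    rw [← toList_getD _ (by norm_num), Subgroup.coe_pow, toList_pow, hu, hn]
  have hOE : O ⊆ E := fun x hx => by
    obtain ⟨k, rfl⟩ := mem_orbF.mp hx
    exact hEinv k k.2 c (hcycE hcc)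
  have hOcases : O.card = 11 ∨ O.card = 22 := by
    have h11 := card_inv_mod (by norm_num : Nat.Prime 11)
      (pow_coe_eq_one (show u ^ 11 = 1 from toList_coe_injective (by
        show toList ((u ^ 11 : M24) : Equiv.Perm GolayPt) = toList ((1 : M24) : Equiv.Perm GolayPt)
        rw [Subgroup.coe_pow, toList_pow, hu, Subgroup.coe_one, toList_one]
        decide +kernel))) O (fun p hp => orbF_inv huH hp)
    have hnofix : (O.filter fun p => (u : Equiv.Perm GolayPt) p = p) = ∅ := by
      refine Finset.filter_eq_empty_iff.mpr fun x hx h => ?_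
      have h' := hOE hx
      simp only [hE, Finset.mem_compl, Finset.mem_insert, Finset.mem_singleton, not_or] at h'
      have : rStd.getD (idx x) 0 = idx x := by
        rw [← hu, toList_getD _ (idx_lt x), pt_idx, h]
      rcases std_facts.2.2.1 _ (idx_lt x) this with e | e <;>
        [exact h'.1 (by rw [← e, pt_idx]); exact h'.2 (by rw [← e, pt_idx])]
    rw [hnofix, Finset.card_empty] at h11
    have h1 := Finset.card_le_card hcycO
    have h2 := Finset.card_le_card hOE
    omega
  -- every element keeps or swaps the two cycles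
  have hswap : ∀ h ∈ H, h • cyc = cyc ∨ h • cyc = E \ cyc := by
    rcases hOcases with hO11 | hO22
    · intro h hh
      left
      have heq : cyc = O := Finset.eq_of_subset_of_card_le hcycO (by omega)
      refine Finset.eq_of_subset_of_card_le (fun x hx => ?_) (by rw [Finset.card_smul_finset])
      obtain ⟨y, hy, rfl⟩ := Finset.mem_smul_finset.mp hx
      rw [heq] at hy ⊢
      exact orbF_inv hh hy
    have hOeq : O = E := Finset.eq_of_subset_of_card_le hOE (by omega)
    have htrans : ∀ x ∈ E, ∃ g ∈ H, g • c = x := fun x hx => by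
      obtain ⟨k, hk⟩ := mem_orbF.mp (hOeq ▸ hx : x ∈ O)
      exact ⟨k, k.2, hk⟩
    set atom : GolayPt → Finset GolayPt := fun x => E.filter fun y => ∀ h ∈ H, (x ∈ h • cyc ↔ y ∈ h • cyc)
      with hatom
    have aself : ∀ x ∈ E, x ∈ atom x := fun x hx => Finset.mem_filter.mpr ⟨hx, fun _ _ => Iff.rfl⟩
    have aeq : ∀ x, ∀ y ∈ atom x, atom y = atom x := by
      intro x y hy
      have hy' := (Finset.mem_filter.mp hy).2
      ext z
      simp only [hatom, Finset.mem_filter, and_congr_right_iff]
      exact fun _ => ⟨fun H' h hh => (hy' h hh).trans (H' h hh), fun H' h hh => (hy' h hh).symm.trans (H' h hh)⟩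
    have aequi : ∀ g ∈ H, ∀ x, g • atom x ⊆ atom (g • x) := by
      intro g hg x z hz
      obtain ⟨y, hy, rfl⟩ := Finset.mem_smul_finset.mp hz
      obtain ⟨hyE, hy'⟩ := Finset.mem_filter.mp hy
      refine Finset.mem_filter.mpr ⟨hEinv g hg y hyE, fun h hh => ?_⟩
      have := hy' (g⁻¹ * h) (H.mul_mem (H.inv_mem hg) hh)
      simpa [mul_smul, Finset.mem_inv_smul_finset_iff] using this
    have acard : ∀ x ∈ E, (atom x).card = (atom c).card := by
      intro x hx
      obtain ⟨g, hg, rfl⟩ := htrans x hx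
      refine le_antisymm ?_ ?_
      · have h := Finset.card_le_card (aequi g⁻¹ (H.inv_mem hg) (g • c))
        rwa [Finset.card_smul_finset, inv_smul_smul] at h
      · have h := Finset.card_le_card (aequi g hg c)
        rwa [Finset.card_smul_finset] at h
    have hdvd : (atom c).card ∣ 11 := by
      have hsum := Finset.card_eq_sum_card_image atom cyc
      rw [hcard] at hsum
      refine hsum ▸ Finset.dvd_sum fun t ht => ?_
      obtain ⟨z, hz, rfl⟩ := Finset.mem_image.mp ht
      rw [show (cyc.filter fun r => atom r = atom z) = atom z from ?_, acard z (hcycE hz)]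
      ext r
      simp only [Finset.mem_filter]
      refine ⟨fun h => h.2 ▸ aself r (hcycE h.1), fun hr => ⟨?_, aeq z r hr⟩⟩
      have := ((Finset.mem_filter.mp hr).2 1 H.one_mem)
      rw [one_smul] at this
      exact this.mp hz
    rcases (Nat.dvd_prime (by norm_num)).mp hdvd with h1 | h11
    · exfalso
      obtain ⟨t, ht⟩ := exists_prime_orderOf_dvd_card' (G := H) 2 (by rw [hH]; norm_num)
      have hto : orderOf (t : M24) = 2 := by rw [Subgroup.orderOf_coe, ht]
      have hall : ∀ x ∈ E, (t : M24) • x = x := by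
        intro x hx
        refine Finset.card_le_one.mp (by rw [acard x hx, h1]) _ ?_ x (aself x hx)
        refine Finset.mem_filter.mpr ⟨hEinv t t.2 x hx, fun h hh => ?_⟩
        have hfix : (t : M24) • (h • cyc) = h • cyc := by
          have ho2 : orderOf (h⁻¹ * t * h) = 2 := by
            rw [← hto]
            exact orderOf_injective (MulAut.conj h⁻¹).toMonoidHom (MulAut.conj h⁻¹).injective (t : M24) |>.symm.trans
              (by simp) |>.symm
          have h3 := hinv _ (H.mul_mem (H.mul_mem (H.inv_mem hh) t.2) hh) ho2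
          rwa [mul_smul, mul_smul, inv_smul_eq_iff] at h3
        conv_rhs => rw [← hfix]
        exact (smul_mem_iff' (t : M24)).symm
      have : (t : M24) = 1 := eq_one_of_small (S := ∅) (by simp) fun x _ => by
        show (t : M24) • x = x
        by_cases hx : x ∈ E
        · exact hall x hx
        · simp only [hE, Finset.mem_compl, not_not, Finset.mem_insert, Finset.mem_singleton] at hx
          rcases hx with rfl | rfl
          exacts [(hfixed t t.2).1, (hfixed t t.2).2]
      rw [this, orderOf_one] at hto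
      norm_num at hto
    · intro h hh
      have hac : atom c = cyc := by
        refine Finset.eq_of_subset_of_card_le (fun r hr => ?_) (by rw [hcard, h11])
        have := ((Finset.mem_filter.mp hr).2 1 H.one_mem)
        rw [one_smul] at this
        exact this.mp hcc
      have hsub : h • cyc ⊆ E := fun x hx => by
        obtain ⟨y, hy, rfl⟩ := Finset.mem_smul_finset.mp hx
        exact hEinv h hh y (hcycE hy)
      by_cases hch : c ∈ h • cyc
      · left
        refine (Finset.eq_of_subset_of_card_le (fun r hr => ?_) (by rw [Finset.card_smul_finset])).symm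
        exact ((Finset.mem_filter.mp (hac ▸ hr : r ∈ atom c)).2 h hh).mp hch
      · right
        refine Finset.eq_of_subset_of_card_le (fun r hr => ?_) ?_
        · refine Finset.mem_sdiff.mpr ⟨hsub hr, fun hrc => hch ?_⟩
          exact ((Finset.mem_filter.mp (hac ▸ hrc : r ∈ atom c)).2 h hh).mpr hr
        · rw [Finset.card_sdiff_of_subset hcycE, hE22, hcard, Finset.card_smul_finset, hcard]
  -- the stabiliser of the first cycle
  set d := pts (cycleMask + 4194304) with hd
  have hdd : d ∈ dodecads := (mem_dodecads_iff d).mpr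
    ⟨_, Nat.mod_lt _ (by norm_num), by rw [hdw, hdwt], by rw [hd, hdw]⟩
  have hd22 : pt 22 ∈ d := mem_pts.mpr (by rw [idx_pt 22 (by norm_num), hdbits 22 (by norm_num)]; simp)
  have hd20 : pt 20 ∉ d := by rw [hd, mem_pts, idx_pt 20 (by norm_num), hdbits 20 (by norm_num), hc20]; simp
  have hdeq : d = insert (pt 22) cyc := by
    ext x
    rw [Finset.mem_insert, hd, cyc, mem_pts, mem_pts, hdbits _ (idx_lt x), Bool.or_eq_true, beq_iff_eq]
    constructor
    · rintro (h | h)
      · exact Or.inr h
      · exact Or.inl (by rw [← h, pt_idx])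
    · rintro (rfl | h)
      · exact Or.inr (idx_pt 22 (by norm_num))
      · exact Or.inl h
  set H₁ := H ⊓ stabilizer M24 cyc with hH₁
  have hle1 : H₁ ≤ stab2 d (pt 22) (pt 20) := fun g hg => by
    refine ⟨⟨mem_stabilizer_iff.mpr ?_, mem_stabilizer_iff.mpr (hfixed g hg.1).2⟩,
      mem_stabilizer_iff.mpr (hfixed g hg.1).1⟩
    rw [hdeq, Finset.smul_finset_insert, (hfixed g hg.1).2, mem_stabilizer_iff.mp hg.2]
  have h660 : Nat.card H₁ ≤ 660 := by
    rw [← card_stab2 hdd hd22 hd20]
    exact Nat.le_of_dvd Nat.card_pos (Subgroup.card_dvd_of_le hle1)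
  have horb : Set.ncard (orbit H cyc) ≤ 2 := by
    refine (Set.ncard_le_ncard (t := {cyc, E \ cyc}) ?_).trans ?_
    · rintro _ ⟨k, rfl⟩
      exact hswap k k.2
    · exact (Set.ncard_insert_le _ _).trans (by rw [Set.ncard_singleton])
  have hidx := (stabilizer H cyc).card_mul_index
  rw [index_stabilizer, hH] at hidx
  have heq : Nat.card (stabilizer H cyc) = Nat.card H₁ := Nat.card_congr
    { toFun := fun g => ⟨g.1.1, g.1.2, g.2⟩
      invFun := fun g => ⟨⟨g.1, g.2.1⟩, g.2.2⟩
      left_inv := fun _ => rfl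
      right_inv := fun _ => rfl }
  rw [heq] at hidx
  have := Nat.mul_le_mul h660 horb
  omega

/-- The index of the normaliser of a group of order 11. -/
theorem eleven_count {J : Subgroup M24} {e : GolayPt} (hJ : J ≤ stabilizer M24 e) {N : ℕ}
    (hcard : Nat.card J = N) (h11 : 11 ∣ N) (h121 : ¬ 121 ∣ N) :
    ∃ m i : ℕ, m ∣ 10 ∧ 11 * m * i = N ∧ i % 11 = 1 := by
  subst hcard
  haveI : Fact (Nat.Prime 11) := ⟨by norm_num⟩
  obtain ⟨u, hu⟩ := exists_prime_orderOf_dvd_card' (G := J) 11 h11
  set P := Subgroup.zpowers u with hP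
  have hPc : Nat.card P = 11 := (Nat.card_zpowers u).trans hu
  have hfac : (Nat.card J).factorization 11 = 1 := by
    have h0 : Nat.card J ≠ 0 := Nat.card_pos.ne'
    refine le_antisymm ?_ ((Nat.Prime.dvd_iff_one_le_factorization (by norm_num) h0).mp h11)
    by_contra h
    exact h121 ((Nat.Prime.pow_dvd_iff_le_factorization (by norm_num : Nat.Prime 11) h0).mpr
      (show 2 ≤ _ by omega))
  let S : Sylow 11 J := Sylow.ofCard P (by rw [hPc, hfac]; rfl)
  have hn := card_sylow_modEq_one 11 J
  rw [Sylow.card_eq_index_normalizer S] at hn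
  have hi := (Subgroup.normalizer (P : Set J)).card_mul_index
  change (Subgroup.normalizer (P : Set J)).index % 11 = 1 % 11 at hn
  have hC : Nat.card (Subgroup.centralizer (P : Set J)) = 11 := by
    set C := Subgroup.centralizer (P : Set J) with hCdef
    have hPC : P ≤ C := by
      intro x hx
      rw [hCdef, Subgroup.mem_centralizer_iff]
      intro y hy
      obtain ⟨m, rfl⟩ := Subgroup.mem_zpowers_iff.mp hx
      obtain ⟨n, rfl⟩ := Subgroup.mem_zpowers_iff.mp hy
      exact (zpow_mul_comm u n m)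
    have hprime : ∀ q, q.Prime → q ∣ Nat.card C → q = 11 := by
      intro q hq hd
      haveI := Fact.mk hq
      obtain ⟨c, hc⟩ := exists_prime_orderOf_dvd_card' (G := C) q hd
      refine eleven_centralizer (u := u.1) (c := c.1.1) (by rw [Subgroup.orderOf_coe]; exact hu) (hJ u.2) (hJ c.1.2) ?_ hq ?_
      · exact congrArg Subtype.val (Subgroup.mem_centralizer_iff.mp c.2 u (Subgroup.mem_zpowers u)).symm
      · rw [Subgroup.orderOf_coe, Subgroup.orderOf_coe]; exact hc
    have hpow := Nat.eq_prime_pow_of_unique_prime_dvd Nat.card_pos.ne' fun {d} hd hd' => hprime d hd hd'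
    have h1 : 11 ∣ Nat.card C := hPc ▸ Subgroup.card_dvd_of_le hPC
    have h2 : Nat.card C ∣ Nat.card J := Subgroup.card_subgroup_dvd_card C
    generalize (Nat.card C).primeFactorsList.length = k at hpow
    match k, hpow with
    | 0, hpow => rw [hpow] at h1; norm_num at h1
    | 1, hpow => rw [hpow]; rfl
    | k + 2, hpow =>
      rw [hpow] at h2
      exact absurd ((Nat.pow_dvd_pow 11 (by omega : 2 ≤ k + 2)).trans h2) h121
  have hN := Subgroup.card_eq_card_quotient_mul_card_subgroup P.normalizerMonoidHom.ker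
  rw [Nat.card_congr (QuotientGroup.quotientKerEquivRange P.normalizerMonoidHom).toEquiv,
    Subgroup.normalizerMonoidHom_ker,
    Nat.card_congr (Subgroup.subgroupOfEquivOfLe (Subgroup.centralizer_le_normalizer (P : Set J))).toEquiv, hC] at hN
  have hr : Nat.card P.normalizerMonoidHom.range ∣ 10 := by
    refine (Subgroup.card_subgroup_dvd_card _).trans ?_
    haveI : IsCyclic P := by rw [hP]; infer_instance
    rw [IsCyclic.card_mulAut, hPc, Nat.totient_prime (by norm_num)]
  rw [hN] at hi
  exact ⟨_, _, hr, by rw [← hi]; ring, hn⟩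

theorem no_2112 {J : Subgroup M24} {e : GolayPt} (hJ : J ≤ stabilizer M24 e) : Nat.card J ≠ 2112 := by
  intro h
  obtain ⟨m, i, hm, hmi, hi⟩ := eleven_count hJ h (by norm_num) (by norm_num)
  have hle := Nat.le_of_dvd (by norm_num) hm
  interval_cases m <;> omega

theorem no_7920 {H : Subgroup M24} {p q : GolayPt} (hpq : p ≠ q)
    (hle : H ≤ stabilizer M24 p ⊓ stabilizer M24 q) : Nat.card H ≠ 7920 := by
  classical
  intro hH
  haveI : Fact (Nat.Prime 11) := ⟨by norm_num⟩
  obtain ⟨u, hu⟩ := exists_prime_orderOf_dvd_card' (G := H) 11 (by rw [hH]; norm_num)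
  have huo : orderOf u.1 = 11 := by rw [Subgroup.orderOf_coe, hu]
  obtain ⟨k, hk⟩ := conjTo_big (σ := u.1) (by norm_num) (by norm_num) ok_big.2.2.1 ok_big.2.2.2 huo
  rw [std_facts.2.2.2.2.2.2.2.2.2.2.2, List.mem_singleton] at hk
  set H' := H.map (MulAut.conj k).toMonoidHom with hH'
  set u' := k * u.1 * k⁻¹ with hu'
  have hu'H : u' ∈ H' := ⟨u.1, u.2, rfl⟩
  have hset : ∀ x : GolayPt, u' • x = x → x = pt 20 ∨ x = pt 22 := by
    intro x hx
    have h : rStd.getD (idx x) 0 = idx x := by
      rw [← hk, toList_getD _ (idx_lt x), pt_idx]; exact congrArg idx hx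
    rcases std_facts.2.2.1 _ (idx_lt x) h with e | e
    · exact Or.inl (by rw [← e, pt_idx])
    · exact Or.inr (by rw [← e, pt_idx])
  have hfx : ∀ x : GolayPt, (∀ g ∈ H, g • x = x) → ∀ g ∈ H', g • (k • x) = k • x := by
    rintro x hx _ ⟨g, hg, rfl⟩
    show (k * g * k⁻¹) • (k • x) = k • x
    rw [mul_smul, mul_smul, inv_smul_smul, hx g hg]
  have hp' := hfx p fun g hg => mem_stabilizer_iff.mp (hle hg).1
  have hq' := hfx q fun g hg => mem_stabilizer_iff.mp (hle hg).2
  refine no_7920_std (H := H') (u := u') ?_ hk hu'H ?_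
  · intro g hg
    rcases hset _ (hp' u' hu'H) with e1 | e1 <;> rcases hset _ (hq' u' hu'H) with e2 | e2
    · exact absurd (smul_left_cancel k (e1.trans e2.symm)) hpq
    · exact ⟨mem_stabilizer_iff.mpr (e1 ▸ hp' g hg), mem_stabilizer_iff.mpr (e2 ▸ hq' g hg)⟩
    · exact ⟨mem_stabilizer_iff.mpr (e2 ▸ hq' g hg), mem_stabilizer_iff.mpr (e1 ▸ hp' g hg)⟩
    · exact absurd (smul_left_cancel k (e1.trans e2.symm)) hpq
  · rw [hH', Subgroup.card_map_of_injective (MulAut.conj k).injective, hH]

end CfsgLib.Golay.M22Idx
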