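/-
The stabiliser of a dodecad and three of its points: order 72, a normal subgroup of order 9,
quaternion Sylow 2-subgroups.
-/
import Cfsg.Agent.Golay.DodecadFive
import Cfsg.Agent.Golay.M9Data
import Cfsg.Agent.Golay.DodecadPos
import Mathlib.GroupTheory.SpecificGroups.Quaternion

set_option autoImplicit false

namespace CfsgLib.Golay.Cert

open Cfsg CfsgLib.Golay MulAction
open scoped Pointwise

/-- The stabiliser of a dodecad and three points. -/
abbrev m9 (d : Finset GolayPt) (p q r : GolayPt) : Subgroup M24 :=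
  stabilizer M24 d ⊓ stabilizer M24 p ⊓ stabilizer M24 q ⊓ stabilizer M24 r

/-- The list of a quaternion element. -/
def q8L : QuaternionGroup 2 → List ℕ
  | .a i => powL m9A i.val
  | .xa i => compL m9B (powL m9A i.val)

theorem m9_ok0 : (∀ L ∈ m9List, genOK L = true ∧ same L [8442831] [8442831] = true ∧ L.getD 23 0 = 23 ∧ L.getD 0 0 = 0 ∧
      L.getD 1 0 = 1) := by decide +kernel

set_option synthInstance.maxSize 2000 in
theorem m9_ok1 : (∀ i < 24, ∀ j < 24, (8442831 : ℕ).testBit i = true → (8442831 : ℕ).testBit j = true → i ≠ j →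
      i ∉ [23, 0, 1] → j ∉ [23, 0, 1] → ∃ L ∈ m9List, L.getD 2 0 = i ∧ L.getD 3 0 = j) := by decide +kernel

theorem m9_ok2 : m9List.Nodup := by decide +kernel

theorem m9_ok3 : m9List.length = 72 := by decide +kernel

theorem m9_ok4 : (m9List.filter fun L => powL L 9 == List.range 24).length = 9 := by decide +kernel

theorem m9_ok5 : (∀ L ∈ m9List, powL L 9 = List.range 24 → powL L 3 = List.range 24) := by decide +kernel

theorem m9_ok6 : ∀ i < 24, ∀ j < 24, (8442831 : ℕ).testBit i = false → (8442831 : ℕ).testBit j = false →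
      ∃ L ∈ m9List, L.getD i 0 = j := by decide +kernel

theorem m9_ok :
    (∀ L ∈ m9List, genOK L = true ∧ same L [8442831] [8442831] = true ∧ L.getD 23 0 = 23 ∧ L.getD 0 0 = 0 ∧
      L.getD 1 0 = 1) ∧
    (∀ i < 24, ∀ j < 24, (8442831 : ℕ).testBit i = true → (8442831 : ℕ).testBit j = true → i ≠ j →
      i ∉ [23, 0, 1] → j ∉ [23, 0, 1] → ∃ L ∈ m9List, L.getD 2 0 = i ∧ L.getD 3 0 = j) ∧
    m9List.Nodup ∧ m9List.length = 72 ∧
    (m9List.filter fun L => powL L 9 == List.range 24).length = 9 ∧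
    (∀ L ∈ m9List, powL L 9 = List.range 24 → powL L 3 = List.range 24) ∧
    ∀ i < 24, ∀ j < 24, (8442831 : ℕ).testBit i = false → (8442831 : ℕ).testBit j = false →
      ∃ L ∈ m9List, L.getD i 0 = j :=
  ⟨m9_ok0, m9_ok1, m9_ok2, m9_ok3, m9_ok4, m9_ok5, m9_ok6⟩

theorem q8_ok : (∀ x, q8L x ∈ m9List) ∧ (∀ x y, q8L (x * y) = compL (q8L x) (q8L y)) ∧
    Function.Injective q8L := by
  decide +kernel

theorem std_mem : ∀ i ∈ q5, (8442831 : ℕ).testBit i = true ∧ i < 24 := by decide +kernel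

theorem pt_std : pt 23 = bp 0 ∧ pt 0 = bp 1 ∧ pt 1 = bp 2 := ⟨rfl, rfl, rfl⟩

/-- The standard group. -/
abbrev m9Std : Subgroup M24 := m9 refDodecad (pt 23) (pt 0) (pt 1)

theorem mem_std_of_list {g : M24} (h : toList g.1 ∈ m9List) : g ∈ m9Std := by
  obtain ⟨-, hs, h23, h0, h1⟩ := m9_ok.1 _ h
  have hfix : ∀ i < 24, (toList g.1).getD i 0 = i → g.1 (pt i) = pt i := fun i hi e => idx_injective (by
    rw [idx_pt i hi, ← toList_getD _ hi, e])
  refine ⟨⟨⟨?_, hfix 23 (by norm_num) h23⟩, hfix 0 (by norm_num) h0⟩, hfix 1 (by norm_num) h1⟩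
  have := same_spec rfl (by decide +kernel) hs
  rwa [toObj_one, smul_one', one'_inj, ← refDod_eq] at this

theorem list_of_mem_std {g : M24} (hg : g ∈ m9Std) : toList g.1 ∈ m9List := by
  obtain ⟨⟨⟨hd, h23⟩, h0⟩, h1⟩ := hg
  have hin : ∀ i < 24, (8442831 : ℕ).testBit i = true → (8442831 : ℕ).testBit ((toList g.1).getD i 0) = true := by
    intro i hi h
    rw [toList_getD _ hi]
    rw [← mem_pts, ← refDod_eq]
    refine (apply_mem_iff hd _).mpr ?_
    rw [refDod_eq, mem_pts, idx_pt i hi]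
    exact h
  have hne : ∀ i < 24, ∀ j ∈ [23, 0, 1], i ≠ j → (toList g.1).getD i 0 ≠ j := by
    intro i hi j hj hij e
    have hj' : j < 24 := by fin_cases hj <;> norm_num
    have hgj : g.1 (pt j) = pt j := by fin_cases hj <;> assumption
    rw [toList_getD _ hi, ← idx_pt j hj', ← hgj] at e
    exact hij (by rw [← idx_pt i hi, g.1.injective (idx_injective e), idx_pt j hj'])
  obtain ⟨L, hL, hL2, hL3⟩ := m9_ok.2.1 ((toList g.1).getD 2 0) (by rw [toList_getD _ (by norm_num)]; exact idx_lt _)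
    ((toList g.1).getD 3 0) (by rw [toList_getD _ (by norm_num)]; exact idx_lt _)
    (hin 2 (by norm_num) (by decide +kernel)) (hin 3 (by norm_num) (by decide +kernel))
    (fun e => by
      rw [toList_getD _ (by norm_num), toList_getD _ (by norm_num)] at e
      have := congrArg idx (g.1.injective (idx_injective e))
      rw [idx_pt _ (by norm_num), idx_pt _ (by norm_num)] at this
      omega)
    (fun h => by
      simp only [List.mem_cons, List.not_mem_nil, or_false] at h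
      rcases h with h | h | h <;> exact hne 2 (by norm_num) _ (by simp) (by norm_num) h)
    (fun h => by
      simp only [List.mem_cons, List.not_mem_nil, or_false] at h
      rcases h with h | h | h <;> exact hne 3 (by norm_num) _ (by simp) (by norm_num) h)
  obtain ⟨c, hc⟩ := genOK_spec (m9_ok.1 L hL).1
  obtain ⟨⟨⟨hcd, hc23⟩, hc0⟩, hc1⟩ := mem_std_of_list (g := c) (hc ▸ hL)
  have hag : ∀ i < 24, (toList g.1).getD i 0 = L.getD i 0 → (c⁻¹ * g).1 (pt i) = pt i := by
    intro i hi e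
    rw [← hc, toList_getD _ hi, toList_getD _ hi] at e
    rw [Subgroup.coe_mul, Equiv.Perm.mul_apply, idx_injective e, Subgroup.coe_inv, Equiv.Perm.inv_def, Equiv.symm_apply_apply]
  have hfx : ∀ p, g.1 p = p → c.1 p = p → (c⁻¹ * g).1 p = p := fun p a b => by
    rw [Subgroup.coe_mul, Equiv.Perm.mul_apply, a, Subgroup.coe_inv, Equiv.Perm.inv_def, Equiv.symm_apply_eq, b]
  have h1' : c⁻¹ * g = 1 := by
    refine eq_one_of_fix_five (fun j hj => ?_) (by rw [mul_smul, mem_stabilizer_iff.mp hd, inv_smul_eq_iff]; exact (mem_stabilizer_iff.mp hcd).symm)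
    interval_cases j
    · exact hfx _ h23 hc23
    · exact hfx _ h0 hc0
    · exact hfx _ h1 hc1
    · exact hag 2 (by norm_num) hL2.symm
    · exact hag 3 (by norm_num) hL3.symm
  rw [← inv_mul_eq_one.mp h1', hc]
  exact hL

/-- The standard group is the list. -/
noncomputable def stdEquiv : m9Std ≃ {L // L ∈ m9List} :=
  Equiv.ofBijective (fun g => ⟨toList g.1.1, list_of_mem_std g.2⟩)
    ⟨fun a b h => Subtype.ext (toList_coe_injective (congrArg Subtype.val h)), fun L => by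
      obtain ⟨c, hc⟩ := genOK_spec (m9_ok.1 L.1 L.2).1
      exact ⟨⟨c, mem_std_of_list (hc ▸ L.2)⟩, Subtype.ext hc⟩⟩

theorem card_std : Nat.card m9Std = 72 := by
  rw [Nat.card_congr (stdEquiv.trans (Equiv.subtypeEquivRight fun L => (List.mem_toFinset (l := m9List)).symm)),
    Nat.card_eq_fintype_card, Fintype.card_coe, List.toFinset_card_of_nodup m9_ok.2.2.1, m9_ok.2.2.2.1]

theorem std_three : Nat.card {g : m9Std // g ^ 9 = 1} = 9 ∧ ∀ g : m9Std, g ^ 9 = 1 → g ^ 3 = 1 := by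
  have key : ∀ (g : m9Std) n, g ^ n = 1 ↔ powL (toList g.1.1) n = List.range 24 := fun g n => by
    rw [← toList_pow, ← toList_one]
    constructor
    · intro h
      rw [← SubgroupClass.coe_pow, ← SubgroupClass.coe_pow, h]; rfl
    · intro h
      exact Subtype.ext (toList_coe_injective h)
  refine ⟨?_, fun g h => (key g 3).mpr (m9_ok.2.2.2.2.2.1 _ (list_of_mem_std g.2) ((key g 9).mp h))⟩
  rw [Nat.card_congr (Equiv.subtypeEquiv (q := fun L => powL L.1 9 = List.range 24) stdEquiv fun g => key g 9),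
    Nat.card_congr ((Equiv.subtypeSubtypeEquivSubtypeInter (fun L => L ∈ m9List) fun L => powL L 9 = List.range 24).trans
      (Equiv.subtypeEquivRight (q := fun L => L ∈ (m9List.filter fun L => powL L 9 == List.range 24).toFinset)
        fun L => by simp)),
    Nat.card_eq_fintype_card, Fintype.card_coe, List.toFinset_card_of_nodup (m9_ok.2.2.1.filter _), m9_ok.2.2.2.2.1]

theorem std_q8 : ∃ f : QuaternionGroup 2 →* m9Std, Function.Injective f := by
  choose c hc using fun x => genOK_spec (m9_ok.1 _ (q8_ok.1 x)).1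
  refine ⟨MonoidHom.mk' (fun x => ⟨c x, mem_std_of_list (hc x ▸ q8_ok.1 x)⟩) fun x y => ?_, fun x y h => ?_⟩
  · exact Subtype.ext (toList_coe_injective (by
      simp only [Subgroup.coe_mul, toList_mul, hc]; exact q8_ok.2.1 x y))
  · exact q8_ok.2.2 ((hc x).symm.trans ((congrArg (fun g : m9Std => toList g.1.1) h).trans (hc y)))

theorem exists_m9_conj {d : Finset GolayPt} (hd : d ∈ dodecads) {p q r : GolayPt} (hp : p ∈ d) (hq : q ∈ d)
    (hr : r ∈ d) (hpq : p ≠ q) (hpr : p ≠ r) (hqr : q ≠ r) :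
    ∃ k : M24, k • refDodecad = d ∧ ∀ g, g ∈ m9 d p q r ↔ k⁻¹ * g * k ∈ m9Std := by
  obtain ⟨t, ht, htc⟩ := Finset.exists_subset_card_eq (s := d \ {p, q, r}) (n := 2) (by
    have := Finset.le_card_sdiff ({p, q, r} : Finset GolayPt) d
    have := (Finset.card_le_three (a := p) (b := q) (c := r))
    rw [dodecad_card hd] at *
    omega)
  obtain ⟨a, b, hab, rfl⟩ := Finset.card_eq_two.mp htc
  simp only [Finset.insert_subset_iff, Finset.singleton_subset_iff, Finset.mem_sdiff, Finset.mem_insert,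
    Finset.mem_singleton, not_or] at ht
  obtain ⟨k, hkd, hk⟩ := exists_std_five hd (l := [p, q, r, a, b]) rfl (by
    simp [hpq, hpr, hqr, hab, Ne.symm ht.1.2.1, Ne.symm ht.1.2.2.1, Ne.symm ht.1.2.2.2, Ne.symm ht.2.2.1,
      Ne.symm ht.2.2.2.1, Ne.symm ht.2.2.2.2]) (by simp [hp, hq, hr, ht.1.1, ht.2.1])
  refine ⟨k, hkd, fun g => ?_⟩
  have hconj : ∀ (x : GolayPt) (y : GolayPt), k.1 x = y → ((k⁻¹ * g * k) • x = x ↔ g • y = y) := fun x y e => by
    rw [mul_smul, mul_smul, inv_smul_eq_iff, show k • x = y from e]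
  simp only [Subgroup.mem_inf, mem_stabilizer_iff,
    hconj (pt 23) p (hk 0 (by norm_num)), hconj (pt 0) q (hk 1 (by norm_num)), hconj (pt 1) r (hk 2 (by norm_num))]
  rw [mul_smul (k⁻¹ * g) k, hkd, mul_smul, inv_smul_eq_iff, hkd]

/-- The conjugation from the standard group. -/
theorem exists_m9_equiv {d : Finset GolayPt} (hd : d ∈ dodecads) {p q r : GolayPt} (hp : p ∈ d) (hq : q ∈ d)
    (hr : r ∈ d) (hpq : p ≠ q) (hpr : p ≠ r) (hqr : q ≠ r) : Nonempty (m9Std ≃* m9 d p q r) := by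
  obtain ⟨k, -, hk⟩ := exists_m9_conj hd hp hq hr hpq hpr hqr
  exact ⟨
    { toFun := fun g => ⟨k * g.1 * k⁻¹, (hk _).mpr (by simpa [mul_assoc] using g.2)⟩
      invFun := fun g => ⟨k⁻¹ * g.1 * k, (hk _).mp g.2⟩
      left_inv := fun g => Subtype.ext (by simp [mul_assoc])
      right_inv := fun g => Subtype.ext (by simp [mul_assoc])
      map_mul' := fun g h => Subtype.ext (by simp [mul_assoc]) }⟩

theorem m9_transitive {d : Finset GolayPt} (hd : d ∈ dodecads) {p q r : GolayPt} (hp : p ∈ d) (hq : q ∈ d)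
    (hr : r ∈ d) (hpq : p ≠ q) (hpr : p ≠ r) (hqr : q ≠ r) {x y : GolayPt} (hx : x ∉ d) (hy : y ∉ d) :
    ∃ g ∈ m9 d p q r, g.1 x = y := by
  obtain ⟨k, hkd, hk⟩ := exists_m9_conj hd hp hq hr hpq hpr hqr
  have hout : ∀ z, z ∉ d → (8442831 : ℕ).testBit (idx (k.1.symm z)) = false := fun z hz => by
    rw [Bool.eq_false_iff, ne_eq, ← mem_pts, ← refDod_eq]
    intro h
    exact hz (hkd ▸ (show k • k.1.symm z ∈ k • refDodecad from (smul_mem_iff' k).mpr h) |> fun h' => by
      rwa [show k • k.1.symm z = z from k.1.apply_symm_apply z] at h')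
  obtain ⟨L, hL, hLxy⟩ := m9_ok.2.2.2.2.2.2 _ (idx_lt _) _ (idx_lt _) (hout x hx) (hout y hy)
  obtain ⟨c, hc⟩ := genOK_spec (m9_ok.1 L hL).1
  refine ⟨k * c * k⁻¹, (hk _).mpr (by simpa [mul_assoc] using mem_std_of_list (g := c) (hc ▸ hL)), ?_⟩
  rw [← hc, toList_getD_idx] at hLxy
  simp [Equiv.Perm.mul_apply, idx_injective hLxy]

/-- Sylow subgroups of a group shaped like the standard one. -/
theorem m9_structure {K : Type*} [Group K] [Finite K] (e : m9Std ≃* K) :
    (∀ Q : Sylow 3 K, (Q : Subgroup K).Normal ∧ Nat.card ↥Q = 9 ∧ ∀ x ∈ (Q : Subgroup K), x ^ 3 = 1) ∧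
    ∀ P : Sylow 2 K, Nonempty (↥P ≃* QuaternionGroup 2) := by
  haveI : Fact (Nat.Prime 3) := ⟨Nat.prime_three⟩
  haveI : Fact (Nat.Prime 2) := ⟨Nat.prime_two⟩
  have hK : Nat.card K = 72 := by rw [← Nat.card_congr e.toEquiv, card_std]
  have hfac : (72 : ℕ).factorization 3 = 2 ∧ (72 : ℕ).factorization 2 = 3 := by
    rw [show (72 : ℕ) = 3 ^ 2 * 2 ^ 3 by norm_num, Nat.factorization_mul (by norm_num) (by norm_num),
      Finsupp.add_apply, Finsupp.add_apply, Nat.Prime.factorization_pow Nat.prime_three,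
      Nat.Prime.factorization_pow Nat.prime_two]
    simp
  have h9 : Nat.card {x : K // x ^ 9 = 1} = 9 := by
    refine Eq.trans ?_ std_three.1
    exact (Nat.card_congr (e.toEquiv.subtypeEquiv fun g => by
      show g ^ 9 = 1 ↔ (e g) ^ 9 = 1
      rw [← map_pow, map_eq_one_iff e e.injective])).symm
  have h93 : ∀ x : K, x ^ 9 = 1 → x ^ 3 = 1 := fun x hx => by
    obtain ⟨g, rfl⟩ := e.surjective x
    rw [← map_pow, map_eq_one_iff e e.injective] at hx
    rw [← map_pow, std_three.2 g hx, map_one]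
  have hQ : ∀ Q : Sylow 3 K, Nat.card ↥Q = 9 ∧ ((Q : Subgroup K) : Set K) = {x | x ^ 9 = 1} := by
    intro Q
    have hc : Nat.card ↥Q = 9 := (Sylow.card_eq_multiplicity Q).trans (by rw [hK, hfac.1]; rfl)
    refine ⟨hc, Set.eq_of_subset_of_ncard_le (fun x hx => ?_) ?_⟩
    · show x ^ 9 = 1
      rw [← hc]
      exact congrArg Subtype.val (pow_card_eq_one' (x := (⟨x, hx⟩ : (Q : Subgroup K))))
    · rw [← Nat.card_coe_set_eq, ← Nat.card_coe_set_eq]
      exact le_of_eq (h9.trans hc.symm)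
  refine ⟨fun Q => ⟨⟨fun x hx g => ?_⟩, (hQ Q).1, fun x hx => h93 x ((hQ Q).2.le hx)⟩, fun P => ?_⟩
  · refine (hQ Q).2.ge ?_
    show (g * x * g⁻¹) ^ 9 = 1
    rw [conj_pow, show x ^ 9 = 1 from (hQ Q).2.le hx, mul_one, mul_inv_cancel]
  · obtain ⟨f, hf⟩ := std_q8
    set f' : QuaternionGroup 2 →* K := e.toMonoidHom.comp f with hf'
    have hinj : Function.Injective f' := e.injective.comp hf
    let S : Sylow 2 K := Sylow.ofCard f'.range (by
      rw [← Nat.card_congr (MonoidHom.ofInjective hinj).toEquiv, hK, hfac.2, Nat.card_eq_fintype_card, QuaternionGroup.card]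
      rfl)
    exact ⟨(Sylow.equiv P S).trans (MonoidHom.ofInjective hinj).symm⟩

end CfsgLib.Golay.Cert
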