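/-
The graph of disjoint octads has diameter three.
-/
import Cfsg.Agent.Golay.OctadOrbits
import Cfsg.Agent.Steiner.Numbers

set_option autoImplicit false

namespace CfsgLib.Golay.Cert

open Cfsg CfsgLib.Golay
open scoped Pointwise

/-- A mask which is a code word of weight eight. -/
def isOct (m : ℕ) : Bool := word (m % 4096) == m && wt 24 m == 8

theorem isOct_mem {m : ℕ} (h : isOct m = true) : pts m ∈ octads := by
  simp only [isOct, Bool.and_eq_true, beq_iff_eq] at h
  exact (mem_octads_iff _).mpr ⟨m % 4096, Nat.mod_lt _ (by norm_num), by rw [h.1]; exact h.2, by rw [h.1]⟩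

theorem pts_disjoint {a b : ℕ} (h : a &&& b = 0) : Disjoint (pts a) (pts b) := by
  rw [Finset.disjoint_left]
  intro p hp hq
  rw [mem_pts] at hp hq
  have : (a &&& b).testBit (idx p) = true := by rw [Nat.testBit_and, hp, hq]; rfl
  rw [h, Nat.zero_testBit] at this
  exact Bool.noConfusion this

theorem disjoint_smul {g : M24} {s t : Finset GolayPt} (h : Disjoint s t) : Disjoint (g • s) (g • t) := by
  rw [Finset.disjoint_iff_inter_eq_empty] at h ⊢
  rw [← Finset.smul_finset_inter, h, Finset.smul_finset_empty]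

/-- A pair of octads moved to the standard one with the same intersection size. -/
theorem pair_map {o o' : Finset GolayPt} (ho : o ∈ octads) (ho' : o' ∈ octads) (m : ℕ)
    (hm : isOct m = true) (hi : (o ∩ o').card = wt 24 (8536111 &&& m)) :
    ∃ h : M24, h • oStd = o ∧ h • pts m = o' := by
  obtain ⟨k, hk⟩ := octad_transitive oStd_mem ho
  have hpm := smul_mem_octads' k (isOct_mem hm)
  obtain ⟨g, hg, hgo⟩ := (oct_trans ho).sets octads_cat.1 hpm ho' (by
    have hint : oStd ∩ pts m = pts (8536111 &&& m) := by ext p; simp [oStd, pts, Nat.testBit_and]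
    simp only [sig, List.map_cons, List.map_nil, J_one'_one']
    rw [hi]
    subst hk
    simp only [← Finset.smul_finset_inter, Finset.card_smul_finset, hint, card_pts])
  exact ⟨g * k, by rw [mul_smul, hk, fixes_one'.mp (hg _ (by simp))], by rw [mul_smul, hgo]⟩

theorem no_common : ∀ c < 4096, wt 24 (word c) ≠ 8 ∨ word c &&& 8536111 ≠ 0 ∨ word c &&& 15777 ≠ 0 :=
  forall_lt_4096 (by decide +kernel)

theorem common_four {o o' : Finset GolayPt} (ho : o ∈ octads) (ho' : o' ∈ octads) (h : (o ∩ o').card = 4) :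
    ∃ x ∈ octads, Disjoint o x ∧ Disjoint x o' := by
  obtain ⟨k, hk, hk'⟩ := pair_map ho ho' 5279 (by decide +kernel) (by rw [h]; decide +kernel)
  exact ⟨k • pts 4038912, smul_mem_octads' k (isOct_mem (by decide +kernel)),
    hk ▸ disjoint_smul (pts_disjoint (by decide +kernel)),
    hk' ▸ disjoint_smul (pts_disjoint (by decide +kernel))⟩

theorem path_two {o o' : Finset GolayPt} (ho : o ∈ octads) (ho' : o' ∈ octads) (h : (o ∩ o').card = 2) :
    (∃ x ∈ octads, ∃ y ∈ octads, Disjoint o x ∧ Disjoint x y ∧ Disjoint y o') ∧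
      ¬ ∃ x ∈ octads, Disjoint o x ∧ Disjoint x o' := by
  obtain ⟨k, hk, hk'⟩ := pair_map ho ho' 15777 (by decide +kernel) (by rw [h]; decide +kernel)
  refine ⟨⟨k • pts 337856, smul_mem_octads' k (isOct_mem (by decide +kernel)), k • pts 6832158,
    smul_mem_octads' k (isOct_mem (by decide +kernel)), hk ▸ disjoint_smul (pts_disjoint (by decide +kernel)),
    disjoint_smul (pts_disjoint (by decide +kernel)), hk' ▸ disjoint_smul (pts_disjoint (by decide +kernel))⟩, ?_⟩
  rintro ⟨x, hx, h1, h2⟩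
  obtain ⟨c, hc, hw, hcx⟩ := (mem_octads_iff _).mp (smul_mem_octads' k⁻¹ hx)
  have key : ∀ m : ℕ, Disjoint (pts (word c)) (pts m) → m < 2 ^ 24 → word c &&& m = 0 := fun m hd hm => by
    refine pts_inj (lt_of_le_of_lt Nat.and_le_right hm) (by norm_num) ?_
    ext p
    simp only [mem_pts, Nat.testBit_and, Bool.and_eq_true, Nat.zero_testBit, Bool.false_eq_true, iff_false]
    exact fun hh => Finset.disjoint_left.mp hd (mem_pts.mpr hh.1) (mem_pts.mpr hh.2)
  have d1 : Disjoint (k⁻¹ • x) (k⁻¹ • o) := disjoint_smul h1.symm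
  have d2 : Disjoint (k⁻¹ • x) (k⁻¹ • o') := disjoint_smul h2
  rw [← hk, inv_smul_smul, hcx] at d1
  rw [← hk', inv_smul_smul, hcx] at d2
  rcases no_common c hc with h | h | h
  · exact h hw
  · exact h (key _ d1 (by norm_num))
  · exact h (key _ d2 (by norm_num))

theorem adj_iff {a b : octads} :
    (blockGraph octads).Adj a b ↔ Disjoint (a : Finset GolayPt) (b : Finset GolayPt) := by
  rw [blockGraph, SimpleGraph.fromRel_adj]
  refine ⟨fun h => h.2.elim id fun h' => h'.symm, fun h => ⟨fun he => ?_, Or.inl h⟩⟩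
  subst he
  have h8 := octad_card a.2
  rw [disjoint_self.mp h, Finset.bot_eq_empty, Finset.card_empty] at h8
  omega

theorem walk_two {V : Type*} {G : SimpleGraph V} {u v : V} (p : G.Walk u v) (h : p.length = 2) :
    ∃ x, G.Adj u x ∧ G.Adj x v := by
  cases p with
  | nil => simp at h
  | cons h1 q =>
    cases q with
    | nil => simp at h
    | cons h2 r =>
      cases r with
      | nil => exact ⟨_, h1, h2⟩
      | cons h3 s => simp at h

theorem octad_graph {o o' : Finset GolayPt} (ho : o ∈ octads) (ho' : o' ∈ octads) (hne : o ≠ o') :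
    (blockGraph octads).Reachable ⟨o, ho⟩ ⟨o', ho'⟩ ∧
    (blockGraph octads).dist ⟨o, ho⟩ ⟨o', ho'⟩ =
      if (o ∩ o').card = 0 then 1 else if (o ∩ o').card = 4 then 2 else 3 := by
  set G := blockGraph octads
  set u : octads := ⟨o, ho⟩
  set v : octads := ⟨o', ho'⟩
  have hne' : u ≠ v := fun h => hne (congrArg Subtype.val h)
  have hlow : ∀ {n : ℕ}, G.Reachable u v → G.dist u v = n → (n = 1 → G.Adj u v) ∧
      (n = 2 → ∃ x, G.Adj u x ∧ G.Adj x v) ∧ n ≠ 0 := by
    intro n hr hd
    obtain ⟨p, hp⟩ := hr.exists_walk_length_eq_dist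
    rw [hd] at hp
    refine ⟨fun h1 => ?_, fun h2 => ?_, fun h0 => ?_⟩
    · exact SimpleGraph.dist_eq_one_iff_adj.mp (hd.trans h1)
    · exact walk_two p (hp.trans h2)
    · exact hne' (SimpleGraph.Walk.eq_of_length_eq_zero (hp.trans h0))
  rcases Steiner.inter_cases_24 octads_steiner card_golayPt ho ho' hne with h | h | h
  · have hadj : G.Adj u v := adj_iff.mpr (Finset.disjoint_iff_inter_eq_empty.mpr (Finset.card_eq_zero.mp h))
    exact ⟨hadj.reachable, by rw [if_pos h]; exact SimpleGraph.dist_eq_one_iff_adj.mpr hadj⟩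
  · obtain ⟨⟨x, hx, y, hy, hox, hxy, hyo⟩, hno⟩ := path_two ho ho' h
    have w : G.Walk u v := .cons ((adj_iff (a := u) (b := ⟨x, hx⟩)).mpr hox)
      (.cons ((adj_iff (a := ⟨x, hx⟩) (b := ⟨y, hy⟩)).mpr hxy) (.cons ((adj_iff (a := ⟨y, hy⟩) (b := v)).mpr hyo) .nil))
    have w3 : G.dist u v ≤ 3 := by
      have := SimpleGraph.dist_le (G := G) (u := u) (v := v)
        (.cons ((adj_iff (a := u) (b := ⟨x, hx⟩)).mpr hox) (.cons ((adj_iff (a := ⟨x, hx⟩) (b := ⟨y, hy⟩)).mpr hxy)
          (.cons ((adj_iff (a := ⟨y, hy⟩) (b := v)).mpr hyo) .nil)))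
      simpa using this
    refine ⟨w.reachable, ?_⟩
    rw [if_neg (by omega), if_neg (by omega)]
    obtain ⟨g1, g2, g0⟩ := hlow w.reachable rfl
    have n1 : G.dist u v ≠ 1 := fun e => by
      have := Finset.disjoint_iff_inter_eq_empty.mp (adj_iff.mp (g1 e))
      rw [this, Finset.card_empty] at h
      omega
    have n2 : G.dist u v ≠ 2 := fun e => by
      obtain ⟨z, a, b⟩ := g2 e
      exact hno ⟨z.1, z.2, adj_iff.mp a, adj_iff.mp b⟩
    omega
  · obtain ⟨x, hx, hox, hxo⟩ := common_four ho ho' h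
    have hr : G.Reachable u v := ((adj_iff (a := u) (b := ⟨x, hx⟩)).mpr hox).reachable.trans
      ((adj_iff (a := ⟨x, hx⟩) (b := v)).mpr hxo).reachable
    have w2 : G.dist u v ≤ 2 := by
      have := SimpleGraph.dist_le (G := G) (u := u) (v := v)
        (.cons ((adj_iff (a := u) (b := ⟨x, hx⟩)).mpr hox) (.cons ((adj_iff (a := ⟨x, hx⟩) (b := v)).mpr hxo) .nil))
      simpa using this
    refine ⟨hr, ?_⟩
    rw [if_neg (by omega), if_pos h]
    obtain ⟨g1, g2, g0⟩ := hlow hr rfl
    have n1 : G.dist u v ≠ 1 := fun e => by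
      have := Finset.disjoint_iff_inter_eq_empty.mp (adj_iff.mp (g1 e))
      rw [this, Finset.card_empty] at h
      omega
    omega

end CfsgLib.Golay.Cert
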