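/-
The centraliser of an involution with eight fixed points: the affine group of the octad.
-/
import Cfsg.Agent.Golay.OctadStab
import Cfsg.Agent.Golay.InvCount
import Cfsg.Agent.LargeExtra.VectorStabilizer
import Cfsg.Agent.LargeExtra.Holomorph
import Mathlib.LinearAlgebra.Matrix.GeneralLinearGroup.Card

set_option autoImplicit false

namespace CfsgLib.Holomorph

open Subgroup

/-- An injective homomorphism carries a centralizer onto a centralizer contained in its range. -/
theorem cent_of_injective {H G : Type*} [Group H] [Group G] (ψ : H →* G) (hψ : Function.Injective ψ) (a : H)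
    (hle : centralizer ({ψ a} : Set G) ≤ ψ.range) :
    Nonempty (↥(centralizer ({a} : Set H)) ≃* ↥(centralizer ({ψ a} : Set G))) := by
  have h : (centralizer ({a} : Set H)).map ψ = centralizer ({ψ a} : Set G) := by
    ext g
    constructor
    · rintro ⟨x, hx, rfl⟩
      rw [mem_centralizer_singleton_iff, ← map_mul, ← map_mul, mem_centralizer_singleton_iff.mp hx]
    · intro hg
      obtain ⟨x, rfl⟩ := hle hg
      refine ⟨x, mem_centralizer_singleton_iff.mpr (hψ ?_), rfl⟩
      rw [map_mul, map_mul, mem_centralizer_singleton_iff.mp hg]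
  exact ⟨(equivMapOfInjective _ ψ hψ).trans (MulEquiv.subgroupCongr h)⟩

/-- The model group of a normal subgroup with its full automorphism group. -/
theorem embed {G : Type*} [Group G] (U M : Subgroup G) (hn : M ≤ normalizer (U : Set G)) (hd : U ⊓ M = ⊥)
    (hf : ∀ m ∈ M, (∀ u ∈ U, m * u * m⁻¹ = u) → m = 1)
    (hs : ∀ φ : ↥U ≃* ↥U, ∃ m ∈ M, ∀ u : ↥U, ((φ u : ↥U) : G) = m * u * m⁻¹) :
    ∃ ψ : (↥U ⋊[MonoidHom.id (MulAut ↥U)] MulAut ↥U) →* G, Function.Injective ψ ∧
      (∀ u : ↥U, ψ (SemidirectProduct.inl u) = u) ∧ U ⊔ M ≤ ψ.range := by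
  choose j hjM hj using hs
  have huniq : ∀ (φ : ↥U ≃* ↥U) (m : G), m ∈ M → (∀ u : ↥U, ((φ u : ↥U) : G) = m * u * m⁻¹) → j φ = m := by
    intro φ m hm h
    refine (inv_mul_eq_one.mp (hf _ (mul_mem (inv_mem hm) (hjM φ)) fun u hu => ?_)).symm
    have e1 := hj φ ⟨u, hu⟩
    rw [h ⟨u, hu⟩] at e1
    calc m⁻¹ * j φ * u * (m⁻¹ * j φ)⁻¹ = m⁻¹ * (j φ * u * (j φ)⁻¹) * m := by group
      _ = m⁻¹ * (m * u * m⁻¹) * m := by rw [← e1]
      _ = u := by group
  let J : MulAut ↥U →* G := MonoidHom.mk' j fun φ χ => huniq _ _ (mul_mem (hjM φ) (hjM χ)) fun u => by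
    show ((φ (χ u) : ↥U) : G) = _
    rw [hj φ, hj χ]
    group
  refine ⟨SemidirectProduct.lift U.subtype J fun φ => MonoidHom.ext fun u => hj φ u, ?_, fun u => ?_, ?_⟩
  · rw [injective_iff_map_eq_one]
    intro x hx
    have h1 : (x.left : G) * j x.right = 1 := hx
    have h2 : j x.right ∈ U ⊓ M := ⟨by rw [eq_inv_of_mul_eq_one_right h1]; exact U.inv_mem x.left.2, hjM _⟩
    rw [hd, mem_bot] at h2
    rw [h2, mul_one] at h1
    have hr : x.right = 1 := MulEquiv.ext fun u => Subtype.ext (by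
      rw [hj x.right u, h2]
      simp)
    exact SemidirectProduct.ext (Subtype.ext h1) hr
  · exact SemidirectProduct.lift_inl _ _ _ u
  · refine sup_le (fun u hu => ⟨SemidirectProduct.inl ⟨u, hu⟩, SemidirectProduct.lift_inl _ _ _ _⟩) fun m hm => ?_
    let φ : ↥U ≃* ↥U :=
      { toFun := fun u => ⟨m * u * m⁻¹, (mem_normalizer_iff.mp (hn hm) u).mp u.2⟩
        invFun := fun u => ⟨m⁻¹ * u * m, by
          have := (mem_normalizer_iff.mp (hn hm) (m⁻¹ * u * m)).mpr (by
            rw [show m * (m⁻¹ * (u : G) * m) * m⁻¹ = u by group]; exact u.2)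
          exact this⟩
        left_inv := fun u => Subtype.ext (show m⁻¹ * (m * (u : G) * m⁻¹) * m = u by group)
        right_inv := fun u => Subtype.ext (show m * (m⁻¹ * (u : G) * m) * m⁻¹ = u by group)
        map_mul' := fun u v => Subtype.ext (show m * ((u : G) * v) * m⁻¹ = m * u * m⁻¹ * (m * v * m⁻¹) by group) }
    refine ⟨SemidirectProduct.inr φ, ?_⟩
    rw [SemidirectProduct.lift_inr]
    exact huniq φ m hm fun u => rfl

/-- Two configurations of a normal subgroup with its full automorphism group have isomorphic centralizers. -/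
theorem cent_iso {G G' : Type*} [Group G] [Group G'] (U M : Subgroup G) (U' M' : Subgroup G')
    (hn : M ≤ normalizer (U : Set G)) (hn' : M' ≤ normalizer (U' : Set G'))
    (hd : U ⊓ M = ⊥) (hd' : U' ⊓ M' = ⊥)
    (hf : ∀ m ∈ M, (∀ u ∈ U, m * u * m⁻¹ = u) → m = 1) (hf' : ∀ m ∈ M', (∀ u ∈ U', m * u * m⁻¹ = u) → m = 1)
    (hs : ∀ φ : ↥U ≃* ↥U, ∃ m ∈ M, ∀ u : ↥U, ((φ u : ↥U) : G) = m * u * m⁻¹)
    (hs' : ∀ φ : ↥U' ≃* ↥U', ∃ m ∈ M', ∀ u : ↥U', ((φ u : ↥U') : G') = m * u * m⁻¹)
    (e : ↥U ≃* ↥U') (z : ↥U) (hc : centralizer ({(z : G)} : Set G) ≤ U ⊔ M)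
    (hc' : centralizer ({(e z : G')} : Set G') ≤ U' ⊔ M') :
    Nonempty (↥(centralizer ({(z : G)} : Set G)) ≃* ↥(centralizer ({(e z : G')} : Set G'))) := by
  obtain ⟨ψ, hψ, hψi, hψr⟩ := embed U M hn hd hf hs
  obtain ⟨ψ', hψ', hψi', hψr'⟩ := embed U' M' hn' hd' hf' hs'
  let E : (↥U ⋊[MonoidHom.id (MulAut ↥U)] MulAut ↥U) ≃* (↥U' ⋊[MonoidHom.id (MulAut ↥U')] MulAut ↥U') :=
    SemidirectProduct.congr e (MulAut.congr e) fun φ => MulEquiv.ext fun u => by simp [MulAut.congr]
  obtain ⟨a⟩ := cent_of_injective ψ hψ (SemidirectProduct.inl z) (by rw [hψi]; exact hc.trans hψr)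
  have hez : (ψ'.comp E.toMonoidHom) (SemidirectProduct.inl z) = (e z : G') := by
    rw [MonoidHom.comp_apply]
    convert hψi' (e z) using 2
    exact SemidirectProduct.ext rfl (map_one (MulAut.congr e))
  obtain ⟨b⟩ := cent_of_injective (ψ'.comp E.toMonoidHom) (hψ'.comp E.injective) (SemidirectProduct.inl z) (by
    rw [hez]
    refine hc'.trans (hψr'.trans fun x hx => ?_)
    obtain ⟨y, rfl⟩ := hx
    exact ⟨E.symm y, congrArg ψ' (E.apply_symm_apply y)⟩)
  exact ⟨((MulEquiv.subgroupCongr (by rw [hψi])).trans a.symm).trans (b.trans (MulEquiv.subgroupCongr (by rw [hez])))⟩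

theorem transvection_eq_trHom (n : ℕ) (z : Matrix.SpecialLinearGroup (Fin (n + 2)) (ZMod 2))
    (hz : (z : Matrix (Fin (n + 2)) (Fin (n + 2)) (ZMod 2)) = Matrix.transvection 0 1 1) :
    z = trHom (Multiplicative.ofAdd (Pi.single (0 : Fin (n + 1)) 1)) := by
  refine Subtype.ext (hz.trans (Matrix.ext fun i k => ?_))
  show _ = trMat (Pi.single (0 : Fin (n + 1)) 1) i k
  rw [show (1 : Fin (n + 2)) = (0 : Fin (n + 1)).succ from rfl]
  cases i using Fin.cases with
  | zero =>
    cases k using Fin.cases with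
    | zero => simp [trMat, Matrix.transvection, Matrix.single, -Fin.succ_zero_eq_one]
    | succ k =>
      by_cases hk : k = 0
      · subst hk
        simp [trMat, Matrix.transvection, Matrix.single, -Fin.succ_zero_eq_one]
      · have h1 : (0 : Fin (n + 1)).succ ≠ k.succ := fun h => hk (Fin.succ_inj.1 h).symm
        simp [trMat, Matrix.transvection, Matrix.single, hk, h1,
          (Fin.succ_ne_zero _).symm, -Fin.succ_zero_eq_one]
        intro h
        exact h1 (Fin.succ_zero_eq_one.trans h)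
  | succ i =>
    cases k using Fin.cases with
    | zero => simp [trMat, Matrix.transvection, Matrix.single, (Fin.succ_ne_zero _).symm, -Fin.succ_zero_eq_one]
    | succ k =>
      by_cases hk : i = k
      · subst hk
        simp [trMat, Matrix.transvection, Matrix.single, (Fin.succ_ne_zero _).symm, -Fin.succ_zero_eq_one]
      · simp [trMat, Matrix.transvection, Matrix.single, (Fin.succ_ne_zero _).symm,
          hk, Ne.symm hk, -Fin.succ_zero_eq_one]

/-- An elementary abelian group of order `2 ^ (n + 1)`, with a chosen nontrivial element. -/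
theorem exists_model {G : Type*} [Group G] [Finite G] {U : Subgroup G} (hU : Cfsg.IsElementaryAbelian 2 U) (n : ℕ)
    (hc : Nat.card U = 2 ^ (n + 1)) (z : U) (hz : z ≠ 1) :
    ∃ e : U ≃* Multiplicative (V n), e z = Multiplicative.ofAdd ((0, 1) : V n) := by
  letI : CommGroup U := { (inferInstance : Group U) with mul_comm := fun a b => hU.1.is_comm.comm a b }
  have hU2 : ∀ x : Additive U, 2 • x = 0 := fun x => by
    apply Additive.toMul.injective
    exact Subtype.ext (hU.2 _ x.toMul.2)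
  letI : Module (ZMod 2) (Additive U) := AddCommGroup.zmodModule hU2
  obtain ⟨e₀, he₀⟩ := exists_basis (W := Additive U) n (by rw [← hc]; exact Nat.card_congr Additive.toMul)
    (v := Additive.ofMul z) (fun e => hz (congrArg Additive.toMul e))
  exact ⟨AddEquiv.toMultiplicativeRight e₀.toAddEquiv, congrArg Multiplicative.ofAdd he₀⟩

/-- The automorphism group of an elementary abelian 2-group is at most the general linear group. -/
theorem card_mulAut_le {W : Type*} [Group W] [Finite W] (m : ℕ) (e : W ≃* Multiplicative (Fin m → ZMod 2)) :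
    Nat.card (MulAut W) ≤ Nat.card (GL (Fin m) (ZMod 2)) := by
  let f : MulAut (Multiplicative (Fin m → ZMod 2)) → ((Fin m → ZMod 2) →ₗ[ZMod 2] (Fin m → ZMod 2))ˣ := fun φ =>
    (LinearMap.GeneralLinearGroup.generalLinearEquiv (ZMod 2) (Fin m → ZMod 2)).symm
      ((AddEquiv.toMultiplicative.symm φ).toLinearEquiv fun c x =>
        ZMod.map_smul (AddEquiv.toMultiplicative.symm φ).toAddMonoidHom c x)
  have hf : Function.Injective f := fun φ χ h => by
    have h' := (LinearMap.GeneralLinearGroup.generalLinearEquiv (ZMod 2) (Fin m → ZMod 2)).symm.injective h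
    exact MulEquiv.ext fun x => congrArg Multiplicative.ofAdd (LinearEquiv.congr_fun h' x.toAdd)
  rw [Nat.card_congr (MulAut.congr e).toEquiv, Nat.card_congr (Matrix.GeneralLinearGroup.toLin (R := ZMod 2) (n := Fin m)).toEquiv]
  haveI := Finite.of_equiv _ (Matrix.GeneralLinearGroup.toLin (R := ZMod 2) (n := Fin m)).toEquiv
  exact Nat.card_le_card_of_injective f hf

end CfsgLib.Holomorph

namespace CfsgLib.Golay.Cert

open Cfsg CfsgLib.Golay MulAction
open scoped Pointwise

/-- The pointwise stabiliser of a set. -/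
def octFix (o : Finset GolayPt) : Subgroup M24 where
  carrier := {g | ∀ x ∈ o, g.1 x = x}
  one_mem' := fun _ _ => rfl
  mul_mem' := fun {a b} ha hb x hx => by
    show a.1 (b.1 x) = x
    rw [hb x hx, ha x hx]
  inv_mem' := fun {a} ha x hx => by
    show a.1⁻¹ x = x
    rw [Equiv.Perm.inv_def, Equiv.symm_apply_eq, ha x hx]

variable {o : Finset GolayPt}

theorem mem_octFix_M24 {g : M24} :
    g ∈ octFix o ↔ g.1 ∈ M24 ⊓ fixingSubgroup (Equiv.Perm GolayPt) (o : Set GolayPt) :=
  ⟨fun h => ⟨g.2, mem_fix_iff.mpr h⟩, fun h => mem_fix_iff.mp h.2⟩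

theorem card_octFix (ho : o ∈ octads) : Nat.card (octFix o) = 16 := by
  rw [← (octad_fixing ho).1]
  exact Nat.card_congr
    { toFun := fun g => ⟨g.1.1, mem_octFix_M24.mp g.2⟩
      invFun := fun g => ⟨⟨g.1, g.2.1⟩, mem_octFix_M24.mpr g.2⟩
      left_inv := fun _ => rfl
      right_inv := fun _ => rfl }

theorem octFix_elementary (ho : o ∈ octads) : Cfsg.IsElementaryAbelian 2 (octFix o) := by
  have hsq : ∀ g ∈ octFix o, g * g = 1 := fun g hg =>
    Subtype.ext ((octad_fixing ho).2 _ (mem_octFix_M24.mp hg))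
  refine ⟨⟨⟨fun a b => Subtype.ext ?_⟩⟩, fun g hg => (sq g).trans (hsq g hg)⟩
  have h1 : (a.1 * b.1) * (a.1 * b.1) = 1 := hsq _ (mul_mem a.2 b.2)
  show a.1 * b.1 = b.1 * a.1
  calc a.1 * b.1 = (a.1 * b.1)⁻¹ := eq_inv_of_mul_eq_one_left h1
    _ = b.1⁻¹ * a.1⁻¹ := mul_inv_rev _ _
    _ = b.1 * a.1 := by rw [inv_eq_of_mul_eq_one_right (hsq _ a.2), inv_eq_of_mul_eq_one_right (hsq _ b.2)]

theorem octad_affine (ho : o ∈ octads) {p : GolayPt} (hp : p ∉ o) :
    stabilizer M24 o ⊓ stabilizer M24 p ≤ Subgroup.normalizer (octFix o : Set M24) ∧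
    octFix o ⊓ (stabilizer M24 o ⊓ stabilizer M24 p) = ⊥ ∧
    (∀ m ∈ stabilizer M24 o ⊓ stabilizer M24 p, (∀ u ∈ octFix o, m * u * m⁻¹ = u) → m = 1) ∧
    (∀ φ : ↥(octFix o) ≃* ↥(octFix o), ∃ m ∈ stabilizer M24 o ⊓ stabilizer M24 p,
      ∀ u : ↥(octFix o), ((φ u : ↥(octFix o)) : M24) = m * u * m⁻¹) ∧
    ∀ u ∈ octFix o, u ≠ 1 → Subgroup.centralizer ({u} : Set M24) ≤
      octFix o ⊔ (stabilizer M24 o ⊓ stabilizer M24 p) := by
  classical
  set U := octFix o
  set M := stabilizer M24 o ⊓ stabilizer M24 p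
  have hconj : ∀ g ∈ stabilizer M24 o, ∀ u ∈ U, g * u * g⁻¹ ∈ U := by
    intro g hg u hu x hx
    have h1 : g.1⁻¹ x ∈ o := by
      rw [← smul_mem_iff' g, mem_stabilizer_iff.mp hg]
      show g.1 (g.1⁻¹ x) ∈ o
      rw [Equiv.Perm.inv_def, Equiv.apply_symm_apply]
      exact hx
    show g.1 (u.1 (g.1⁻¹ x)) = x
    rw [hu _ h1, Equiv.Perm.inv_def, Equiv.apply_symm_apply]
  have hnorm : M ≤ Subgroup.normalizer (U : Set M24) := fun g hg => by
    refine Subgroup.mem_normalizer_iff.mpr fun u => ⟨hconj g hg.1 u, fun h => ?_⟩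
    have := hconj g⁻¹ (inv_mem hg.1) _ h
    simpa [mul_assoc] using this
  have hdis : U ⊓ M = ⊥ := (Subgroup.eq_bot_iff_forall _).mpr fun g hg => eq_one_of_fix ho hp hg.1 hg.2.2
  have hfaith : ∀ m ∈ M, (∀ u ∈ U, m * u * m⁻¹ = u) → m = 1 := by
    intro m hm h
    have hout : ∀ q ∉ o, m.1 q = q := fun q hq => by
      obtain ⟨e, he, hep⟩ := exists_fix_map ho hp hq
      have hc := congrArg (fun z : M24 => z.1 p) (mul_inv_eq_iff_eq_mul.mp (h e he))
      simp only [Subgroup.coe_mul, Equiv.Perm.mul_apply, show m.1 p = p from hm.2, hep] at hc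
      exact hc
    obtain ⟨o', ho'⟩ : ((Steiner.blocks octads).filter (Disjoint o ·)).Nonempty :=
      Finset.card_pos.mp (by rw [octads_disjoint ho]; norm_num)
    rw [Finset.mem_filter, Steiner.mem_blocks] at ho'
    obtain ⟨r, -, hr⟩ : ∃ r ∈ (Finset.univ : Finset GolayPt), r ∉ o ∪ o' :=
      Finset.exists_mem_notMem_of_card_lt_card (lt_of_le_of_lt (Finset.card_union_le _ _) (by
        rw [octad_card ho, octad_card ho'.1, Finset.card_univ, card_golayPt]; norm_num))
    rw [Finset.mem_union, not_or] at hr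
    exact eq_one_of_fix ho'.1 hr.2 (fun x hx => hout x fun hxo => Finset.disjoint_left.mp ho'.2 hxo hx)
      (hout r hr.1)
  have hU2 := octFix_elementary ho
  obtain ⟨u0, hu0, hu1⟩ : ∃ u ∈ U, u ≠ 1 := by
    by_contra h
    push Not at h
    have := card_octFix ho
    rw [show octFix o = ⊥ from (Subgroup.eq_bot_iff_forall _).mpr h, Subgroup.card_bot] at this
    omega
  have haut : Nat.card (MulAut ↥U) ≤ 20160 := by
    obtain ⟨e, -⟩ := Holomorph.exists_model hU2 3 (card_octFix ho) ⟨u0, hu0⟩ (fun e => hu1 (congrArg Subtype.val e))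
    haveI : Fact (Nat.Prime 2) := ⟨Nat.prime_two⟩
    let j : Holomorph.V 3 ≃+ (Fin 4 → ZMod 2) :=
      { toFun := fun x => ![x.1 0, x.1 1, x.1 2, x.2]
        invFun := fun f => (![f 0, f 1, f 2], f 3)
        left_inv := fun x => by
          refine Prod.ext (funext fun i => ?_) rfl
          fin_cases i <;> rfl
        right_inv := fun f => by
          refine funext fun i => ?_
          fin_cases i <;> rfl
        map_add' := fun x y => by
          refine funext fun i => ?_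
          fin_cases i <;> rfl }
    refine (Holomorph.card_mulAut_le 4 (e.trans (AddEquiv.toMultiplicative j))).trans ?_
    rw [Matrix.card_GL_field]
    simp [Fin.prod_univ_four, ZMod.card]
  let c : M →* MulAut ↥U := U.normalizerMonoidHom.comp (Subgroup.inclusion hnorm)
  have hc : ∀ (m : M) (u : U), ((c m u : U) : M24) = (m : M24) * u * (m : M24)⁻¹ := fun _ _ => rfl
  have hcard : Nat.card M = 20160 := by
    have e : M ≃ ↥(M24 ⊓ stabilizer (Equiv.Perm GolayPt) o ⊓ stabilizer (Equiv.Perm GolayPt) p) :=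
      { toFun := fun g => ⟨g.1.1, mem_inf_iff.mpr ⟨g.1.2, g.2.1, g.2.2⟩⟩
        invFun := fun g => ⟨⟨g.1, (mem_inf_iff.mp g.2).1⟩, (mem_inf_iff.mp g.2).2.1, (mem_inf_iff.mp g.2).2.2⟩
        left_inv := fun _ => rfl
        right_inv := fun _ => rfl }
    haveI : Nontrivial ↥o := Fintype.one_lt_card_iff_nontrivial.mp (by rw [Fintype.card_coe, octad_card ho]; norm_num)
    rw [Nat.card_congr e, Nat.card_congr (MulEquiv.ofBijective _ (resPt_bijective ho hp)).toEquiv,
      nat_card_alternatingGroup, Nat.card_eq_fintype_card, Fintype.card_coe, octad_card ho]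
    rfl
  have hcb : Function.Bijective c := by
    refine Function.Injective.bijective_of_nat_card_le ((injective_iff_map_eq_one c).mpr fun m hm =>
      Subtype.ext (hfaith m m.2 fun u hu => ?_)) (by rw [hcard]; exact haut)
    have h := congrArg Subtype.val (DFunLike.congr_fun hm (⟨u, hu⟩ : U))
    rwa [hc] at h
  refine ⟨hnorm, hdis, hfaith, fun φ => ?_, fun u hu hu' g hg => ?_⟩
  · obtain ⟨m, hm⟩ := hcb.2 φ
    exact ⟨m, m.2, fun u => by rw [← hm, hc]⟩
  · have hord : orderOf u = 2 := orderOf_eq_prime (hU2.2 u hu) hu'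
    have hfix : fixedPts u.1 = o := by
      refine (Finset.eq_of_subset_of_card_le (fun x hx => by simp [fixedPts, hu x hx]) ?_).symm
      obtain ⟨k, ⟨-, -, h8⟩ | ⟨-, h0⟩⟩ := two_cases hord
      · rw [h8, octad_card ho]
      · rw [h0]; omega
    have hgo : g ∈ stabilizer M24 o := by
      rw [mem_stabilizer_iff, ← hfix, ← fixedPts_conj,
        show g * u * g⁻¹ = u from mul_inv_eq_iff_eq_mul.mpr (Subgroup.mem_centralizer_singleton_iff.mp hg)]
    have hgp : g.1 p ∉ o := fun h => hp (by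
      rw [← smul_mem_iff' g, mem_stabilizer_iff.mp hgo]; exact h)
    obtain ⟨e, he, hep⟩ := exists_fix_map ho hp hgp
    have h2 : e⁻¹ * g ∈ M := by
      have hes : e⁻¹ * g ∈ stabilizer M24 o := mul_mem (inv_mem (mem_stab_of_fix he)) hgo
      refine ⟨hes, ?_⟩
      show e.1⁻¹ (g.1 p) = p
      rw [← hep, Equiv.Perm.inv_def, Equiv.symm_apply_apply]
    have := Subgroup.mul_mem_sup (show e ∈ U from he) h2
    rwa [mul_inv_cancel_left] at this

theorem octad_involution_extraspecial (z : M24) (hz : orderOf z = 2) (hfix : fixedPts z.1 ∈ octads)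
    (Q : Subgroup M24)
    (hQ : Q = (Cfsg.pCore 2 ↥(Subgroup.centralizer ({z} : Set M24))).map
      (Subgroup.centralizer ({z} : Set M24)).subtype) :
    Cfsg.IsExtraspecial 2 ↥Q ∧ Nat.card ↥Q = 2 ^ 7 ∧
      (∃ E : Subgroup M24, E ≤ Q ∧ Cfsg.IsElementaryAbelian 2 E ∧ Nat.card ↥E = 2 ^ 4) ∧
      Cfsg.IsLargeExtraspecial Q ∧ ∃ K : Subgroup M24, K ≤ Subgroup.centralizer ({z} : Set M24) ∧ Q ⊓ K = ⊥ ∧
        Q ⊔ K = Subgroup.centralizer ({z} : Set M24) ∧
        Nonempty (↥K ≃* Matrix.SpecialLinearGroup (Fin 3) (ZMod 2)) := by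
  obtain ⟨p, -, hp⟩ : ∃ p ∈ (Finset.univ : Finset GolayPt), p ∉ fixedPts z.1 :=
    Finset.exists_mem_notMem_of_card_lt_card (by
      rw [octad_card hfix, Finset.card_univ, card_golayPt]; norm_num)
  obtain ⟨h1, h2, h3, h4, h5⟩ := octad_affine hfix hp
  obtain ⟨a, b, c, d, K, k1, k2, k3, ⟨e⟩⟩ := Holomorph.main 3 (by norm_num) (octFix (fixedPts z.1)) _
    (octFix_elementary hfix) (card_octFix hfix) h1 h2 h3 h4 h5 z
    (fun x hx => by simpa [fixedPts] using hx) (fun e => by rw [e, orderOf_one] at hz; omega) Q hQ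
  exact ⟨a, b, c, d, K, k1, k2, k3,
    ⟨e.trans (MulEquiv.ofBijective _ (Holomorph.toGL_bijective 3)).symm⟩⟩

theorem transvection_type (s : Matrix.SpecialLinearGroup (Fin 5) (ZMod 2))
    (hs : (s : Matrix (Fin 5) (Fin 5) (ZMod 2)) = Matrix.transvection 0 1 1) :
    ∃ z : M24, orderOf z = 2 ∧ Nonempty (↥(Subgroup.centralizer ({z} : Set M24)) ≃*
      ↥(Subgroup.centralizer ({s} : Set (Matrix.SpecialLinearGroup (Fin 5) (ZMod 2))))) := by
  have ho := pts_baseOctad_mem
  obtain ⟨p, -, hp⟩ : ∃ p ∈ (Finset.univ : Finset GolayPt), p ∉ pts baseOctad :=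
    Finset.exists_mem_notMem_of_card_lt_card (by
      rw [octad_card ho, Finset.card_univ, card_golayPt]; norm_num)
  obtain ⟨h1, h2, h3, h4, h5⟩ := octad_affine ho hp
  have hU := octFix_elementary ho
  obtain ⟨u0, hu0, hu1⟩ : ∃ u ∈ octFix (pts baseOctad), u ≠ 1 := by
    by_contra h
    push Not at h
    have := card_octFix ho
    rw [(Subgroup.eq_bot_iff_forall _).mpr h, Subgroup.card_bot] at this
    omega
  have hsT := Holomorph.transvection_eq_trHom 3 s hs
  have hs1 : s ≠ 1 := fun h => by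
    rw [hsT, ← map_one (Holomorph.trHom (m := 4))] at h
    simpa using congrFun (congrArg Multiplicative.toAdd (Holomorph.trHom_injective h)) 0
  obtain ⟨e, he⟩ := Holomorph.exists_model hU 3 (card_octFix ho) ⟨u0, hu0⟩ (fun e => hu1 (congrArg Subtype.val e))
  obtain ⟨e', he'⟩ := Holomorph.exists_model (U := (Holomorph.trHom (m := 4)).range) Holomorph.trRange_elementary 3
    Holomorph.trRange_card ⟨s, _, hsT.symm⟩ (fun e => hs1 (congrArg Subtype.val e))
  have hez : (e.trans e'.symm) ⟨u0, hu0⟩ = ⟨s, _, hsT.symm⟩ := by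
    rw [MulEquiv.trans_apply, he, ← he', MulEquiv.symm_apply_apply]
  obtain ⟨f⟩ := Holomorph.cent_iso (octFix (pts baseOctad)) _ (Holomorph.trHom (m := 4)).range
    (Holomorph.emHom (m := 4)).range h1 Holomorph.emRange_le_normalizer h2 Holomorph.trRange_inf_emRange h3
    Holomorph.emRange_faithful h4 Holomorph.emRange_full (e.trans e'.symm) ⟨u0, hu0⟩ (h5 u0 hu0 hu1)
    (by rw [hez]; exact Holomorph.centralizer_trHom_le s ⟨_, hsT.symm⟩ hs1)
  exact ⟨u0, orderOf_eq_prime (hU.2 u0 hu0) hu1, ⟨f.trans (MulEquiv.subgroupCongr (by rw [hez]))⟩⟩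

end CfsgLib.Golay.Cert
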