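/-
Sextets and trios moved to standard position.
-/
import Cfsg.Agent.Golay.OrbitTools
import Cfsg.Agent.Golay.FamSextet
import Cfsg.Agent.Golay.FamTrio

set_option autoImplicit false

namespace CfsgLib.Golay.Cert

open Cfsg CfsgLib.Golay
open scoped Pointwise

/-- The reference sextet. -/
def sStd : List ℕ := [147496, 268544, 1082880, 2621632, 4268048, 8388615]

/-- The reference trio. -/
def tStd : List ℕ := [337856, 7903248, 8536111]

theorem map_sextet {S : Obj} (hS : S ∈ sextets) : ∃ k : M24, [toObj sStd].map (k • ·) = [S] := by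
  obtain ⟨k, -, hk⟩ := sextCat_trans.trans (toObj sStd) S
    (Cat.mem_of_eq 1660 (by decide +kernel) (by decide +kernel)) rfl (sextets_cat.1.le hS) rfl
  exact ⟨k, by simp [hk]⟩

theorem map_trio {T : Obj} (hT : T ∈ trios) : ∃ k : M24, [toObj tStd].map (k • ·) = [T] := by
  obtain ⟨k, -, hk⟩ := trioCat_trans.trans (toObj tStd) T
    (Cat.mem_of_eq 879 (by decide +kernel) (by decide +kernel)) rfl (trios_cat.1.le hT) rfl
  exact ⟨k, by simp [hk]⟩

end CfsgLib.Golay.Cert
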