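/-
The fifteen trios through an octad.
-/
import Cfsg.Agent.Golay.OctadStab
import Cfsg.Agent.Golay.SextTrioPos
import Cfsg.Agent.Golay.Orb.OctTrio
import Mathlib.GroupTheory.SpecificGroups.Alternating.Simple

set_option autoImplicit false

namespace CfsgLib.Golay.Cert

open Cfsg CfsgLib.Golay MulAction
open scoped Pointwise

theorem mem_trio_iff_sig {o : Finset GolayPt} (ho : o ∈ octads) {T : Obj} (hT : T ∈ trios) :
    o ∈ T ↔ sig [one' o] T = [10000000000000002] := by
  simp only [sig, List.map_cons, List.map_nil, List.cons.injEq, and_true, J_one'_left]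
  constructor
  · intro h
    rw [← Finset.add_sum_erase _ _ h, Finset.inter_self, octad_card ho,
      Finset.sum_congr rfl (g := fun _ => 1) fun b hb => by
        obtain ⟨h1, h2⟩ := Finset.mem_erase.mp hb
        rw [Finset.disjoint_iff_inter_eq_empty.mp (hT.2.2 o h b h2 h1.symm)]; simp,
      Finset.sum_const, Finset.card_erase_of_mem h, hT.1]
    norm_num
  · intro h
    by_contra hne
    have hle : ∀ b ∈ T, 100 ^ (o ∩ b).card ≤ 100 ^ 7 := fun b hb => by
      refine Nat.pow_le_pow_right (by norm_num) ?_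
      by_contra hc
      refine hne ?_
      have h8 := octad_card (hT.2.1 b hb)
      have h1 : o ∩ b = o := Finset.eq_of_subset_of_card_le Finset.inter_subset_left (by rw [octad_card ho]; omega)
      have h2 : o ∩ b = b := Finset.eq_of_subset_of_card_le Finset.inter_subset_right (by omega)
      rwa [← h1, h2]
    have := Finset.sum_le_card_nsmul T _ _ hle
    rw [hT.1, h] at this
    norm_num at this

theorem trio_count {o : Finset GolayPt} (ho : o ∈ octads) :
    {T : Obj | T ∈ trios ∧ o ∈ T}.ncard = 15 := by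
  obtain ⟨k, hk⟩ := map_one_octad ho
  refine Eq.trans ?_ ((((bOct_eq ▸ Cat.count' bOct_trio_ok 0 (by decide) (v := [10000000000000002]) (n := 15)
    (by decide +kernel) rfl : IsTrans trioCat _ _ _)).at trios_cat.2 hk).ncard)
  refine congrArg Set.ncard (Set.ext fun T => ?_)
  exact ⟨fun h => ⟨trios_cat.1.le h.1, (mem_trio_iff_sig ho h.1).mp h.2⟩,
    fun h => ⟨trios_cat.1.ge h.1, (mem_trio_iff_sig ho (trios_cat.1.ge h.1)).mpr h.2⟩⟩

/-- Two trios through an octad are carried to two others by the stabiliser of the octad. -/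
theorem trios_two_trans {o : Finset GolayPt} (ho : o ∈ octads) {T₁ T₂ T₁' T₂' : Obj}
    (h₁ : T₁ ∈ trios) (h₂ : T₂ ∈ trios) (h₁' : T₁' ∈ trios) (h₂' : T₂' ∈ trios)
    (o₁ : o ∈ T₁) (o₂ : o ∈ T₂) (o₁' : o ∈ T₁') (o₂' : o ∈ T₂') (hne : T₁ ≠ T₂) (hne' : T₁' ≠ T₂') :
    ∃ g : M24, g • o = o ∧ g • T₁ = T₁' ∧ g • T₂ = T₂' := by
  obtain ⟨k, hk⟩ := map_one_octad ho
  have hT : Trans trioCat [one' o] := ((bOct_eq ▸ Cat.trans' bOct_trio_ok : Trans trioCat _)).at trios_cat.2 hk
  obtain ⟨g, hg, hgT⟩ := hT T₁ T₁' (trios_cat.1.le h₁) (trios_cat.1.le h₁')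
    (((mem_trio_iff_sig ho h₁).mp o₁).trans ((mem_trio_iff_sig ho h₁').mp o₁').symm)
  have hgo : g • o = o := fixes_one'.mp (hg _ (by simp))
  have h₃ : g • T₂ ∈ trios := smul_mem_trios g T₂ h₂
  have o₃ : o ∈ g • T₂ := hgo ▸ Finset.smul_mem_smul_finset o₂
  have hne₃ : g • T₂ ≠ T₁' := fun h => hne ((MulAction.injective g) (hgT.trans h.symm))
  -- the base for the second step
  have hk' : k • oStd = o := one'_inj.mp ((smul_one' k oStd).symm.trans (by simpa using hk))
  have ht : k • toObj tStd ∈ trios :=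
    smul_mem_trios k _ (trios_cat.1.ge (Cat.mem_of_eq 879 (by decide +kernel) (by decide +kernel)))
  have hto : o ∈ k • toObj tStd := hk' ▸ Finset.smul_mem_smul_finset (mem_toObj.mpr ⟨8536111, by simp [tStd], rfl⟩)
  obtain ⟨a, ha, haT⟩ := hT (k • toObj tStd) T₁' (trios_cat.1.le ht) (trios_cat.1.le h₁')
    (((mem_trio_iff_sig ho ht).mp hto).trans ((mem_trio_iff_sig ho h₁').mp o₁').symm)
  have hao : a • o = o := fixes_one'.mp (ha _ (by simp))
  have heq : bOctTrio.map toObj = [one' oStd, toObj tStd] := by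
    simp only [bOctTrio, List.map_cons, List.map_nil, toObj_one, oStd, tStd]
  have hmap : [one' oStd, toObj tStd].map ((a * k) • ·) = [one' o, T₁'] := by
    simp [smul_one', mul_smul, hk', hao, haT]
  have hL := ((heq ▸ Cat.layout bOctTrio_trio_ok (L := [([10000000000000002, 30000000000000006], 1),
    ([10000000000000002, 10000000400000004], 14), ([200000001, 10000000400000004], 28), ([200000001, 600000003], 56),
    ([200000001, 400040001], 336), ([100020000, 400040001], 672), ([100020000, 300060000], 2688)]) rfl :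
    Layout trioCat _ _)).at trios_cat.2 hmap
  have hJ : ∀ T ∈ trios, o ∈ T → J (one' o) T = 10000000000000002 := fun T hT h => by
    simpa [sig] using (mem_trio_iff_sig ho hT).mp h
  have hself : sig [one' o, T₁'] T₁' = [10000000000000002, 30000000000000006] := by
    have h0 := congrArg (List.getD · 1 (one' o)) hmap
    simp only [List.map_cons, List.map_nil, List.getD_cons_succ, List.getD_cons_zero] at h0
    have h1 : J T₁' T₁' = J (toObj tStd) (toObj tStd) := by rw [← h0, J_smul]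
    rw [J_toObj (by decide +kernel) (by decide +kernel)] at h1
    simp only [sig, List.map_cons, List.map_nil, hJ T₁' h₁' o₁', h1]
    decide +kernel
  have hsec : ∀ T ∈ trios, o ∈ T → T ≠ T₁' → sig [one' o, T₁'] T = [10000000000000002, 10000000400000004] := by
    intro T hT h hne
    have hm := hL.all T (trios_cat.1.le hT)
    simp only [sig, List.map_cons, List.map_nil, hJ T hT h, List.mem_cons, List.not_mem_nil, or_false,
      List.cons.injEq, and_true] at hm ⊢
    norm_num at hm ⊢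
    rcases hm with hm | hm
    · refine absurd ?_ hne
      obtain ⟨b, hb, hbT⟩ := (hL.each _ (List.mem_cons_self)).trans T₁' T (trios_cat.1.le h₁') hself
        (trios_cat.1.le hT) (by simp [sig, hJ T hT h, hm])
      rw [← hbT]; exact hb T₁' (by simp)
    · exact hm
  obtain ⟨b, hb, hbT⟩ := (hL.each _ (List.mem_cons_of_mem _ List.mem_cons_self)).trans (g • T₂) T₂'
    (trios_cat.1.le h₃) (hsec _ h₃ o₃ hne₃) (trios_cat.1.le h₂') (hsec _ h₂' o₂' hne'.symm)
  refine ⟨b * g, ?_, ?_, by rw [mul_smul, hbT]⟩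
  · rw [mul_smul, hgo, fixes_one'.mp (hb _ (by simp))]
  · rw [mul_smul, hgT, hb _ (by simp)]

theorem trio_canon : trioCat.canon = true := by
  have h := bOct_trio_ok
  simp only [Cat.orbitsOK, Bool.and_eq_true] at h
  exact h.1.1.1.1.1

unseal tableL in
theorem orb_six_trios : ((List.range 3795).filter fun i => (trioCat.obj i).contains 8536111).all
    (fun i => (orb 6).all fun e => same (tableL.getD e.2 (List.range 24)) (trioCat.obj i) (trioCat.obj i)) = true := by
  decide +kernel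

theorem fix_trios {o : Finset GolayPt} (ho : o ∈ octads) {g : M24}
    (hg : ∀ x ∈ o, (g : Equiv.Perm GolayPt) x = x) {T : Obj} (hT : T ∈ trios) (hoT : o ∈ T) : g • T = T := by
  obtain ⟨k, hk⟩ := octad_transitive oStd_mem ho
  have hfix : ∀ x ∈ oStd, ((k⁻¹ * g * k : M24) : Equiv.Perm GolayPt) x = x := fun x hx => by
    show k.1⁻¹ (g.1 (k.1 x)) = x
    rw [hg _ (hk ▸ (smul_mem_iff' k).mpr hx), Equiv.Perm.inv_def, Equiv.symm_apply_apply]
  have hS : ((k⁻¹ * g * k : M24) : Equiv.Perm GolayPt) ∈ St 6 := by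
    rw [St6_eq.1]
    exact ⟨(k⁻¹ * g * k).2, (mem_fixingSubgroup_iff _).mpr hfix⟩
  obtain ⟨hM, hbase⟩ := mem_St.mp hS
  obtain ⟨e, he, hx⟩ := orbit_covers (show 6 < 7 by norm_num) (M24_le_octAut hM) hbase
  have heq : (k⁻¹ * g * k : M24) = ⟨elt e.2, elt_mem_M24 _⟩ := Subtype.ext <| by
    refine (inv_mul_eq_one.mp (octAut_rigid
      (mul_mem (inv_mem (M24_le_octAut (elt_mem_M24 e.2))) (M24_le_octAut hM)) fun j hj => ?_)).symm
    rw [Equiv.Perm.mul_apply, Equiv.Perm.inv_def, Equiv.symm_apply_eq]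
    rcases Nat.lt_succ_iff_lt_or_eq.mp hj with h | rfl
    · rw [hbase j h, (orb_apply (by norm_num) he).2 j h]
    · exact hx.symm
  obtain ⟨i, hi, hiT⟩ := trios_cat.1.le (smul_mem_trios k⁻¹ T hT)
  have hc := Cat.canonL_obj trio_canon hi
  have hmem : (trioCat.obj i).contains 8536111 = true := by
    rw [List.contains_iff_mem]
    have h1 : oStd ∈ toObj (trioCat.obj i) := by
      rw [hiT, Finset.mem_smul_finset]
      exact ⟨o, hoT, inv_smul_eq_iff.mpr hk.symm⟩
    obtain ⟨m, hm, hme⟩ := mem_toObj.mp h1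
    rwa [← pts_inj ((canonL_spec hc).2 m hm) (by norm_num) hme]
  have hall := orb_six_trios
  simp only [List.all_eq_true, List.mem_filter, List.mem_range] at hall
  have hs : (k⁻¹ * g * k) • toObj (trioCat.obj i) = toObj (trioCat.obj i) := by
    rw [heq]
    exact same_spec (g := ⟨elt e.2, elt_mem_M24 _⟩) (toList_elt e.2) hc (hall i ⟨hi, hmem⟩ e he)
  rw [hiT, ← mul_smul, mul_inv_cancel_right, mul_smul] at hs
  exact (MulAction.injective k⁻¹) hs

theorem kernel_trios {o : Finset GolayPt} (ho : o ∈ octads) {g : M24} (hg : g • o = o)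
    (hall : ∀ T ∈ trios, o ∈ T → g • T = T) : ∀ x ∈ o, (g : Equiv.Perm GolayPt) x = x := by
  classical
  let K : Subgroup (stabilizer M24 o) :=
    { carrier := {h | ∀ T ∈ trios, o ∈ T → h.1 • T = T}
      one_mem' := fun T _ _ => one_smul _ T
      mul_mem' := fun {a b} ha hb T hT hoT => (mul_smul a.1 b.1 T).trans ((congrArg (a.1 • ·) (hb T hT hoT)).trans (ha T hT hoT))
      inv_mem' := fun {a} ha T hT hoT => inv_smul_eq_iff.mpr (ha T hT hoT).symm }
  haveI hn : K.Normal := ⟨fun a ha b T hT hoT => by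
    have h1 := ha (b.1⁻¹ • T) (smul_mem_trios _ T hT) (by
      rw [Finset.mem_inv_smul_finset_iff, mem_stabilizer_iff.mp b.2]; exact hoT)
    show (b.1 * a.1 * b.1⁻¹) • T = T
    rw [mul_smul, mul_smul, h1, smul_inv_smul]⟩
  haveI : IsSimpleGroup (alternatingGroup ↥o) :=
    alternatingGroup.isSimpleGroup (by rw [Nat.card_eq_fintype_card, Fintype.card_coe, octad_card ho]; norm_num)
  let f : stabilizer M24 o →* alternatingGroup ↥o :=
    (res o).codRestrict _ fun h => by rw [← range_res ho]; exact ⟨h, rfl⟩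
  have hf : Function.Surjective f := fun a => by
    obtain ⟨h, hh⟩ : (a : Equiv.Perm ↥o) ∈ (res o).range := by rw [range_res ho]; exact a.2
    exact ⟨h, Subtype.ext hh⟩
  rcases (Subgroup.Normal.map hn f hf).eq_bot_or_eq_top with h | h
  · intro x hx
    have hm : f ⟨g, mem_stabilizer_iff.mpr hg⟩ ∈ K.map f :=
      Subgroup.mem_map_of_mem f (show (⟨g, mem_stabilizer_iff.mpr hg⟩ : stabilizer M24 o) ∈ K from hall)
    rw [h, Subgroup.mem_bot] at hm
    exact congrArg (fun e : ↥(alternatingGroup ↥o) => ((e : Equiv.Perm ↥o) ⟨x, hx⟩ : GolayPt)) hm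
  · exfalso
    have htop : ∀ a : stabilizer M24 o, a ∈ K := by
      intro a
      obtain ⟨b, hb, hba⟩ : f a ∈ K.map f := by rw [h]; trivial
      have hk : b⁻¹ * a ∈ K := by
        intro T hT hoT
        refine fix_trios ho (fun x hx => ?_) hT hoT
        have h2 : f (b⁻¹ * a) = 1 := by rw [map_mul, map_inv, hba, inv_mul_cancel]
        exact congrArg (fun e : ↥(alternatingGroup ↥o) => ((e : Equiv.Perm ↥o) ⟨x, hx⟩ : GolayPt)) h2
      have := K.mul_mem hb hk
      rwa [mul_inv_cancel_left] at this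
    obtain ⟨T₁, hT₁, T₂, hT₂, hne⟩ : ∃ T₁ ∈ {T : Obj | T ∈ trios ∧ o ∈ T}, ∃ T₂ ∈ {T : Obj | T ∈ trios ∧ o ∈ T}, T₁ ≠ T₂ := by
      have h15 := trio_count ho
      exact Set.one_lt_ncard_iff_nontrivial.mp (by omega)
    obtain ⟨a, hao, haT, -⟩ := trios_two_trans ho hT₁.1 hT₂.1 hT₂.1 hT₁.1 hT₁.2 hT₂.2 hT₂.2 hT₁.2 hne hne.symm
    exact hne ((htop ⟨a, hao⟩ T₁ hT₁.1 hT₁.2).symm.trans haT)

end CfsgLib.Golay.Cert
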