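/-
M₂₂ and M₂₄ have a single block at two.
-/
import Cfsg.Agent.Golay.DefectZeroDegree
import Cfsg.Agent.Golay.BlockLocal
import Cfsg.Agent.Blocks.CentralizerLocal

set_option autoImplicit false

namespace CfsgLib.Golay.Cert

open Cfsg CfsgLib.Golay CfsgLib.Block
open scoped Pointwise

set_option linter.style.haveILetI false

variable {M : Ideal AlgInt}

theorem fact22 : Nat.factorization 443520 2 = 7 := by
  rw [show (443520 : ℕ) = 2 ^ 7 * 3465 by norm_num, Nat.factorization_mul (by norm_num) (by norm_num),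
    Finsupp.add_apply, Nat.factorization_pow, Finsupp.smul_apply, Nat.prime_two.factorization_self,
    Nat.factorization_eq_zero_of_not_dvd (show ¬ 2 ∣ 3465 by norm_num)]
  simp

theorem fact24 : Nat.factorization 244823040 2 = 10 := by
  rw [show (244823040 : ℕ) = 2 ^ 10 * 239085 by norm_num, Nat.factorization_mul (by norm_num) (by norm_num),
    Finsupp.add_apply, Nat.factorization_pow, Finsupp.smul_apply, Nat.prime_two.factorization_self,
    Nat.factorization_eq_zero_of_not_dvd (show ¬ 2 ∣ 239085 by norm_num)]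
  simp

/-- A block without involutions in its defect groups has trivial defect groups. -/
theorem defectGroup_eq_bot {G : Type*} [Group G] [Fintype G] [M.IsPrime] (hM : IsPModular 2 M)
    {B : Set (IrrCharacter G)} {D : Subgroup G} (hD : IsDefectGroup 2 M B D)
    (h : ∀ z ∈ D, orderOf z ≠ 2) : D = ⊥ := by
  by_contra hne
  haveI : Fact (Nat.Prime 2) := ⟨hM.1⟩
  obtain ⟨k, hk⟩ := IsPGroup.iff_card.1 (isPGroup_defectGroup hD)
  have hk0 : k ≠ 0 := by
    rintro rfl
    exact hne (Subgroup.card_eq_one.1 (by simpa using hk))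
  obtain ⟨z, hz⟩ := exists_prime_orderOf_dvd_card' (G := D) 2 (by rw [hk]; exact dvd_pow_self 2 hk0)
  exact h z z.2 (by rw [Subgroup.orderOf_coe, hz])

/-- Every character of M₂₂ is in the principal block. -/
theorem mem_principal22 (hM : IsPModular 2 M) (χ : IrrCharacter ↥Spor.M22) :
    χ ∈ principalBlock M ↥Spor.M22 := by
  classical
  haveI := hM.2.1.isPrime
  letI := Fintype.ofFinite ↥Spor.M22
  set B := blockOf M (χ : ↥Spor.M22 → ℂ) with hBdef
  have hB : IsPBlock M B := isPBlock_blockOf χ
  by_contra hne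
  have hBne : B ≠ principalBlock M ↥Spor.M22 := fun e => hne (e ▸ mem_blockOf_self χ)
  obtain ⟨D, hD⟩ := exists_defectGroup hB hM
  have hbot := defectGroup_eq_bot hM hD fun z hz ho => hBne <| by
    refine eq_principal_of_mem_defectGroup hM ?_ hB hD hz
    refine sameBlock_centralizer hM incl22 incl22_injective ho (a := none) z.2.1.2 fun g hg => ?_
    exact ⟨⟨(g : Equiv.Perm GolayPt), ⟨⟨g.2, hg none z.2.1.2⟩, hg (some 0) z.2.2⟩⟩, rfl⟩
  refine no_defectZero22 χ ?_
  have := pow_dvd_degree_of_bot hM hB (hbot ▸ hD) (mem_blockOf_self χ)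
  rwa [SylowCert.card_M22, fact22] at this

/-- Every character of M₂₄ is in the principal block. -/
theorem mem_principal24 (hM : IsPModular 2 M) (χ : IrrCharacter M24) :
    χ ∈ principalBlock M M24 := by
  classical
  haveI := hM.2.1.isPrime
  letI := Fintype.ofFinite M24
  set B := blockOf M (χ : M24 → ℂ) with hBdef
  have hB : IsPBlock M B := isPBlock_blockOf χ
  by_contra hne
  have hBne : B ≠ principalBlock M M24 := fun e => hne (e ▸ mem_blockOf_self χ)
  have hA : ∀ D, IsDefectGroup 2 M B D → ∀ t ∈ D, orderOf t = 2 →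
      ∀ a, (t : Equiv.Perm GolayPt) a ≠ a := fun D hD t ht ho a ha =>
    hBne (eq_principal_of_mem_defectGroup hM
      (sameBlock_centralizer hM (MonoidHom.id M24) Function.injective_id ho ha
        (fun g _ => ⟨g, rfl⟩)) hB hD ht)
  obtain ⟨D, hD⟩ := exists_defectGroup hB hM
  have hbot := defectGroup_eq_bot hM hD fun z hz ho => by
    obtain ⟨k, hk | hk⟩ := two_cases ho
    · obtain ⟨a, ha⟩ := Finset.card_pos.mp (hk.2.2.symm ▸ (by norm_num : 0 < 8))
      exact hA D hD z hz ho a (Finset.mem_filter.mp ha).2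
    · obtain ⟨K, t, htK, hKC, hKn, hKp, hto, a, ha⟩ := exists_normal_two hk.1
      haveI := hKn
      obtain ⟨E, hE, hle⟩ := exists_defectGroup_of_normal hM K hKC hKp hB
        (isDefectGroup_conj hM hB hD k) (z := k * z * k⁻¹) ⟨z, hz, rfl⟩
      exact hA E hE t (hle htK) hto a ha
  refine no_defectZero24 χ ?_
  have := pow_dvd_degree_of_bot hM hB (hbot ▸ hD) (mem_blockOf_self χ)
  rwa [card_M24, fact24] at this

end CfsgLib.Golay.Cert
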