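/-
Multiple transitivity from a transversal at each level.
-/
import Mathlib

set_option autoImplicit false

namespace CfsgLib.PermChain

variable {α : Type*}

/-- At each level `i` some element fixes the earlier base points and sends the `i`th to any other point. -/
def Levels {k : ℕ} (S : Set (Equiv.Perm α)) (b : Fin k ↪ α) : Prop :=
  ∀ (i : Fin k) (q : α), (∀ j, j < i → q ≠ b j) → ∃ g ∈ S, (∀ j, j < i → g (b j) = b j) ∧ g (b i) = q

theorem exists_map {k : ℕ} {S : Set (Equiv.Perm α)} (h1 : (1 : Equiv.Perm α) ∈ S)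
    (hm : ∀ g ∈ S, ∀ h ∈ S, g * h ∈ S) {b : Fin k ↪ α} (h : Levels S b) (y : Fin k ↪ α) :
    ∃ g ∈ S, ∀ i, g (b i) = y i := by
  suffices ∀ n ≤ k, ∃ g ∈ S, ∀ i : Fin k, (i : ℕ) < n → g (b i) = y i by
    obtain ⟨g, hg, he⟩ := this k le_rfl
    exact ⟨g, hg, fun i => he i i.2⟩
  intro n
  induction n with
  | zero => exact fun _ => ⟨1, h1, fun i hi => absurd hi (Nat.not_lt_zero _)⟩
  | succ n ih =>
    intro hn
    obtain ⟨g, hg, he⟩ := ih (by omega)
    obtain ⟨t, ht, hfix, hto⟩ := h ⟨n, hn⟩ (g.symm (y ⟨n, hn⟩)) fun j hj hq => by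
      have h2 : g (b j) = y ⟨n, hn⟩ := by rw [← hq, Equiv.apply_symm_apply]
      rw [he j (by simpa [Fin.lt_def] using hj)] at h2
      exact absurd (y.injective h2) (ne_of_lt hj)
    refine ⟨g * t, hm g hg t ht, fun i hi => ?_⟩
    rcases lt_or_eq_of_le (Nat.lt_succ_iff.mp hi) with hlt | heq
    · rw [Equiv.Perm.mul_apply, hfix i (by simpa [Fin.lt_def] using hlt), he i hlt]
    · obtain rfl : i = ⟨n, hn⟩ := Fin.ext heq
      rw [Equiv.Perm.mul_apply, hto, Equiv.apply_symm_apply]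

theorem card_ge [Fintype α] {k : ℕ} {S : Set (Equiv.Perm α)} (h1 : (1 : Equiv.Perm α) ∈ S)
    (hm : ∀ g ∈ S, ∀ h ∈ S, g * h ∈ S) {b : Fin k ↪ α} (h : Levels S b) :
    (Fintype.card α).descFactorial k ≤ Nat.card S := by
  classical
  rw [← Fintype.card_fin k, ← Fintype.card_embedding_eq, ← Nat.card_eq_fintype_card]
  refine Nat.card_le_card_of_surjective (fun g : S => b.trans (g : Equiv.Perm α).toEmbedding) fun y => ?_
  obtain ⟨g, hg, he⟩ := exists_map h1 hm h y
  exact ⟨⟨g, hg⟩, Function.Embedding.ext he⟩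

theorem pretransitive [Finite α] {k : ℕ} (G : Subgroup (Equiv.Perm α)) {b : Fin k ↪ α}
    (h : Levels (G : Set (Equiv.Perm α)) b) : MulAction.IsMultiplyPretransitive G α k := by
  refine (MulAction.isPretransitive_iff_orbit_eq_univ b).mpr ?_
  refine Set.eq_univ_of_forall fun y => ?_
  obtain ⟨g, hg, he⟩ := exists_map (one_mem G) (fun a ha c hc => mul_mem ha hc) h y
  exact ⟨⟨g, hg⟩, Function.Embedding.ext he⟩

end CfsgLib.PermChain
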