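/-
The shapes of the stabilisers of a sextet and of a trio.
-/
import Cfsg.Agent.Golay.TableHom
import Cfsg.Agent.Golay.ExactList
import Cfsg.Agent.Golay.StabShapeData
import Cfsg.Agent.Golay.SextTrioPos
import Cfsg.Agent.Golay.InvCount
import Cfsg.Agent.Golay.FamSextet
import Cfsg.Agent.Golay.FamTrio
import Mathlib.LinearAlgebra.Matrix.GeneralLinearGroup.Card
import Mathlib.GroupTheory.Perm.Closure

set_option autoImplicit false

namespace CfsgLib.Golay.Cert

open Cfsg CfsgLib.Golay MulAction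
open scoped Pointwise

/-! ### Groups given by element lists -/

/-- The products of subsets of the generators. -/
def elsOf (gens : List (List ℕ)) : List (List ℕ) :=
  gens.foldl (fun l g => l ++ l.map fun x => compL x g) [List.range 24]

theorem exists_group {E : List (List ℕ)} (h1 : List.range 24 ∈ E) (hok : ∀ L ∈ E, genOK L = true)
    (hnd : E.Nodup) (hclosed : ∀ a ∈ E, ∀ b ∈ E, compL a b ∈ E) :
    ∃ N : Subgroup M24, (∀ g, g ∈ N ↔ toList g.1 ∈ E) ∧ Nat.card N = E.length := by
  let M : Submonoid M24 :=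
    { carrier := {g | toList g.1 ∈ E}
      one_mem' := by show toList (1 : Equiv.Perm GolayPt) ∈ E; rw [toList_one]; exact h1
      mul_mem' := fun {a b} ha hb => by
        show toList (a * b).1 ∈ E
        rw [Subgroup.coe_mul, toList_mul]
        exact hclosed _ ha _ hb }
  let N : Subgroup M24 :=
    { M with
      inv_mem' := fun {a} ha => by
        rw [← mul_one a⁻¹, ← pow_orderOf_eq_one a]
        have h : a⁻¹ * a ^ orderOf a = a ^ (orderOf a - 1) := by
          obtain ⟨n, hn⟩ : ∃ n, orderOf a = n + 1 := ⟨orderOf a - 1, by have := orderOf_pos a; omega⟩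
          rw [hn, Nat.add_sub_cancel, pow_succ', inv_mul_cancel_left]
        rw [h]
        exact M.pow_mem ha _ }
  exact ⟨N, fun g => Iff.rfl,
    card_of_list (fun g hg => hg) (fun L hL => ⟨ofList L, show toList _ ∈ E by
      rw [toList_ofList (hok L hL)]; exact hL, toList_ofList (hok L hL)⟩) hnd⟩

/-! ### The action on the parts -/

/-- The permutations of the parts induced by a stabiliser. -/
def partsHom (X : Obj) : stabilizer M24 X →* Equiv.Perm ↥X where
  toFun g := (MulAction.toPerm g.1 : Equiv.Perm (Finset GolayPt)).subtypePerm fun t => by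
    show g.1 • t ∈ X ↔ t ∈ X
    have h := Finset.ext_iff.mp (mem_stabilizer_iff.mp g.2) (g.1 • t)
    exact h.symm.trans (Finset.smul_mem_smul_finset_iff g.1)
  map_one' := by ext t; simp
  map_mul' a b := Equiv.ext fun t => Subtype.ext (mul_smul a.1 b.1 t.1)

theorem partsHom_apply {X : Obj} (g : stabilizer M24 X) (t : ↥X) :
    ((partsHom X g t : ↥X) : Finset GolayPt) = g.1 • (t : Finset GolayPt) := rfl

theorem partsHom_surjective {X : List ℕ} {sw : List (List ℕ)} (hX : canonL X = true)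
    (h : ∀ a ∈ X, ∀ b ∈ X, a ≠ b → ∃ L ∈ sw, genOK L = true ∧ same L X X = true ∧ permF L a = b ∧
      permF L b = a ∧ ∀ c ∈ X, c ≠ a → c ≠ b → permF L c = c) :
    Function.Surjective (partsHom (toObj X)) := by
  rw [← MonoidHom.range_eq_top, eq_top_iff]
  intro e he
  clear he
  induction e using Equiv.Perm.swap_induction_on with
  | one => exact one_mem _
  | swap_mul f x y hxy ih =>
    refine mul_mem ?_ ih
    obtain ⟨a, ha, hax⟩ := mem_toObj.mp x.2
    obtain ⟨b, hb, hby⟩ := mem_toObj.mp y.2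
    obtain ⟨L, -, hok, hsame, hab, hba, hoth⟩ := h a ha b hb fun e => hxy (Subtype.ext (by rw [← hax, ← hby, e]))
    have hg := toList_ofList hok
    have hmap : ∀ c, ofList L • pts c = pts (permF L c) := fun c => by
      conv_rhs => rw [← hg]
      rw [pts_permF, smul_finset_eq_image]
    refine ⟨⟨ofList L, mem_stabilizer_iff.mpr (same_spec hg hX hsame)⟩, Equiv.ext fun t => Subtype.ext ?_⟩
    rw [partsHom_apply]
    show ofList L • (t : Finset GolayPt) = _
    obtain ⟨c, hc, hct⟩ := mem_toObj.mp t.2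
    rw [Equiv.swap_apply_def]
    split_ifs with h1 h2
    · rw [h1, ← hax, hmap, hab, hby]
    · rw [h2, ← hby, hmap, hba, hax]
    · rw [← hct, hmap, hoth c hc (fun e => h1 (Subtype.ext (by rw [← hct, ← hax, e])))
        (fun e => h2 (Subtype.ext (by rw [← hct, ← hby, e])))]

/-! ### Transport -/

theorem stab_map (k : M24) (X : Obj) :
    stabilizer M24 (k • X) = (stabilizer M24 X).map (MulAut.conj k).toMonoidHom :=
  MulAction.stabilizer_smul_eq_stabilizer_map_conj k X

/-- Conjugation between stabilisers. -/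
noncomputable def stabConj (k : M24) {X Y : Obj} (h : k • X = Y) : stabilizer M24 X ≃* stabilizer M24 Y :=
  (Subgroup.equivMapOfInjective (stabilizer M24 X) _ (MulAut.conj k).injective).trans
    (MulEquiv.subgroupCongr (by rw [← h, stab_map]))

theorem stabConj_apply (k : M24) {X Y : Obj} (h : k • X = Y) (g : stabilizer M24 X) :
    (stabConj k h g).1 = k * g.1 * k⁻¹ := rfl

theorem parts_transport {X : Obj} (hX : Function.Surjective (partsHom X)) (k : M24) {Y : Obj} (h : k • X = Y)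
    (e : Equiv.Perm ↥Y) : ∃ g ∈ stabilizer M24 Y, ∀ t : ↥Y, g • (t : Finset GolayPt) = (e t : Finset GolayPt) := by
  let c : ↥X ≃ ↥Y :=
    { toFun := fun t => ⟨k • (t : Finset GolayPt), h ▸ Finset.smul_mem_smul_finset t.2⟩
      invFun := fun t => ⟨k⁻¹ • (t : Finset GolayPt), by
        rw [← inv_smul_smul k X, h]; exact Finset.smul_mem_smul_finset t.2⟩
      left_inv := fun t => Subtype.ext (inv_smul_smul k _)
      right_inv := fun t => Subtype.ext (smul_inv_smul k _) }
  obtain ⟨g, hg⟩ := hX (c.trans (e.trans c.symm))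
  refine ⟨(stabConj k h g).1, (stabConj k h g).2, fun t => ?_⟩
  have hgt := congrArg (fun z : Equiv.Perm ↥X => ((z (c.symm t) : ↥X) : Finset GolayPt)) hg
  simp only [partsHom_apply, Equiv.trans_apply, Equiv.apply_symm_apply] at hgt
  have hgt' : g.1 • (k⁻¹ • (t : Finset GolayPt)) = k⁻¹ • (e t : Finset GolayPt) := hgt
  rw [stabConj_apply, mul_smul, mul_smul, hgt', smul_inv_smul]

theorem card_stab_cat {C : Cat} {n : ℕ} (hC : C.Inv) (h : IsTrans C [] [] n) {X : Obj} (hX : C.Mem X) :
    Nat.card ↥(stabilizer M24 X) * n = 244823040 := by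
  have h' := h.card_mul hC (K := ⊤) (fun g => by simp [Fix]) hX rfl
  rw [top_inf_eq, Nat.card_congr Subgroup.topEquiv.toEquiv, card_M24] at h'
  exact h'

/-! ### Sextets -/

/-- The elements fixing every tetrad. -/
def sextKer : List (List ℕ) :=
  elsOf sextNGens ++ (elsOf sextNGens).map (compL sextW) ++ (elsOf sextNGens).map (compL (compL sextW sextW))

theorem sext_ok : canonL sStd = true ∧ (∀ a ∈ elsOf sextNGens, genOK a = true ∧ compL a a = List.range 24) ∧
    (elsOf sextNGens).Nodup ∧ (elsOf sextNGens).length = 64 ∧ List.range 24 ∈ elsOf sextNGens := by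
  decide +kernel

theorem sext_closed : ∀ a ∈ elsOf sextNGens, ∀ b ∈ elsOf sextNGens, compL a b ∈ elsOf sextNGens := by
  decide +kernel

theorem sext_ker_ok : sextKer.Nodup ∧ sextKer.length = 192 ∧
    (∀ a ∈ sextKer, genOK a = true ∧ ∀ c ∈ sStd, permF a c = c) ∧
    (∀ a ∈ sextKer, compL a a = List.range 24 → a ∈ elsOf sextNGens) ∧
    (∀ a ∈ elsOf sextNGens, a ∈ sextKer) := by decide +kernel

theorem sext_sw_ok : ∀ a ∈ sStd, ∀ b ∈ sStd, a ≠ b → ∃ L ∈ sextSw, genOK L = true ∧ same L sStd sStd = true ∧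
    permF L a = b ∧ permF L b = a ∧ ∀ c ∈ sStd, c ≠ a → c ≠ b → permF L c = c := by decide +kernel

theorem sStd_mem : sextCat.Mem (toObj sStd) := Cat.mem_of_eq 1660 (by decide +kernel) (by decide +kernel)

/-- The tetrad-wise fixer. -/
abbrev sKer : Subgroup ↥(stabilizer M24 (toObj sStd)) := (partsHom (toObj sStd)).ker

theorem card_sKer : Nat.card sKer = 192 := by
  have hs := partsHom_surjective sext_ok.1 sext_sw_ok
  have h := Subgroup.card_eq_card_quotient_mul_card_subgroup sKer
  rw [Nat.card_congr (QuotientGroup.quotientKerEquivOfSurjective _ hs).toEquiv, Nat.card_perm] at h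
  have h6 : Nat.card ↥(toObj sStd) = 6 := by
    rw [Nat.card_eq_fintype_card, Fintype.card_coe, toObj,
      List.toFinset_card_of_nodup (nodup_pts sext_ok.1), List.length_map]
    rfl
  have h1 := card_stab_cat sextets_cat.2 sextCat_trans sStd_mem
  rw [h6] at h
  have hst : Nat.card ↥(stabilizer M24 (toObj sStd)) = 138240 :=
    Nat.eq_of_mul_eq_mul_right (by norm_num : 0 < 1771) (h1.trans (by norm_num))
  rw [hst] at h
  exact Nat.eq_of_mul_eq_mul_left (by decide : 0 < (6 : ℕ).factorial) (h.symm.trans (by decide))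

theorem mem_sKer {g : stabilizer M24 (toObj sStd)} :
    g ∈ sKer ↔ ∀ t ∈ toObj sStd, g.1 • t = t := by
  rw [MonoidHom.mem_ker]
  constructor
  · intro h t ht
    have := congrArg (fun z : Equiv.Perm ↥(toObj sStd) => ((z ⟨t, ht⟩ : ↥(toObj sStd)) : Finset GolayPt)) h
    simpa [partsHom_apply] using this
  · intro h
    exact Equiv.ext fun t => Subtype.ext (by rw [partsHom_apply]; exact h t.1 t.2)

theorem sKer_list {g : stabilizer M24 (toObj sStd)} (hg : g ∈ sKer) : toList g.1.1 ∈ sextKer := by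
  obtain ⟨hnd, hlen, hok, -, -⟩ := sext_ker_ok
  have hin : ∀ L ∈ sextKer, ∃ m : sKer, toList m.1.1.1 = L := fun L hL => by
    obtain ⟨h1, h2⟩ := hok L hL
    have hmove : ∀ t ∈ toObj sStd, ofList L • t = t := fun t ht => by
      obtain ⟨c, hc, rfl⟩ := mem_toObj.mp ht
      conv_rhs => rw [← h2 c hc]
      rw [smul_finset_eq_image, ← pts_permF, toList_ofList h1]
    refine ⟨⟨⟨ofList L, mem_stabilizer_iff.mpr ?_⟩, mem_sKer.mpr hmove⟩, toList_ofList h1⟩
    refine Finset.eq_of_subset_of_card_le (fun t ht => ?_) (by rw [Finset.card_smul_finset])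
    obtain ⟨u, hu, rfl⟩ := Finset.mem_smul_finset.mp ht
    rw [hmove u hu]
    exact hu
  choose f hf using hin
  have hinj : Function.Injective fun L : {L // L ∈ sextKer.toFinset} => f L.1 (List.mem_toFinset.mp L.2) :=
    fun L L' h => Subtype.ext (by
      rw [← hf L.1 (List.mem_toFinset.mp L.2), ← hf L'.1 (List.mem_toFinset.mp L'.2)]
      exact congrArg (fun m : sKer => toList m.1.1.1) h)
  have hb : Function.Bijective fun L : {L // L ∈ sextKer.toFinset} => f L.1 (List.mem_toFinset.mp L.2) :=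
    hinj.bijective_of_nat_card_le (by
      rw [card_sKer, Nat.card_eq_fintype_card, Fintype.card_coe, List.toFinset_card_of_nodup hnd, hlen])
  obtain ⟨L, hL⟩ := hb.2 ⟨g, hg⟩
  have := congrArg (fun m : sKer => toList m.1.1.1) hL
  simp only [hf] at this
  exact this ▸ List.mem_toFinset.mp L.2

theorem sext_normal : ∃ N : Subgroup ↥(stabilizer M24 (toObj sStd)), N.Normal ∧ Nat.card N = 64 ∧
    ∀ x ∈ N, x * x = 1 := by
  obtain ⟨-, hE, hnd, hlen, h1⟩ := sext_ok
  obtain ⟨-, -, hok, hsq, hsub⟩ := sext_ker_ok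
  obtain ⟨N, hN, hcard⟩ := exists_group h1 (fun L hL => (hE L hL).1) hnd sext_closed
  have hle : N ≤ stabilizer M24 (toObj sStd) := fun g hg => by
    refine mem_stabilizer_iff.mpr (Finset.eq_of_subset_of_card_le (fun t ht => ?_) (by rw [Finset.card_smul_finset]))
    obtain ⟨u, hu, rfl⟩ := Finset.mem_smul_finset.mp ht
    obtain ⟨c, hc, rfl⟩ := mem_toObj.mp hu
    rw [smul_finset_eq_image, ← pts_permF, (hok _ (hsub _ ((hN g).mp hg))).2 c hc]
    exact hu
  refine ⟨N.subgroupOf _, ⟨fun x hx h => ?_⟩, ?_, fun x hx => ?_⟩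
  · rw [Subgroup.mem_subgroupOf] at hx ⊢
    rw [hN]
    have hker : x ∈ sKer := mem_sKer.mpr fun t ht => by
      obtain ⟨c, hc, rfl⟩ := mem_toObj.mp ht
      rw [smul_finset_eq_image, ← pts_permF, (hok _ (hsub _ ((hN _).mp hx))).2 c hc]
    have hk : h * x * h⁻¹ ∈ sKer := Subgroup.Normal.conj_mem inferInstance x hker h
    refine hsq _ (sKer_list hk) ?_
    have hx2 : x.1 * x.1 = 1 := toList_coe_injective (by
      show toList (x.1 * x.1).1 = toList (1 : Equiv.Perm GolayPt)
      rw [Subgroup.coe_mul, toList_mul, toList_one]; exact (hE _ ((hN _).mp hx)).2)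
    rw [← toList_mul, ← Subgroup.coe_mul]
    have e : (h * x * h⁻¹).1 * (h * x * h⁻¹).1 = h.1 * (x.1 * x.1) * h.1⁻¹ := by
      simp only [Subgroup.coe_mul, Subgroup.coe_inv]; group
    rw [e, hx2, mul_one, mul_inv_cancel]
    exact toList_one
  · rw [Nat.card_congr (Subgroup.subgroupOfEquivOfLe hle).toEquiv, hcard, hlen]
  · refine Subtype.ext (toList_coe_injective ?_)
    show toList (x.1 * x.1).1 = toList (1 : Equiv.Perm GolayPt)
    rw [Subgroup.coe_mul, toList_mul, toList_one]
    exact (hE _ ((hN _).mp hx)).2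

theorem sextet_shape {S : Obj} (hS : S ∈ sextets) :
    (∀ e : Equiv.Perm ↥S, ∃ g ∈ stabilizer M24 S, ∀ t : ↥S, g • (t : Finset GolayPt) = (e t : Finset GolayPt)) ∧
    Nat.card {g : ↥(stabilizer M24 S) // ∀ t ∈ S, g.1 • t = t} = 192 ∧
    ∃ N : Subgroup ↥(stabilizer M24 S), N.Normal ∧ Nat.card N = 64 ∧ ∀ x ∈ N, x * x = 1 := by
  obtain ⟨k, hk⟩ := map_sextet hS
  have hk' : k • toObj sStd = S := by simpa using hk
  refine ⟨parts_transport (partsHom_surjective sext_ok.1 sext_sw_ok) k hk', ?_, ?_⟩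
  · rw [← card_sKer]
    refine (Nat.card_congr (Equiv.subtypeEquiv (stabConj k hk').toEquiv fun g => ?_)).symm
    rw [mem_sKer]
    constructor
    · intro h t ht
      rw [← hk'] at ht
      obtain ⟨u, hu, rfl⟩ := Finset.mem_smul_finset.mp ht
      show (stabConj k hk' g).1 • (k • u) = k • u
      rw [stabConj_apply, mul_smul, mul_smul, inv_smul_smul, h u hu]
    · intro h u hu
      have h' : (stabConj k hk' g).1 • (k • u) = k • u := h _ (hk' ▸ Finset.smul_mem_smul_finset hu)
      rw [stabConj_apply, mul_smul, mul_smul, inv_smul_smul] at h'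
      exact MulAction.injective k h'
  · obtain ⟨N, hn, hc, hsq⟩ := sext_normal
    refine ⟨N.map (stabConj k hk').toMonoidHom, hn.map _ (stabConj k hk').surjective, ?_, ?_⟩
    · rw [Subgroup.card_map_of_injective (stabConj k hk').injective, hc]
    · rintro _ ⟨x, hx, rfl⟩
      rw [← map_mul, hsq x hx, map_one]

/-! ### Trios -/

/-- The code of a matrix. -/
def mCode (M : Matrix (Fin 3) (Fin 3) (ZMod 2)) : ℕ :=
  (M 0 0).val + 2 * (M 0 1).val + 4 * (M 0 2).val + 8 * (M 1 0).val + 16 * (M 1 1).val + 32 * (M 1 2).val +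
    64 * (M 2 0).val + 128 * (M 2 1).val + 256 * (M 2 2).val

/-- The matrix of a code. -/
def codeM (c : ℕ) : Matrix (Fin 3) (Fin 3) (ZMod 2) :=
  Matrix.of fun i j => if c.testBit (3 * i.val + j.val) then 1 else 0

/-- The determinant of the matrix of a code. -/
def codeDet (c : ℕ) : ZMod 2 :=
  codeM c 0 0 * codeM c 1 1 * codeM c 2 2 - codeM c 0 0 * codeM c 1 2 * codeM c 2 1 -
    codeM c 0 1 * codeM c 1 0 * codeM c 2 2 + codeM c 0 1 * codeM c 1 2 * codeM c 2 0 +
      codeM c 0 2 * codeM c 1 0 * codeM c 2 1 - codeM c 0 2 * codeM c 1 1 * codeM c 2 0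

set_option synthInstance.maxSize 4000 in
theorem codeM_all : ∀ a b c d e f g h i : ZMod 2,
    mCode !![a, b, c; d, e, f; g, h, i] < 512 ∧
      codeM (mCode !![a, b, c; d, e, f; g, h, i]) = !![a, b, c; d, e, f; g, h, i] := by decide +kernel

theorem codeM_mCode (M : Matrix (Fin 3) (Fin 3) (ZMod 2)) : mCode M < 512 ∧ codeM (mCode M) = M := by
  rw [Matrix.eta_fin_three M]
  exact codeM_all _ _ _ _ _ _ _ _ _

theorem codeDet_ok : ∀ c < 512, codeDet c ≠ 0 → c ∈ glCodes := by decide +kernel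

theorem mCode_mem (g : GL (Fin 3) (ZMod 2)) : mCode g.1 ∈ glCodes := by
  obtain ⟨hlt, he⟩ := codeM_mCode g.1
  refine codeDet_ok _ hlt fun h => ((Matrix.isUnit_iff_isUnit_det _).mp g.isUnit).ne_zero ?_
  rw [Matrix.det_fin_three, ← h, codeDet, he]

/-- The two generators. -/
def glGenM (k : ℕ) : Matrix (Fin 3) (Fin 3) (ZMod 2) := codeM (if k = 0 then glA else glB)

/-- The tree covers every code. -/
def treeOK : List (ℕ × ℕ × ℕ) → List ℕ → Bool
  | [], vis => glCodes.all fun c => vis.contains c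
  | (y, x, k) :: r, vis => vis.contains x && (mCode (codeM x * glGenM k) == y && treeOK r (y :: vis))

theorem treeOK_spec {M : Submonoid (GL (Fin 3) (ZMod 2))} {ga gb : GL (Fin 3) (ZMod 2)} (ha : ga ∈ M) (hb : gb ∈ M)
    (ea : ga.1 = glGenM 0) (eb : gb.1 = glGenM 1) : ∀ (r : List (ℕ × ℕ × ℕ)) (vis : List ℕ), treeOK r vis = true →
    (∀ c ∈ vis, ∃ g ∈ M, mCode g.1 = c) → ∀ c ∈ glCodes, ∃ g ∈ M, mCode g.1 = c
  | [], vis, h, hv, c, hc => hv c (List.contains_iff_mem.mp (List.all_eq_true.mp h c hc))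
  | (y, x, k) :: r, vis, h, hv, c, hc => by
    simp only [treeOK, Bool.and_eq_true, beq_iff_eq, List.contains_iff_mem] at h
    obtain ⟨hx, hy, hr⟩ := h
    refine treeOK_spec ha hb ea eb r _ hr (fun d hd => ?_) c hc
    rcases List.mem_cons.mp hd with rfl | hd
    · obtain ⟨g, hg, hgx⟩ := hv x hx
      have hgM : g.1 = codeM x := by rw [← hgx, (codeM_mCode g.1).2]
      by_cases hk : k = 0
      · subst hk
        exact ⟨g * ga, M.mul_mem hg ha, by rw [Units.val_mul, hgM, ea, hy]⟩
      · refine ⟨g * gb, M.mul_mem hg hb, ?_⟩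
        rw [Units.val_mul, hgM, eb, ← hy, glGenM, glGenM, if_neg hk, if_neg (by norm_num : ¬ (1 : ℕ) = 0)]
    · exact hv d hd

/-- The image of an invertible matrix. -/
def glImg (c : ℕ) : List ℕ := (glThree.lookup c).getD []

/-- The image of a permutation of the octads. -/
def triImg (σ : List ℕ) : List ℕ := (triPerm.lookup σ).getD []

/-- The images of the four generators. -/
def trioGensL : List (List ℕ) := [glImg glA, glImg glB, triImg [1, 0, 2], triImg [1, 2, 0]]

theorem trio_tree_ok : treeOK glTree [273] = true ∧ mCode (1 : Matrix (Fin 3) (Fin 3) (ZMod 2)) = 273 ∧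
    (glGenM 0).det ≠ 0 ∧ (glGenM 1).det ≠ 0 ∧ mCode (glGenM 0) = glA ∧ mCode (glGenM 1) = glB := by decide +kernel

theorem triImg_one : triImg [0, 1, 2] = List.range 24 ∧ glImg 273 = List.range 24 ∧
    (triPerm.map Prod.fst).Nodup := by decide +kernel

theorem trio_hom_ok : ∀ c ∈ glCodes, ∀ p ∈ triPerm,
    compL (glImg (mCode (codeM c * glGenM 0))) p.2 = compL (compL (glImg c) p.2) (glImg glA) ∧
    compL (glImg (mCode (codeM c * glGenM 1))) p.2 = compL (compL (glImg c) p.2) (glImg glB) ∧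
    compL (glImg c) (triImg ([1, 0, 2].map fun i => p.1.getD i 0)) = compL (compL (glImg c) p.2) (triImg [1, 0, 2]) ∧
    compL (glImg c) (triImg ([1, 2, 0].map fun i => p.1.getD i 0)) = compL (compL (glImg c) p.2) (triImg [1, 2, 0]) := by
  decide +kernel

theorem trio_ok : canonL tStd = true ∧ (∀ a ∈ elsOf trioNGens, genOK a = true ∧ compL a a = List.range 24 ∧
      same a tStd tStd = true) ∧
    (elsOf trioNGens).Nodup ∧ (elsOf trioNGens).length = 64 ∧ List.range 24 ∈ elsOf trioNGens ∧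
    (∀ t ∈ trioGensL, genOK t = true ∧ same t tStd tStd = true) ∧
    (∀ t ∈ trioGensL, ∀ n ∈ elsOf trioNGens, ∃ n' ∈ elsOf trioNGens, compL t n = compL n' t) := by
  decide +kernel

theorem trio_closed : ∀ a ∈ elsOf trioNGens, ∀ b ∈ elsOf trioNGens, compL a b ∈ elsOf trioNGens := by
  decide +kernel

theorem trio_inj_ok : ∀ c ∈ glCodes, ∀ p ∈ triPerm, compL (glImg c) p.2 ∈ elsOf trioNGens →
    c = 273 ∧ p.1 = [0, 1, 2] := by decide +kernel

set_option synthInstance.maxSize 4000 in
theorem triPerm_all : ∀ a < 3, ∀ b < 3, ∀ c < 3, [a, b, c].Nodup → ([a, b, c], triImg [a, b, c]) ∈ triPerm := by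
  decide +kernel

theorem trio_sw_ok : ∀ a ∈ tStd, ∀ b ∈ tStd, a ≠ b → ∃ L ∈ triPerm.map Prod.snd, genOK L = true ∧
    same L tStd tStd = true ∧ permF L a = b ∧ permF L b = a ∧
    ∀ c ∈ tStd, c ≠ a → c ≠ b → permF L c = c := by decide +kernel

theorem tStd_mem : trioCat.Mem (toObj tStd) := Cat.mem_of_eq 879 (by decide +kernel) (by decide +kernel)

theorem trio_quotient : ∃ (N : Subgroup ↥(stabilizer M24 (toObj tStd))) (_ : N.Normal), Nat.card N = 64 ∧
    (∀ x ∈ N, x * x = 1) ∧
    Nonempty (↥(stabilizer M24 (toObj tStd)) ⧸ N ≃* GL (Fin 3) (ZMod 2) × Equiv.Perm (Fin 3)) := by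
  haveI : Fact (Nat.Prime 2) := ⟨Nat.prime_two⟩
  obtain ⟨hT, hE, hnd, hlen, h1, hgens, hconj⟩ := trio_ok
  obtain ⟨htree, hone, hdA, hdB, hcA, hcB⟩ := trio_tree_ok
  obtain ⟨hp1, hg1, -⟩ := triImg_one
  let key : Equiv.Perm (Fin 3) → List ℕ := fun σ => [(σ 0).val, (σ 1).val, (σ 2).val]
  have hkey : ∀ σ, (key σ, triImg (key σ)) ∈ triPerm := fun σ =>
    triPerm_all _ (σ 0).2 _ (σ 1).2 _ (σ 2).2 (by simp [Fin.val_inj, σ.injective.eq_iff])
  let f : GL (Fin 3) (ZMod 2) × Equiv.Perm (Fin 3) → List ℕ := fun x =>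
    compL (glImg (mCode x.1.1)) (triImg (key x.2))
  let ga : GL (Fin 3) (ZMod 2) := Matrix.GeneralLinearGroup.mkOfDetNeZero (glGenM 0) hdA
  let gb : GL (Fin 3) (ZMod 2) := Matrix.GeneralLinearGroup.mkOfDetNeZero (glGenM 1) hdB
  let S : Set (GL (Fin 3) (ZMod 2) × Equiv.Perm (Fin 3)) :=
    {(ga, 1), (gb, 1), (1, Equiv.swap 0 1), (1, finRotate 3)}
  have hS : Submonoid.closure S = ⊤ := by
    rw [eq_top_iff]
    rintro ⟨g, σ⟩ -
    have h1' : ∀ g, (g, (1 : Equiv.Perm (Fin 3))) ∈ Submonoid.closure S := fun g => by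
      obtain ⟨g', hg', hgc⟩ := treeOK_spec (M := (Submonoid.closure S).comap (MonoidHom.inl _ _)) (ga := ga) (gb := gb)
        (Submonoid.subset_closure (Or.inl rfl)) (Submonoid.subset_closure (Or.inr (Or.inl rfl))) rfl rfl _ _ htree
        (fun c hc => ⟨1, Submonoid.one_mem _, (by rw [List.mem_singleton.mp hc]; exact hone)⟩) _ (mCode_mem g)
      have hgg : g' = g := Units.ext (by rw [← (codeM_mCode g'.1).2, hgc, (codeM_mCode g.1).2])
      exact hgg ▸ hg'
    have hP : Submonoid.closure ({Equiv.swap 0 1, finRotate 3} : Set (Equiv.Perm (Fin 3))) = ⊤ :=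
      submonoid_closure_top (by
        rw [Set.pair_comm]
        exact Equiv.Perm.closure_prime_cycle_swap (σ := finRotate 3) (τ := Equiv.swap (0 : Fin 3) 1)
          (by rw [Fintype.card_fin]; norm_num) isCycle_finRotate support_finRotate ⟨0, 1, by decide, rfl⟩)
    have h2' : σ ∈ (Submonoid.closure S).comap (MonoidHom.inr (GL (Fin 3) (ZMod 2)) _) := by
      refine (hP ▸ Submonoid.closure_le.mpr ?_ : (⊤ : Submonoid _) ≤ _) (Submonoid.mem_top σ)
      rintro y (rfl | rfl)
      · exact Submonoid.subset_closure (Or.inr (Or.inr (Or.inl rfl)))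
      · exact Submonoid.subset_closure (Or.inr (Or.inr (Or.inr rfl)))
    have h := (Submonoid.closure S).mul_mem (h1' g) h2'
    simpa using h
  have hk3 : key 1 = [0, 1, 2] ∧ key (Equiv.swap 0 1) = [1, 0, 2] ∧ key (finRotate 3) = [1, 2, 0] := by
    decide +kernel
  have hid : ∀ t ∈ trioGensL, compL t (List.range 24) = t ∧ compL (List.range 24) t = t := by decide +kernel
  have hfs : f (ga, 1) = glImg glA ∧ f (gb, 1) = glImg glB ∧ f (1, Equiv.swap 0 1) = triImg [1, 0, 2] ∧
      f (1, finRotate 3) = triImg [1, 2, 0] := by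
    refine ⟨?_, ?_, ?_, ?_⟩ <;> simp only [f, hk3.1, hk3.2.1, hk3.2.2, hp1, Units.val_one, hone, hg1]
    · rw [show ga.1 = glGenM 0 from rfl, hcA]; exact (hid _ (by simp [trioGensL])).1
    · rw [show gb.1 = glGenM 1 from rfl, hcB]; exact (hid _ (by simp [trioGensL])).1
    · exact (hid _ (by simp [trioGensL])).2
    · exact (hid _ (by simp [trioGensL])).2
  have hfgen : ∀ s ∈ S, f s ∈ trioGensL := by
    rintro s (rfl | rfl | rfl | rfl)
    · rw [hfs.1]; simp [trioGensL]
    · rw [hfs.2.1]; simp [trioGensL]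
    · rw [hfs.2.2.1]; simp [trioGensL]
    · rw [hfs.2.2.2]; simp [trioGensL]
  have hf1 : f 1 = List.range 24 := by
    show compL (glImg (mCode (1 : GL (Fin 3) (ZMod 2)).1)) (triImg (key 1)) = _
    rw [Units.val_one, hone, hk3.1, hp1, hg1]
    decide +kernel
  obtain ⟨φ, hφK, hφ⟩ := table_hom f (K := stabilizer M24 (toObj tStd)) hS hf1
    (fun s hs => by
      obtain ⟨h2, h3⟩ := hgens _ (hfgen s hs)
      exact ⟨ofList (f s), mem_stabilizer_iff.mpr (same_spec (toList_ofList h2) hT h3), toList_ofList h2⟩)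
    (fun x s hs => by
      obtain ⟨k0, k1, k2, k3⟩ := trio_hom_ok _ (mCode_mem x.1) _ (hkey x.2)
      rw [(codeM_mCode x.1.1).2] at k0 k1
      have hsel : ∀ σ : Equiv.Perm (Fin 3), key (x.2 * σ) = (key σ).map fun i => (key x.2).getD i 0 := fun σ => by
        have hg : ∀ i : Fin 3, (key x.2).getD i.val 0 = (x.2 i).val := fun i => by fin_cases i <;> rfl
        simp only [key] at hg ⊢
        simp only [List.map_cons, List.map_nil, hg, Equiv.Perm.mul_apply]
      rcases hs with rfl | rfl | rfl | rfl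
      · rw [hfs.1, ← k0]
        simp [f, ga]
      · rw [hfs.2.1, ← k1]
        simp [f, gb]
      · rw [hfs.2.2.1, ← k2]
        simp [f, hsel, hk3.2.1]
      · rw [hfs.2.2.2, ← k3]
        simp [f, hsel, hk3.2.2])
  obtain ⟨N, hN, hcardN⟩ := exists_group h1 (fun L hL => (hE L hL).1) hnd trio_closed
  have hle : N ≤ stabilizer M24 (toObj tStd) := fun g hg =>
    mem_stabilizer_iff.mpr (same_spec rfl hT (hE _ ((hN g).mp hg)).2.2)
  have hnorm : ∀ x, φ x ∈ Subgroup.normalizer (N : Set M24) := by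
    intro x
    have hx : x ∈ ((Subgroup.normalizer (N : Set M24)).toSubmonoid.comap φ) := by
      refine (hS ▸ Submonoid.closure_le.mpr ?_ : (⊤ : Submonoid _) ≤ _) (Submonoid.mem_top x)
      intro s hs
      show φ s ∈ Subgroup.normalizer (N : Set M24)
      rw [Subgroup.mem_normalizer_iff_map_conj_eq]
      refine Subgroup.eq_of_le_of_card_ge ?_ (by rw [Subgroup.card_map_of_injective (MulAut.conj (φ s)).injective])
      rintro _ ⟨n, hn, rfl⟩
      rw [hN]
      obtain ⟨n', hn', he⟩ := hconj _ (hfgen s hs) _ ((hN n).mp hn)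
      obtain ⟨m, hm⟩ := genOK_spec (hE n' hn').1
      have hmul : φ s * n = m * φ s := toList_coe_injective (by
        show toList (φ s * n).1 = toList (m * φ s).1
        rw [Subgroup.coe_mul, Subgroup.coe_mul, toList_mul, toList_mul, hφ, hm]
        exact he)
      show toList (φ s * n * (φ s)⁻¹).1 ∈ _
      rw [hmul, mul_inv_cancel_right, hm]
      exact hn'
    exact hx
  have hinj : ∀ x, φ x ∈ N → x = 1 := fun x hx => by
    rw [hN, hφ] at hx
    obtain ⟨hc, hp⟩ := trio_inj_ok _ (mCode_mem x.1) _ (hkey x.2) hx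
    refine Prod.ext (Units.ext ?_) ?_
    · rw [← (codeM_mCode x.1.1).2, hc, ← hone, (codeM_mCode _).2, Prod.fst_one, Units.val_one]
    · have hkinj : ∀ σ τ : Equiv.Perm (Fin 3), key σ = key τ → σ = τ := fun σ τ e => by
        simp only [key, List.cons.injEq, Fin.val_inj, and_true] at e
        ext i; fin_cases i <;> simp [e]
      exact hkinj _ _ (hp.trans hk3.1.symm)
  have hcardT : Nat.card ↥(stabilizer M24 (toObj tStd)) = 64512 := by
    exact Nat.eq_of_mul_eq_mul_right (by norm_num : 0 < 3795)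
      ((card_stab_cat trios_cat.2 trioCat_trans tStd_mem).trans (by norm_num))
  have hcardG : Nat.card (GL (Fin 3) (ZMod 2) × Equiv.Perm (Fin 3)) = 1008 := by
    rw [Nat.card_prod, Matrix.card_GL_field, Nat.card_perm, Nat.card_fin, ZMod.card]
    simp [Fin.prod_univ_three, Nat.factorial]
  have hcardN' : Nat.card (N.subgroupOf (stabilizer M24 (toObj tStd))) = 64 := by
    rw [Nat.card_congr (Subgroup.subgroupOfEquivOfLe hle).toEquiv, hcardN, hlen]
  have hdecomp : ∀ g ∈ stabilizer M24 (toObj tStd), ∃ n ∈ N, ∃ x, g = n * φ x := by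
    let p : N × (GL (Fin 3) (ZMod 2) × Equiv.Perm (Fin 3)) → ↥(stabilizer M24 (toObj tStd)) :=
      fun y => ⟨y.1.1 * φ y.2, mul_mem (hle y.1.2) (hφK _)⟩
    have hp : Function.Injective p := fun y z h => by
      have h' : y.1.1 * φ y.2 = z.1.1 * φ z.2 := congrArg Subtype.val h
      have h2 : φ (y.2 * z.2⁻¹) = y.1.1⁻¹ * z.1.1 := by
        rw [map_mul, map_inv, eq_inv_mul_iff_mul_eq, ← mul_assoc, h', mul_inv_cancel_right]
      have h3 := hinj _ (h2 ▸ mul_mem (inv_mem y.1.2) z.1.2)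
      rw [mul_inv_eq_one] at h3
      rw [h3] at h'
      exact Prod.ext (Subtype.ext (mul_right_cancel h')) h3
    have hb := hp.bijective_of_nat_card_le (by rw [hcardT, Nat.card_prod, hcardN, hlen, hcardG])
    intro g hg
    obtain ⟨y, hy⟩ := hb.2 ⟨g, hg⟩
    exact ⟨y.1.1, y.1.2, y.2, (congrArg Subtype.val hy).symm⟩
  haveI hNn : (N.subgroupOf (stabilizer M24 (toObj tStd))).Normal := by
    rw [Subgroup.normal_subgroupOf_iff_le_normalizer hle]
    intro g hg
    obtain ⟨n, hn, x, rfl⟩ := hdecomp g hg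
    exact mul_mem (Subgroup.le_normalizer hn) (hnorm x)
  refine ⟨_, hNn, hcardN', fun x hx => ?_, ?_⟩
  · refine Subtype.ext (toList_coe_injective ?_)
    show toList (x.1 * x.1).1 = toList (1 : Equiv.Perm GolayPt)
    rw [Subgroup.coe_mul, toList_mul, toList_one]
    exact (hE _ ((hN _).mp hx)).2.1
  let ψ := (QuotientGroup.mk' (N.subgroupOf (stabilizer M24 (toObj tStd)))).comp (φ.codRestrict _ hφK)
  have hψ : Function.Injective ψ := (injective_iff_map_eq_one ψ).mpr fun x hx => hinj x (by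
    have h := (QuotientGroup.eq_one_iff _).mp hx
    exact Subgroup.mem_subgroupOf.mp h)
  have hb : Function.Bijective ψ := hψ.bijective_of_nat_card_le (by
    have h := Subgroup.card_eq_card_quotient_mul_card_subgroup (N.subgroupOf (stabilizer M24 (toObj tStd)))
    rw [hcardT, hcardN'] at h
    rw [hcardG]
    omega)
  exact ⟨(MulEquiv.ofBijective ψ hb).symm⟩

theorem trio_shape {T : Obj} (hT : T ∈ trios) :
    (∀ e : Equiv.Perm ↥T, ∃ g ∈ stabilizer M24 T, ∀ o : ↥T, g • (o : Finset GolayPt) = (e o : Finset GolayPt)) ∧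
    ∃ (N : Subgroup ↥(stabilizer M24 T)) (_ : N.Normal), Nat.card N = 64 ∧ (∀ x ∈ N, x * x = 1) ∧
      Nonempty (↥(stabilizer M24 T) ⧸ N ≃* GL (Fin 3) (ZMod 2) × Equiv.Perm (Fin 3)) := by
  obtain ⟨k, hk⟩ := map_trio hT
  have hk' : k • toObj tStd = T := by simpa using hk
  refine ⟨parts_transport (partsHom_surjective trio_ok.1 trio_sw_ok) k hk', ?_⟩
  obtain ⟨N, hN, hc, hsq, ⟨e⟩⟩ := trio_quotient
  haveI := hN
  set c := stabConj k hk'
  haveI hN' : (N.map c.toMonoidHom).Normal := hN.map _ c.surjective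
  refine ⟨N.map c.toMonoidHom, hN', (Subgroup.card_map_of_injective c.injective).trans hc, ?_,
    ⟨(QuotientGroup.congr N (N.map c.toMonoidHom) c rfl).symm.trans e⟩⟩
  rintro _ ⟨x, hx, rfl⟩
  rw [← map_mul, hsq x hx, map_one]

end CfsgLib.Golay.Cert
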