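import Cfsg.Agent.Golay.M11Fusion
import Cfsg.Agent.Fusion.SimpleCriterion
import Mathlib.GroupTheory.Perm.Cycle.Type

/-!
Checking certificates for 2-subgroups given by position lists: a polycyclic series gives the
elements, derivations give generation, label-preserving class data control odd automorphisms.
-/

set_option autoImplicit false

namespace CfsgLib.Golay.SylowCert

open Cfsg

/-- A position list of a permutation together with the one of its inverse. -/
def Good (L : List ℕ) : Prop :=
  ∀ i < 24, L.getD i 0 < 24 ∧ (invL L).getD i 0 < 24 ∧ (invL L).getD (L.getD i 0) 0 = i ∧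
    L.getD ((invL L).getD i 0) 0 = i

instance (L : List ℕ) : Decidable (Good L) := by unfold Good; infer_instance

/-- The permutation of a position list. -/
def permL (L : List ℕ) : Equiv.Perm GolayPt :=
  if h : Good L then permOfLists L (invL L) (fun i hi => h i hi) else 1

theorem toList_permL {L : List ℕ} (h : Good L) (hl : L.length = 24) : toList (permL L) = L := by
  refine List.ext_getElem (by simp [toList, hl]) fun i h1 h2 => ?_
  have hi : i < 24 := by simpa [toList] using h1
  simp only [toList, List.getElem_map, List.getElem_range, permL, dif_pos h]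
  show idx (pt (L.getD (idx (pt i)) 0)) = _
  rw [idx_pt i hi, idx_pt _ (h i hi).1, List.getD_eq_getElem _ 0 h2]

theorem toList_injective : Function.Injective toList := by
  intro σ τ h
  refine Equiv.ext fun q => idx_injective ?_
  rw [← toList_getD_idx σ q, ← toList_getD_idx τ q, h]

/-- All position lists in a list are valid. -/
def AllGood (Ls : List (List ℕ)) : Prop := ∀ L ∈ Ls, Good L ∧ L.length = 24

theorem eq_iff_toList {σ : Equiv.Perm GolayPt} {L : List ℕ} (h : Good L) (hl : L.length = 24) :
    toList σ = L ↔ σ = permL L :=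
  ⟨fun e => toList_injective (e.trans (toList_permL h hl).symm),
    fun e => e ▸ toList_permL h hl⟩

/-! ### The polycyclic series -/

/-- The elements of the subgroup of the first `i` members of the series. -/
def els (gs : List (List ℕ)) : ℕ → List (List ℕ)
  | 0 => [List.range 24]
  | i + 1 => els gs i ++ (els gs i).map (compL (gs.getD i []))

/-- The conditions on a polycyclic series. -/
def PcOK (gs : List (List ℕ)) : Prop :=
  (∀ g ∈ gs, Good g ∧ g.length = 24) ∧ ∀ i < gs.length, gs.getD i [] ∉ els gs i ∧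
    compL (gs.getD i []) (gs.getD i []) ∈ els gs i ∧
      ∀ j < i, compL (compL (gs.getD i []) (gs.getD j [])) (invL (gs.getD i [])) ∈ els gs i

instance (gs : List (List ℕ)) : Decidable (PcOK gs) := by unfold PcOK; infer_instance

/-- The subgroup generated by the first `i` members. -/
def pcGroup (gs : List (List ℕ)) (i : ℕ) : Subgroup (Equiv.Perm GolayPt) :=
  Subgroup.closure {σ | ∃ j < i, σ = permL (gs.getD j [])}

variable {gs : List (List ℕ)}

theorem good_getD (h : PcOK gs) {i : ℕ} (hi : i < gs.length) :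
    Good (gs.getD i []) ∧ (gs.getD i []).length = 24 := by
  rw [List.getD_eq_getElem _ _ hi]
  exact h.1 _ (List.getElem_mem hi)

theorem mem_pcGroup (h : PcOK gs) : ∀ i ≤ gs.length, ∀ σ : Equiv.Perm GolayPt,
    σ ∈ pcGroup gs i ↔ toList σ ∈ els gs i := by
  intro i
  induction i with
  | zero =>
    intro _ σ
    have h0 : pcGroup gs 0 = ⊥ := by
      rw [pcGroup, Subgroup.closure_eq_bot_iff]
      rintro _ ⟨j, hj, -⟩
      exact absurd hj (Nat.not_lt_zero j)
    rw [h0, Subgroup.mem_bot, els, List.mem_singleton, ← toList_one]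
    exact ⟨fun e => e ▸ rfl, fun e => toList_injective e⟩
  | succ i ih =>
    intro hi σ
    have hi' : i < gs.length := hi
    obtain ⟨hgood, hlen⟩ := good_getD h hi'
    have ih' := ih hi'.le
    set g := permL (gs.getD i []) with hg
    have hgl : toList g = gs.getD i [] := toList_permL hgood hlen
    have hle : pcGroup gs i ≤ pcGroup gs (i + 1) :=
      Subgroup.closure_mono fun s ⟨j, hj, hs⟩ => ⟨j, Nat.lt_succ_of_lt hj, hs⟩
    have hgmem : g ∈ pcGroup gs (i + 1) :=
      Subgroup.subset_closure ⟨i, Nat.lt_succ_self i, rfl⟩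
    constructor
    · intro hσ
      obtain ⟨-, hnot, hsq, hconj⟩ := And.intro h.1 (h.2 i hi')
      have hgg : g * g ∈ pcGroup gs i := (ih' _).2 (by rw [toList_mul, hgl]; exact hsq)
      have hnorm : ∀ a ∈ pcGroup gs i, g * a * g⁻¹ ∈ pcGroup gs i := by
        intro a ha
        have : (pcGroup gs i).map (MulAut.conj g).toMonoidHom ≤ pcGroup gs i := by
          rw [pcGroup, MonoidHom.map_closure, Subgroup.closure_le]
          rintro _ ⟨_, ⟨j, hj, rfl⟩, rfl⟩
          refine (ih' _).2 ?_
          show toList (g * permL (gs.getD j []) * g⁻¹) ∈ els gs i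
          obtain ⟨hgj, hlj⟩ := good_getD h (hj.trans hi')
          rw [toList_mul, toList_mul, toList_inv, hgl, toList_permL hgj hlj]
          exact hconj j hj
        exact this ⟨a, ha, rfl⟩
      have hnorm' : ∀ a ∈ pcGroup gs i, g⁻¹ * a * g ∈ pcGroup gs i := by
        intro a ha
        have h1 := mul_mem (mul_mem (inv_mem hgg) (hnorm a ha)) hgg
        simpa [mul_assoc] using h1
      induction hσ using Subgroup.closure_induction with
      | mem x hx =>
        obtain ⟨j, hj, rfl⟩ := hx
        rw [els, List.mem_append]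
        rcases Nat.lt_succ_iff_lt_or_eq.1 hj with hj' | rfl
        · exact Or.inl ((ih' _).1 (Subgroup.subset_closure ⟨j, hj', rfl⟩))
        · refine Or.inr (List.mem_map.2 ⟨toList 1, (ih' 1).1 (one_mem _), ?_⟩)
          exact (congrArg (fun l => compL l (toList 1)) hgl.symm).trans
            ((toList_mul g 1).symm.trans (congrArg toList (mul_one g)))
      | one =>
        rw [els, List.mem_append]
        exact Or.inl ((ih' 1).1 (one_mem _))
      | mul x y _ _ hx hy =>
        have split : ∀ u : Equiv.Perm GolayPt, toList u ∈ els gs (i + 1) →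
            u ∈ pcGroup gs i ∨ g⁻¹ * u ∈ pcGroup gs i := by
          intro u hu
          rw [els, List.mem_append, List.mem_map] at hu
          rcases hu with hu | ⟨v, hv, hvu⟩
          · exact Or.inl ((ih' u).2 hu)
          · refine Or.inr ((ih' _).2 ?_)
            have hvl : toList (g⁻¹ * u) = v := by
              rw [toList_mul, ← hvu, toList_inv, hgl]
              exact compL_invL_cancel hgood (els_length h (i := i) hi'.le hv)
            exact hvl ▸ hv
        have join : ∀ u : Equiv.Perm GolayPt, (u ∈ pcGroup gs i ∨ g⁻¹ * u ∈ pcGroup gs i) →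
            toList u ∈ els gs (i + 1) := by
          intro u hu
          rw [els, List.mem_append]
          rcases hu with hu | hu
          · exact Or.inl ((ih' u).1 hu)
          · refine Or.inr (List.mem_map.2 ⟨_, (ih' _).1 hu, ?_⟩)
            rw [← hgl, ← toList_mul, mul_inv_cancel_left]
        apply join
        rcases split x hx with hx | hx <;> rcases split y hy with hy | hy
        · exact Or.inl (mul_mem hx hy)
        · right
          have h1 := mul_mem (hnorm' x hx) hy
          simpa [mul_assoc] using h1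
        · right
          have h1 := mul_mem hx hy
          simpa [mul_assoc] using h1
        · left
          have h1 := mul_mem (mul_mem hgg (hnorm' _ hx)) hy
          simpa [mul_assoc] using h1
      | inv x _ hx =>
        have split : x ∈ pcGroup gs i ∨ g⁻¹ * x ∈ pcGroup gs i := by
          rw [els, List.mem_append, List.mem_map] at hx
          rcases hx with hu | ⟨v, hv, hvu⟩
          · exact Or.inl ((ih' x).2 hu)
          · refine Or.inr ((ih' _).2 ?_)
            have hvl : toList (g⁻¹ * x) = v := by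
              rw [toList_mul, ← hvu, toList_inv, hgl]
              exact compL_invL_cancel hgood (els_length h (i := i) hi'.le hv)
            exact hvl ▸ hv
        rw [els, List.mem_append]
        rcases split with hx | hx
        · exact Or.inl ((ih' _).1 (inv_mem hx))
        · refine Or.inr (List.mem_map.2 ⟨toList (g⁻¹ * x⁻¹), (ih' _).1 ?_, ?_⟩)
          · have h1 := mul_mem (inv_mem hgg) (hnorm _ (inv_mem hx))
            simpa [mul_assoc] using h1
          · rw [← hgl, ← toList_mul, mul_inv_cancel_left]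
    · intro hσ
      rw [els, List.mem_append, List.mem_map] at hσ
      rcases hσ with hu | ⟨v, hv, hvu⟩
      · exact hle ((ih' σ).2 hu)
      · have hvl : toList (g⁻¹ * σ) = v := by
          rw [toList_mul, ← hvu, toList_inv, hgl]
          exact compL_invL_cancel hgood (els_length h (i := i) hi'.le hv)
        have h1 := mul_mem hgmem (hle ((ih' (g⁻¹ * σ)).2 (hvl ▸ hv)))
        rwa [mul_inv_cancel_left] at h1
where
  compL_invL_cancel {L v : List ℕ} (hL : Good L) (hv : ∀ x ∈ v, x < 24) :
      compL (invL L) (compL L v) = v := by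
    simp only [compL, List.map_map]
    conv_rhs => rw [← List.map_id v]
    exact List.map_congr_left fun x hx => (hL x (hv x hx)).2.2.1
  els_length {gs : List (List ℕ)} (h : PcOK gs) {i : ℕ} (hi : i ≤ gs.length) {v : List ℕ}
      (hv : v ∈ els gs i) : ∀ x ∈ v, x < 24 := by
    induction i generalizing v with
    | zero =>
      rw [els, List.mem_singleton] at hv
      subst hv
      exact fun x hx => List.mem_range.1 hx
    | succ i ih =>
      rw [els, List.mem_append, List.mem_map] at hv
      rcases hv with hv | ⟨w, hw, rfl⟩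
      · exact ih (Nat.le_of_succ_le hi) hv
      · intro x hx
        simp only [compL, List.mem_map] at hx
        obtain ⟨y, hy, rfl⟩ := hx
        exact ((good_getD h hi).1 y (ih (Nat.le_of_succ_le hi) hw y hy)).1

theorem length_els (gs : List (List ℕ)) : ∀ i, (els gs i).length = 2 ^ i
  | 0 => rfl
  | i + 1 => by
    rw [els, List.length_append, List.length_map, length_els gs i, pow_succ]
    omega

theorem card_pcGroup (h : PcOK gs) : ∀ i ≤ gs.length, Nat.card (pcGroup gs i) = 2 ^ i := by
  have hbound : ∀ i ≤ gs.length, Nat.card (pcGroup gs i) ≤ 2 ^ i := by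
    intro i hi
    rw [← length_els gs i]
    refine (Nat.card_le_card_of_injective
      (fun σ : pcGroup gs i => (⟨toList (σ : Equiv.Perm GolayPt), List.mem_toFinset.2
        ((mem_pcGroup h i hi _).1 σ.2)⟩ : (els gs i).toFinset))
      (fun a b hab => Subtype.ext (toList_injective (congrArg Subtype.val hab)))).trans ?_
    rw [Nat.card_eq_fintype_card, Fintype.card_coe]
    exact List.toFinset_card_le _
  intro i hi
  induction i with
  | zero =>
    refine le_antisymm (hbound 0 hi) ?_
    rw [pow_zero]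
    exact Nat.card_pos
  | succ i ih =>
    have hi' : i < gs.length := hi
    have ih := ih hi'.le
    refine le_antisymm (hbound _ hi) ?_
    have hle : pcGroup gs i ≤ pcGroup gs (i + 1) :=
      Subgroup.closure_mono fun s ⟨j, hj, hs⟩ => ⟨j, Nat.lt_succ_of_lt hj, hs⟩
    have hdvd := Subgroup.card_dvd_of_le hle
    have hne : Nat.card (pcGroup gs (i + 1)) ≠ Nat.card (pcGroup gs i) := fun he => by
      have hge := Subgroup.eq_of_le_of_card_ge hle he.le
      have hm : permL (gs.getD i []) ∈ pcGroup gs i := hge.ge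
        (Subgroup.subset_closure ⟨i, Nat.lt_succ_self i, rfl⟩)
      obtain ⟨hg1, hg2⟩ := good_getD h hi'
      have h1 := (mem_pcGroup h i hi'.le _).1 hm
      rw [toList_permL hg1 hg2] at h1
      exact (h.2 i hi').1 h1
    rw [ih] at hdvd hne
    obtain ⟨c, hc⟩ := hdvd
    have hpos : 0 < Nat.card (pcGroup gs (i + 1)) := Nat.card_pos
    rw [hc] at hne hpos ⊢
    rw [pow_succ]
    refine Nat.mul_le_mul_left _ ?_
    rcases c with _ | _ | c
    · simp at hpos
    · simp at hne
    · omega

/-- The series spans the last group. -/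
theorem pcGroup_le (h : PcOK gs) {T : Subgroup (Equiv.Perm GolayPt)}
    (hT : ∀ g ∈ gs, permL g ∈ T) : pcGroup gs gs.length ≤ T := by
  rw [pcGroup, Subgroup.closure_le]
  rintro _ ⟨j, hj, rfl⟩
  rw [List.getD_eq_getElem _ _ hj]
  exact hT _ (List.getElem_mem hj)

/-! ### Derivations -/

/-- One step: a conjugate by the given permutation of an earlier entry, or a product of two. -/
def stepFn (acc : List (List ℕ)) (s : Bool × List ℕ × ℕ × ℕ) : List (List ℕ) :=
  if s.1 then
    acc ++ [compL (compL s.2.1 (acc.getD s.2.2.1 (List.range 24))) (invL s.2.1)]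
  else
    acc ++ [compL (acc.getD s.2.2.1 (List.range 24)) (acc.getD s.2.2.2 (List.range 24))]

/-- The entries derived from `start`. -/
def derived (start : List (List ℕ)) (steps : List (Bool × List ℕ × ℕ × ℕ)) : List (List ℕ) :=
  steps.foldl stepFn start

theorem derived_mem {H P T : Subgroup (Equiv.Perm GolayPt)} (hPH : P ≤ H)
    (hcl : ∀ x ∈ T, x ∈ P → ∀ g ∈ H, g * x * g⁻¹ ∈ P → g * x * g⁻¹ ∈ T) :
    ∀ (steps : List (Bool × List ℕ × ℕ × ℕ)) (start : List (List ℕ)),
      (∀ L ∈ start, ∃ σ, σ ∈ T ∧ σ ∈ P ∧ toList σ = L) →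
      (∀ s ∈ steps, s.1 = true → Good s.2.1 ∧ s.2.1.length = 24 ∧ permL s.2.1 ∈ H) →
      (∀ L ∈ derived start steps, ∀ σ, toList σ = L → σ ∈ P) →
      ∀ L ∈ derived start steps, ∃ σ, σ ∈ T ∧ σ ∈ P ∧ toList σ = L := by
  intro steps
  induction steps with
  | nil => intro start hs _ _; exact hs
  | cons s steps ih =>
    intro start hstart hsteps hP
    have hget : ∀ a, ∃ σ, σ ∈ T ∧ σ ∈ P ∧ toList σ = start.getD a (List.range 24) := fun a => by
      rcases lt_or_ge a start.length with ha | ha
      · rw [List.getD_eq_getElem _ _ ha]; exact hstart _ (List.getElem_mem ha)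
      · rw [List.getD_eq_default _ _ ha]; exact ⟨1, one_mem _, one_mem _, toList_one⟩
    have hsub : ∀ (l : List (Bool × List ℕ × ℕ × ℕ)) (st : List (List ℕ)), ∀ L ∈ st,
        L ∈ derived st l := by
      intro l
      induction l with
      | nil => intro st L hL; exact hL
      | cons t l ihl =>
        intro st L hL
        refine ihl (stepFn st t) L ?_
        unfold stepFn
        split <;> exact List.mem_append_left _ hL
    refine ih (stepFn start s) ?_ (fun t ht => hsteps t (List.mem_cons_of_mem s ht)) hP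
    intro L hL
    have hLP := hP L (hsub steps _ L hL)
    unfold stepFn at hL
    rcases hb : s.1 with _ | _
    · rw [if_neg (by simp [hb]), List.mem_append, List.mem_singleton] at hL
      rcases hL with hL | rfl
      · exact hstart L hL
      · obtain ⟨x, hxT, hxP, hx⟩ := hget s.2.2.1
        obtain ⟨y, hyT, hyP, hy⟩ := hget s.2.2.2
        exact ⟨x * y, mul_mem hxT hyT, mul_mem hxP hyP, by rw [toList_mul, hx, hy]⟩
    · rw [if_pos hb, List.mem_append, List.mem_singleton] at hL
      rcases hL with hL | rfl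
      · exact hstart L hL
      · obtain ⟨x, hxT, hxP, hx⟩ := hget s.2.2.1
        obtain ⟨h1, h2, h3⟩ := hsteps s (List.mem_cons_self ..) hb
        have he : toList (permL s.2.1 * x * (permL s.2.1)⁻¹) =
            compL (compL s.2.1 (start.getD s.2.2.1 (List.range 24))) (invL s.2.1) := by
          rw [toList_mul, toList_mul, toList_inv, toList_permL h1 h2, hx]
        exact ⟨_, hcl x hxT hxP _ h3 (hLP _ he), hLP _ he, he⟩

/-! ### Labels -/

/-- The number of the listed elements fixing a position. -/
def fixCount (E : List (List ℕ)) (i : ℕ) : ℕ :=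
  (E.toFinset.filter fun L => L.getD i 0 = i).card

/-- The label of a position. -/
def lab (E : List (List ℕ)) (mask : ℕ) (i : ℕ) : ℕ :=
  2 * fixCount E i + cond (mask.testBit i) 1 0

/-- The numbers of fixed positions with the given labels. -/
def key (labs : List ℕ) (vals : List ℕ) (L : List ℕ) : List ℕ :=
  vals.map fun v =>
    ((Finset.range 24).filter fun i => L.getD i 0 = i ∧ labs.getD i 0 = v).card

theorem key_conj (E : List (List ℕ)) (mask : ℕ) (vals : List ℕ) {P : Subgroup (Equiv.Perm GolayPt)}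
    (hE : ∀ σ, σ ∈ P ↔ toList σ ∈ E) (hEs : ∀ L ∈ E, ∃ σ, toList σ = L)
    {n : Equiv.Perm GolayPt}
    (hn : ∀ σ, σ ∈ P ↔ n * σ * n⁻¹ ∈ P)
    (hmask : ∀ p, mask.testBit (idx (n p)) = mask.testBit (idx p)) (σ : Equiv.Perm GolayPt) :
    key ((List.range 24).map (lab E mask)) vals (toList (n * σ * n⁻¹)) =
      key ((List.range 24).map (lab E mask)) vals (toList σ) := by
  have hfix : ∀ p, fixCount E (idx (n p)) = fixCount E (idx p) := by
    intro p
    refine (Finset.card_bij (fun L _ => compL (compL (toList n) L) (invL (toList n))) ?_ ?_ ?_).symm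
    · intro L hL
      rw [Finset.mem_filter, List.mem_toFinset] at hL ⊢
      obtain ⟨τ, rfl⟩ := hEs L hL.1
      rw [← toList_inv, ← toList_mul, ← toList_mul]
      refine ⟨(hE _).1 ((hn τ).1 ((hE τ).2 hL.1)), ?_⟩
      rw [toList_getD_idx]
      have h1 : τ p = p := idx_injective (by rw [← toList_getD_idx]; exact hL.2)
      simp [h1]
    · intro L hL L' hL' he
      rw [Finset.mem_filter, List.mem_toFinset] at hL hL'
      obtain ⟨τ, rfl⟩ := hEs L hL.1
      obtain ⟨τ', rfl⟩ := hEs L' hL'.1
      rw [← toList_inv, ← toList_mul, ← toList_mul, ← toList_mul, ← toList_mul] at he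
      rw [mul_left_cancel (mul_right_cancel (toList_injective he))]
    · intro L hL
      rw [Finset.mem_filter, List.mem_toFinset] at hL
      obtain ⟨τ, rfl⟩ := hEs L hL.1
      refine ⟨toList (n⁻¹ * τ * n), ?_, ?_⟩
      · rw [Finset.mem_filter, List.mem_toFinset]
        refine ⟨(hE _).1 ((hn _).2 ?_), ?_⟩
        · simpa [mul_assoc] using (hE τ).2 hL.1
        · rw [toList_getD_idx]
          have h1 : τ (n p) = n p := idx_injective (by rw [← toList_getD_idx]; exact hL.2)
          simp [h1]
      · rw [← toList_inv, ← toList_mul, ← toList_mul]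
        simp [mul_assoc]
  have hlab : ∀ p, ((List.range 24).map (lab E mask)).getD (idx (n p)) 0 =
      ((List.range 24).map (lab E mask)).getD (idx p) 0 := by
    intro p
    rw [List.getD_eq_getElem _ _ (by simpa using idx_lt _),
      List.getD_eq_getElem _ _ (by simpa using idx_lt _)]
    simp [lab, hfix, hmask]
  unfold key
  refine List.map_congr_left fun v _ => ?_
  refine Finset.card_bij (fun i _ => idx (n⁻¹ (pt i))) ?_ ?_ ?_
  · intro i hi
    simp only [Finset.mem_filter, Finset.mem_range] at hi ⊢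
    obtain ⟨hi24, hfx, hl⟩ := hi
    refine ⟨idx_lt _, ?_, ?_⟩
    · rw [toList_getD_idx]
      congr 1
      rw [toList_getD _ hi24] at hfx
      have h1 : (n * σ * n⁻¹) (pt i) = pt i := idx_injective (by rw [hfx, idx_pt i hi24])
      calc σ (n⁻¹ (pt i)) = n⁻¹ ((n * σ * n⁻¹) (pt i)) := by simp
        _ = n⁻¹ (pt i) := by rw [h1]
    · rw [← hlab]
      simpa [idx_pt i hi24] using hl
  · intro i hi j hj he
    simp only [Finset.mem_filter, Finset.mem_range] at hi hj
    have h1 := n⁻¹.injective (idx_injective he)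
    rw [← idx_pt i hi.1, ← idx_pt j hj.1, h1]
  · intro j hj
    simp only [Finset.mem_filter, Finset.mem_range] at hj ⊢
    obtain ⟨hj24, hfx, hl⟩ := hj
    refine ⟨idx (n (pt j)), ⟨idx_lt _, ?_, ?_⟩, ?_⟩
    · rw [toList_getD_idx]
      congr 1
      rw [toList_getD _ hj24] at hfx
      have h1 : σ (pt j) = pt j := idx_injective (by rw [hfx, idx_pt j hj24])
      simp [h1]
    · rw [hlab, idx_pt j hj24]
      exact hl
    · rw [pt_idx]
      simp [idx_pt j hj24]

/-- The conjugates of a listed element by the listed elements. -/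
def cls (E : List (List ℕ)) (x : List ℕ) : List (List ℕ) :=
  (E.map fun s => compL (compL s x) (invL s)).dedup

theorem pcGroup_permL_mem (h : PcOK gs) {g : List ℕ} (hg : g ∈ gs) :
    permL g ∈ pcGroup gs gs.length := by
  obtain ⟨j, hj, rfl⟩ := List.getElem_of_mem hg
  exact Subgroup.subset_closure ⟨j, hj, by rw [List.getD_eq_getElem _ _ hj]⟩

theorem exists_of_mem_els (h : PcOK gs) : ∀ i ≤ gs.length, ∀ L ∈ els gs i,
    ∃ σ ∈ pcGroup gs i, toList σ = L := by
  intro i
  induction i with
  | zero =>
    intro _ L hL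
    rw [els, List.mem_singleton] at hL
    exact ⟨1, one_mem _, hL ▸ toList_one⟩
  | succ i ih =>
    intro hi L hL
    obtain ⟨hg, hl⟩ := good_getD h hi
    rw [els, List.mem_append, List.mem_map] at hL
    have hle : pcGroup gs i ≤ pcGroup gs (i + 1) :=
      Subgroup.closure_mono fun s ⟨j, hj, hs⟩ => ⟨j, Nat.lt_succ_of_lt hj, hs⟩
    rcases hL with hL | ⟨v, hv, rfl⟩
    · obtain ⟨σ, hσ, rfl⟩ := ih (Nat.le_of_succ_le hi) L hL
      exact ⟨σ, hle hσ, rfl⟩
    · obtain ⟨σ, hσ, rfl⟩ := ih (Nat.le_of_succ_le hi) v hv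
      exact ⟨permL (gs.getD i []) * σ,
        mul_mem (Subgroup.subset_closure ⟨i, Nat.lt_succ_self i, rfl⟩) (hle hσ),
        by rw [toList_mul, toList_permL hg hl]⟩

/-- A prime-power element of odd order normalizing the group and keeping the mask centralizes it,
given generators in classes of 2-power size that are singled out by their keys. -/
theorem centralize_of_cert (h : PcOK gs) (mask : ℕ) (vals labs : List ℕ) (reps : List (List ℕ))
    (repSteps : List (Bool × List ℕ × ℕ × ℕ))
    (hlabs : (List.range 24).map (lab (els gs gs.length) mask) = labs)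
    (hreps : ∀ r ∈ reps, r ∈ els gs gs.length ∧
      (∀ y ∈ els gs gs.length, key labs vals y = key labs vals r →
        y ∈ cls (els gs gs.length) r) ∧
      ∃ a < 12, ((els gs gs.length).toFinset.filter fun y =>
        key labs vals y = key labs vals r).card = 2 ^ a)
    (hprod : ∀ s ∈ repSteps, s.1 = false)
    (hder : ∀ L ∈ derived reps repSteps, L ∈ els gs gs.length)
    (hgen : ∀ g ∈ gs, g ∈ derived reps repSteps)
    {n : Equiv.Perm GolayPt}
    (hn : ∀ σ, σ ∈ pcGroup gs gs.length ↔ n * σ * n⁻¹ ∈ pcGroup gs gs.length)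
    (hmask : ∀ p, mask.testBit (idx (n p)) = mask.testBit (idx p))
    {q k : ℕ} (hq : q.Prime) (hq2 : q ≠ 2) (hord : orderOf n = q ^ k) :
    ∀ y ∈ pcGroup gs gs.length, n * y * n⁻¹ = y := by
  haveI : Fact q.Prime := ⟨hq⟩
  haveI : Fact (Nat.Prime 2) := ⟨Nat.prime_two⟩
  set P := pcGroup gs gs.length with hP
  have hE : ∀ σ, σ ∈ P ↔ toList σ ∈ els gs gs.length := mem_pcGroup h _ le_rfl
  have hEs : ∀ L ∈ els gs gs.length, ∃ σ, toList σ = L := fun L hL =>
    (exists_of_mem_els h _ le_rfl L hL).imp fun σ hσ => hσ.2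
  -- a fixed element in each class
  have hfix : ∀ r ∈ reps, ∃ x ∈ P, n * x * n⁻¹ = x ∧ ∃ t ∈ P, toList (t⁻¹ * x * t) = r := by
    intro r hr
    obtain ⟨hrE, hiso, a, -, hcard⟩ := hreps r hr
    set C := (els gs gs.length).toFinset.filter fun y => key labs vals y = key labs vals r
      with hC
    have hiff : ∀ σ, toList (MulAut.toPerm _ (MulAut.conj n) σ) ∈ C ↔ toList σ ∈ C := by
      intro σ
      show toList (n * σ * n⁻¹) ∈ C ↔ _
      rw [hC, Finset.mem_filter, Finset.mem_filter, List.mem_toFinset, List.mem_toFinset,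
        ← hE, ← hE, ← hn σ, ← hlabs, key_conj _ mask vals hE hEs hn hmask]
    let e : {σ : Equiv.Perm GolayPt // toList σ ∈ C} ≃ C :=
      Equiv.ofBijective (fun σ => ⟨toList σ.1, σ.2⟩)
        ⟨fun x y hxy => Subtype.ext (toList_injective (congrArg Subtype.val hxy)),
          fun L => by
            obtain ⟨σ, hσ⟩ := hEs L.1 (List.mem_toFinset.1 (Finset.mem_filter.1 L.2).1)
            exact ⟨⟨σ, hσ.symm ▸ L.2⟩, Subtype.ext hσ⟩⟩
    haveI : Fintype {σ : Equiv.Perm GolayPt // toList σ ∈ C} := Fintype.ofEquiv _ e.symm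
    have hnd : ¬ q ∣ Fintype.card {σ : Equiv.Perm GolayPt // toList σ ∈ C} := by
      rw [Fintype.card_congr e, Fintype.card_coe, hcard]
      exact fun hd => hq2 ((Nat.prime_dvd_prime_iff_eq hq Nat.prime_two).1
        (hq.dvd_of_dvd_pow hd))
    obtain ⟨⟨x, hxC⟩, hx⟩ := Equiv.Perm.exists_fixed_point_of_prime (n := k) hnd
      (σ := Equiv.Perm.subtypePerm (MulAut.toPerm _ (MulAut.conj n)) hiff) (by
        rw [Equiv.Perm.subtypePerm_pow]
        refine Equiv.ext fun σ => Subtype.ext ?_
        show (MulAut.toPerm _ (MulAut.conj n) ^ q ^ k) σ.1 = σ.1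
        rw [← map_pow, ← map_pow, ← hord, pow_orderOf_eq_one]
        simp)
    have hxE := Finset.mem_filter.1 hxC
    have hcls := hiso _ (List.mem_toFinset.1 hxE.1) hxE.2
    simp only [cls, List.mem_dedup, List.mem_map] at hcls
    obtain ⟨v, hv, hveq⟩ := hcls
    obtain ⟨t, ht, rfl⟩ := exists_of_mem_els h _ le_rfl v hv
    obtain ⟨ρ, hρ, rfl⟩ := exists_of_mem_els h _ le_rfl r hrE
    rw [← toList_inv, ← toList_mul, ← toList_mul] at hveq
    refine ⟨x, (hE x).2 (List.mem_toFinset.1 hxE.1), congrArg Subtype.val hx, t, ht, ?_⟩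
    rw [← toList_injective hveq]
    simp [mul_assoc]
  -- the centralized part is everything
  let U : Subgroup P :=
    { carrier := {y | n * (y : Equiv.Perm GolayPt) * n⁻¹ = y}
      mul_mem' := fun {a b} (ha : _ = _) (hb : _ = _) => by
        show n * ((a : Equiv.Perm GolayPt) * b) * n⁻¹ = (a : Equiv.Perm GolayPt) * b
        conv_rhs => rw [← ha, ← hb]
        group
      one_mem' := by simp
      inv_mem' := fun {a} (ha : _ = _) => by
        show n * (a : Equiv.Perm GolayPt)⁻¹ * n⁻¹ = (a : Equiv.Perm GolayPt)⁻¹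
        conv_rhs => rw [← ha]
        group }
  suffices hU : U = ⊤ by
    intro y hy
    exact (hU ▸ Subgroup.mem_top _ : (⟨y, hy⟩ : P) ∈ U)
  by_contra hne
  obtain ⟨M, hM, hUM⟩ := (eq_top_or_exists_le_coatom U).resolve_left hne
  haveI : Group.IsNilpotent P :=
    (IsPGroup.of_card (p := 2) (card_pcGroup h _ le_rfl)).isNilpotent
  have hMn : M.Normal := Subgroup.NormalizerCondition.normal_of_coatom M
    Group.normalizerCondition_of_isNilpotent hM
  refine hM.1 (top_le_iff.1 fun y _ => ?_)
  have hmap : P ≤ M.map P.subtype := by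
    refine pcGroup_le h fun g hg => ?_
    have hlift : ∀ x ∈ M.map P.subtype, x ∈ P := fun x ⟨u, _, hu⟩ => hu ▸ u.2
    have hstart : ∀ L ∈ reps, ∃ σ, σ ∈ M.map P.subtype ∧ σ ∈ P ∧ toList σ = L := by
      intro r hr
      obtain ⟨x, hx, hxn, t, ht, htx⟩ := hfix r hr
      have h1 := hMn.conj_mem _ (hUM (show (⟨x, hx⟩ : P) ∈ U from hxn)) (⟨t, ht⟩ : P)⁻¹
      have h2 : ((⟨t, ht⟩ : P)⁻¹ * ⟨x, hx⟩ * ((⟨t, ht⟩ : P)⁻¹)⁻¹ : P).1 = t⁻¹ * x * t := by
        simp
      exact ⟨t⁻¹ * x * t, ⟨_, h1, h2⟩, h2 ▸ Subtype.property _, htx⟩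
    obtain ⟨σ, hσ, -, hσl⟩ := derived_mem (H := P) (T := M.map P.subtype) le_rfl
      (fun x hx _ g hg _ => by
        obtain ⟨u, hu, rfl⟩ := hx
        exact ⟨_, hMn.conj_mem u hu ⟨g, hg⟩, by simp⟩)
      repSteps reps hstart (fun s hs hs1 => absurd hs1 (by simp [hprod s hs]))
      (fun L hL σ hσ => (hE σ).2 (hσ ▸ hder L hL)) g (hgen g hg)
    rwa [(eq_iff_toList (h.1 g hg).1 (h.1 g hg).2).1 hσl] at hσ
  obtain ⟨u, hu, hue⟩ := hmap y.2
  exact Subtype.ext hue ▸ hu

/-- The fusion criterion from a certificate. -/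
theorem isSimple_fusion_of_cert {H : Subgroup (Equiv.Perm GolayPt)} (h : PcOK gs)
    (hmem : ∀ g ∈ gs, permL g ∈ H) (hcard : (Nat.card H).factorization 2 = gs.length)
    (z : List ℕ) (steps : List (Bool × List ℕ × ℕ × ℕ))
    (hz : z ∈ els gs gs.length) (hz1 : z ≠ List.range 24)
    (hcent : ∀ x ∈ els gs gs.length, (∀ y ∈ gs, compL x y = compL y x) →
      x = List.range 24 ∨ x = z)
    (hwit : ∀ s ∈ steps, s.1 = true → Good s.2.1 ∧ s.2.1.length = 24)
    (hwitH : ∀ s ∈ steps, s.1 = true → permL s.2.1 ∈ H)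
    (hderP : ∀ L ∈ derived [z] steps, L ∈ els gs gs.length)
    (hder : ∀ g ∈ gs, g ∈ derived [z] steps)
    (hN : ∀ n ∈ H, (∀ σ, σ ∈ pcGroup gs gs.length ↔ n * σ * n⁻¹ ∈ pcGroup gs gs.length) →
      ∀ q k : ℕ, q.Prime → q ≠ 2 → orderOf n = q ^ k →
        ∀ y ∈ pcGroup gs gs.length, n * y * n⁻¹ = y)
    (S : Sylow 2 H) : (groupFusionSystem (S : Subgroup H)).IsSimple 2 := by
  haveI : Fact (Nat.Prime 2) := ⟨Nat.prime_two⟩
  set P := pcGroup gs gs.length with hP
  have hPH : P ≤ H := pcGroup_le h hmem
  have hc : Nat.card (P.subgroupOf H) = 2 ^ (Nat.card H).factorization 2 := by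
    rw [Nat.card_congr (Subgroup.subgroupOfEquivOfLe hPH).toEquiv, hcard,
      card_pcGroup h _ le_rfl]
  let Q : Sylow 2 H := Sylow.ofCard (P.subgroupOf H) hc
  have hQ : (Q : Subgroup H) = P.subgroupOf H := Sylow.coe_ofCard ..
  obtain ⟨ζ, hζP, hζ⟩ := exists_of_mem_els h _ le_rfl z hz
  have hE : ∀ σ, σ ∈ P ↔ toList σ ∈ els gs gs.length := mem_pcGroup h _ le_rfl
  refine Fusion.isSimple_groupFusion_of_central Q (z := ⟨ζ, hPH hζP⟩)
    (by rw [hQ]; exact hζP) (fun he => hz1 ?_) ?_ ?_ ?_ S
  · have hζ1 : ζ = 1 := congrArg Subtype.val he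
    rw [← hζ, hζ1, toList_one]
  · intro x hx hcomm
    rw [hQ, Subgroup.mem_subgroupOf] at hx
    rcases hcent _ ((hE _).1 hx) fun y hy => by
        have h1 := hcomm ⟨permL y, hmem y hy⟩
          (by rw [hQ, Subgroup.mem_subgroupOf]; exact pcGroup_permL_mem h hy)
        have h2 := congrArg (fun u : H => toList (u : Equiv.Perm GolayPt)) h1
        simpa [toList_mul, toList_permL (h.1 y hy).1 (h.1 y hy).2] using h2
      with hx' | hx'
    · exact Or.inl (Subtype.ext (toList_injective (hx'.trans toList_one.symm)))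
    · exact Or.inr (Subtype.ext (toList_injective (hx'.trans hζ.symm)))
  · intro T hzT hcl
    rw [hQ]
    intro p hp
    rw [Subgroup.mem_subgroupOf] at hp
    have hle : P ≤ T.map H.subtype := by
      refine pcGroup_le h fun g hg => ?_
      obtain ⟨σ, hσ, -, hσl⟩ := derived_mem (T := T.map H.subtype) hPH
        (fun x hx _ g hgH hgP => by
          obtain ⟨u, hu, rfl⟩ := hx
          exact ⟨_, hcl u hu ⟨g, hgH⟩ (by rw [hQ, Subgroup.mem_subgroupOf]; exact hgP), rfl⟩)
        steps [z] (fun L hL => ⟨ζ, ⟨_, hzT, rfl⟩, hζP, hζ.trans (List.mem_singleton.1 hL).symm⟩)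
        (fun s hs hs1 => ⟨(hwit s hs hs1).1, (hwit s hs hs1).2, hwitH s hs hs1⟩)
        (fun L hL σ hσ => (hE σ).2 (hσ ▸ hderP L hL)) g (hder g hg)
      rwa [(eq_iff_toList (h.1 g hg).1 (h.1 g hg).2).1 hσl] at hσ
    obtain ⟨u, hu, hue⟩ := hle hp
    exact Subtype.ext hue ▸ hu
  · intro n hn q k hq hq2 hord y hy
    rw [hQ, Subgroup.mem_subgroupOf] at hy
    refine Subtype.ext (hN n n.2 (fun σ => ?_) q k hq hq2 ?_ _ hy)
    · rw [Subgroup.mem_normalizer_iff] at hn
      constructor
      · intro hσ
        have h1 := (hn ⟨σ, hPH hσ⟩).1 (by rw [hQ, Subgroup.mem_subgroupOf]; exact hσ)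
        rw [hQ, Subgroup.mem_subgroupOf] at h1
        exact h1
      · intro hσ
        have hσH : σ ∈ H := by
          have h1 := mul_mem (mul_mem (inv_mem n.2) (hPH hσ)) n.2
          simpa [mul_assoc] using h1
        have h1 := (hn ⟨σ, hσH⟩).2 (by rw [hQ, Subgroup.mem_subgroupOf]; exact hσ)
        rwa [hQ, Subgroup.mem_subgroupOf] at h1
    · rw [Subgroup.orderOf_coe]
      exact hord

end CfsgLib.Golay.SylowCert
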