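/-
The ternary code of length twelve: an encoder, weights, self-orthogonality.
-/
import Mathlib
import Cfsg.Prelude.Def_SporadicCombinatorics

set_option autoImplicit false

namespace CfsgLib.Tern

open Cfsg

/-- A basis with identity matrix on the six free positions. -/
def rowL : Fin 6 → List (ZMod 3)
  | 0 => [1, 0, 0, 0, 0, 1, 0, 0, 1, 1, 1, 2]
  | 1 => [0, 1, 0, 0, 0, 1, 0, 2, 2, 2, 0, 2]
  | 2 => [0, 0, 1, 0, 0, 1, 0, 1, 0, 2, 1, 1]
  | 3 => [0, 0, 0, 1, 0, 2, 0, 2, 1, 2, 1, 0]
  | 4 => [0, 0, 0, 0, 1, 2, 0, 1, 2, 0, 1, 2]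
  | 5 => [0, 0, 0, 0, 0, 0, 1, 1, 1, 2, 2, 2]

/-- Position number of an array point. -/
def pidx (p : ArrayPt) : ℕ := 3 * (p.1 : ℕ) + p.2.val

/-- The `j`th basis word. -/
def row (j : Fin 6) : ArrayPt → ZMod 3 := fun p => (rowL j).getD (pidx p) 0

/-- The free positions. -/
def free : Fin 6 → ArrayPt := ![(0, 0), (0, 1), (0, 2), (1, 0), (1, 1), (2, 0)]

/-- Digits of a word number. -/
def dig (k : Fin 729) (j : Fin 6) : ZMod 3 := (((k : ℕ) / 3 ^ (j : ℕ) : ℕ) : ZMod 3)

/-- The word with given coefficients. -/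
def enc (a : Fin 6 → ZMod 3) : ArrayPt → ZMod 3 := fun p => ∑ j, a j * row j p

/-- The `k`th code word. -/
def cw (k : Fin 729) : ArrayPt → ZMod 3 := enc (dig k)

/-- Number from digits. -/
def num (a : Fin 6 → ZMod 3) : Fin 729 :=
  Fin.ofNat 729 (∑ j : Fin 6, (a j).val * 3 ^ (j : ℕ))

theorem dig_num : ∀ a : Fin 6 → ZMod 3, dig (num a) = a := by
  unfold dig num; decide +kernel

/-- A decidable form of the defining condition. -/
def Good (x : ArrayPt → ZMod 3) : Prop :=
  ∃ s : ZMod 3, (∀ i : Fin 4, x (i, 0) + x (i, 1) + x (i, 2) = -s) ∧ ∀ a b : ZMod 3,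
    x (0, b) + x (1, a) + x (2, a + b) + x (3, a + 2 * b) = s

instance (x : ArrayPt → ZMod 3) : Decidable (Good x) := by unfold Good; infer_instance

theorem good_iff (x : ArrayPt → ZMod 3) : IsTernaryGolayWord x ↔ Good x := by
  have hsum : ∀ f : ZMod 3 → ZMod 3, ∑ r : ZMod 3, f r = f 0 + f 1 + f 2 := fun f => by
    exact Fin.sum_univ_three f
  have hmem : ∀ t : Fin 4 → ZMod 3, t ∈ tetracode ↔ ∃ a b : ZMod 3, t = ![b, a, a + b, a + 2 * b] := by
    intro t
    rw [tetracode, Submodule.mem_span_pair]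
    refine exists_congr fun a => exists_congr fun b => ?_
    constructor <;> intro h <;> subst h <;> ext i <;> fin_cases i <;> simp [mul_comm]
  refine exists_congr fun s => and_congr (forall_congr' fun i => by rw [hsum]) ⟨fun h a b => ?_, fun h t ht => ?_⟩
  · have := h _ ((hmem _).mpr ⟨a, b, rfl⟩)
    simpa [Fin.sum_univ_four] using this
  · obtain ⟨a, b, rfl⟩ := (hmem t).mp ht
    simpa [Fin.sum_univ_four] using h a b

theorem mem_iff_good (x : ArrayPt → ZMod 3) : x ∈ ternaryGolayCode ↔ Good x := good_iff x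

theorem row_good : ∀ j, Good (row j) := by decide +kernel

theorem row_mem (j : Fin 6) : row j ∈ ternaryGolayCode := (mem_iff_good _).mpr (row_good j)

theorem enc_eq (a : Fin 6 → ZMod 3) : enc a = ∑ j, a j • row j := by
  funext p; simp [enc, Finset.sum_apply]

theorem enc_mem (a : Fin 6 → ZMod 3) : enc a ∈ ternaryGolayCode := by
  rw [enc_eq]; exact Submodule.sum_mem _ fun j _ => Submodule.smul_mem _ _ (row_mem j)

theorem row_free : ∀ j i, row j (free i) = if j = i then 1 else 0 := by decide +kernel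

theorem enc_free (a : Fin 6 → ZMod 3) (i : Fin 6) : enc a (free i) = a i := by
  simp [enc, row_free]

theorem zero_check : ∀ b c d e f g : ZMod 3,
    Good (fun p => [0, 0, 0, 0, 0, b, 0, c, d, e, f, g].getD (pidx p) 0) →
      b = 0 ∧ c = 0 ∧ d = 0 ∧ e = 0 ∧ f = 0 ∧ g = 0 := by decide +kernel

theorem eq_enc {x : ArrayPt → ZMod 3} (hx : x ∈ ternaryGolayCode) : x = enc fun i => x (free i) := by
  set y := x - enc fun i => x (free i) with hy
  have hyg : Good y := (mem_iff_good y).mp (Submodule.sub_mem _ hx (enc_mem _))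
  have hz : ∀ i, y (free i) = 0 := fun i => by simp [hy, enc_free]
  have hform : y = fun p => [0, 0, 0, 0, 0, y (1, 2), 0, y (2, 1), y (2, 2), y (3, 0), y (3, 1), y (3, 2)].getD (pidx p) 0 := by
    funext ⟨i, r⟩
    fin_cases i <;> fin_cases r <;>
      first
      | rfl
      | exact hz 0
      | exact hz 1
      | exact hz 2
      | exact hz 3
      | exact hz 4
      | exact hz 5
  rw [hform] at hyg
  obtain ⟨hb, hc, hd, he, hf, hg⟩ := zero_check _ _ _ _ _ _ hyg
  have h0 : y = 0 := by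
    rw [hform, hb, hc, hd, he, hf, hg]
    funext ⟨i, r⟩
    fin_cases i <;> fin_cases r <;> rfl
  exact sub_eq_zero.mp h0

theorem mem_iff (x : ArrayPt → ZMod 3) : x ∈ ternaryGolayCode ↔ ∃ k, cw k = x := by
  refine ⟨fun hx => ⟨num fun i => x (free i), ?_⟩, ?_⟩
  · rw [cw, dig_num]; exact (eq_enc hx).symm
  · rintro ⟨k, rfl⟩; exact enc_mem _

theorem cw_injective : Function.Injective cw := by
  intro k l h
  have hd : dig k = dig l := funext fun i => by
    rw [← enc_free (dig k) i, ← enc_free (dig l) i]; exact congrFun h (free i)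
  have key : ∀ k : Fin 729, num (dig k) = k := by unfold dig num; decide +kernel
  rw [← key k, ← key l, hd]

theorem code_eq_range : (ternaryGolayCode : Set (ArrayPt → ZMod 3)) = Set.range cw :=
  Set.ext mem_iff

theorem weights : ∀ k : Fin 729, (k : ℕ) = 0 ∨ (ternarySupport (cw k)).card = 6 ∨
    (ternarySupport (cw k)).card = 9 ∨ (ternarySupport (cw k)).card = 12 := by decide +kernel

theorem counts : (Finset.univ.filter fun k => (ternarySupport (cw k)).card = 6).card = 264 ∧
    (Finset.univ.filter fun k => (ternarySupport (cw k)).card = 9).card = 440 ∧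
    (Finset.univ.filter fun k => (ternarySupport (cw k)).card = 12).card = 24 := by decide +kernel

theorem ncard_weight (n : ℕ) :
    {x : ArrayPt → ZMod 3 | x ∈ ternaryGolayCode ∧ (ternarySupport x).card = n}.ncard =
      (Finset.univ.filter fun k => (ternarySupport (cw k)).card = n).card := by
  rw [← Set.ncard_coe_finset, ← Set.ncard_image_of_injective _ cw_injective]
  congr 1
  ext x
  simp only [Set.mem_image, Finset.coe_filter, Set.mem_ofPred_eq, mem_iff]
  constructor
  · rintro ⟨⟨k, rfl⟩, h⟩; exact ⟨k, ⟨Finset.mem_univ _, h⟩, rfl⟩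
  · rintro ⟨k, ⟨-, h⟩, rfl⟩; exact ⟨⟨k, rfl⟩, h⟩

theorem row_orth : ∀ i j, ∑ p, row i p * row j p = 0 := by decide +kernel

theorem dot_enc (a b : Fin 6 → ZMod 3) : ∑ p, enc a p * enc b p = 0 := by
  simp only [enc, Finset.sum_mul_sum]
  rw [Finset.sum_comm]
  refine Finset.sum_eq_zero fun i _ => ?_
  rw [Finset.sum_comm]
  refine Finset.sum_eq_zero fun j _ => ?_
  simp only [mul_mul_mul_comm (a i) _ (b j) _, ← Finset.mul_sum, row_orth, mul_zero]

end CfsgLib.Tern
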