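/-
The supports of the weight six words of the ternary code of length twelve form a Steiner system.
-/
import Cfsg.Agent.Golay.Ternary
import Cfsg.Prelude.Def_Sporadic_a

set_option autoImplicit false

namespace CfsgLib.Tern

open Cfsg Finset

/-- The hexads of the ternary code. -/
def hexSet : Set (Finset ArrayPt) :=
  {h | ∃ x ∈ ternaryGolayCode, ternarySupport x = h ∧ h.card = 6}

/-- The hexads as a finite family. -/
def hexFin : Finset (Finset ArrayPt) :=
  (univ.filter fun k => (ternarySupport (cw k)).card = 6).image fun k => ternarySupport (cw k)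

theorem mem_hexFin (h : Finset ArrayPt) : h ∈ hexFin ↔ h ∈ hexSet := by
  simp only [hexFin, mem_image, mem_filter, mem_univ, true_and, hexSet, Set.mem_ofPred_eq, mem_iff]
  constructor
  · rintro ⟨k, hk, rfl⟩; exact ⟨_, ⟨k, rfl⟩, rfl, hk⟩
  · rintro ⟨_, ⟨k, rfl⟩, rfl, hk⟩; exact ⟨k, hk, rfl⟩

theorem hexFin_card : hexFin.card = 132 := by decide +kernel

attribute [local irreducible] hexFin

theorem weight_ge {x : ArrayPt → ZMod 3} (hx : x ∈ ternaryGolayCode) (h : (ternarySupport x).card < 6) :
    x = 0 := by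
  obtain ⟨k, rfl⟩ := (mem_iff x).mp hx
  rcases weights k with h0 | h0 | h0 | h0
  · have hk : k = ⟨0, by norm_num⟩ := Fin.ext h0
    subst hk
    funext p
    revert p
    decide +kernel
  all_goals omega

theorem mem_support {x : ArrayPt → ZMod 3} {p : ArrayPt} : p ∈ ternarySupport x ↔ x p ≠ 0 := by
  simp [ternarySupport]

theorem support_eq_of_inter {x y : ArrayPt → ZMod 3} (hx : x ∈ ternaryGolayCode)
    (hy : y ∈ ternaryGolayCode) (hx6 : (ternarySupport x).card = 6) (hy6 : (ternarySupport y).card = 6)
    (h5 : 5 ≤ (ternarySupport x ∩ ternarySupport y).card) : ternarySupport x = ternarySupport y := by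
  set S := ternarySupport x ∩ ternarySupport y
  have key : ∀ z : ArrayPt → ZMod 3, z ∈ ternaryGolayCode →
      (∀ p, p ∈ ternarySupport z → p ∈ ternarySupport x ∪ ternarySupport y) →
      3 ≤ (S.filter fun p => z p = 0).card → z = 0 := by
    intro z hz hsub h3
    refine weight_ge hz ?_
    have hd : ternarySupport z ⊆ (ternarySupport x ∪ ternarySupport y) \ S.filter fun p => z p = 0 :=
      fun p hp => mem_sdiff.mpr ⟨hsub p hp, fun h => mem_support.mp hp (mem_filter.mp h).2⟩
    have h1 := card_le_card hd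
    rw [card_sdiff_of_subset ((filter_subset _ _).trans inter_subset_union)] at h1
    have h2 := card_union_add_card_inter (ternarySupport x) (ternarySupport y)
    simp only [S] at h1 h2 h3 h5 ⊢
    omega
  have hsplit : S.card ≤ (S.filter fun p => (x + y) p = 0).card + (S.filter fun p => (x - y) p = 0).card := by
    refine (card_le_card ?_).trans (card_union_le _ _)
    intro p hp
    have hx0 := mem_support.mp (mem_inter.mp hp).1
    have hy0 := mem_support.mp (mem_inter.mp hp).2
    have : ∀ a b : ZMod 3, a ≠ 0 → b ≠ 0 → a + b = 0 ∨ a - b = 0 := by decide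
    rcases this _ _ hx0 hy0 with h | h
    · exact mem_union_left _ (mem_filter.mpr ⟨hp, h⟩)
    · exact mem_union_right _ (mem_filter.mpr ⟨hp, h⟩)
  have h35 : 3 ≤ (S.filter fun p => (x + y) p = 0).card ∨ 3 ≤ (S.filter fun p => (x - y) p = 0).card := by
    omega
  rcases h35 with h | h
  · have h0 := key (x + y) (add_mem hx hy) (fun p hp => by
      by_contra hc
      simp only [mem_union, mem_support, not_or, not_not] at hc
      exact mem_support.mp hp (by simp [hc.1, hc.2])) h
    rw [eq_neg_of_add_eq_zero_left h0]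
    ext p; simp [mem_support]
  · have h0 := key (x - y) (sub_mem hx hy) (fun p hp => by
      by_contra hc
      simp only [mem_union, mem_support, not_or, not_not] at hc
      exact mem_support.mp hp (by simp [hc.1, hc.2])) h
    rw [sub_eq_zero.mp h0]

theorem hexSet_steiner : IsSteinerSystem 5 6 hexSet := by
  refine ⟨fun b hb => ?_, fun s hs => ?_⟩
  · obtain ⟨x, -, -, hc⟩ := hb; exact hc
  have huniq : ∀ a ∈ hexFin, ∀ b ∈ hexFin, ∀ f : Finset ArrayPt, f.card = 5 → f ⊆ a → f ⊆ b → a = b := by
    intro a ha b hb f hf hfa hfb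
    obtain ⟨x, hx, rfl, hxc⟩ := (mem_hexFin a).mp ha
    obtain ⟨y, hy, rfl, hyc⟩ := (mem_hexFin b).mp hb
    exact support_eq_of_inter hx hy hxc hyc (hf ▸ card_le_card (subset_inter hfa hfb))
  have hdisj : (hexFin : Set (Finset ArrayPt)).PairwiseDisjoint fun o => o.powersetCard 5 := by
    intro a ha b hb hab
    rw [Function.onFun, disjoint_left]
    intro f hfa hfb
    rw [mem_powersetCard] at hfa hfb
    exact hab (huniq a ha b hb f hfa.2 hfa.1 hfb.1)
  have hall : hexFin.biUnion (fun o => o.powersetCard 5) = (univ : Finset ArrayPt).powersetCard 5 := by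
    refine eq_of_subset_of_card_le (fun f hf => ?_) ?_
    · obtain ⟨o, -, hfo⟩ := mem_biUnion.mp hf
      exact mem_powersetCard.mpr ⟨subset_univ _, (mem_powersetCard.mp hfo).2⟩
    · rw [card_biUnion hdisj, card_powersetCard, card_univ,
        sum_congr rfl (g := fun _ => Nat.choose 6 5) (fun o ho => by
          obtain ⟨x, -, -, hc⟩ := (mem_hexFin o).mp ho
          rw [card_powersetCard, hc]), sum_const, hexFin_card]
      decide +kernel
  have hs' : s ∈ (univ : Finset ArrayPt).powersetCard 5 := mem_powersetCard.mpr ⟨subset_univ _, hs⟩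
  rw [← hall, mem_biUnion] at hs'
  obtain ⟨o, ho, hso⟩ := hs'
  exact ⟨o, ⟨(mem_hexFin o).mp ho, (mem_powersetCard.mp hso).1⟩, fun o' ho' =>
    huniq o' ((mem_hexFin o').mpr ho'.1) o ho s hs ho'.2 (mem_powersetCard.mp hso).1⟩

theorem hexSet_ncard : hexSet.ncard = 132 := by
  rw [← hexFin_card, ← Set.ncard_coe_finset]
  congr 1
  ext h
  exact (mem_hexFin h).symm

theorem diag_check : ∀ p : ArrayPt, (∃ j, row j p ≠ 0 ∧ row j (1, 2) ≠ 0) ∨
    ∃ j q, row j p ≠ 0 ∧ row j q ≠ 0 ∧ ∃ i, row i q ≠ 0 ∧ row i (1, 2) ≠ 0 := by decide +kernel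

/-- The diagonal symmetries are scalar. -/
theorem diag_const (c : ArrayPt → (ZMod 3)ˣ)
    (h : ∀ x ∈ ternaryGolayCode, monomialMap 1 c x ∈ ternaryGolayCode) : ∀ p, c p = c (1, 2) := by
  have key : ∀ j p, row j p ≠ 0 → c p = c (free j) := by
    intro j p hp
    have he := eq_enc (h _ (row_mem j))
    have hp' := congrFun he p
    have hfun : (fun i => monomialMap 1 c (row j) (free i)) = fun i => if j = i then (c (free j) : ZMod 3) else 0 := by
      funext i
      simp only [monomialMap, Equiv.Perm.one_def, Equiv.refl_symm, Equiv.refl_apply, row_free]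
      split
      · next hji => subst hji; simp
      · simp
    rw [hfun] at hp'
    simp [monomialMap, enc, Equiv.Perm.one_def, ite_mul, Finset.sum_ite_eq] at hp'
    rcases hp' with h' | h'
    · exact Units.ext h'
    · exact absurd h' hp
  intro p
  rcases diag_check p with ⟨j, h1, h2⟩ | ⟨j, q, h1, h2, i, h3, h4⟩
  · rw [key j p h1, key j _ h2]
  · rw [key j p h1, ← key j q h2, key i q h3, key i _ h4]

end CfsgLib.Tern
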