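/-
The monomial symmetries of the ternary code of length twelve.
-/
import Cfsg.Agent.Golay.TernarySteiner
import Cfsg.Agent.Golay.Monomial
import Cfsg.Agent.Golay.PermChain
import Cfsg.Agent.Golay.TernaryAutData
import Cfsg.Agent.Steiner.Small

set_option autoImplicit false

namespace CfsgLib.Tern

open Cfsg Finset
open scoped Pointwise

theorem code_eq_span : ternaryGolayCode = Submodule.span (ZMod 3) (Set.range row) := by
  refine le_antisymm (fun x hx => ?_) (Submodule.span_le.mpr ?_)
  · rw [eq_enc hx, enc_eq]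
    exact Submodule.sum_mem _ fun j _ => Submodule.smul_mem _ _ (Submodule.subset_span ⟨j, rfl⟩)
  · rintro _ ⟨j, rfl⟩; exact row_mem j

/-- The point with a given position number. -/
def ptN (n : ℕ) : ArrayPt := (Fin.ofNat 4 (n / 3), (n : ZMod 3))

/-- A permutation from two mutually inverse tables. -/
def permT (l m : List ℕ) : Equiv.Perm ArrayPt :=
  if h : (∀ p, ptN (m.getD (pidx (ptN (l.getD (pidx p) 0))) 0) = p) ∧
      ∀ p, ptN (l.getD (pidx (ptN (m.getD (pidx p) 0))) 0) = p then
    ⟨fun p => ptN (l.getD (pidx p) 0), fun p => ptN (m.getD (pidx p) 0), h.1, h.2⟩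
  else 1

/-- Scalars from a table. -/
def signT (c : List ℕ) : ArrayPt → (ZMod 3)ˣ := fun p => if c.getD (pidx p) 0 = 2 then -1 else 1

/-- The base positions. -/
def base : Fin 5 ↪ ArrayPt := ⟨![(0, 0), (0, 1), (0, 2), (1, 0), (1, 1)], by decide⟩

/-- The check of one entry. -/
def entryOK (l m c : List ℕ) : Bool :=
  decide (∀ j : Fin 6, Good (monomialMap (permT l m) (signT c) (row j)))

theorem trans_ok : ∀ lev ∈ transData, ∀ e ∈ lev, entryOK e.1 e.2.1 e.2.2 = true := by decide +kernel

theorem trans_cover : ∀ (i : Fin 5) (q : ArrayPt), (∀ j, j < i → q ≠ base j) →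
    ∃ e ∈ transData.getD i [], (∀ j, j < i → permT e.1 e.2.1 (base j) = base j) ∧
      permT e.1 e.2.1 (base i) = q := by decide +kernel

theorem entry_perm {i : Fin 5} {e : List ℕ × List ℕ × List ℕ} (he : e ∈ transData.getD i []) :
    permT e.1 e.2.1 ∈ Mono.perms ternaryGolayCode := by
  have hlev : transData.getD i [] ∈ transData := by
    rw [List.getD_eq_getElem _ _ (by exact i.2)]
    exact List.getElem_mem _
  have h := trans_ok _ hlev e he
  simp only [entryOK, decide_eq_true_eq] at h
  exact ⟨_, Mono.keeps_of_gens code_eq_span fun x ⟨j, hj⟩ => hj ▸ (mem_iff_good _).mpr (h j)⟩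

theorem perms_levels : PermChain.Levels (Mono.perms ternaryGolayCode) base := by
  intro i q hq
  obtain ⟨e, he, h1, h2⟩ := trans_cover i q hq
  exact ⟨_, entry_perm he, h1, h2⟩

theorem support_monomial (σ : Equiv.Perm ArrayPt) (c : ArrayPt → (ZMod 3)ˣ) (x : ArrayPt → ZMod 3) :
    ternarySupport (monomialMap σ c x) = σ • ternarySupport x := by
  ext p
  rw [Finset.smul_finset_def, mem_image]
  simp only [mem_support, monomialMap, Equiv.Perm.smul_def]
  constructor
  · intro h
    exact ⟨σ.symm p, fun h0 => h (by simp [h0]), σ.apply_symm_apply p⟩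
  · rintro ⟨q, hq, rfl⟩
    simp [hq]

theorem perms_le : Mono.perms ternaryGolayCode ⊆ (setSystemAut hexSet : Set (Equiv.Perm ArrayPt)) := by
  rintro σ ⟨c, hc⟩
  rw [SetLike.mem_coe, MulAction.mem_stabilizer_iff]
  refine Set.eq_of_subset_of_ncard_le ?_ (by rw [Set.ncard_smul_set]) (Set.toFinite _)
  rintro _ ⟨h, ⟨x, hx, rfl, h6⟩, rfl⟩
  refine ⟨_, hc x hx, support_monomial σ c x, ?_⟩
  show (σ • ternarySupport x).card = 6
  rw [Finset.card_smul_finset]
  exact h6

theorem aut_card : Nat.card (setSystemAut hexSet) = 95040 :=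
  (Steiner.aut12 hexSet_steiner (by rfl)).1.2

theorem perms_eq : Mono.perms ternaryGolayCode = (setSystemAut hexSet : Set (Equiv.Perm ArrayPt)) := by
  refine Set.eq_of_subset_of_ncard_le perms_le ?_ (Set.toFinite _)
  rw [← Nat.card_coe_set_eq, ← Nat.card_coe_set_eq]
  refine le_of_eq_of_le aut_card (le_of_eq_of_le ?_ (PermChain.card_ge (Mono.perms_one _)
    (fun g hg h hh => Mono.perms_mul hg hh) perms_levels))
  decide

theorem monomial_card :
    Nat.card {f : Equiv.Perm ArrayPt × (ArrayPt → (ZMod 3)ˣ) // Mono.Keeps ternaryGolayCode f.1 f.2} = 190080 := by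
  rw [Mono.natCard_keeps _ (1, 2) diag_const, perms_eq]
  show Nat.card (setSystemAut hexSet) * _ = _
  rw [aut_card, Nat.card_eq_fintype_card, ZMod.card_units]

end CfsgLib.Tern
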